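import Mathlib
import Cfsg.Agent.H95.L3Defs
import Cfsg.Prelude.Def_Spor_Fi22

/-! Interfaces for the `3`-local recognition of `Fi₂₂` and `Fi₂₂ : 2`. -/

set_option autoImplicit false

universe u

namespace Cfsg.Agent.H99.F22

open Cfsg Subgroup H95.L3

variable {G : Type u} [Group G]

/-- The local hypothesis: `C(z)` has shape `3^{1+6} . 2^7 . X`; `Q i` are the three factors of order `27`,
`P` is the preimage of `O₂(C(z) / Q)`. -/
structure Hyp22 (z : G) (Q : Fin 3 → Subgroup G) (P : Subgroup G) : Prop where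
  ord : orderOf z = 3
  card : ∀ i, Nat.card (Q i) = 27
  mem : ∀ i, z ∈ Q i
  nab : ∀ i, ∃ a ∈ Q i, ∃ b ∈ Q i, ¬ Commute a b
  comm : ∀ i j, i ≠ j → ∀ a ∈ Q i, ∀ b ∈ Q j, Commute a b
  norm : centralizer {z} ≤ normalizer ((⨆ i, Q i : Subgroup G) : Set G)
  self : centralizer ((⨆ i, Q i : Subgroup G) : Set G) ≤ ⨆ i, Q i
  o3 : ∀ T : Subgroup G, IsPGroup 3 T → T ≤ centralizer {z} → centralizer {z} ≤ normalizer (T : Set G) →
    T ≤ ⨆ i, Q i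
  le : ⨆ i, Q i ≤ P
  cen : P ≤ centralizer {z}
  nP : centralizer {z} ≤ normalizer (P : Set G)
  idx : (⨆ i, Q i).relIndex P = 128
  o2 : ∀ T : Subgroup G, ⨆ i, Q i ≤ T → T ≤ centralizer {z} → centralizer {z} ≤ normalizer (T : Set G) →
    (∃ n, (⨆ i, Q i).relIndex T = 2 ^ n) → T ≤ P
  pn : ∀ i, P ≤ normalizer (Q i : Set G)
  inv : ∀ i, ∃ x ∈ P, (∀ q ∈ Q i, x * q * x⁻¹ * q ∈ zpowers z) ∧
    ∀ j, j ≠ i → ∀ q ∈ Q j, x * q * x⁻¹ * q⁻¹ ∈ zpowers z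
  nwc : ∃ y, ZT z y ∧ Commute y z ∧ y ∉ zpowers z

/-- The output of the local analysis: `r` is an involution inverting one factor and centralizing the two other
factors `A`, `B`; `r'` is a conjugate of `r`. -/
structure Loc22 (z : G) (A B : Subgroup G) (r r' : G) : Prop where
  ord : orderOf z = 3
  cardA : Nat.card A = 27
  cardB : Nat.card B = 27
  expA : ∀ q ∈ A, q ^ 3 = 1
  expB : ∀ q ∈ B, q ^ 3 = 1
  zA : z ∈ A
  zB : z ∈ B
  nabA : ∃ a ∈ A, ∃ b ∈ A, ¬ Commute a b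
  nabB : ∃ a ∈ B, ∃ b ∈ B, ¬ Commute a b
  comm : ∀ a ∈ A, ∀ b ∈ B, Commute a b
  ord_r : orderOf r = 2
  rA : ∀ a ∈ A, Commute a r
  rB : ∀ b ∈ B, Commute b r
  swap : ∀ h, Commute h z → Commute h r → h ∈ normalizer (A : Set G) ⊓ normalizer (B : Set G) ∨
    ((∀ q ∈ A, h * q * h⁻¹ ∈ B) ∧ ∀ q ∈ B, h * q * h⁻¹ ∈ A)
  self : ∀ k, Commute k r → (∀ q ∈ A ⊔ B, Commute k q) → k ∈ A ⊔ B ∨ k * r ∈ A ⊔ B
  two : 128 ∣ Nat.card ↥(centralizer {z} ⊓ centralizer {r} ⊓ (normalizer (A : Set G) ⊓ normalizer (B : Set G)))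
  three : ¬ 3 ^ 7 ∣ Nat.card ↥(centralizer ({z} : Set G) ⊓ centralizer {r})
  wc : ∀ q ∈ A ⊔ B, ZT z q → q ∈ zpowers z
  nwc : ∃ k, Commute k r ∧ Commute (k * z * k⁻¹) z ∧ k * z * k⁻¹ ∉ zpowers z
  der : r ∈ ⁅centralizer ({r} : Set G), centralizer ({r} : Set G)⁆
  conj : IsConj r r'
  ne : r' ≠ r
  der' : r' ∈ ⁅centralizer ({r} : Set G), centralizer ({r} : Set G)⁆

/-- Piece F22a (local part). -/
def Loc22Stmt : Prop := ∀ (G : Type u) [Group G] [Finite G] (z : G) (Q : Fin 3 → Subgroup G) (P : Subgroup G),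
  Hyp22 z Q P → (∃ y ∈ ⨆ i, Q i, ZT z y ∧ y ∉ zpowers z) ∧ ∃ A B r r', Loc22 z A B r r'

/-- Piece F22b (end): what the local hypothesis gives. -/
def Fi22Stmt : Prop := ∀ (G : Type u) [Group G] [Finite G] (z : G) (Q : Fin 3 → Subgroup G) (P : Subgroup G),
  Hyp22 z Q P → ∃ N : Subgroup G, N.Normal ∧ N.index ∣ 2 ∧ Spor.IsoFi22 N ∧ centralizer (N : Set G) = ⊥

end Cfsg.Agent.H99.F22
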