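import Mathlib
import Cfsg.Agent.H99.Local
import Cfsg.Agent.H96.NormalCrit
import Cfsg.Agent.H97.NormalSub
import Cfsg.Agent.H98.SLChar

/-! Fusion systems over groups of Heisenberg type (Sylow `p`-subgroups of `SL₃(q)`). -/

set_option autoImplicit false
set_option linter.unusedSectionVars false
set_option linter.style.haveILetI false

namespace Cfsg.Agent.H99

open Cfsg Cfsg.FusionSystem Cfsg.Agent.H97 Cfsg.Agent.H98 Cfsg.Agent.H96

/-- Heisenberg type: class two, centralizers of noncentral elements abelian, `[x, G] = Z(G)`. -/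
structure HeisG (G : Type*) [Group G] : Prop where
  comm : ∀ x y z : G, z * (x⁻¹ * (y * x * y⁻¹)) = x⁻¹ * (y * x * y⁻¹) * z
  cab : ∀ x : G, (¬ ∀ u, u * x = x * u) → ∀ y w : G, y * x = x * y → w * x = x * w → y * w = w * y
  surj : ∀ x : G, (¬ ∀ u, u * x = x * u) → ∀ z : G, (∀ u, u * z = z * u) → ∃ s, s * x = x * z * s

theorem HeisG.of_equiv {G H : Type*} [Group G] [Group H] (e : G ≃* H) (h : HeisG H) : HeisG G where
  comm x y z := by
    apply e.injective
    simpa using h.comm (e x) (e y) (e z)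
  cab x hx y w hy hw := by
    apply e.injective
    simp only [map_mul]
    refine h.cab (e x) (fun hc => hx fun u => e.injective (by simpa using hc (e u))) _ _ ?_ ?_
    · simpa using congrArg e hy
    · simpa using congrArg e hw
  surj x hx z hz := by
    obtain ⟨s, hs⟩ := h.surj (e x) (fun hc => hx fun u => e.injective (by simpa using hc (e u))) (e z)
      (fun u => by
        obtain ⟨u, rfl⟩ := e.surjective u
        simpa using congrArg e (hz u))
    refine ⟨e.symm s, e.injective ?_⟩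
    simpa using hs

section concrete
open Matrix SLC
variable {K : Type*} [Field K]

/-- The unitriangular matrix with entries `a, b, c`. -/
def tri (a b c : K) : SpecialLinearGroup (Fin 3) K :=
  ⟨!![1, a, c; 0, 1, b; 0, 0, 1], by simp [Matrix.det_fin_three]⟩

theorem mt_tri (a b c : K) : SLC.mt (tri a b c) = !![1, a, c; 0, 1, b; 0, 0, 1] := rfl

theorem tri_mul (a b c a' b' c' : K) :
    tri a b c * tri a' b' c' = tri (a + a') (b + b') (c + c' + a * b') := by
  apply mt_inj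
  rw [map_mul, mt_tri, mt_tri, mt_tri]
  ext i j
  fin_cases i <;> fin_cases j <;> simp [Matrix.mul_apply, Fin.sum_univ_three] <;> ring

theorem tri_inj {a b c a' b' c' : K} (h : tri a b c = tri a' b' c') : a = a' ∧ b = b' ∧ c = c' := by
  have h' := congrArg Subtype.val h
  exact ⟨by simpa [tri] using congrFun (congrFun h' 0) 1, by simpa [tri] using congrFun (congrFun h' 1) 2,
    by simpa [tri] using congrFun (congrFun h' 0) 2⟩

theorem tri_zero : tri (0 : K) 0 0 = 1 := by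
  apply Subtype.ext
  ext i j
  fin_cases i <;> fin_cases j <;> simp [tri]

theorem tri_inv (a b c : K) : (tri a b c)⁻¹ = tri (-a) (-b) (a * b - c) := by
  rw [inv_eq_iff_mul_eq_one, tri_mul, ← tri_zero]
  congr 1 <;> ring

variable [Finite K]

theorem mem_rad_three {g : SpecialLinearGroup (Fin 3) K} :
    g ∈ rad K (Fin.val : Fin 3 → ℕ) ↔ ∃ a b c, g = tri a b c := by
  rw [mem_rad]
  constructor
  · intro h
    refine ⟨SLC.mt g 0 1, SLC.mt g 1 2, SLC.mt g 0 2, mt_inj ?_⟩
    rw [mt_tri]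
    ext i j
    have := h i j
    fin_cases i <;> fin_cases j <;> simp [sub_eq_zero] at this ⊢ <;> exact this
  · rintro ⟨a, b, c, rfl⟩ i j
    rw [mt_tri]
    fin_cases i <;> fin_cases j <;> simp

theorem tri_mem (a b c : K) : tri a b c ∈ rad K (Fin.val : Fin 3 → ℕ) := mem_rad_three.2 ⟨a, b, c, rfl⟩

theorem tri_comm_iff {a b c a' b' c' : K} :
    tri a b c * tri a' b' c' = tri a' b' c' * tri a b c ↔ a * b' = a' * b := by
  rw [tri_mul, tri_mul]
  constructor
  · intro h
    linear_combination (tri_inj h).2.2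
  · intro h
    congr 1
    · ring
    · ring
    · linear_combination h

theorem heisG_rad : HeisG (rad K (Fin.val : Fin 3 → ℕ)) := by
  have cen : ∀ {a b c : K}, (∀ u : rad K (Fin.val : Fin 3 → ℕ), u * ⟨_, tri_mem a b c⟩ = ⟨_, tri_mem a b c⟩ * u) ↔
      a = 0 ∧ b = 0 := by
    intro a b c
    constructor
    · intro h
      have h1 := tri_comm_iff.1 (congrArg Subtype.val (h ⟨_, tri_mem 1 0 0⟩))
      have h2 := tri_comm_iff.1 (congrArg Subtype.val (h ⟨_, tri_mem 0 1 0⟩))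
      exact ⟨by simpa using h2.symm, by simpa using h1⟩
    · rintro ⟨rfl, rfl⟩ ⟨u, hu⟩
      obtain ⟨a', b', c', rfl⟩ := mem_rad_three.1 hu
      exact Subtype.ext (tri_comm_iff.2 (by simp))
  constructor
  · rintro ⟨x, hx⟩ ⟨y, hy⟩ ⟨z, hz⟩
    obtain ⟨a, b, c, rfl⟩ := mem_rad_three.1 hx
    obtain ⟨a', b', c', rfl⟩ := mem_rad_three.1 hy
    obtain ⟨a'', b'', c'', rfl⟩ := mem_rad_three.1 hz
    apply Subtype.ext
    simp only [Subgroup.coe_mul, Subgroup.coe_inv, tri_inv, tri_mul]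
    congr 1 <;> ring
  · rintro ⟨x, hx⟩ hn ⟨y, hy⟩ ⟨z, hz⟩ h1 h2
    obtain ⟨a, b, c, rfl⟩ := mem_rad_three.1 hx
    obtain ⟨a', b', c', rfl⟩ := mem_rad_three.1 hy
    obtain ⟨a'', b'', c'', rfl⟩ := mem_rad_three.1 hz
    have h1' := tri_comm_iff.1 (congrArg Subtype.val h1)
    have h2' := tri_comm_iff.1 (congrArg Subtype.val h2)
    refine Subtype.ext (tri_comm_iff.2 ?_)
    rw [cen, not_and_or] at hn
    rcases hn with hn | hn
    · apply mul_left_cancel₀ hn
      linear_combination (-a') * h2' + a'' * h1'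
    · apply mul_left_cancel₀ hn
      linear_combination b'' * h1' - b' * h2'
  · rintro ⟨x, hx⟩ hn ⟨z, hz⟩ h1
    obtain ⟨a, b, c, rfl⟩ := mem_rad_three.1 hx
    obtain ⟨a', b', d, rfl⟩ := mem_rad_three.1 hz
    obtain ⟨rfl, rfl⟩ := cen.1 h1
    rw [cen, not_and_or] at hn
    rcases hn with hn | hn
    · refine ⟨⟨_, tri_mem 0 (-d / a) 0⟩, Subtype.ext ?_⟩
      simp only [Subgroup.coe_mul, tri_mul]
      congr 1
      · ring
      · ring
      · field_simp; ring
    · refine ⟨⟨_, tri_mem (d / b) 0 0⟩, Subtype.ext ?_⟩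
      simp only [Subgroup.coe_mul, tri_mul]
      congr 1
      · ring
      · ring
      · field_simp; ring

theorem heisG_sylow {p : ℕ} [Fact p.Prime] [CharP K p] (T : Sylow p (SpecialLinearGroup (Fin 3) K)) :
    HeisG (T : Subgroup (SpecialLinearGroup (Fin 3) K)) := by
  obtain ⟨R, hR⟩ := (sylIn_rad (K := K) (p := p) (n := 3)).exists_sylow_top
  have h : HeisG (R : Subgroup (SpecialLinearGroup (Fin 3) K)) := by rw [hR]; exact heisG_rad
  exact h.of_equiv (Sylow.equiv T R)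

end concrete

variable {Ω : Type*} [Group Ω] {S : Subgroup Ω} [Finite S] {F : FusionSystem S} {p : ℕ} [Fact p.Prime]

theorem HeisG.comm' (h : HeisG S) {x y : Ω} (hx : x ∈ S) (hy : y ∈ S) :
    x⁻¹ * (y * x * y⁻¹) ∈ centralizerIn S S :=
  mem_centralizerIn_comm.2 ⟨S.mul_mem (S.inv_mem hx) (S.mul_mem (S.mul_mem hy hx) (S.inv_mem hy)),
    fun z hz => congrArg Subtype.val (h.comm ⟨x, hx⟩ ⟨y, hy⟩ ⟨z, hz⟩)⟩

theorem HeisG.cab' (h : HeisG S) {x y w : Ω} (hx : x ∈ S) (hxZ : x ∉ centralizerIn S S) (hy : y ∈ S)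
    (hw : w ∈ S) (h1 : y * x = x * y) (h2 : w * x = x * w) : y * w = w * y :=
  congrArg Subtype.val (h.cab ⟨x, hx⟩
    (fun hc => hxZ (mem_centralizerIn_comm.2 ⟨hx, fun u hu => congrArg Subtype.val (hc ⟨u, hu⟩)⟩))
    ⟨y, hy⟩ ⟨w, hw⟩ (Subtype.ext h1) (Subtype.ext h2))

theorem HeisG.surj' (h : HeisG S) {x z : Ω} (hx : x ∈ S) (hxZ : x ∉ centralizerIn S S)
    (hz : z ∈ centralizerIn S S) : ∃ s ∈ S, s * x * s⁻¹ = x * z := by
  obtain ⟨s, hs⟩ := h.surj ⟨x, hx⟩
    (fun hc => hxZ (mem_centralizerIn_comm.2 ⟨hx, fun u hu => congrArg Subtype.val (hc ⟨u, hu⟩)⟩))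
    ⟨z, hz.1⟩ (fun u => Subtype.ext ((mem_centralizerIn_comm.1 hz).2 u u.2))
  refine ⟨s, s.2, ?_⟩
  have := congrArg Subtype.val hs
  simp only [Subgroup.coe_mul] at this
  rw [this]; group

/-- If `Z(S)` is invariant under `Aut_F(E)`, `E` is not essential. -/
theorem HeisG.not_ess_of_inv (h : HeisG S) (hS : IsPGroup p S) (hF : F.IsSaturated p) {E : Subgroup Ω}
    (hE : F.IsEssential p E)
    (hinv : ∀ α ∈ F.autGroup E, ∀ x ∈ E, x ∈ centralizerIn S S → ext α x ∈ centralizerIn S S) : False := by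
  have hlt := lt_of_isEssential hS hF hE
  refine hlt.not_ge (le_of_chain hS hE.1 (isRadical_of_isEssential hS hE) le_rfl
    (hlt.le.trans Subgroup.le_normalizer) (fun i => if i = 0 then ⊥ else centralizerIn S S) 1
    ?_ ?_ ?_ ?_ ?_)
  · intro i hi; interval_cases i; simp
  · intro i hi α hα x hx hxi
    interval_cases i
    · simp only [if_true, Subgroup.mem_bot] at hxi ⊢
      rw [hxi, (homOn_ext α).map_one]
    · simpa using hinv α hα x hx (by simpa using hxi)
  · intro α hα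
    refine ⟨0, fun x hx hx0 => ?_⟩
    simp only [if_true, Subgroup.mem_bot] at hx0
    rw [hx0, (homOn_ext _).map_one]
  · intro s hs x hx
    simpa using h.comm' (hlt.le hx) hs
  · intro s hs i hi x hx hxi
    interval_cases i
    simp only [zero_add, one_ne_zero, if_false, if_true, Subgroup.mem_bot] at hxi ⊢
    rw [(mem_centralizerIn_comm.1 hxi).2 s hs]; group

theorem HeisG.ess_comm (h : HeisG S) (hS : IsPGroup p S) (hF : F.IsSaturated p) {E : Subgroup Ω}
    (hE : F.IsEssential p E) : ∀ x ∈ E, ∀ y ∈ E, x * y = y * x := by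
  have hES := hE.1.1
  have hc := centralizerIn_le_of_isCentric hE.1
  by_cases h1 : centralizerIn E E ≤ centralizerIn S S
  · exfalso
    refine h.not_ess_of_inv hS hF hE fun α hα x hx hxZ => h1 ?_
    have h2 : x ∈ ucs E 1 := by
      rw [ucs_one]; exact ⟨hx, (centralizerIn_anti hES hxZ).2⟩
    have := ext_mem_ucs α h2
    rwa [ucs_one] at this
  · obtain ⟨w, hw, hwZ⟩ := SetLike.not_le_iff_exists.1 h1
    have hw' := mem_centralizerIn_comm.1 hw
    intro x hx y hy
    exact h.cab' (hES hw'.1) hwZ (hES hx) (hES hy) (hw'.2 x hx) (hw'.2 y hy)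

/-- No nontrivial subgroup of `Z(S)` is invariant under `Aut_F(E)`, `E` essential. -/
theorem HeisG.eq_bot_of_inv (h : HeisG S) (hS : IsPGroup p S) (hF : F.IsSaturated p) {E : Subgroup Ω}
    (hE : F.IsEssential p E) {N : Subgroup Ω} (hN : N ≤ centralizerIn S S)
    (hinv : ∀ α ∈ F.autGroup E, ∀ x ∈ N, ext α x ∈ N) : N = ⊥ := by
  classical
  by_contra hne
  obtain ⟨⟨d, hdN⟩, hd1⟩ := Subgroup.ne_bot_iff_exists_ne_one.1 hne
  have hd1' : d ≠ 1 := fun e => hd1 (Subtype.ext e)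
  have hES := hE.1.1
  haveI : Finite E := finite_of_le hES
  set Z := centralizerIn S S with hZ
  have hZE : Z ≤ E := (centralizerIn_anti hES).trans (centralizerIn_le_of_isCentric hE.1)
  haveI : Finite Z := finite_of_le hZE
  have hab := h.ess_comm hS hF hE
  have himg : ∀ (α : MulAut E) {x : Ω}, x ∈ img Z (ext α) ↔ ∃ z ∈ Z, ext α z = x := fun α x =>
    ((homOn_ext α).mono hZE).mem_img
  have hcard : ∀ α : MulAut E, Nat.card (img Z (ext α)) = Nat.card Z := fun α =>
    ((homOn_ext α).mono hZE).card_img (ext_injective α).injOn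
  have hfin : ∀ α : MulAut E, Finite (img Z (ext α)) := fun α =>
    finite_of_le (H := E) (img_le_iff.2 fun x hx => ext_mem α (hZE hx))
  have heq : ∀ α : MulAut E, (∀ z ∈ Z, ext α z ∈ Z) → img Z (ext α) = Z := fun α hα =>
    Subgroup.eq_of_le_of_card_ge (img_le_iff.2 hα) (hcard α).ge
  -- the stabiliser of `Z`
  have hnorm : ∀ g ∈ S, g ∈ Subgroup.normalizer (E : Set Ω) := fun g hg =>
    mem_normalizer_of_conj_mem fun x hx => by
      have := E.mul_mem hx (hZE (h.comm' (hES hx) hg))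
      simpa using this
  have hfix : ∀ u ∈ F.autGroup E, (∃ k, u ^ p ^ k = 1) → (∀ z ∈ Z, ext u z ∈ Z) → ∀ z ∈ Z, ext u z = z := by
    intro u hu ⟨k, hk⟩ huZ
    let A : Subgroup (MulAut E) :=
      { carrier := {α | α ∈ F.autGroup E ∧ ∀ z ∈ Z, ext α z ∈ Z}
        one_mem' := ⟨Subgroup.one_mem _, fun z hz => by simpa using hz⟩
        mul_mem' := fun {α β} ha hb => ⟨Subgroup.mul_mem _ ha.1 hb.1, fun z hz => by
          rw [ext_mul]; exact ha.2 _ (hb.2 z hz)⟩
        inv_mem' := fun {α} ha => ⟨Subgroup.inv_mem _ ha.1, fun z hz => by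
          have := heq α ha.2
          rw [← this] at hz
          obtain ⟨w, hw, rfl⟩ := (himg α).1 hz
          simpa using hw⟩ }
    have hT := sat_sylIn hS hF hE.2.1
    have hTA : autInducedBy S E ≤ pCoreIn p A := by
      intro κ hκ
      obtain ⟨g, hg, hκg⟩ := mem_autInducedBy_iff.1 hκ
      have hfx : ∀ x ∈ E, x ∈ Z → ext κ x = x := fun x hx hxZ => by
        rw [hκg x hx, (mem_centralizerIn_comm.1 hxZ).2 g hg]; group
      refine mem_pCoreIn_of_fix_of_comm (hS.to_le hES) A (Q := Z) (fun α hα x _ hx => hα.2 x hx)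
        ⟨hT.le hκ, fun z hz => by rw [hfx z (hZE hz) hz]; exact hz⟩ hfx fun x hx => ?_
      rw [hκg x hx]; exact h.comm' (hES hx) hg
    have huA : u ∈ A := ⟨hu, huZ⟩
    have hp' : IsPGroup p (pCoreIn p A ⊔ Subgroup.zpowers u : Subgroup (MulAut E)) :=
      IsPGroup.to_sup_of_normal_left' (isPGroup_pCoreIn p A) (isPGroup_zpowers hk)
        ((Subgroup.zpowers_le.2 huA).trans (le_normalizer_pCoreIn A))
    have := hT.eq_of_le (sup_le ((pCoreIn_le A).trans fun α hα => hα.1) (Subgroup.zpowers_le.2 hu)) hp'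
      (hTA.trans le_sup_left)
    have hu' : u ∈ autInducedBy S E := this ▸ Subgroup.mem_sup_right (Subgroup.mem_zpowers u)
    obtain ⟨g, hg, hug⟩ := mem_autInducedBy_iff.1 hu'
    intro z hz
    rw [hug z (hZE hz), (mem_centralizerIn_comm.1 hz).2 g hg]; group
  -- a conjugate with maximal intersection
  have hex : ∃ β ∈ F.autGroup E, ¬ ∀ z ∈ Z, ext β z ∈ Z := by
    by_contra hc
    push Not at hc
    exact h.not_ess_of_inv hS hF hE fun α hα x _ hx => hc α hα x hx
  haveI := finite_autGroup F hES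
  obtain ⟨β, ⟨hβ, hβZ⟩, hmax⟩ := Set.Finite.exists_maximalFor
    (fun β : MulAut E => Nat.card (Z ⊓ img Z (ext β) : Subgroup Ω))
    {β | β ∈ F.autGroup E ∧ ¬ ∀ z ∈ Z, ext β z ∈ Z}
    ((Set.toFinite (F.autGroup E : Set (MulAut E))).subset fun β hβ => hβ.1) hex
  push Not at hβZ
  obtain ⟨y, hy, hyZ⟩ := hβZ
  have hxE : ext β y ∈ E := ext_mem β (hZE hy)
  obtain ⟨s, hs, hsx⟩ := h.surj' (hES hxE) hyZ (hN hdN)
  set t := conjAut E (hnorm s hs) with ht
  have htF : t ∈ F.autGroup E := (sat_sylIn hS hF hE.2.1).le (conjAut_mem_autInducedBy hs _)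
  have htp : ∃ k, t ^ p ^ k = 1 :=
    exists_pow_eq_one_of_isPGroup (isPGroup_autInducedBy hS) (conjAut_mem_autInducedBy hs (hnorm s hs))
  have htZ : ∀ z ∈ Z, ext t z = z := fun z hz => by
    rw [ht, ext_conjAut _ (hZE hz), (mem_centralizerIn_comm.1 hz).2 s hs]; group
  set u := β⁻¹ * t * β with hu
  have huF : u ∈ F.autGroup E := Subgroup.mul_mem _ (Subgroup.mul_mem _ (Subgroup.inv_mem _ hβ) htF) hβ
  have hup : ∃ k, u ^ p ^ k = 1 := by
    obtain ⟨k, hk⟩ := htp
    refine ⟨k, ?_⟩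
    have : u = β⁻¹ * t * β⁻¹⁻¹ := by rw [inv_inv]
    rw [this, conj_pow, hk]; group
  have hd' : ext β⁻¹ d ∈ Z := hN (hinv _ (Subgroup.inv_mem _ hβ) d hdN)
  have huy : ext u y = y * ext β⁻¹ d := by
    rw [hu, ext_mul, ext_mul, ht, ext_conjAut _ hxE, hsx,
      (homOn_ext β⁻¹).map_mul hxE (hZE (hN hdN)), ext_inv_ext]
  by_cases huZ : ∀ z ∈ Z, ext u z ∈ Z
  · have := hfix u huF hup huZ y hy
    rw [huy, mul_eq_left] at this
    apply hd1'
    rw [← ext_ext_inv β d, this, (homOn_ext β).map_one]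
  · -- `Z ⊓ u Z` is larger than `Z ⊓ β Z`
    have h1 := hmax (j := u) ⟨huF, huZ⟩
    set D := Z ⊓ img Z (ext β) with hD
    have hDE : D ≤ E := inf_le_left.trans hZE
    have hD' : img D (ext β⁻¹) < Z ⊓ img Z (ext u) := by
      refine lt_of_le_of_ne (img_le_iff.2 fun x hx => ?_) fun e => ?_
      · obtain ⟨w, hw, rfl⟩ := (himg β).1 hx.2
        rw [ext_inv_ext]
        refine ⟨hw, (himg u).2 ⟨w, hw, ?_⟩⟩
        rw [hu, ext_mul, ext_mul, htZ _ hx.1, ext_inv_ext]
      · have h2 : y * ext β⁻¹ d ∈ Z ⊓ img Z (ext u) :=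
          ⟨Z.mul_mem hy hd', (himg u).2 ⟨y, hy, huy⟩⟩
        rw [← e, ((homOn_ext β⁻¹).mono hDE).mem_img] at h2
        obtain ⟨w, hw, hw'⟩ := h2
        have h3 : w = ext β y * d := by
          rw [← ext_ext_inv β w, hw', (homOn_ext β).map_mul (hZE hy) (hZE hd'), ext_ext_inv]
        apply hyZ
        have := Z.mul_mem hw.1 (Z.inv_mem (hN hdN))
        rwa [h3, mul_inv_cancel_right] at this
    have hlt := card_lt_of_lt hD' (inf_le_left.trans (hZE.trans hES))
    rw [((homOn_ext β⁻¹).mono hDE).card_img (ext_injective _).injOn] at hlt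
    exact absurd (h1 hlt.le) (not_le.2 hlt)

/-- A saturated system over a group of Heisenberg type with `O_p(F) ≠ 1` is constrained. -/
theorem HeisG.exists_normal_centric (h : HeisG S) (hS : IsPGroup p S) (hF : F.IsSaturated p)
    (hne : F.core ≠ ⊥) : ∃ Q, F.IsNormal Q ∧ F.IsCentric Q := by
  by_cases hess : ∃ E, F.IsEssential p E
  swap
  · push Not at hess
    exact ⟨S, sat_isNormal_top_of_no_essential hS hF hess, isCentric_top F⟩
  obtain ⟨E, hE⟩ := hess
  have hN := isNormal_core F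
  have hinv : ∀ P, F.core ≤ P → ∀ g, Iso F P P g → ∀ x ∈ F.core, g x ∈ F.core := fun P hP g hg x hx => by
    rw [← IsNormal.img_eq' hN hg.mor hP]; exact mem_img_of_mem g hx
  have hNZ : ¬ F.core ≤ centralizerIn S S := fun hc => hne <|
    h.eq_bot_of_inv hS hF hE hc fun α hα x hx =>
      hinv E (le_of_isNormal_of_essential hS hN hE) _ (iso_of_mem_autGroup hE.1.1 hα) x hx
  obtain ⟨x, hx, hxZ⟩ := SetLike.not_le_iff_exists.1 hNZ
  have key : ∀ P, F.IsEssential p P → P = centralizerIn S F.core := by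
    intro P hP
    have h1 := le_of_isNormal_of_essential hS hN hP
    have h2 := h.ess_comm hS hF hP
    refine le_antisymm (fun y hy => mem_centralizerIn_comm.2 ⟨hP.1.1 hy, fun z hz => h2 z (h1 hz) y hy⟩)
      fun y hy => centralizerIn_le_of_isCentric hP.1 (mem_centralizerIn_comm.2 ⟨hy.1, fun w hw => ?_⟩)
    exact h.cab' (hN.1 hx) hxZ (hP.1.1 hw) hy.1 (h2 w hw x (h1 hx))
      ((mem_centralizerIn_comm.1 hy).2 x hx).symm
  refine ⟨E, sat_isNormal_of_aut hS hF fun P hP => ?_, hE.1⟩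
  rcases hP with rfl | hP
  · refine ⟨hE.1.1, fun g hg y hy => ?_⟩
    rw [key E hE] at hy ⊢
    have := hg.mor.mem_centralizer_img hN.1 hy.1 hy.2
    rw [IsNormal.img_eq' hN hg.mor hN.1] at this
    exact ⟨hg.mem y hy.1, this⟩
  · rw [key P hP, ← key E hE]
    exact ⟨le_rfl, fun g hg y hy => hg.mem y hy⟩

end Cfsg.Agent.H99
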