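import Mathlib
import Cfsg.Agent.H34.Chev1
import Cfsg.Prelude.Def_ChevE7
import Cfsg.Prelude.Def_ChevG2
import Cfsg.Prelude.Def_Sz
import Cfsg.Prelude.Def_Classical
import Cfsg.Prelude.Def_KGroupFacts
import Cfsg.Prelude.Def_Local

/-!
# S5770: definitions and statements of the pieces (project E72)

`E₇(2)` on its module of dimension 56.  Paper proofs: `stubs/notes/h99_e72.md`.
-/

set_option autoImplicit false

namespace Cfsg.Agent.H99.E72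

open Cfsg Cfsg.Lie Module Subgroup

universe u

abbrev G0 : Type := chevE7.group (ZMod 2)
abbrev V : Type := Fin 56 → ZMod 2
abbrev EV : Type := Module.End (ZMod 2) V
noncomputable def C7 : H34.Cert chevE7 := H34.cert (by simp)

/-- the sixteen roots: simple roots, their negatives, the highest root and its negative -/
def rt (k : ℕ) : ℕ := [93, 78, 73, 69, 66, 64, 63, 32, 47, 52, 56, 59, 61, 62, 125, 0].getD k 0

/-- `srcT[k][a] = b` if the weight `a` is the weight `b` plus the root `rt k`, and `56` if there is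
no such `b` -/
def srcT : List (List ℕ) :=
  [[56, 56, 56, 56, 56, 56, 8, 9, 56, 56, 11, 56, 14, 56, 56, 17, 56, 56, 21, 56, 56, 56, 56, 56, 56, 56, 56, 56, 56, 56, 56, 56, 56, 56, 37, 56, 56, 56, 40, 56, 56, 43, 56, 56, 45, 56, 48, 49, 56, 56, 56, 56, 56, 56, 56, 56],
   [56, 56, 56, 56, 5, 56, 7, 56, 9, 56, 56, 56, 56, 56, 56, 56, 56, 56, 56, 22, 56, 56, 56, 25, 56, 56, 28, 29, 56, 56, 32, 56, 56, 36, 56, 56, 56, 56, 56, 56, 56, 56, 56, 56, 56, 56, 47, 56, 49, 56, 51, 56, 56, 56, 56, 56],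
   [56, 56, 56, 56, 6, 7, 56, 56, 56, 56, 56, 13, 56, 56, 16, 56, 56, 20, 56, 56, 56, 24, 56, 56, 56, 56, 56, 56, 56, 56, 56, 34, 56, 56, 56, 38, 56, 56, 56, 41, 56, 56, 44, 56, 56, 56, 56, 56, 50, 51, 56, 56, 56, 56, 56, 56],
   [56, 56, 56, 4, 56, 56, 56, 10, 56, 11, 56, 56, 56, 56, 56, 56, 19, 56, 56, 56, 23, 56, 56, 56, 27, 56, 56, 56, 31, 56, 56, 56, 35, 56, 56, 56, 39, 56, 56, 56, 56, 56, 56, 56, 46, 48, 56, 56, 56, 56, 56, 52, 56, 56, 56, 56],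
   [56, 56, 3, 56, 56, 56, 56, 56, 56, 56, 12, 14, 56, 16, 56, 56, 56, 56, 56, 56, 56, 56, 56, 26, 56, 28, 56, 30, 56, 32, 56, 56, 56, 56, 56, 56, 56, 56, 56, 42, 56, 44, 56, 45, 56, 56, 56, 56, 56, 56, 56, 56, 53, 56, 56, 56],
   [56, 2, 56, 56, 56, 56, 56, 56, 56, 56, 56, 56, 15, 56, 17, 56, 20, 56, 56, 23, 56, 56, 25, 56, 56, 56, 56, 56, 56, 56, 33, 56, 36, 56, 56, 39, 56, 56, 41, 56, 43, 56, 56, 56, 56, 56, 56, 56, 56, 56, 56, 56, 56, 54, 56, 56],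
   [1, 56, 56, 56, 56, 56, 56, 56, 56, 56, 56, 56, 56, 56, 56, 18, 56, 21, 56, 56, 24, 56, 56, 27, 56, 29, 30, 56, 32, 56, 56, 35, 56, 56, 38, 56, 56, 40, 56, 56, 56, 56, 56, 56, 56, 56, 56, 56, 56, 56, 56, 56, 56, 56, 55, 56],
   [56, 56, 56, 56, 56, 56, 56, 56, 6, 7, 56, 10, 56, 56, 12, 56, 56, 15, 56, 56, 56, 18, 56, 56, 56, 56, 56, 56, 56, 56, 56, 56, 56, 56, 56, 56, 56, 34, 56, 56, 38, 56, 56, 41, 56, 44, 56, 56, 46, 47, 56, 56, 56, 56, 56, 56],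
   [56, 56, 56, 56, 56, 4, 56, 6, 56, 8, 56, 56, 56, 56, 56, 56, 56, 56, 56, 56, 56, 56, 19, 56, 56, 23, 56, 56, 26, 27, 56, 56, 30, 56, 56, 56, 33, 56, 56, 56, 56, 56, 56, 56, 56, 56, 56, 46, 56, 48, 56, 50, 56, 56, 56, 56],
   [56, 56, 56, 56, 56, 56, 4, 5, 56, 56, 56, 56, 56, 11, 56, 56, 14, 56, 56, 56, 17, 56, 56, 56, 21, 56, 56, 56, 56, 56, 56, 56, 56, 56, 31, 56, 56, 56, 35, 56, 56, 39, 56, 56, 42, 56, 56, 56, 56, 56, 48, 49, 56, 56, 56, 56],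
   [56, 56, 56, 56, 3, 56, 56, 56, 56, 56, 7, 9, 56, 56, 56, 56, 56, 56, 56, 16, 56, 56, 56, 20, 56, 56, 56, 24, 56, 56, 56, 28, 56, 56, 56, 32, 56, 56, 56, 36, 56, 56, 56, 56, 56, 56, 44, 56, 45, 56, 56, 56, 51, 56, 56, 56],
   [56, 56, 56, 2, 56, 56, 56, 56, 56, 56, 56, 56, 10, 56, 11, 56, 13, 56, 56, 56, 56, 56, 56, 56, 56, 56, 23, 56, 25, 56, 27, 56, 29, 56, 56, 56, 56, 56, 56, 56, 56, 56, 39, 56, 41, 43, 56, 56, 56, 56, 56, 56, 56, 52, 56, 56],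
   [56, 56, 1, 56, 56, 56, 56, 56, 56, 56, 56, 56, 56, 56, 56, 12, 56, 14, 56, 56, 16, 56, 56, 19, 56, 22, 56, 56, 56, 56, 56, 56, 56, 30, 56, 56, 32, 56, 56, 35, 56, 38, 56, 40, 56, 56, 56, 56, 56, 56, 56, 56, 56, 56, 53, 56],
   [56, 0, 56, 56, 56, 56, 56, 56, 56, 56, 56, 56, 56, 56, 56, 56, 56, 56, 15, 56, 56, 17, 56, 56, 20, 56, 56, 23, 56, 25, 26, 56, 28, 56, 56, 31, 56, 56, 34, 56, 37, 56, 56, 56, 56, 56, 56, 56, 56, 56, 56, 56, 56, 56, 56, 54],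
   [37, 40, 43, 45, 48, 49, 50, 51, 56, 56, 52, 56, 53, 56, 56, 54, 56, 56, 55, 56, 56, 56, 56, 56, 56, 56, 56, 56, 56, 56, 56, 56, 56, 56, 56, 56, 56, 56, 56, 56, 56, 56, 56, 56, 56, 56, 56, 56, 56, 56, 56, 56, 56, 56, 56, 56],
   [56, 56, 56, 56, 56, 56, 56, 56, 56, 56, 56, 56, 56, 56, 56, 56, 56, 56, 56, 56, 56, 56, 56, 56, 56, 56, 56, 56, 56, 56, 56, 56, 56, 56, 56, 56, 56, 0, 56, 56, 1, 56, 56, 2, 56, 3, 56, 56, 4, 5, 6, 7, 10, 12, 15, 18]]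

def src (k a : ℕ) : ℕ := (srcT.getD k []).getD a 56

/-- the root vector on the module -/
def En (k : ℕ) : EV where
  toFun u a := if h : src k a < 56 then u ⟨src k a, h⟩ else 0
  map_add' u v := by ext a; by_cases h : src k a < 56 <;> simp [h]
  map_smul' c u := by ext a; by_cases h : src k a < 56 <;> simp [h]

theorem En_apply (k : ℕ) (u : V) (a : Fin 56) :
    En k u a = if h : src k a < 56 then u ⟨src k a, h⟩ else 0 := rfl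

/-- the root elements -/
noncomputable def gen (k : ℕ) : G0 := C7.xg (ZMod 2) (rt k) 1

/-- a word in the root elements, on the module -/
def wd (w : List ℕ) : EV := (w.map fun k => 1 + En k).prod

/-- the invariant form -/
def bf (u v : V) : ZMod 2 := ∑ b : Fin 56, u b * v b.rev

/-- the dimension of the fixed space -/
noncomputable def fd (A : EV) : ℕ := finrank (ZMod 2) (LinearMap.ker (1 - A))

def wx : List ℕ := [15, 0, 2, 14, 7, 9]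
def wy : List ℕ := [4, 5, 6, 11, 12, 13]
def wr : List ℕ := [4, 6, 12, 5, 11]

section Cfg

variable {Γ : Type*} [Monoid Γ]

/-- two independent commuting elements of order five -/
structure P25 (a b : Γ) : Prop where
  a5 : a ^ 5 = 1
  b5 : b ^ 5 = 1
  ab : a * b = b * a
  ind : ∀ i < 5, ∀ j < 5, a ^ i * b ^ j = 1 → i = 0 ∧ j = 0

end Cfg

/-- `5² : S₃` -/
def Cfg5 (Γ : Type*) [Group Γ] : Prop := ∃ a b u t : Γ, P25 a b ∧ u * a * u⁻¹ = b ∧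
  u * b * u⁻¹ = (a * b)⁻¹ ∧ t * a * t⁻¹ = b⁻¹ ∧ t * b * t⁻¹ = a⁻¹

/-- `5 × 5:4` -/
def CfgR (Γ : Type*) [Group Γ] : Prop := ∃ x y r : Γ, P25 x y ∧ r * x * r⁻¹ = x ∧ r * y * r⁻¹ = y ^ 2

/-- `(5, 5, 2)`-generation -/
def Gen552 (Γ : Type*) [Group Γ] : Prop := ∃ b c : Γ, b ^ 5 = 1 ∧ c ^ 5 = 1 ∧ (b * c) ^ 2 = 1 ∧
  closure {b, c} = ⊤

/-- **REP** -/
def RepStmt : Prop := ∃ ρ : G0 →* EV, Function.Injective ρ ∧ ∀ k < 16, ρ (gen k) = 1 + En k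

/-- **IRR** -/
def IrrStmt : Prop := ∀ U : Submodule (ZMod 2) V, (∀ k < 14, ∀ u ∈ U, En k u ∈ U) → U = ⊥ ∨ U = ⊤

/-- **FORM** -/
def FormStmt : Prop := ∀ ρ : G0 →* EV, (∀ k < 14, ρ (gen k) = 1 + En k) →
  ∀ g u v, bf (ρ g u) (ρ g v) = bf u v

/-- **P5A** -/
def P5aStmt : Prop := P25 (wd wx) (wd wy) ∧ wd wr * wd wx = wd wx * wd wr ∧
  wd wr * wd wy = wd wy ^ 2 * wd wr

/-- **P5B** -/
def P5bStmt : Prop := 16 ≤ fd (wd wx) ∧ ∀ i < 5, 16 ≤ fd (wd wx ^ i * wd wy)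

/-- **FIVE** -/
def FiveStmt : Prop := ∀ (Γ : Type) [Group Γ] [Finite Γ], ¬ 125 ∣ Nat.card Γ → ∀ (ρ : Γ →* EV) (x y : Γ),
  P25 x y → 16 ≤ fd (ρ x) → (∀ i < 5, 16 ≤ fd (ρ (x ^ i * y))) → ∀ g, g ^ 5 = 1 → 16 ≤ fd (ρ g)

/-- **AUT5** -/
def Aut5Stmt : Prop := ∀ (Γ : Type) [Group Γ] [Finite Γ], ¬ 125 ∣ Nat.card Γ → CfgR Γ → ¬ Cfg5 Γ

/-- **SCOTT** -/
def ScottStmt : Prop := ∀ B C : EV, (∀ u v, bf (B u) (B v) = bf u v) → (∀ u v, bf (C u) (C v) = bf u v) →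
  (B * C) ^ 2 = 1 → 16 ≤ fd B → 16 ≤ fd C → ∃ v, v ≠ 0 ∧ B v = v ∧ C v = v

/-- **SUB** -/
def SubStmt : Prop := ∀ (Γ : Type) [Group Γ] [Finite Γ] (σ : Γ →* EV) (S : Subgroup Γ), S.Normal →
  S.index ∣ 12 → ∀ v : V, v ≠ 0 → (∀ s ∈ S, σ s v = v) →
  ∃ v₁ v₂ : V, v₁ ≠ 0 ∧ ∀ g, ∀ u ∈ Submodule.span (ZMod 2) {v₁, v₂},
    σ g u ∈ Submodule.span (ZMod 2) {v₁, v₂}

/-- **COUNT** -/
def CountStmt : Prop := ∀ (Γ : Type) [Group Γ] [Finite Γ] (ρ : Γ →* EV),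
  (∀ U : Submodule (ZMod 2) V, (∀ g, ∀ u ∈ U, ρ g u ∈ U) → U = ⊥ ∨ U = ⊤) →
  ∀ H : Subgroup Γ, IsCoatom H → Nat.card H * 2 ^ 112 < Nat.card Γ → ∀ v₁ v₂ : V, v₁ ≠ 0 →
  ¬ ∀ g ∈ H, ∀ u ∈ Submodule.span (ZMod 2) {v₁, v₂}, ρ g u ∈ Submodule.span (ZMod 2) {v₁, v₂}

/-- **OUT** -/
def OutStmt : Prop := ∀ (H : Type) [Group H] [Finite H] (L : Type u) [Group L], center L = ⊥ →
  (generalizedFittingSubgroup H ≃* L) → (generalizedFittingSubgroup H).index ∣ Nat.card (Out L)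

/-- **GENL** -/
def GenLStmt : Prop := ∀ (F : Type u) [Field F] [Fintype F], Fintype.card F = 4 →
  Gen552 (Matrix.ProjectiveSpecialLinearGroup (Fin 3) F)

/-- **GENS** -/
def GenSStmt : Prop := ∀ (F : Type u) [Field F] [Fintype F], Fintype.card F = 8 → Gen552 (Lie.Sz F 4)

/-- **NUM** -/
def NumStmt : Prop :=
  (∀ (F : Type u) [Field F] [Fintype F], Fintype.card F = 4 →
    center (Matrix.ProjectiveSpecialLinearGroup (Fin 3) F) = ⊥ ∧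
    Nat.card (Matrix.ProjectiveSpecialLinearGroup (Fin 3) F) = 20160 ∧
    Nat.card (Out (Matrix.ProjectiveSpecialLinearGroup (Fin 3) F)) = 12) ∧
  ∀ (F : Type u) [Field F] [Fintype F], Fintype.card F = 8 →
    center (Lie.Sz F 4) = ⊥ ∧ Nat.card (Lie.Sz F 4) = 29120 ∧ Nat.card (Out (Lie.Sz F 4)) = 3

/-- **CFU** -/
def CfuStmt : Prop := ∀ (F : Type u) [Field F] [Fintype F], Fintype.card F = 16 →
  Cfg5 (PSU 3 F 4) ∧ Cfg5 (Matrix.ProjectiveSpecialLinearGroup (Fin 3) F)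

/-- **CFG** -/
def CfgStmt : Prop := ∀ (F : Type u) [Field F] [Fintype F], Fintype.card F = 4 →
  Cfg5 (chevG2.group F)

end Cfsg.Agent.H99.E72
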