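import Mathlib
import Cfsg.Agent.H99.FiH8a

/-!
# The classes of a subgroup of index four
-/

set_option autoImplicit false
set_option maxRecDepth 200000
set_option linter.style.longLine false

namespace Cfsg.Agent.H99.HB

open Cfsg.Agent.H43

theorem z_le41 : grp 324 z_V40 ≤ grp 324 E4 :=
  grp_le_of_memB z_hn z_hk E4_ok z_V40_ok (ws := [nat_lit 0x305070103]) (by decide +kernel)

theorem z_le46 : grp 324 z_V45 ≤ grp 324 E4 :=
  grp_le_of_memB z_hn z_hk E4_ok z_V45_ok (ws := [nat_lit 0x4070107050706060604040804080504, nat_lit 0x4040104080804070104040208, nat_lit 0x2080801050404070204040208, nat_lit 0x3050703010507030703020702080406080408, nat_lit 0x4070607010804050408]) (by decide +kernel)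

theorem z_le48 : grp 324 z_V47 ≤ grp 324 z_V45 :=
  grp_le_of_memB z_hn z_hk z_V45_ok z_V47_ok (ws := [nat_lit 7]) (by decide +kernel)

theorem z_le53 : grp 324 z_V52 ≤ grp 324 z_V45 :=
  grp_le_of_memB z_hn z_hk z_V45_ok z_V52_ok (ws := [nat_lit 0x5020a0406090505050502, nat_lit 0x906080a08090202, nat_lit 0x10a0a060a08040a01]) (by decide +kernel)

theorem z_le57 : grp 324 z_V56 ≤ grp 324 z_V52 :=
  grp_le_of_memB z_hn z_hk z_V52_ok z_V56_ok (ws := [nat_lit 515, nat_lit 2]) (by decide +kernel)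

theorem z_le61 : grp 324 z_V60 ≤ grp 324 z_V52 :=
  grp_le_of_memB z_hn z_hk z_V52_ok z_V60_ok (ws := [nat_lit 0x60206060401050401, nat_lit 0x30505050504010502]) (by decide +kernel)

theorem z_le64 : grp 324 z_V63 ≤ grp 324 z_V60 :=
  grp_le_of_memB z_hn z_hk z_V60_ok z_V63_ok (ws := [nat_lit 260]) (by decide +kernel)

theorem z_le69 : grp 324 z_V68 ≤ grp 324 z_V60 :=
  grp_le_of_memB z_hn z_hk z_V60_ok z_V68_ok (ws := [nat_lit 0x3030103010301, nat_lit 0x30104040204010302, nat_lit 0x4010101]) (by decide +kernel)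

theorem z_le71 : grp 324 z_V70 ≤ grp 324 z_V68 :=
  grp_le_of_memB z_hn z_hk z_V68_ok z_V70_ok (ws := [nat_lit 1]) (by decide +kernel)

theorem z_le76 : grp 324 z_V75 ≤ grp 324 z_V68 :=
  grp_le_of_memB z_hn z_hk z_V68_ok z_V75_ok (ws := [nat_lit 0x3060202030202, nat_lit 0x4060303010601, nat_lit 0x50404010603010305, nat_lit 0x50405010602]) (by decide +kernel)

theorem z_le80 : grp 324 z_V79 ≤ grp 324 z_V75 :=
  grp_le_of_memB z_hn z_hk z_V75_ok z_V79_ok (ws := [nat_lit 1281, nat_lit 1793]) (by decide +kernel)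

theorem z_le84 : grp 324 z_V83 ≤ grp 324 z_V75 :=
  grp_le_of_memB z_hn z_hk z_V75_ok z_V83_ok (ws := [nat_lit 0x205050508, nat_lit 0x104010402040608, nat_lit 0x106020706080208]) (by decide +kernel)

theorem z_le86 : grp 324 z_V85 ≤ grp 324 z_V83 :=
  grp_le_of_memB z_hn z_hk z_V83_ok z_V85_ok (ws := [nat_lit 1]) (by decide +kernel)

theorem z_le90 : grp 324 z_V89 ≤ grp 324 z_V83 :=
  grp_le_of_memB z_hn z_hk z_V83_ok z_V89_ok (ws := [nat_lit 516, nat_lit 0x5010305050505030502, nat_lit 0x30606060406]) (by decide +kernel)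

theorem z_le93 : grp 324 z_V92 ≤ grp 324 z_V89 :=
  grp_le_of_memB z_hn z_hk z_V89_ok z_V92_ok (ws := [nat_lit 3, nat_lit 66566, nat_lit 1029]) (by decide +kernel)

theorem y_card8 : Nat.card (grp 324 y_E8) = 1 :=
  card_grp_nil 324

theorem y_leO8 : grp 324 y_E8 ≤ grp 324 E4 :=
  grp_nil_le _

theorem y_7_fix : grp 324 y_E8 ≤ MulAction.stabilizer (Equiv.Perm (Fin 324)) (⟨28, by decide⟩ : Fin 324) :=
  grp_le_stab y_E8_ok (by decide : 28 < 324) (by decide +kernel)

noncomputable def y_7_ts : List ℕ := [nat_lit 0, nat_lit 1, nat_lit 2, nat_lit 3, nat_lit 5, nat_lit 6, nat_lit 259, nat_lit 261, nat_lit 262, nat_lit 515, nat_lit 517, nat_lit 518, nat_lit 773, nat_lit 774, nat_lit 66309, nat_lit 66310, nat_lit 131845, nat_lit 131846]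

noncomputable def y_7_ds : List ℕ := [nat_lit 28, nat_lit 184, nat_lit 30, nat_lit 176, nat_lit 39, nat_lit 44, nat_lit 36, nat_lit 43, nat_lit 74, nat_lit 178, nat_lit 40, nat_lit 197, nat_lit 192, nat_lit 187, nat_lit 222, nat_lit 191, nat_lit 49, nat_lit 188]

theorem y_7_dist : Dist 324 y_E8 y_G7 (⟨28, by decide⟩ : Fin 324) y_7_ts y_7_ds :=
  dist_of_distB (k := 5) z_hn y_E8_ok y_G7_ok (by decide : 28 < 324) (by decide +kernel)

noncomputable def y_7_sl0 : SL := (SL.cons (nat_lit 1) (nat_lit 184) Ch.nil [] (SL.cons (nat_lit 2) (nat_lit 30) Ch.nil [] (SL.cons (nat_lit 3) (nat_lit 176) Ch.nil [] (SL.cons (nat_lit 5) (nat_lit 39) Ch.nil [] (SL.cons (nat_lit 6) (nat_lit 44) Ch.nil [] (SL.cons (nat_lit 259) (nat_lit 36) Ch.nil [] (SL.cons (nat_lit 261) (nat_lit 43) Ch.nil [] (SL.cons (nat_lit 262) (nat_lit 74) Ch.nil [] (SL.cons (nat_lit 515) (nat_lit 178) Ch.nil [] (SL.cons (nat_lit 517) (nat_lit 40) Ch.nil [] (SL.cons (nat_lit 518) (nat_lit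 197) Ch.nil [] (SL.cons (nat_lit 773) (nat_lit 192) Ch.nil [] (SL.cons (nat_lit 774) (nat_lit 187) Ch.nil [] (SL.cons (nat_lit 66309) (nat_lit 222) Ch.nil [] (SL.cons (nat_lit 66310) (nat_lit 191) Ch.nil [] (SL.cons (nat_lit 131845) (nat_lit 49) Ch.nil [] (SL.cons (nat_lit 131846) (nat_lit 188) Ch.nil [] SL.nil)))))))))))))))))

theorem y_7_sc0 : SCs 324 y_E8 y_G7 (⟨28, by decide⟩ : Fin 324) (SL.words y_7_sl0) :=
  scs_of_ok z_hn (det_lab z_hk ⊤) y_E8_ok y_G7_ok le_top le_top (by decide : 28 < 324) y_7_fix y_card8.le (by decide +kernel)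

noncomputable def y_7_l : List ℕ := (appL (SL.words y_7_sl0) [])

theorem y_7_scs : SCs 324 y_E8 y_G7 (⟨28, by decide⟩ : Fin 324) y_7_l :=
  (SCs.append y_7_sc0 SCs.nil)

noncomputable def y_7_rl0_0 : RL := (RL.cons (nat_lit 0) (nat_lit 28) (nat_lit 0) (nat_lit 0) (nat_lit 2) (nat_lit 0) (RL.cons (nat_lit 1) (nat_lit 184) (nat_lit 0) (nat_lit 0) (nat_lit 0) (nat_lit 0) (RL.cons (nat_lit 2) (nat_lit 30) (nat_lit 0) (nat_lit 0) (nat_lit 1) (nat_lit 0) (RL.cons (nat_lit 3) (nat_lit 176) (nat_lit 0) (nat_lit 0) (nat_lit 6) (nat_lit 0) (RL.cons (nat_lit 4) (nat_lit 39) (nat_lit 0) (nat_lit 0) (nat_lit 10) (nat_lit 0) (RL.cons (nat_lit 5) (nat_lit 44) (nat_lit 0) (nat_lit 0) (nat_lit 11) (nat_lit 0) (RL.cons (nat_lit 6) (nat_lit 36) (nat_lit 0) (nat_lit 0) (nat_lit 9) (nat_lit 0) (RL.cons (nat_lit 7) (nat_lit 43) (nat_lit 0) (nat_lit 0) (nat_lit 4) (nat_lit 0) (RL.cons (nat_lit 8) (nat_lit 74) (nat_lit 0) (nat_lit 0) (nat_lit 5) (nat_lit 0)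 (RL.cons (nat_lit 9) (nat_lit 178) (nat_lit 0) (nat_lit 0) (nat_lit 3) (nat_lit 0) (RL.cons (nat_lit 10) (nat_lit 40) (nat_lit 0) (nat_lit 0) (nat_lit 7) (nat_lit 0) (RL.cons (nat_lit 11) (nat_lit 197) (nat_lit 0) (nat_lit 0) (nat_lit 8) (nat_lit 0) (RL.cons (nat_lit 12) (nat_lit 192) (nat_lit 0) (nat_lit 0) (nat_lit 14) (nat_lit 0) (RL.cons (nat_lit 13) (nat_lit 187) (nat_lit 0) (nat_lit 0) (nat_lit 15) (nat_lit 0) (RL.cons (nat_lit 14) (nat_lit 222) (nat_lit 0) (nat_lit 0) (nat_lit 16) (nat_lit 0) (RL.cons (nat_lit 15) (nat_lit 191) (nat_lit 0) (nat_lit 0) (nat_lit 17) (nat_lit 0) (RL.cons (nat_lit 16) (nat_lit 49) (nat_lit 0) (nat_lit 0) (nat_lit 12) (nat_lit 0) (RL.cons (nat_lit 17) (nat_lit 188) (nat_lit 0) (nat_lit 0) (nat_lit 13) (nat_lit 0) RL.nil))))))))))))))))))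

theorem y_7_good0_0 : GoodSet 324 y_E8 y_G7 (⟨28, by decide⟩ : Fin 324) y_7_ts (nat_lit 1) (RL.pts y_7_rl0_0) :=
  goodSet_of_ok z_hn (det_lab z_hk ⊤) y_E8_ok y_G7_ok le_top le_top (by decide : 28 < 324) (sepAt_lab z_hk _) (by decide +kernel)

theorem y_7_step0 : Step 324 y_E8 y_G7 y_7_ts (2 * 0 + 1) :=
  step_of_cover y_E8_ok y_7_dist (by decide +kernel) y_7_scs (by decide +kernel) y_7_good0_0 (kw := [])
    (conj_mem_of_scs y_E8_ok y_G7_ok (by decide : 28 < 324) y_7_scs (c := 0) (d := 184) (by decide +kernel)) (by decide +kernel)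

noncomputable def y_7_rl1_0 : RL := (RL.cons (nat_lit 0) (nat_lit 28) (nat_lit 0) (nat_lit 0) (nat_lit 3) (nat_lit 0) (RL.cons (nat_lit 1) (nat_lit 184) (nat_lit 0) (nat_lit 0) (nat_lit 6) (nat_lit 0) (RL.cons (nat_lit 2) (nat_lit 30) (nat_lit 0) (nat_lit 0) (nat_lit 9) (nat_lit 0) (RL.cons (nat_lit 3) (nat_lit 176) (nat_lit 0) (nat_lit 0) (nat_lit 0) (nat_lit 0) (RL.cons (nat_lit 4) (nat_lit 39) (nat_lit 0) (nat_lit 0) (nat_lit 13) (nat_lit 0) (RL.cons (nat_lit 5) (nat_lit 44) (nat_lit 0) (nat_lit 0) (nat_lit 12) (nat_lit 0) (RL.cons (nat_lit 6) (nat_lit 36) (nat_lit 0) (nat_lit 0) (nat_lit 1) (nat_lit 0) (RL.cons (nat_lit 7) (nat_lit 43) (nat_lit 0) (nat_lit 0) (nat_lit 15) (nat_lit 0) (RL.cons (nat_lit 8) (nat_lit 74) (nat_lit 0) (nat_lit 0) (nat_lit 14) (nat_lit 0) (RL.cons (nat_lit 9) (nat_lit 178) (nat_lit 0) (nat_lit 0) (nat_lit 2) (nat_lit 0) (RL.cons (nat_lit 10) (nat_lit 40) (nat_lit 0) (nat_lit 0) (nat_lit 17) (nat_lit 0) (RL.cons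 (nat_lit 11) (nat_lit 197) (nat_lit 0) (nat_lit 0) (nat_lit 16) (nat_lit 0) (RL.cons (nat_lit 12) (nat_lit 192) (nat_lit 0) (nat_lit 0) (nat_lit 5) (nat_lit 0) (RL.cons (nat_lit 13) (nat_lit 187) (nat_lit 0) (nat_lit 0) (nat_lit 4) (nat_lit 0) (RL.cons (nat_lit 14) (nat_lit 222) (nat_lit 0) (nat_lit 0) (nat_lit 8) (nat_lit 0) (RL.cons (nat_lit 15) (nat_lit 191) (nat_lit 0) (nat_lit 0) (nat_lit 7) (nat_lit 0) (RL.cons (nat_lit 16) (nat_lit 49) (nat_lit 0) (nat_lit 0) (nat_lit 11) (nat_lit 0) (RL.cons (nat_lit 17) (nat_lit 188) (nat_lit 0) (nat_lit 0) (nat_lit 10) (nat_lit 0) RL.nil))))))))))))))))))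

theorem y_7_good1_0 : GoodSet 324 y_E8 y_G7 (⟨28, by decide⟩ : Fin 324) y_7_ts (nat_lit 3) (RL.pts y_7_rl1_0) :=
  goodSet_of_ok z_hn (det_lab z_hk ⊤) y_E8_ok y_G7_ok le_top le_top (by decide : 28 < 324) (sepAt_lab z_hk _) (by decide +kernel)

theorem y_7_step1 : Step 324 y_E8 y_G7 y_7_ts (2 * 1 + 1) :=
  step_of_cover y_E8_ok y_7_dist (by decide +kernel) y_7_scs (by decide +kernel) y_7_good1_0 (kw := [])
    (conj_mem_of_scs y_E8_ok y_G7_ok (by decide : 28 < 324) y_7_scs (c := 2) (d := 176) (by decide +kernel)) (by decide +kernel)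

noncomputable def y_7_rl2_0 : RL := (RL.cons (nat_lit 0) (nat_lit 28) (nat_lit 0) (nat_lit 0) (nat_lit 5) (nat_lit 0) (RL.cons (nat_lit 1) (nat_lit 184) (nat_lit 0) (nat_lit 0) (nat_lit 8) (nat_lit 0) (RL.cons (nat_lit 2) (nat_lit 30) (nat_lit 0) (nat_lit 0) (nat_lit 11) (nat_lit 0) (RL.cons (nat_lit 3) (nat_lit 176) (nat_lit 0) (nat_lit 0) (nat_lit 13) (nat_lit 0) (RL.cons (nat_lit 4) (nat_lit 39) (nat_lit 0) (nat_lit 0) (nat_lit 0) (nat_lit 0) (RL.cons (nat_lit 5) (nat_lit 44) (nat_lit 0) (nat_lit 0) (nat_lit 4) (nat_lit 0) (RL.cons (nat_lit 6) (nat_lit 36) (nat_lit 0) (nat_lit 0) (nat_lit 15) (nat_lit 0) (RL.cons (nat_lit 7) (nat_lit 43) (nat_lit 0) (nat_lit 0) (nat_lit 1) (nat_lit 0) (RL.cons (nat_lit 8) (nat_lit 74) (nat_lit 0) (nat_lit 0) (nat_lit 7) (nat_lit 0) (RL.cons (nat_lit 9) (nat_lit 178) (nat_lit 0) (nat_lit 0) (nat_lit 17) (nat_lit 0) (RL.cons (nat_lit 10) (nat_lit 40) (nat_lit 0) (nat_lit 0) (nat_lit 2) (nat_lit 0) (RL.cons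 (nat_lit 11) (nat_lit 197) (nat_lit 0) (nat_lit 0) (nat_lit 10) (nat_lit 0) (RL.cons (nat_lit 12) (nat_lit 192) (nat_lit 0) (nat_lit 0) (nat_lit 3) (nat_lit 0) (RL.cons (nat_lit 13) (nat_lit 187) (nat_lit 0) (nat_lit 0) (nat_lit 12) (nat_lit 0) (RL.cons (nat_lit 14) (nat_lit 222) (nat_lit 0) (nat_lit 0) (nat_lit 6) (nat_lit 0) (RL.cons (nat_lit 15) (nat_lit 191) (nat_lit 0) (nat_lit 0) (nat_lit 14) (nat_lit 0) (RL.cons (nat_lit 16) (nat_lit 49) (nat_lit 0) (nat_lit 0) (nat_lit 9) (nat_lit 0) (RL.cons (nat_lit 17) (nat_lit 188) (nat_lit 0) (nat_lit 0) (nat_lit 16) (nat_lit 0) RL.nil))))))))))))))))))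

theorem y_7_good2_0 : GoodSet 324 y_E8 y_G7 (⟨28, by decide⟩ : Fin 324) y_7_ts (nat_lit 5) (RL.pts y_7_rl2_0) :=
  goodSet_of_ok z_hn (det_lab z_hk ⊤) y_E8_ok y_G7_ok le_top le_top (by decide : 28 < 324) (sepAt_lab z_hk _) (by decide +kernel)

theorem y_7_step2 : Step 324 y_E8 y_G7 y_7_ts (2 * 2 + 1) :=
  step_of_cover y_E8_ok y_7_dist (by decide +kernel) y_7_scs (by decide +kernel) y_7_good2_0 (kw := [])
    (conj_mem_of_scs y_E8_ok y_G7_ok (by decide : 28 < 324) y_7_scs (c := 3) (d := 39) (by decide +kernel)) (by decide +kernel)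

theorem y_7_lev : grp 324 y_G7 ⊓ MulAction.stabilizer (Equiv.Perm (Fin 324)) (⟨28, by decide⟩ : Fin 324) = grp 324 y_E8 :=
  sims_level (gs := z_V92) rfl (by decide) y_7_fix y_7_dist (forall_lt_succ' (forall_lt_succ' (forall_lt_one y_7_step0) y_7_step1) y_7_step2)

theorem y_7_cardG : Nat.card (grp 324 y_G7) = 18 :=
  card_of_level z_hn y_G7_ok (by decide : 28 < 324) y_7_lev y_card8 (m := 18) (by decide +kernel)

theorem z_le94 : grp 324 y_E7 ≤ grp 324 y_G7 :=
  grp_le_of_memB z_hn z_hk y_G7_ok y_E7_ok (ws := [nat_lit 1, nat_lit 3, nat_lit 5, nat_lit 66309, nat_lit 261]) (by decide +kernel)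

theorem z_le95 : grp 324 y_G7 ≤ grp 324 y_E7 :=
  grp_le_of_memB z_hn z_hk y_E7_ok y_G7_ok (ws := [nat_lit 1, nat_lit 3, nat_lit 5]) (by decide +kernel)

theorem y_7_eq : grp 324 y_E7 = grp 324 y_G7 :=
  le_antisymm z_le94 z_le95

theorem y_card7 : Nat.card (grp 324 y_E7) = 18 :=
  by rw [y_7_eq]; exact y_7_cardG

theorem y_stab7 : grp 324 y_E7 ⊓ MulAction.stabilizer (Equiv.Perm (Fin 324)) (⟨28, by decide⟩ : Fin 324) = grp 324 y_E8 :=
  by rw [y_7_eq]; exact y_7_lev

theorem y_leO7 : grp 324 y_E7 ≤ grp 324 E4 :=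
  y_7_eq.le.trans (grp_cons_le ((z_le90.trans (z_le84.trans (z_le76.trans (z_le69.trans (z_le61.trans (z_le53.trans (z_le46.trans (le_refl (grp 324 E4))))))))) (z_le93 (toPerm_mem_grp (E := z_V92) (by simp [z_V92])))) (grp_cons_le ((z_le90.trans (z_le84.trans (z_le76.trans (z_le69.trans (z_le61.trans (z_le53.trans (z_le46.trans (le_refl (grp 324 E4))))))))) (z_le93 (toPerm_mem_grp (E := z_V92) (by simp [z_V92])))) (grp_cons_le ((z_le90.trans (z_le84.trans (z_le76.trans (z_le69.trans (z_le61.trans (z_le53.trans (z_le46.trans (le_refl (grp 324 E4))))))))) (z_le93 (toPerm_mem_grp (E := z_V92) (by simp [z_V92])))) y_leO8)))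

theorem y_6_fix : grp 324 y_E7 ≤ MulAction.stabilizer (Equiv.Perm (Fin 324)) (⟨24, by decide⟩ : Fin 324) :=
  grp_le_stab y_E7_ok (by decide : 24 < 324) (by decide +kernel)

noncomputable def y_6_ts : List ℕ := [nat_lit 0, nat_lit 1]

noncomputable def y_6_ds : List ℕ := [nat_lit 24, nat_lit 20]

theorem y_6_dist : Dist 324 y_E7 y_G6 (⟨24, by decide⟩ : Fin 324) y_6_ts y_6_ds :=
  dist_of_distB (k := 1) z_hn y_E7_ok y_G6_ok (by decide : 24 < 324) (by decide +kernel)

noncomputable def y_6_sl0 : SL := (SL.cons (nat_lit 1) (nat_lit 20) (Ch.cons (nat_lit 28) [nat_lit 3, nat_lit 6, nat_lit 2] Ch.nil) [nat_lit 515, nat_lit 6, nat_lit 2] SL.nil)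

theorem y_6_sc0 : SCs 324 y_E7 y_G6 (⟨24, by decide⟩ : Fin 324) (SL.words y_6_sl0) :=
  scs_of_ok z_hn (det_lab z_hk ⊤) y_E7_ok y_G6_ok le_top le_top (by decide : 24 < 324) y_6_fix y_card7.le (by decide +kernel)

noncomputable def y_6_l : List ℕ := (appL (SL.words y_6_sl0) [])

theorem y_6_scs : SCs 324 y_E7 y_G6 (⟨24, by decide⟩ : Fin 324) y_6_l :=
  (SCs.append y_6_sc0 SCs.nil)

noncomputable def y_6_rl0_0 : RL := (RL.cons (nat_lit 0) (nat_lit 24) (nat_lit 0) (nat_lit 0) (nat_lit 1) (nat_lit 1) (RL.cons (nat_lit 1) (nat_lit 20) (nat_lit 0) (nat_lit 0) (nat_lit 0) (nat_lit 0) RL.nil))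

theorem y_6_good0_0 : GoodSet 324 y_E7 y_G6 (⟨24, by decide⟩ : Fin 324) y_6_ts (nat_lit 1) (RL.pts y_6_rl0_0) :=
  goodSet_of_ok z_hn (det_lab z_hk ⊤) y_E7_ok y_G6_ok le_top le_top (by decide : 24 < 324) (sepAt_lab z_hk _) (by decide +kernel)

theorem y_6_step0 : Step 324 y_E7 y_G6 y_6_ts (2 * 0 + 1) :=
  step_of_cover y_E7_ok y_6_dist (by decide +kernel) y_6_scs (by decide +kernel) y_6_good0_0 (kw := [nat_lit 3, nat_lit 6, nat_lit 2])
    (conj_mem_of_scs y_E7_ok y_G6_ok (by decide : 24 < 324) y_6_scs (c := 0) (d := 20) (by decide +kernel)) (by decide +kernel)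

theorem y_6_lev : grp 324 y_G6 ⊓ MulAction.stabilizer (Equiv.Perm (Fin 324)) (⟨24, by decide⟩ : Fin 324) = grp 324 y_E7 :=
  sims_level (gs := z_V85) rfl (by decide) y_6_fix y_6_dist (forall_lt_one y_6_step0)

theorem y_6_cardG : Nat.card (grp 324 y_G6) = 36 :=
  card_of_level z_hn y_G6_ok (by decide : 24 < 324) y_6_lev y_card7 (m := 2) (by decide +kernel)

theorem z_le96 : grp 324 y_E6 ≤ grp 324 y_G6 :=
  grp_le_of_memB z_hn z_hk y_G6_ok y_E6_ok (ws := [nat_lit 1, nat_lit 264449, nat_lit 3, nat_lit 5, nat_lit 7, nat_lit 9, nat_lit 11]) (by decide +kernel)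

theorem z_le97 : grp 324 y_G6 ≤ grp 324 y_E6 :=
  grp_le_of_memB z_hn z_hk y_E6_ok y_G6_ok (ws := [nat_lit 1, nat_lit 5, nat_lit 7, nat_lit 9, nat_lit 11, nat_lit 13]) (by decide +kernel)

theorem y_6_eq : grp 324 y_E6 = grp 324 y_G6 :=
  le_antisymm z_le96 z_le97

theorem y_card6 : Nat.card (grp 324 y_E6) = 36 :=
  by rw [y_6_eq]; exact y_6_cardG

theorem y_stab6 : grp 324 y_E6 ⊓ MulAction.stabilizer (Equiv.Perm (Fin 324)) (⟨24, by decide⟩ : Fin 324) = grp 324 y_E7 :=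
  by rw [y_6_eq]; exact y_6_lev

theorem y_leO6 : grp 324 y_E6 ≤ grp 324 E4 :=
  y_6_eq.le.trans (grp_cons_le ((z_le84.trans (z_le76.trans (z_le69.trans (z_le61.trans (z_le53.trans (z_le46.trans (le_refl (grp 324 E4)))))))) (z_le86 (toPerm_mem_grp (E := z_V85) (by simp [z_V85])))) y_leO7)

theorem y_5_fix : grp 324 y_E6 ≤ MulAction.stabilizer (Equiv.Perm (Fin 324)) (⟨18, by decide⟩ : Fin 324) :=
  grp_le_stab y_E6_ok (by decide : 18 < 324) (by decide +kernel)

noncomputable def y_5_ts : List ℕ := [nat_lit 0, nat_lit 1, nat_lit 3, nat_lit 259, nat_lit 260]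

noncomputable def y_5_ds : List ℕ := [nat_lit 18, nat_lit 24, nat_lit 23, nat_lit 25, nat_lit 22]

theorem y_5_dist : Dist 324 y_E6 y_G5 (⟨18, by decide⟩ : Fin 324) y_5_ts y_5_ds :=
  dist_of_distB (k := 3) z_hn y_E6_ok y_G5_ok (by decide : 18 < 324) (by decide +kernel)

noncomputable def y_5_sl0 : SL := (SL.cons (nat_lit 1) (nat_lit 24) (Ch.cons (nat_lit 28) [nat_lit 5, nat_lit 7, nat_lit 9, nat_lit 11, nat_lit 13] Ch.nil) [nat_lit 5, nat_lit 329486, nat_lit 9, nat_lit 7, nat_lit 13] (SL.cons (nat_lit 3) (nat_lit 23) (Ch.cons (nat_lit 28) [nat_lit 11, nat_lit 5, nat_lit 7] Ch.nil) [nat_lit 1806, nat_lit 6, nat_lit 1543] (SL.cons (nat_lit 259) (nat_lit 25) (Ch.cons (nat_lit 28) [nat_lit 11, nat_lit 1547, nat_lit 14] Ch.nil) [nat_lit 1547, nat_lit 11, nat_lit 13] (SL.cons (nat_lit 260) (nat_lit 22) (Ch.cons (nat_lit 28) [nat_lit 1806, nat_lit 11, nat_lit 6] Ch.nil) [nat_lit 7, nat_lit 1547, nat_lit 5] SL.nil))))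

theorem y_5_sc0 : SCs 324 y_E6 y_G5 (⟨18, by decide⟩ : Fin 324) (SL.words y_5_sl0) :=
  scs_of_ok z_hn (det_lab z_hk ⊤) y_E6_ok y_G5_ok le_top le_top (by decide : 18 < 324) y_5_fix y_card6.le (by decide +kernel)

noncomputable def y_5_l : List ℕ := (appL (SL.words y_5_sl0) [])

theorem y_5_scs : SCs 324 y_E6 y_G5 (⟨18, by decide⟩ : Fin 324) y_5_l :=
  (SCs.append y_5_sc0 SCs.nil)

noncomputable def y_5_rl0_0 : RL := (RL.cons (nat_lit 0) (nat_lit 18) (nat_lit 0) (nat_lit 1) (nat_lit 1) (nat_lit 3585) (RL.cons (nat_lit 1) (nat_lit 24) (nat_lit 0) (nat_lit 0) (nat_lit 0) (nat_lit 0) (RL.cons (nat_lit 1) (nat_lit 20) (nat_lit 1) (nat_lit 0) (nat_lit 1) (nat_lit 331009) (RL.cons (nat_lit 2) (nat_lit 23) (nat_lit 0) (nat_lit 1) (nat_lit 4) (nat_lit 1) (RL.cons (nat_lit 2) (nat_lit 19) (nat_lit 1) (nat_lit 1) (nat_lit 3) (nat_lit 0) (RL.cons (nat_lit 3) (nat_lit 25) (nat_lit 0) (nat_lit 0) (nat_lit 2) (nat_lit 1293) (RL.cons (nat_lit 3) (nat_lit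 21) (nat_lit 1) (nat_lit 0) (nat_lit 4) (nat_lit 3585) (RL.cons (nat_lit 4) (nat_lit 22) (nat_lit 0) (nat_lit 1) (nat_lit 2) (nat_lit 331009) (RL.cons (nat_lit 4) (nat_lit 26) (nat_lit 1) (nat_lit 0) (nat_lit 3) (nat_lit 3585) RL.nil)))))))))

theorem y_5_good0_0 : GoodSet 324 y_E6 y_G5 (⟨18, by decide⟩ : Fin 324) y_5_ts (nat_lit 1) (RL.pts y_5_rl0_0) :=
  goodSet_of_ok z_hn (det_lab z_hk ⊤) y_E6_ok y_G5_ok le_top le_top (by decide : 18 < 324) (sepAt_lab z_hk _) (by decide +kernel)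

theorem y_5_step0 : Step 324 y_E6 y_G5 y_5_ts (2 * 0 + 1) :=
  step_of_cover y_E6_ok y_5_dist (by decide +kernel) y_5_scs (by decide +kernel) y_5_good0_0 (kw := [nat_lit 5, nat_lit 7, nat_lit 9, nat_lit 11, nat_lit 13])
    (conj_mem_of_scs y_E6_ok y_G5_ok (by decide : 18 < 324) y_5_scs (c := 0) (d := 24) (by decide +kernel)) (by decide +kernel)

noncomputable def y_5_rl1_0 : RL := (RL.cons (nat_lit 0) (nat_lit 18) (nat_lit 0) (nat_lit 1) (nat_lit 2) (nat_lit 1) (RL.cons (nat_lit 1) (nat_lit 24) (nat_lit 0) (nat_lit 0) (nat_lit 4) (nat_lit 0) (RL.cons (nat_lit 1) (nat_lit 20) (nat_lit 1) (nat_lit 1) (nat_lit 3) (nat_lit 6) (RL.cons (nat_lit 2) (nat_lit 23) (nat_lit 0) (nat_lit 0) (nat_lit 0) (nat_lit 0) (RL.cons (nat_lit 2) (nat_lit 19) (nat_lit 1) (nat_lit 0) (nat_lit 2) (nat_lit 329473) (RL.cons (nat_lit 3) (nat_lit 25) (nat_lit 0) (nat_lit 0) (nat_lit 1) (nat_lit 0) (RL.cons (nat_lit 3) (nat_lit 21) (nat_lit 1) (nat_lit 1) (nat_lit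 4) (nat_lit 1806) (RL.cons (nat_lit 4) (nat_lit 22) (nat_lit 0) (nat_lit 0) (nat_lit 3) (nat_lit 1802) (RL.cons (nat_lit 4) (nat_lit 26) (nat_lit 1) (nat_lit 1) (nat_lit 1) (nat_lit 5) RL.nil)))))))))

theorem y_5_good1_0 : GoodSet 324 y_E6 y_G5 (⟨18, by decide⟩ : Fin 324) y_5_ts (nat_lit 3) (RL.pts y_5_rl1_0) :=
  goodSet_of_ok z_hn (det_lab z_hk ⊤) y_E6_ok y_G5_ok le_top le_top (by decide : 18 < 324) (sepAt_lab z_hk _) (by decide +kernel)

theorem y_5_step1 : Step 324 y_E6 y_G5 y_5_ts (2 * 1 + 1) :=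
  step_of_cover y_E6_ok y_5_dist (by decide +kernel) y_5_scs (by decide +kernel) y_5_good1_0 (kw := [nat_lit 11, nat_lit 5, nat_lit 7])
    (conj_mem_of_scs y_E6_ok y_G5_ok (by decide : 18 < 324) y_5_scs (c := 1) (d := 23) (by decide +kernel)) (by decide +kernel)

theorem y_5_lev : grp 324 y_G5 ⊓ MulAction.stabilizer (Equiv.Perm (Fin 324)) (⟨18, by decide⟩ : Fin 324) = grp 324 y_E6 :=
  sims_level (gs := z_V79) rfl (by decide) y_5_fix y_5_dist (forall_lt_succ' (forall_lt_one y_5_step0) y_5_step1)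

theorem y_5_cardG : Nat.card (grp 324 y_G5) = 324 :=
  card_of_level z_hn y_G5_ok (by decide : 18 < 324) y_5_lev y_card6 (m := 9) (by decide +kernel)

theorem z_le98 : grp 324 y_E5 ≤ grp 324 y_G5 :=
  grp_le_of_memB z_hn z_hk y_G5_ok y_E5_ok (ws := [nat_lit 1, nat_lit 3, nat_lit 0x911050203, nat_lit 0x90e050103, nat_lit 591106, nat_lit 5, nat_lit 7, nat_lit 9, nat_lit 11, nat_lit 13, nat_lit 15, nat_lit 17]) (by decide +kernel)

theorem z_le99 : grp 324 y_G5 ≤ grp 324 y_E5 :=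
  grp_le_of_memB z_hn z_hk y_E5_ok y_G5_ok (ws := [nat_lit 1, nat_lit 3, nat_lit 11, nat_lit 13, nat_lit 15, nat_lit 17, nat_lit 19, nat_lit 21, nat_lit 23]) (by decide +kernel)

theorem y_5_eq : grp 324 y_E5 = grp 324 y_G5 :=
  le_antisymm z_le98 z_le99

theorem y_card5 : Nat.card (grp 324 y_E5) = 324 :=
  by rw [y_5_eq]; exact y_5_cardG

theorem y_stab5 : grp 324 y_E5 ⊓ MulAction.stabilizer (Equiv.Perm (Fin 324)) (⟨18, by decide⟩ : Fin 324) = grp 324 y_E6 :=
  by rw [y_5_eq]; exact y_5_lev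

theorem y_leO5 : grp 324 y_E5 ≤ grp 324 E4 :=
  y_5_eq.le.trans (grp_cons_le ((z_le76.trans (z_le69.trans (z_le61.trans (z_le53.trans (z_le46.trans (le_refl (grp 324 E4))))))) (z_le80 (toPerm_mem_grp (E := z_V79) (by simp [z_V79])))) (grp_cons_le ((z_le76.trans (z_le69.trans (z_le61.trans (z_le53.trans (z_le46.trans (le_refl (grp 324 E4))))))) (z_le80 (toPerm_mem_grp (E := z_V79) (by simp [z_V79])))) y_leO6))

theorem y_4_fix : grp 324 y_E5 ≤ MulAction.stabilizer (Equiv.Perm (Fin 324)) (⟨3, by decide⟩ : Fin 324) :=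
  grp_le_stab y_E5_ok (by decide : 3 < 324) (by decide +kernel)

noncomputable def y_4_ts : List ℕ := [nat_lit 0, nat_lit 1]

noncomputable def y_4_ds : List ℕ := [nat_lit 3, nat_lit 6]

theorem y_4_dist : Dist 324 y_E5 y_G4 (⟨3, by decide⟩ : Fin 324) y_4_ts y_4_ds :=
  dist_of_distB (k := 1) z_hn y_E5_ok y_G4_ok (by decide : 3 < 324) (by decide +kernel)

noncomputable def y_4_sl0 : SL := (SL.cons (nat_lit 1) (nat_lit 6) (Ch.cons (nat_lit 28) [nat_lit 5892, nat_lit 0x150b02] (Ch.cons (nat_lit 18) [nat_lit 3841, nat_lit 988419] Ch.nil)) [nat_lit 4868, nat_lit 0x170b04, nat_lit 3841, nat_lit 988419] SL.nil)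

theorem y_4_sc0 : SCs 324 y_E5 y_G4 (⟨3, by decide⟩ : Fin 324) (SL.words y_4_sl0) :=
  scs_of_ok z_hn (det_lab z_hk ⊤) y_E5_ok y_G4_ok le_top le_top (by decide : 3 < 324) y_4_fix y_card5.le (by decide +kernel)

noncomputable def y_4_l : List ℕ := (appL (SL.words y_4_sl0) [])

theorem y_4_scs : SCs 324 y_E5 y_G4 (⟨3, by decide⟩ : Fin 324) y_4_l :=
  (SCs.append y_4_sc0 SCs.nil)

noncomputable def y_4_rl0_0 : RL := (RL.cons (nat_lit 0) (nat_lit 3) (nat_lit 0) (nat_lit 0) (nat_lit 1) (nat_lit 0x10150104) (RL.cons (nat_lit 1) (nat_lit 6) (nat_lit 0) (nat_lit 0) (nat_lit 0) (nat_lit 0) RL.nil))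

theorem y_4_good0_0 : GoodSet 324 y_E5 y_G4 (⟨3, by decide⟩ : Fin 324) y_4_ts (nat_lit 1) (RL.pts y_4_rl0_0) :=
  goodSet_of_ok z_hn (det_lab z_hk ⊤) y_E5_ok y_G4_ok le_top le_top (by decide : 3 < 324) (sepAt_lab z_hk _) (by decide +kernel)

theorem y_4_step0 : Step 324 y_E5 y_G4 y_4_ts (2 * 0 + 1) :=
  step_of_cover y_E5_ok y_4_dist (by decide +kernel) y_4_scs (by decide +kernel) y_4_good0_0 (kw := [nat_lit 5892, nat_lit 0x150b02, nat_lit 3841, nat_lit 988419])
    (conj_mem_of_scs y_E5_ok y_G4_ok (by decide : 3 < 324) y_4_scs (c := 0) (d := 6) (by decide +kernel)) (by decide +kernel)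

theorem y_4_lev : grp 324 y_G4 ⊓ MulAction.stabilizer (Equiv.Perm (Fin 324)) (⟨3, by decide⟩ : Fin 324) = grp 324 y_E5 :=
  sims_level (gs := z_V70) rfl (by decide) y_4_fix y_4_dist (forall_lt_one y_4_step0)

theorem y_4_cardG : Nat.card (grp 324 y_G4) = 648 :=
  card_of_level z_hn y_G4_ok (by decide : 3 < 324) y_4_lev y_card5 (m := 2) (by decide +kernel)

theorem z_le100 : grp 324 y_E4 ≤ grp 324 y_G4 :=
  grp_le_of_memB z_hn z_hk y_G4_ok y_E4_ok (ws := [nat_lit 1, nat_lit 0x160406, nat_lit 0x131a0d, nat_lit 3, nat_lit 5, nat_lit 7, nat_lit 9, nat_lit 11, nat_lit 13, nat_lit 15, nat_lit 17, nat_lit 19, nat_lit 21, nat_lit 23, nat_lit 25]) (by decide +kernel)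

theorem z_le101 : grp 324 y_G4 ≤ grp 324 y_E4 :=
  grp_le_of_memB z_hn z_hk y_E4_ok y_G4_ok (ws := [nat_lit 1, nat_lit 7, nat_lit 9, nat_lit 11, nat_lit 13, nat_lit 15, nat_lit 17, nat_lit 19, nat_lit 21, nat_lit 23, nat_lit 25, nat_lit 27, nat_lit 29]) (by decide +kernel)

theorem y_4_eq : grp 324 y_E4 = grp 324 y_G4 :=
  le_antisymm z_le100 z_le101

theorem y_card4 : Nat.card (grp 324 y_E4) = 648 :=
  by rw [y_4_eq]; exact y_4_cardG

theorem y_stab4 : grp 324 y_E4 ⊓ MulAction.stabilizer (Equiv.Perm (Fin 324)) (⟨3, by decide⟩ : Fin 324) = grp 324 y_E5 :=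
  by rw [y_4_eq]; exact y_4_lev

theorem y_leO4 : grp 324 y_E4 ≤ grp 324 E4 :=
  y_4_eq.le.trans (grp_cons_le ((z_le69.trans (z_le61.trans (z_le53.trans (z_le46.trans (le_refl (grp 324 E4)))))) (z_le71 (toPerm_mem_grp (E := z_V70) (by simp [z_V70])))) y_leO5)

theorem y_3_fix : grp 324 y_E4 ≤ MulAction.stabilizer (Equiv.Perm (Fin 324)) (⟨1, by decide⟩ : Fin 324) :=
  grp_le_stab y_E4_ok (by decide : 1 < 324) (by decide +kernel)

noncomputable def y_3_ts : List ℕ := [nat_lit 0, nat_lit 1, nat_lit 2, nat_lit 65793, nat_lit 66306, nat_lit 66818, nat_lit 68354]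

noncomputable def y_3_ds : List ℕ := [nat_lit 1, nat_lit 24, nat_lit 298, nat_lit 6, nat_lit 14, nat_lit 12, nat_lit 16]

theorem y_3_dist : Dist 324 y_E4 y_G3 (⟨1, by decide⟩ : Fin 324) y_3_ts y_3_ds :=
  dist_of_distB (k := 3) z_hn y_E4_ok y_G3_ok (by decide : 1 < 324) (by decide +kernel)

noncomputable def y_3_sl0 : SL := (SL.cons (nat_lit 1) (nat_lit 24) (Ch.cons (nat_lit 28) [nat_lit 21, nat_lit 5405, nat_lit 0x1a0d01, nat_lit 0x1d1108, nat_lit 5399] Ch.nil) [nat_lit 0x1b110b, nat_lit 0x151709, nat_lit 0x150d01, nat_lit 0x1a0801, nat_lit 0x1617110a] (SL.cons (nat_lit 2) (nat_lit 298) (Ch.cons (nat_lit 28) [nat_lit 0x170a01, nat_lit 0x150d01, nat_lit 0x1e0b01, nat_lit 0x1d0a01] Ch.nil) [nat_lit 0x191108, nat_lit 0x1a0d01, nat_lit 0x151d0d01, nat_lit 0x170d01] (SL.cons (nat_lit 65793) (nat_lit 6) (Ch.cons (nat_lit 28) [nat_lit 6665, nat_lit 4361] (Ch.cons (nat_lit 18) [nat_lit 0x171a0a, nat_lit 5640] Ch.nil)) [nat_lit 5385, nat_lit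 6667, nat_lit 0x171a0a, nat_lit 5640] (SL.cons (nat_lit 66306) (nat_lit 14) (Ch.cons (nat_lit 28) [nat_lit 7, nat_lit 0x151b08, nat_lit 7437] (Ch.cons (nat_lit 18) [nat_lit 5383, nat_lit 0x17080a] Ch.nil)) [nat_lit 0x151a07, nat_lit 6920, nat_lit 0x15110a, nat_lit 6663, nat_lit 0x161b080a] (SL.cons (nat_lit 66818) (nat_lit 12) (Ch.cons (nat_lit 28) [nat_lit 0x17110d, nat_lit 4363, nat_lit 5901] (Ch.cons (nat_lit 18) [nat_lit 5640, nat_lit 0x17080a] Ch.nil)) [nat_lit 0x1517080a, nat_lit 0x16070a, nat_lit 0x1b110a, nat_lit 6663, nat_lit 0x1617110d] (SL.cons (nat_lit 68354) (nat_lit 16) (Ch.cons (nat_lit 28) [nat_lit 7441, nat_lit 6413] (Ch.cons (nat_lit 18) [nat_lit 5640, nat_lit 0x151b09] Ch.nil)) [nat_lit 0x171e1109, nat_lit 0x15171108, nat_lit 6663, nat_lit 0x151b0a] SL.nil))))))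

theorem y_3_sc0 : SCs 324 y_E4 y_G3 (⟨1, by decide⟩ : Fin 324) (SL.words y_3_sl0) :=
  scs_of_ok z_hn (det_lab z_hk ⊤) y_E4_ok y_G3_ok le_top le_top (by decide : 1 < 324) y_3_fix y_card4.le (by decide +kernel)

noncomputable def y_3_l : List ℕ := (appL (SL.words y_3_sl0) [])

theorem y_3_scs : SCs 324 y_E4 y_G3 (⟨1, by decide⟩ : Fin 324) y_3_l :=
  (SCs.append y_3_sc0 SCs.nil)

noncomputable def y_3_rl0_0 : RL := (RL.cons (nat_lit 0) (nat_lit 1) (nat_lit 0) (nat_lit 0) (nat_lit 2) (nat_lit 0) (RL.cons (nat_lit 1) (nat_lit 24) (nat_lit 0) (nat_lit 0) (nat_lit 0) (nat_lit 0) (RL.cons (nat_lit 1) (nat_lit 21) (nat_lit 1) (nat_lit 0) (nat_lit 4) (nat_lit 0) (RL.cons (nat_lit 1) (nat_lit 19) (nat_lit 3) (nat_lit 0) (nat_lit 5) (nat_lit 0) (RL.cons (nat_lit 1) (nat_lit 20) (nat_lit 5) (nat_lit 1) (nat_lit 3) (nat_lit 0x15171e110a) (RL.cons (nat_lit 1) (nat_lit 25) (nat_lit 9) (nat_lit 0) (nat_lit 6) (nat_lit 0) (RL.cons (nat_lit 2) (nat_lit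 298) (nat_lit 0) (nat_lit 5) (nat_lit 1) (nat_lit 0x1711070a01) (RL.cons (nat_lit 3) (nat_lit 6) (nat_lit 0) (nat_lit 16) (nat_lit 2) (nat_lit 0x151708) (RL.cons (nat_lit 4) (nat_lit 14) (nat_lit 0) (nat_lit 2) (nat_lit 2) (nat_lit 0x19110a) (RL.cons (nat_lit 5) (nat_lit 12) (nat_lit 0) (nat_lit 9) (nat_lit 2) (nat_lit 0x15170d01) (RL.cons (nat_lit 6) (nat_lit 16) (nat_lit 0) (nat_lit 8) (nat_lit 2) (nat_lit 0x171a110a) RL.nil)))))))))))

theorem y_3_good0_0 : GoodSet 324 y_E4 y_G3 (⟨1, by decide⟩ : Fin 324) y_3_ts (nat_lit 1) (RL.pts y_3_rl0_0) :=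
  goodSet_of_ok z_hn (det_lab z_hk ⊤) y_E4_ok y_G3_ok le_top le_top (by decide : 1 < 324) (sepAt_lab z_hk _) (by decide +kernel)

theorem y_3_step0 : Step 324 y_E4 y_G3 y_3_ts (2 * 0 + 1) :=
  step_of_cover y_E4_ok y_3_dist (by decide +kernel) y_3_scs (by decide +kernel) y_3_good0_0 (kw := [nat_lit 21, nat_lit 5405, nat_lit 0x1a0d01, nat_lit 0x1d1108, nat_lit 5399])
    (conj_mem_of_scs y_E4_ok y_G3_ok (by decide : 1 < 324) y_3_scs (c := 0) (d := 24) (by decide +kernel)) (by decide +kernel)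

theorem y_3_lev : grp 324 y_G3 ⊓ MulAction.stabilizer (Equiv.Perm (Fin 324)) (⟨1, by decide⟩ : Fin 324) = grp 324 y_E4 :=
  sims_level (gs := z_V63) rfl (by decide) y_3_fix y_3_dist (forall_lt_one y_3_step0)

theorem y_3_cardG : Nat.card (grp 324 y_G3) = 17496 :=
  card_of_level z_hn y_G3_ok (by decide : 1 < 324) y_3_lev y_card4 (m := 27) (by decide +kernel)

theorem z_le102 : grp 324 y_E3 ≤ grp 324 y_G3 :=
  grp_le_of_memB z_hn z_hk y_G3_ok y_E3_ok (ws := [nat_lit 1, nat_lit 0x1b0d010c, nat_lit 0x171d130c010702, nat_lit 3, nat_lit 5, nat_lit 7, nat_lit 9, nat_lit 11, nat_lit 13, nat_lit 15, nat_lit 17, nat_lit 19, nat_lit 21, nat_lit 23, nat_lit 25, nat_lit 27, nat_lit 29, nat_lit 31]) (by decide +kernel)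

theorem z_le103 : grp 324 y_G3 ≤ grp 324 y_E3 :=
  grp_le_of_memB z_hn z_hk y_E3_ok y_G3_ok (ws := [nat_lit 1, nat_lit 7, nat_lit 9, nat_lit 11, nat_lit 13, nat_lit 15, nat_lit 17, nat_lit 19, nat_lit 21, nat_lit 23, nat_lit 25, nat_lit 27, nat_lit 29, nat_lit 31, nat_lit 33, nat_lit 35]) (by decide +kernel)

theorem y_3_eq : grp 324 y_E3 = grp 324 y_G3 :=
  le_antisymm z_le102 z_le103

theorem y_card3 : Nat.card (grp 324 y_E3) = 17496 :=
  by rw [y_3_eq]; exact y_3_cardG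

theorem y_stab3 : grp 324 y_E3 ⊓ MulAction.stabilizer (Equiv.Perm (Fin 324)) (⟨1, by decide⟩ : Fin 324) = grp 324 y_E4 :=
  by rw [y_3_eq]; exact y_3_lev

theorem y_leO3 : grp 324 y_E3 ≤ grp 324 E4 :=
  y_3_eq.le.trans (grp_cons_le ((z_le61.trans (z_le53.trans (z_le46.trans (le_refl (grp 324 E4))))) (z_le64 (toPerm_mem_grp (E := z_V63) (by simp [z_V63])))) y_leO4)

theorem y_2_fix : grp 324 y_E3 ≤ MulAction.stabilizer (Equiv.Perm (Fin 324)) (⟨9, by decide⟩ : Fin 324) :=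
  grp_le_stab y_E3_ok (by decide : 9 < 324) (by decide +kernel)

noncomputable def y_2_ts : List ℕ := [nat_lit 0, nat_lit 1, nat_lit 3, nat_lit 4, nat_lit 259, nat_lit 260]

noncomputable def y_2_ds : List ℕ := [nat_lit 9, nat_lit 13, nat_lit 17, nat_lit 7, nat_lit 4, nat_lit 5]

theorem y_2_dist : Dist 324 y_E3 y_G2 (⟨9, by decide⟩ : Fin 324) y_2_ts y_2_ds :=
  dist_of_distB (k := 3) z_hn y_E3_ok y_G2_ok (by decide : 9 < 324) (by decide +kernel)

noncomputable def y_2_sl0 : SL := (SL.cons (nat_lit 1) (nat_lit 13) (Ch.cons (nat_lit 48) [nat_lit 7943, nat_lit 0x1d24170e04] (Ch.cons (nat_lit 1) [nat_lit 0x1d240302, nat_lit 0x200e0705] (Ch.cons (nat_lit 18) [nat_lit 0x210e10, nat_lit 7439] Ch.nil))) [nat_lit 0x1d170d0302, nat_lit 0x1b1d240e070106, nat_lit 0x1b2113010a02, nat_lit 0x1b231713010802, nat_lit 0x1b1d10010804, nat_lit 0x1c1711010802] (SL.cons (nat_lit 3) (nat_lit 17) (Ch.cons (nat_lit 48) [nat_lit 0x1c171007010b, nat_lit 0x1d100205]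 (Ch.cons (nat_lit 1) [nat_lit 0x200f010802, nat_lit 0x1b230e100302] (Ch.cons (nat_lit 18) [nat_lit 6926, nat_lit 0x210e10] Ch.nil))) [nat_lit 0x1d200e100109, nat_lit 0x1b0d10070103, nat_lit 0x20170d010a02, nat_lit 0x1b231707010303, nat_lit 14, nat_lit 0x1c2110] (SL.cons (nat_lit 4) (nat_lit 7) (Ch.cons (nat_lit 48) [nat_lit 0x1707010a, nat_lit 0x1c100701] (Ch.cons (nat_lit 1) [nat_lit 0x240705, nat_lit 0x200f010802] (Ch.cons (nat_lit 18) [nat_lit 7181, nat_lit 0x210e10] Ch.nil))) [nat_lit 0x230f010b, nat_lit 0x211713070109, nat_lit 0x240d0705, nat_lit 0x1f17110104, nat_lit 8973, nat_lit 0x1d240d10] (SL.cons (nat_lit 259) (nat_lit 4) (Ch.cons (nat_lit 48) [nat_lit 0x1d240e05, nat_lit 0x1c1d0d0205, nat_lit 0x1c211711070101] (Ch.cons (nat_lit 1) [nat_lit 0x240705, nat_lit 0x24170e07010303] (Ch.cons (nat_lit 18) [nat_lit 6926, nat_lit 7439] Ch.nil))) [nat_lit 0x1c2107010303, nat_lit 0x210e10070106, nat_lit 0x1c1303, nat_lit 0x1b1713010802,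 nat_lit 0x2117130507, nat_lit 0x210e100705, nat_lit 0x1b17130104] (SL.cons (nat_lit 260) (nat_lit 5) (Ch.cons (nat_lit 48) [nat_lit 0xf070207, nat_lit 0x1d24170d0108] (Ch.cons (nat_lit 1) [nat_lit 0x1d0e0302, nat_lit 0x240705] (Ch.cons (nat_lit 18) [nat_lit 0x210e10, nat_lit 6926] Ch.nil))) [nat_lit 0x1d20170f070107, nat_lit 0x1b23170e070208, nat_lit 0x1b1d24170f010a02, nat_lit 0x200f0104, nat_lit 0x1b230e100302, nat_lit 0x1d200e100705] SL.nil)))))

theorem y_2_sc0 : SCs 324 y_E3 y_G2 (⟨9, by decide⟩ : Fin 324) (SL.words y_2_sl0) :=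
  scs_of_ok z_hn (det_lab z_hk ⊤) y_E3_ok y_G2_ok le_top le_top (by decide : 9 < 324) y_2_fix y_card3.le (by decide +kernel)

noncomputable def y_2_l : List ℕ := (appL (SL.words y_2_sl0) [])

theorem y_2_scs : SCs 324 y_E3 y_G2 (⟨9, by decide⟩ : Fin 324) y_2_l :=
  (SCs.append y_2_sc0 SCs.nil)

noncomputable def y_2_rl0_0 : RL := (RL.cons (nat_lit 0) (nat_lit 9) (nat_lit 0) (nat_lit 0) (nat_lit 1) (nat_lit 0x1d20100507) (RL.cons (nat_lit 1) (nat_lit 13) (nat_lit 0) (nat_lit 0) (nat_lit 0) (nat_lit 0) (RL.cons (nat_lit 2) (nat_lit 17) (nat_lit 0) (nat_lit 0) (nat_lit 5) (nat_lit 0x1c211107010303) (RL.cons (nat_lit 3) (nat_lit 7) (nat_lit 0) (nat_lit 0) (nat_lit 4) (nat_lit 0x1d241710010a02) (RL.cons (nat_lit 4) (nat_lit 4) (nat_lit 0) (nat_lit 0) (nat_lit 3) (nat_lit 0x1b1d1307010303) (RL.cons (nat_lit 5) (nat_lit 5) (nat_lit 0) (nat_lit 0) (nat_lit 2) (nat_lit 0x1d20170e10010a02) RL.nil))))))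

theorem y_2_good0_0 : GoodSet 324 y_E3 y_G2 (⟨9, by decide⟩ : Fin 324) y_2_ts (nat_lit 1) (RL.pts y_2_rl0_0) :=
  goodSet_of_ok z_hn (det_lab z_hk ⊤) y_E3_ok y_G2_ok le_top le_top (by decide : 9 < 324) (sepAt_lab z_hk _) (by decide +kernel)

theorem y_2_step0 : Step 324 y_E3 y_G2 y_2_ts (2 * 0 + 1) :=
  step_of_cover y_E3_ok y_2_dist (by decide +kernel) y_2_scs (by decide +kernel) y_2_good0_0 (kw := [nat_lit 7943, nat_lit 0x1d24170e04, nat_lit 0x1d240302, nat_lit 0x200e0705, nat_lit 0x210e10, nat_lit 7439])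
    (conj_mem_of_scs y_E3_ok y_G2_ok (by decide : 9 < 324) y_2_scs (c := 0) (d := 13) (by decide +kernel)) (by decide +kernel)

noncomputable def y_2_rl1_0 : RL := (RL.cons (nat_lit 0) (nat_lit 9) (nat_lit 0) (nat_lit 0) (nat_lit 3) (nat_lit 0) (RL.cons (nat_lit 1) (nat_lit 13) (nat_lit 0) (nat_lit 0) (nat_lit 5) (nat_lit 0) (RL.cons (nat_lit 2) (nat_lit 17) (nat_lit 0) (nat_lit 0) (nat_lit 0) (nat_lit 0) (RL.cons (nat_lit 3) (nat_lit 7) (nat_lit 0) (nat_lit 0) (nat_lit 2) (nat_lit 33) (RL.cons (nat_lit 4) (nat_lit 4) (nat_lit 0) (nat_lit 0) (nat_lit 1) (nat_lit 0) (RL.cons (nat_lit 5) (nat_lit 5) (nat_lit 0) (nat_lit 0) (nat_lit 4) (nat_lit 6941) RL.nil))))))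

theorem y_2_good1_0 : GoodSet 324 y_E3 y_G2 (⟨9, by decide⟩ : Fin 324) y_2_ts (nat_lit 3) (RL.pts y_2_rl1_0) :=
  goodSet_of_ok z_hn (det_lab z_hk ⊤) y_E3_ok y_G2_ok le_top le_top (by decide : 9 < 324) (sepAt_lab z_hk _) (by decide +kernel)

theorem y_2_step1 : Step 324 y_E3 y_G2 y_2_ts (2 * 1 + 1) :=
  step_of_cover y_E3_ok y_2_dist (by decide +kernel) y_2_scs (by decide +kernel) y_2_good1_0 (kw := [nat_lit 0x1c171007010b, nat_lit 0x1d100205, nat_lit 0x200f010802, nat_lit 0x1b230e100302, nat_lit 6926, nat_lit 0x210e10])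
    (conj_mem_of_scs y_E3_ok y_G2_ok (by decide : 9 < 324) y_2_scs (c := 1) (d := 17) (by decide +kernel)) (by decide +kernel)

theorem y_2_lev : grp 324 y_G2 ⊓ MulAction.stabilizer (Equiv.Perm (Fin 324)) (⟨9, by decide⟩ : Fin 324) = grp 324 y_E3 :=
  sims_level (gs := z_V56) rfl (by decide) y_2_fix y_2_dist (forall_lt_succ' (forall_lt_one y_2_step0) y_2_step1)

theorem y_2_cardG : Nat.card (grp 324 y_G2) = 104976 :=
  card_of_level z_hn y_G2_ok (by decide : 9 < 324) y_2_lev y_card3 (m := 6) (by decide +kernel)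

theorem z_le104 : grp 324 y_E2 ≤ grp 324 y_G2 :=
  grp_le_of_memB z_hn z_hk y_G2_ok y_E2_ok (ws := [nat_lit 1, nat_lit 3, nat_lit 4, nat_lit 0x2814050c060103, nat_lit 0x1f1b1114061103, nat_lit 5, nat_lit 7, nat_lit 9, nat_lit 11, nat_lit 13, nat_lit 15, nat_lit 17, nat_lit 19, nat_lit 21, nat_lit 23, nat_lit 25, nat_lit 27, nat_lit 29, nat_lit 31, nat_lit 33, nat_lit 35, nat_lit 37, nat_lit 39]) (by decide +kernel)

theorem z_le105 : grp 324 y_G2 ≤ grp 324 y_E2 :=
  grp_le_of_memB z_hn z_hk y_E2_ok y_G2_ok (ws := [nat_lit 1, nat_lit 3, nat_lit 11, nat_lit 13, nat_lit 15, nat_lit 17, nat_lit 19, nat_lit 21, nat_lit 23, nat_lit 25, nat_lit 27, nat_lit 29, nat_lit 31, nat_lit 33, nat_lit 35, nat_lit 37, nat_lit 39, nat_lit 41, nat_lit 43, nat_lit 45]) (by decide +kernel)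

theorem y_2_eq : grp 324 y_E2 = grp 324 y_G2 :=
  le_antisymm z_le104 z_le105

theorem y_card2 : Nat.card (grp 324 y_E2) = 104976 :=
  by rw [y_2_eq]; exact y_2_cardG

theorem y_stab2 : grp 324 y_E2 ⊓ MulAction.stabilizer (Equiv.Perm (Fin 324)) (⟨9, by decide⟩ : Fin 324) = grp 324 y_E3 :=
  by rw [y_2_eq]; exact y_2_lev

theorem y_leO2 : grp 324 y_E2 ≤ grp 324 E4 :=
  y_2_eq.le.trans (grp_cons_le ((z_le53.trans (z_le46.trans (le_refl (grp 324 E4)))) (z_le57 (toPerm_mem_grp (E := z_V56) (by simp [z_V56])))) (grp_cons_le ((z_le53.trans (z_le46.trans (le_refl (grp 324 E4)))) (z_le57 (toPerm_mem_grp (E := z_V56) (by simp [z_V56])))) y_leO3))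

theorem y_1_fix : grp 324 y_E2 ≤ MulAction.stabilizer (Equiv.Perm (Fin 324)) (⟨2, by decide⟩ : Fin 324) :=
  grp_le_stab y_E2_ok (by decide : 2 < 324) (by decide +kernel)

noncomputable def y_1_ts : List ℕ := [nat_lit 0, nat_lit 1, nat_lit 257]

noncomputable def y_1_ds : List ℕ := [nat_lit 2, nat_lit 9, nat_lit 11]

theorem y_1_dist : Dist 324 y_E2 y_G1 (⟨2, by decide⟩ : Fin 324) y_1_ts y_1_ds :=
  dist_of_distB (k := 2) z_hn y_E2_ok y_G1_ok (by decide : 2 < 324) (by decide +kernel)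

noncomputable def y_1_sl0 : SL := (SL.cons (nat_lit 1) (nat_lit 9) (Ch.cons (nat_lit 1) [nat_lit 11, nat_lit 13, nat_lit 15] (Ch.cons (nat_lit 3) [nat_lit 17, nat_lit 19, nat_lit 21] (Ch.cons (nat_lit 18) [nat_lit 23, nat_lit 25, nat_lit 27, nat_lit 29, nat_lit 31] (Ch.cons (nat_lit 24) [nat_lit 33, nat_lit 35] (Ch.cons (nat_lit 28) [nat_lit 37, nat_lit 39, nat_lit 41, nat_lit 43, nat_lit 45] Ch.nil))))) [nat_lit 0x261a0b13, nat_lit 0x2e180d, nat_lit 0x262b2118110b0d0d, nat_lit 0x2d170b0e, nat_lit 0x262721171a0f11, nat_lit 0x272e211d110b140c, nat_lit 0x2527211d0b120e, nat_lit 0x252a21171a0b120c, nat_lit 0x2b1d0f, nat_lit 0x25272117110b120c, nat_lit 0x272a171a110b120e, nat_lit 0x252b21171a110b140c, nat_lit 0x271a110b140c, nat_lit 0x25271a, nat_lit 0x2a2118, nat_lit 0x252a18, nat_lit 0x272e1d, nat_lit 0x272a181a] (SL.cons (nat_lit 257) (nat_lit 11) (Ch.cons (nat_lit 48) [nat_lit 0x2d21180b18] (Ch.cons (nat_lit 29) [nat_lit 0x252b181a0b1404,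 nat_lit 0x260b1401] (Ch.cons (nat_lit 1) [nat_lit 0x252b0b0e, nat_lit 0x252a171a0b120c] Ch.nil))) [nat_lit 0x272e18110b10, nat_lit 0x181a110b1404, nat_lit 0x2b21170c1201, nat_lit 0x2918110f, nat_lit 0x2a171a0b120c] SL.nil))

theorem y_1_sc0 : SCs 324 y_E2 y_G1 (⟨2, by decide⟩ : Fin 324) (SL.words y_1_sl0) :=
  scs_of_ok z_hn (det_lab z_hk ⊤) y_E2_ok y_G1_ok le_top le_top (by decide : 2 < 324) y_1_fix y_card2.le (by decide +kernel)

noncomputable def y_1_l : List ℕ := (appL (SL.words y_1_sl0) [])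

theorem y_1_scs : SCs 324 y_E2 y_G1 (⟨2, by decide⟩ : Fin 324) y_1_l :=
  (SCs.append y_1_sc0 SCs.nil)

noncomputable def y_1_rl0_0 : RL := (RL.cons (nat_lit 0) (nat_lit 2) (nat_lit 0) (nat_lit 1) (nat_lit 1) (nat_lit 0x26272119110b0d0d01) (RL.cons (nat_lit 1) (nat_lit 9) (nat_lit 0) (nat_lit 0) (nat_lit 0) (nat_lit 0) (RL.cons (nat_lit 1) (nat_lit 13) (nat_lit 1) (nat_lit 0) (nat_lit 2) (nat_lit 0x2b2117110b1001) (RL.cons (nat_lit 1) (nat_lit 17) (nat_lit 3) (nat_lit 4) (nat_lit 1) (nat_lit 0x27211a110b0d04) (RL.cons (nat_lit 1) (nat_lit 7) (nat_lit 4) (nat_lit 7) (nat_lit 1) (nat_lit 0x291b110b0104) (RL.cons (nat_lit 1) (nat_lit 4) (nat_lit 7) (nat_lit 260) (nat_lit 1) (nat_lit 0x2a110b1503) (RL.cons (nat_lit 1) (nat_lit 5) (nat_lit 260) (nat_lit 3) (nat_lit 1) (nat_lit 0x261a0b0d0d07) (RL.cons (nat_lit 2) (nat_lit 11) (nat_lit 0) (nat_lit 0) (nat_lit 1) (nat_lit 0) RL.nil))))))))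

theorem y_1_good0_0 : GoodSet 324 y_E2 y_G1 (⟨2, by decide⟩ : Fin 324) y_1_ts (nat_lit 1) (RL.pts y_1_rl0_0) :=
  goodSet_of_ok z_hn (det_lab z_hk ⊤) y_E2_ok y_G1_ok le_top le_top (by decide : 2 < 324) (sepAt_lab z_hk _) (by decide +kernel)

theorem y_1_step0 : Step 324 y_E2 y_G1 y_1_ts (2 * 0 + 1) :=
  step_of_cover y_E2_ok y_1_dist (by decide +kernel) y_1_scs (by decide +kernel) y_1_good0_0 (kw := [nat_lit 11, nat_lit 13, nat_lit 15, nat_lit 17, nat_lit 19, nat_lit 21, nat_lit 23, nat_lit 25, nat_lit 27, nat_lit 29, nat_lit 31, nat_lit 33, nat_lit 35, nat_lit 37, nat_lit 39, nat_lit 41, nat_lit 43, nat_lit 45])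
    (conj_mem_of_scs y_E2_ok y_G1_ok (by decide : 2 < 324) y_1_scs (c := 0) (d := 9) (by decide +kernel)) (by decide +kernel)

theorem y_1_lev : grp 324 y_G1 ⊓ MulAction.stabilizer (Equiv.Perm (Fin 324)) (⟨2, by decide⟩ : Fin 324) = grp 324 y_E2 :=
  sims_level (gs := z_V47) rfl (by decide) y_1_fix y_1_dist (forall_lt_one y_1_step0)

theorem y_1_cardG : Nat.card (grp 324 y_G1) = 839808 :=
  card_of_level z_hn y_G1_ok (by decide : 2 < 324) y_1_lev y_card2 (m := 8) (by decide +kernel)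

theorem z_le106 : grp 324 y_E1 ≤ grp 324 y_G1 :=
  grp_le_of_memB z_hn z_hk y_G1_ok y_E1_ok (ws := [nat_lit 1, nat_lit 0x281b130d10030206, nat_lit 0x2930230d160e05, nat_lit 0x272f1f13110306, nat_lit 3, nat_lit 5, nat_lit 7, nat_lit 9, nat_lit 11, nat_lit 13, nat_lit 15, nat_lit 17, nat_lit 19, nat_lit 21, nat_lit 23, nat_lit 25, nat_lit 27, nat_lit 29, nat_lit 31, nat_lit 33, nat_lit 35, nat_lit 37, nat_lit 39, nat_lit 41, nat_lit 43, nat_lit 45, nat_lit 47]) (by decide +kernel)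

theorem z_le107 : grp 324 y_G1 ≤ grp 324 y_E1 :=
  grp_le_of_memB z_hn z_hk y_E1_ok y_G1_ok (ws := [nat_lit 1, nat_lit 9, nat_lit 11, nat_lit 13, nat_lit 15, nat_lit 17, nat_lit 19, nat_lit 21, nat_lit 23, nat_lit 25, nat_lit 27, nat_lit 29, nat_lit 31, nat_lit 33, nat_lit 35, nat_lit 37, nat_lit 39, nat_lit 41, nat_lit 43, nat_lit 45, nat_lit 47, nat_lit 49, nat_lit 51, nat_lit 53]) (by decide +kernel)

theorem y_1_eq : grp 324 y_E1 = grp 324 y_G1 :=
  le_antisymm z_le106 z_le107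

theorem y_card1 : Nat.card (grp 324 y_E1) = 839808 :=
  by rw [y_1_eq]; exact y_1_cardG

theorem y_stab1 : grp 324 y_E1 ⊓ MulAction.stabilizer (Equiv.Perm (Fin 324)) (⟨2, by decide⟩ : Fin 324) = grp 324 y_E2 :=
  by rw [y_1_eq]; exact y_1_lev

theorem y_leO1 : grp 324 y_E1 ≤ grp 324 E4 :=
  y_1_eq.le.trans (grp_cons_le ((z_le46.trans (le_refl (grp 324 E4))) (z_le48 (toPerm_mem_grp (E := z_V47) (by simp [z_V47])))) y_leO2)

theorem y_0_fix : grp 324 y_E1 ≤ MulAction.stabilizer (Equiv.Perm (Fin 324)) (⟨0, by decide⟩ : Fin 324) :=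
  grp_le_stab y_E1_ok (by decide : 0 < 324) (by decide +kernel)

noncomputable def y_0_ts : List ℕ := [nat_lit 0, nat_lit 1, nat_lit 65793, nat_lit 66306, nat_lit 68865]

noncomputable def y_0_ds : List ℕ := [nat_lit 0, nat_lit 162, nat_lit 22, nat_lit 194, nat_lit 13]

theorem y_0_dist : Dist 324 y_E1 y_G0 (⟨0, by decide⟩ : Fin 324) y_0_ts y_0_ds :=
  dist_of_distB (k := 3) z_hn y_E1_ok y_G0_ok (by decide : 0 < 324) (by decide +kernel)

noncomputable def y_0_sl0 : SL := (SL.cons (nat_lit 1) (nat_lit 162) (Ch.cons (nat_lit 28) [nat_lit 0x291f131b0f02] (Ch.cons (nat_lit 1) [nat_lit 0x2d2f20131a14, nat_lit 0x2e2f2925170f03] (Ch.cons (nat_lit 2) [nat_lit 0x36291f221913180101] Ch.nil))) [nat_lit 0x2f32130b010f, nat_lit 0x2d331316, nat_lit 0x2d2f3629211913160b02, nat_lit 0x2f231913200101] (SL.cons (nat_lit 65793) (nat_lit 22) (Ch.cons (nat_lit 48) [nat_lit 0x2e2f291f22190c] (Ch.cons (nat_lit 28) [nat_lit 0x36291f2213200f010f, nat_lit 0x322215140f01]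 (Ch.cons (nat_lit 1) [nat_lit 0x2d32292219131a0101] Ch.nil))) [nat_lit 0x2d322923131a0c0101, nat_lit 0x2f202213150b0106, nat_lit 0x2f36292214170c0104, nat_lit 0x31292219131a0101] (SL.cons (nat_lit 66306) (nat_lit 194) (Ch.cons (nat_lit 48) [nat_lit 0x2d2f1914170f, nat_lit 0x2e2f1f19170b] (Ch.cons (nat_lit 1) [nat_lit 0x33291f160c02, nat_lit 0x2d2117190c01, nat_lit 0x2f36291f19140c02] (Ch.cons (nat_lit 2) [nat_lit 0x312920221913180101] Ch.nil))) [nat_lit 0x2e221913130902, nat_lit 0x2e29202219141f0b01, nat_lit 0x2e332921140c02, nat_lit 0x29201315150c01, nat_lit 0x352014180c02, nat_lit 0x2d2f291913180101] (SL.cons (nat_lit 68865) (nat_lit 13) (Ch.cons (nat_lit 48) [nat_lit 0x31292022140c0106] (Ch.cons (nat_lit 28) [nat_lit 0x36292319131c0104, nat_lit 0x322513200b03] (Ch.cons (nat_lit 1) [nat_lit 0x36221316, nat_lit 0x33221917] Ch.nil))) [nat_lit 0x35292514190b01, nat_lit 0x2e332921131a090c0106, nat_lit 0x2d2f36292019131d0902, nat_lit 0x2f32292022131c14,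 nat_lit 0x2e2f221917] SL.nil))))

theorem y_0_sc0 : SCs 324 y_E1 y_G0 (⟨0, by decide⟩ : Fin 324) (SL.words y_0_sl0) :=
  scs_of_ok z_hn (det_lab z_hk ⊤) y_E1_ok y_G0_ok le_top le_top (by decide : 0 < 324) y_0_fix y_card1.le (by decide +kernel)

noncomputable def y_0_l : List ℕ := (appL (SL.words y_0_sl0) [])

theorem y_0_scs : SCs 324 y_E1 y_G0 (⟨0, by decide⟩ : Fin 324) y_0_l :=
  (SCs.append y_0_sc0 SCs.nil)

noncomputable def y_0_rl0_0 : RL := (RL.cons (nat_lit 0) (nat_lit 0) (nat_lit 0) (nat_lit 303) (nat_lit 1) (nat_lit 0x362022090c010f) (RL.cons (nat_lit 1) (nat_lit 162) (nat_lit 0) (nat_lit 0) (nat_lit 0) (nat_lit 0) (RL.cons (nat_lit 1) (nat_lit 288) (nat_lit 1) (nat_lit 0) (nat_lit 3) (nat_lit 0) (RL.cons (nat_lit 1) (nat_lit 316) (nat_lit 3) (nat_lit 1586) (nat_lit 1) (nat_lit 0x2e33202217090c) (RL.cons (nat_lit 1) (nat_lit 234) (nat_lit 7) (nat_lit 2) (nat_lit 2) (nat_lit 0x2e2f291f13090c01) (RL.cons (nat_lit 1) (nat_lit 128)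 (nat_lit 17) (nat_lit 1309) (nat_lit 1) (nat_lit 0x33251913130b) (RL.cons (nat_lit 1) (nat_lit 156) (nat_lit 31) (nat_lit 2) (nat_lit 4) (nat_lit 0x2f362219131c140f0104) (RL.cons (nat_lit 1) (nat_lit 57) (nat_lit 265) (nat_lit 2607) (nat_lit 1) (nat_lit 0x352214180c02) (RL.cons (nat_lit 1) (nat_lit 149) (nat_lit 1816) (nat_lit 271) (nat_lit 1) (nat_lit 0x35291f2219131c0f0104) (RL.cons (nat_lit 2) (nat_lit 22) (nat_lit 0) (nat_lit 279) (nat_lit 1) (nat_lit 0x2d2f1f131c140b) (RL.cons (nat_lit 3) (nat_lit 194) (nat_lit 0) (nat_lit 17) (nat_lit 1) (nat_lit 0x332919131b0c) (RL.cons (nat_lit 4) (nat_lit 13) (nat_lit 0) (nat_lit 11) (nat_lit 1) (nat_lit 0) RL.nil))))))))))))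

theorem y_0_good0_0 : GoodSet 324 y_E1 y_G0 (⟨0, by decide⟩ : Fin 324) y_0_ts (nat_lit 1) (RL.pts y_0_rl0_0) :=
  goodSet_of_ok z_hn (det_lab z_hk ⊤) y_E1_ok y_G0_ok le_top le_top (by decide : 0 < 324) (sepAt_lab z_hk _) (by decide +kernel)

theorem y_0_step0 : Step 324 y_E1 y_G0 y_0_ts (2 * 0 + 1) :=
  step_of_cover y_E1_ok y_0_dist (by decide +kernel) y_0_scs (by decide +kernel) y_0_good0_0 (kw := [nat_lit 0x291f131b0f02, nat_lit 0x2d2f20131a14, nat_lit 0x2e2f2925170f03, nat_lit 0x36291f221913180101])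
    (conj_mem_of_scs y_E1_ok y_G0_ok (by decide : 0 < 324) y_0_scs (c := 0) (d := 162) (by decide +kernel)) (by decide +kernel)

theorem y_0_lev : grp 324 y_G0 ⊓ MulAction.stabilizer (Equiv.Perm (Fin 324)) (⟨0, by decide⟩ : Fin 324) = grp 324 y_E1 :=
  sims_level (gs := z_V40) rfl (by decide) y_0_fix y_0_dist (forall_lt_one y_0_step0)

theorem y_0_cardG : Nat.card (grp 324 y_G0) = 272097792 :=
  card_of_level z_hn y_G0_ok (by decide : 0 < 324) y_0_lev y_card1 (m := 324) (by decide +kernel)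

theorem z_le108 : grp 324 y_E0 ≤ grp 324 y_G0 :=
  grp_le_of_memB z_hn z_hk y_G0_ok y_E0_ok (ws := [nat_lit 1, nat_lit 0x2f34251b191b0b0e04022501, nat_lit 0x2f312124151e1611031101050c, nat_lit 3, nat_lit 5, nat_lit 7, nat_lit 9, nat_lit 11, nat_lit 13, nat_lit 15, nat_lit 17, nat_lit 19, nat_lit 21, nat_lit 23, nat_lit 25, nat_lit 27, nat_lit 29, nat_lit 31, nat_lit 33, nat_lit 35, nat_lit 37, nat_lit 39, nat_lit 41, nat_lit 43, nat_lit 45, nat_lit 47, nat_lit 49, nat_lit 51, nat_lit 53, nat_lit 55]) (by decide +kernel)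

theorem z_le109 : grp 324 y_G0 ≤ grp 324 y_E0 :=
  grp_le_of_memB z_hn z_hk y_E0_ok y_G0_ok (ws := [nat_lit 1, nat_lit 7, nat_lit 9, nat_lit 11, nat_lit 13, nat_lit 15, nat_lit 17, nat_lit 19, nat_lit 21, nat_lit 23, nat_lit 25, nat_lit 27, nat_lit 29, nat_lit 31, nat_lit 33, nat_lit 35, nat_lit 37, nat_lit 39, nat_lit 41, nat_lit 43, nat_lit 45, nat_lit 47, nat_lit 49, nat_lit 51, nat_lit 53, nat_lit 55, nat_lit 57, nat_lit 59]) (by decide +kernel)

theorem y_0_eq : grp 324 y_E0 = grp 324 y_G0 :=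
  le_antisymm z_le108 z_le109

theorem y_card0 : Nat.card (grp 324 y_E0) = 272097792 :=
  by rw [y_0_eq]; exact y_0_cardG

theorem y_stab0 : grp 324 y_E0 ⊓ MulAction.stabilizer (Equiv.Perm (Fin 324)) (⟨0, by decide⟩ : Fin 324) = grp 324 y_E1 :=
  by rw [y_0_eq]; exact y_0_lev

theorem y_leO0 : grp 324 y_E0 ≤ grp 324 E4 :=
  y_0_eq.le.trans (grp_cons_le ((le_refl (grp 324 E4)) (z_le41 (toPerm_mem_grp (E := z_V40) (by simp [z_V40])))) y_leO1)

theorem z_le110 : grp 324 E4 ≤ grp 324 y_E0 :=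
  grp_le_of_memB z_hn z_hk y_E0_ok E4_ok (ws := [nat_lit 53, nat_lit 3, nat_lit 11, nat_lit 5]) (by decide +kernel)

theorem y_eq : grp 324 E4 = grp 324 y_E0 :=
  le_antisymm z_le110 y_leO0

theorem y_card : Nat.card (grp 324 E4) = 272097792 :=
  by rw [y_eq]; exact y_card0

noncomputable def y_ch : Ch := (Ch.cons (nat_lit 0) [nat_lit 1, nat_lit 3, nat_lit 5] (Ch.cons (nat_lit 2) [nat_lit 7, nat_lit 9, nat_lit 11, nat_lit 13] (Ch.cons (nat_lit 9) [nat_lit 15, nat_lit 17, nat_lit 19, nat_lit 21, nat_lit 23] (Ch.cons (nat_lit 1) [nat_lit 25, nat_lit 27, nat_lit 29] (Ch.cons (nat_lit 3) [nat_lit 31, nat_lit 33, nat_lit 35] (Ch.cons (nat_lit 18) [nat_lit 37, nat_lit 39, nat_lit 41, nat_lit 43, nat_lit 45] (Ch.cons (nat_lit 24) [nat_lit 47, nat_lit 49] (Ch.cons (nat_lit 28) [nat_lit 51, nat_lit 53, nat_lit 55, nat_lit 57, nat_lit 59] Ch.nil))))))))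

theorem y_exact : Ch.Exact 324 y_E0 y_ch (grp 324 y_E0) :=
  Ch.exact (k := 9) (L := (lab 324 9)) z_hn y_E0_ok (by decide +kernel) (wgrp_le_grp _ _ _) y_card0.le

theorem z_T111_s0 : Stab 324 (grp 324 y_E0) [] y_E0 272097792 :=
  Stab.root y_E0_ok y_card0

theorem z_le124 : grp 324 yt_c1_K ≤ grp 324 y_E0 :=
  grp_le_of_memB z_hn z_hk y_E0_ok yt_c1_K_ok (ws := [nat_lit 0x33392819221a0f120701080b, nat_lit 0x372f26281f191b070c010530, nat_lit 0x3c271f191f0f12070a010510, nat_lit 0x3b271f19261105021a, nat_lit 0x35261c0715010d02, nat_lit 0x35382719201c013c02, nat_lit 0x3b2628191b1b0f12080305, nat_lit 0x34392619201a11071501031f, nat_lit 0x353826281f1d012602, nat_lit 0x392f281f191b1b013b02, nat_lit 0x33382f262819221a110211]) (by decide +kernel)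

theorem yt_c1_le : grp 324 yt_c1_K ≤ (grp 324 y_E0) :=
  (z_le124.trans z_T111_s0.le)

theorem yt_c1_mem : Net.toPerm 324 z_g112 ∈ (grp 324 y_E0) :=
  yt_c1_le (mem_grp_of_memB z_hn z_hk yt_c1_K_ok z_g112_ok (w := (nat_lit 0x150f0e0907030703)) (by decide +kernel))

theorem yt_c1_sym : Sym 324 (grp 324 y_E0) [z_g112] yt_c1_K 0 :=
  Sym.of_lab z_hn z_hk (okE_cons.2 ⟨z_g112_ok, okE_nil _⟩) yt_c1_K_ok yt_c1_le (kT := 0) (by decide +kernel)

theorem z_T111_s1 : Stab 324 (grp 324 y_E0) [nat_lit 0] z_V125 839808 :=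
  Stab.step (k := 9) (L := (lab 324 9)) z_hn z_T111_s0 z_V125_ok (grp_mono (List.subset_append_right [z_g39, zg1, zg3] _)) (c := (Ch.cons (nat_lit 2) [nat_lit 1, nat_lit 3, nat_lit 5, nat_lit 7] (Ch.cons (nat_lit 9) [nat_lit 9, nat_lit 11, nat_lit 13, nat_lit 15, nat_lit 17] (Ch.cons (nat_lit 1) [nat_lit 19, nat_lit 21, nat_lit 23] (Ch.cons (nat_lit 3) [nat_lit 25, nat_lit 27, nat_lit 29] (Ch.cons (nat_lit 18) [nat_lit 31, nat_lit 33, nat_lit 35, nat_lit 37, nat_lit 39] (Ch.cons (nat_lit 24) [nat_lit 41, nat_lit 43] (Ch.cons (nat_lit 28) [nat_lit 45, nat_lit 47, nat_lit 49, nat_lit 51, nat_lit 53] Ch.nil)))))))) (by decide +kernel)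

theorem z_le137 : grp 324 z_V136 ≤ grp 324 z_V125 :=
  grp_le_of_memB z_hn z_hk z_V125_ok z_V136_ok (ws := [nat_lit 0x2e3329131c0c0101, nat_lit 0x332919131a1609, nat_lit 0x2921131a0f03, nat_lit 0x2f32292019131c0101, nat_lit 0x362925191316, nat_lit 0x2d3220, nat_lit 0x2f322922191719, nat_lit 0x322920131c14, nat_lit 0x2d3320221917, nat_lit 0x2e33292319]) (by decide +kernel)

theorem z_T111_s2 : Stab 324 (grp 324 y_E0) [nat_lit 298, nat_lit 0] z_V136 31104 :=
  Stab.step (k := 9) (L := (lab 324 9)) z_hn z_T111_s1 z_V136_ok z_le137 (c := (Ch.cons (nat_lit 84) [nat_lit 1] (Ch.cons (nat_lit 27) [nat_lit 3, nat_lit 5] (Ch.cons (nat_lit 13) [nat_lit 7] (Ch.cons (nat_lit 25) [nat_lit 9, nat_lit 11] (Ch.cons (nat_lit 26) [nat_lit 13] (Ch.cons (nat_lit 112) [nat_lit 15, nat_lit 17, nat_lit 19] Ch.nil))))))) (by decide +kernel)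

theorem z_T111_s3 : Stab 324 (grp 324 y_E0) [nat_lit 84, nat_lit 298, nat_lit 0] z_V138 3888 :=
  Stab.step (k := 9) (L := (lab 324 9)) z_hn z_T111_s2 z_V138_ok (grp_mono (List.subset_append_right [z_g126] _)) (c := (Ch.cons (nat_lit 27) [nat_lit 1, nat_lit 3] (Ch.cons (nat_lit 13) [nat_lit 5] (Ch.cons (nat_lit 25) [nat_lit 7, nat_lit 9] (Ch.cons (nat_lit 26) [nat_lit 11] (Ch.cons (nat_lit 112) [nat_lit 13, nat_lit 15, nat_lit 17] Ch.nil)))))) (by decide +kernel)

theorem z_T111_s4 : Stab 324 (grp 324 y_E0) [nat_lit 27, nat_lit 84, nat_lit 298, nat_lit 0] z_V139 648 :=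
  Stab.step (k := 9) (L := (lab 324 9)) z_hn z_T111_s3 z_V139_ok (grp_mono (List.subset_append_right [z_g127, z_g128] _)) (c := (Ch.cons (nat_lit 13) [nat_lit 1] (Ch.cons (nat_lit 25) [nat_lit 3, nat_lit 5] (Ch.cons (nat_lit 26) [nat_lit 7] (Ch.cons (nat_lit 112) [nat_lit 9, nat_lit 11, nat_lit 13] Ch.nil))))) (by decide +kernel)

theorem z_T111_s5 : Stab 324 (grp 324 y_E0) [nat_lit 13, nat_lit 27, nat_lit 84, nat_lit 298, nat_lit 0] z_V140 324 :=
  Stab.step (k := 9) (L := (lab 324 9)) z_hn z_T111_s4 z_V140_ok (grp_mono (List.subset_append_right [z_g129] _)) (c := (Ch.cons (nat_lit 25) [nat_lit 1, nat_lit 3] (Ch.cons (nat_lit 26) [nat_lit 5] (Ch.cons (nat_lit 112) [nat_lit 7, nat_lit 9, nat_lit 11] Ch.nil)))) (by decide +kernel)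

theorem z_T111_s6 : Stab 324 (grp 324 y_E0) [nat_lit 25, nat_lit 13, nat_lit 27, nat_lit 84, nat_lit 298, nat_lit 0] z_V141 36 :=
  Stab.step (k := 9) (L := (lab 324 9)) z_hn z_T111_s5 z_V141_ok (grp_mono (List.subset_append_right [z_g130, z_g131] _)) (c := (Ch.cons (nat_lit 26) [nat_lit 1] (Ch.cons (nat_lit 112) [nat_lit 3, nat_lit 5, nat_lit 7] Ch.nil))) (by decide +kernel)

theorem z_T111_s7 : Stab 324 (grp 324 y_E0) [nat_lit 26, nat_lit 25, nat_lit 13, nat_lit 27, nat_lit 84, nat_lit 298, nat_lit 0] z_V142 18 :=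
  Stab.step (k := 9) (L := (lab 324 9)) z_hn z_T111_s6 z_V142_ok (grp_mono (List.subset_append_right [z_g132] _)) (c := (Ch.cons (nat_lit 112) [nat_lit 1, nat_lit 3, nat_lit 5] Ch.nil)) (by decide +kernel)

theorem z_T111_s8 : Stab 324 (grp 324 y_E0) [nat_lit 112, nat_lit 26, nat_lit 25, nat_lit 13, nat_lit 27, nat_lit 84, nat_lit 298, nat_lit 0] z_V143 1 :=
  Stab.step (k := 9) (L := (lab 324 9)) z_hn z_T111_s7 z_V143_ok (grp_mono (List.subset_append_right [z_g133, z_g134, z_g135] _)) (c := Ch.nil) (by decide +kernel)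

theorem z_g39_z_T111 : Net.toPerm 324 z_g39 ∈ (grp 324 y_E0) :=
  z_T111_s0.le (toPerm_mem_grp (E := y_E0) (List.Mem.head _))

theorem zg1_z_T111 : Net.toPerm 324 zg1 ∈ (grp 324 y_E0) :=
  z_T111_s0.le (toPerm_mem_grp (E := y_E0) (List.Mem.tail _ (List.Mem.head _)))

theorem zg3_z_T111 : Net.toPerm 324 zg3 ∈ (grp 324 y_E0) :=
  z_T111_s0.le (toPerm_mem_grp (E := y_E0) (List.Mem.tail _ (List.Mem.tail _ (List.Mem.head _))))

theorem z_g43_z_T111 : Net.toPerm 324 z_g43 ∈ (grp 324 y_E0) :=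
  z_T111_s0.le (toPerm_mem_grp (E := y_E0) (List.Mem.tail _ (List.Mem.tail _ (List.Mem.tail _ (List.Mem.head _)))))

theorem z_g42_z_T111 : Net.toPerm 324 z_g42 ∈ (grp 324 y_E0) :=
  z_T111_s0.le (toPerm_mem_grp (E := y_E0) (List.Mem.tail _ (List.Mem.tail _ (List.Mem.tail _ (List.Mem.tail _ (List.Mem.head _))))))

theorem zg2_z_T111 : Net.toPerm 324 zg2 ∈ (grp 324 y_E0) :=
  z_T111_s0.le (toPerm_mem_grp (E := y_E0) (List.Mem.tail _ (List.Mem.tail _ (List.Mem.tail _ (List.Mem.tail _ (List.Mem.tail _ (List.Mem.head _)))))))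

theorem z_g44_z_T111 : Net.toPerm 324 z_g44 ∈ (grp 324 y_E0) :=
  z_T111_s0.le (toPerm_mem_grp (E := y_E0) (List.Mem.tail _ (List.Mem.tail _ (List.Mem.tail _ (List.Mem.tail _ (List.Mem.tail _ (List.Mem.tail _ (List.Mem.head _))))))))

theorem z_g54_z_T111 : Net.toPerm 324 z_g54 ∈ (grp 324 y_E0) :=
  z_T111_s0.le (toPerm_mem_grp (E := y_E0) (List.Mem.tail _ (List.Mem.tail _ (List.Mem.tail _ (List.Mem.tail _ (List.Mem.tail _ (List.Mem.tail _ (List.Mem.tail _ (List.Mem.head _)))))))))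

theorem z_g55_z_T111 : Net.toPerm 324 z_g55 ∈ (grp 324 y_E0) :=
  z_T111_s0.le (toPerm_mem_grp (E := y_E0) (List.Mem.tail _ (List.Mem.tail _ (List.Mem.tail _ (List.Mem.tail _ (List.Mem.tail _ (List.Mem.tail _ (List.Mem.tail _ (List.Mem.tail _ (List.Mem.head _))))))))))

theorem z_g49_z_T111 : Net.toPerm 324 z_g49 ∈ (grp 324 y_E0) :=
  z_T111_s0.le (toPerm_mem_grp (E := y_E0) (List.Mem.tail _ (List.Mem.tail _ (List.Mem.tail _ (List.Mem.tail _ (List.Mem.tail _ (List.Mem.tail _ (List.Mem.tail _ (List.Mem.tail _ (List.Mem.tail _ (List.Mem.head _)))))))))))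

theorem z_g50_z_T111 : Net.toPerm 324 z_g50 ∈ (grp 324 y_E0) :=
  z_T111_s0.le (toPerm_mem_grp (E := y_E0) (List.Mem.tail _ (List.Mem.tail _ (List.Mem.tail _ (List.Mem.tail _ (List.Mem.tail _ (List.Mem.tail _ (List.Mem.tail _ (List.Mem.tail _ (List.Mem.tail _ (List.Mem.tail _ (List.Mem.head _))))))))))))

theorem z_g51_z_T111 : Net.toPerm 324 z_g51 ∈ (grp 324 y_E0) :=
  z_T111_s0.le (toPerm_mem_grp (E := y_E0) (List.Mem.tail _ (List.Mem.tail _ (List.Mem.tail _ (List.Mem.tail _ (List.Mem.tail _ (List.Mem.tail _ (List.Mem.tail _ (List.Mem.tail _ (List.Mem.tail _ (List.Mem.tail _ (List.Mem.tail _ (List.Mem.head _)))))))))))))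

theorem z_g62_z_T111 : Net.toPerm 324 z_g62 ∈ (grp 324 y_E0) :=
  z_T111_s0.le (toPerm_mem_grp (E := y_E0) (List.Mem.tail _ (List.Mem.tail _ (List.Mem.tail _ (List.Mem.tail _ (List.Mem.tail _ (List.Mem.tail _ (List.Mem.tail _ (List.Mem.tail _ (List.Mem.tail _ (List.Mem.tail _ (List.Mem.tail _ (List.Mem.tail _ (List.Mem.head _))))))))))))))

theorem z_g58_z_T111 : Net.toPerm 324 z_g58 ∈ (grp 324 y_E0) :=
  z_T111_s0.le (toPerm_mem_grp (E := y_E0) (List.Mem.tail _ (List.Mem.tail _ (List.Mem.tail _ (List.Mem.tail _ (List.Mem.tail _ (List.Mem.tail _ (List.Mem.tail _ (List.Mem.tail _ (List.Mem.tail _ (List.Mem.tail _ (List.Mem.tail _ (List.Mem.tail _ (List.Mem.tail _ (List.Mem.head _)))))))))))))))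

theorem z_g59_z_T111 : Net.toPerm 324 z_g59 ∈ (grp 324 y_E0) :=
  z_T111_s0.le (toPerm_mem_grp (E := y_E0) (List.Mem.tail _ (List.Mem.tail _ (List.Mem.tail _ (List.Mem.tail _ (List.Mem.tail _ (List.Mem.tail _ (List.Mem.tail _ (List.Mem.tail _ (List.Mem.tail _ (List.Mem.tail _ (List.Mem.tail _ (List.Mem.tail _ (List.Mem.tail _ (List.Mem.tail _ (List.Mem.head _))))))))))))))))

theorem z_g65_z_T111 : Net.toPerm 324 z_g65 ∈ (grp 324 y_E0) :=
  z_T111_s0.le (toPerm_mem_grp (E := y_E0) (List.Mem.tail _ (List.Mem.tail _ (List.Mem.tail _ (List.Mem.tail _ (List.Mem.tail _ (List.Mem.tail _ (List.Mem.tail _ (List.Mem.tail _ (List.Mem.tail _ (List.Mem.tail _ (List.Mem.tail _ (List.Mem.tail _ (List.Mem.tail _ (List.Mem.tail _ (List.Mem.tail _ (List.Mem.head _)))))))))))))))))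

theorem z_g66_z_T111 : Net.toPerm 324 z_g66 ∈ (grp 324 y_E0) :=
  z_T111_s0.le (toPerm_mem_grp (E := y_E0) (List.Mem.tail _ (List.Mem.tail _ (List.Mem.tail _ (List.Mem.tail _ (List.Mem.tail _ (List.Mem.tail _ (List.Mem.tail _ (List.Mem.tail _ (List.Mem.tail _ (List.Mem.tail _ (List.Mem.tail _ (List.Mem.tail _ (List.Mem.tail _ (List.Mem.tail _ (List.Mem.tail _ (List.Mem.tail _ (List.Mem.head _))))))))))))))))))

theorem z_g67_z_T111 : Net.toPerm 324 z_g67 ∈ (grp 324 y_E0) :=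
  z_T111_s0.le (toPerm_mem_grp (E := y_E0) (List.Mem.tail _ (List.Mem.tail _ (List.Mem.tail _ (List.Mem.tail _ (List.Mem.tail _ (List.Mem.tail _ (List.Mem.tail _ (List.Mem.tail _ (List.Mem.tail _ (List.Mem.tail _ (List.Mem.tail _ (List.Mem.tail _ (List.Mem.tail _ (List.Mem.tail _ (List.Mem.tail _ (List.Mem.tail _ (List.Mem.tail _ (List.Mem.head _)))))))))))))))))))

theorem z_g77_z_T111 : Net.toPerm 324 z_g77 ∈ (grp 324 y_E0) :=
  z_T111_s0.le (toPerm_mem_grp (E := y_E0) (List.Mem.tail _ (List.Mem.tail _ (List.Mem.tail _ (List.Mem.tail _ (List.Mem.tail _ (List.Mem.tail _ (List.Mem.tail _ (List.Mem.tail _ (List.Mem.tail _ (List.Mem.tail _ (List.Mem.tail _ (List.Mem.tail _ (List.Mem.tail _ (List.Mem.tail _ (List.Mem.tail _ (List.Mem.tail _ (List.Mem.tail _ (List.Mem.tail _ (List.Mem.head _))))))))))))))))))))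

theorem z_g78_z_T111 : Net.toPerm 324 z_g78 ∈ (grp 324 y_E0) :=
  z_T111_s0.le (toPerm_mem_grp (E := y_E0) (List.Mem.tail _ (List.Mem.tail _ (List.Mem.tail _ (List.Mem.tail _ (List.Mem.tail _ (List.Mem.tail _ (List.Mem.tail _ (List.Mem.tail _ (List.Mem.tail _ (List.Mem.tail _ (List.Mem.tail _ (List.Mem.tail _ (List.Mem.tail _ (List.Mem.tail _ (List.Mem.tail _ (List.Mem.tail _ (List.Mem.tail _ (List.Mem.tail _ (List.Mem.tail _ (List.Mem.head _)))))))))))))))))))))

theorem z_g72_z_T111 : Net.toPerm 324 z_g72 ∈ (grp 324 y_E0) :=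
  z_T111_s0.le (toPerm_mem_grp (E := y_E0) (List.Mem.tail _ (List.Mem.tail _ (List.Mem.tail _ (List.Mem.tail _ (List.Mem.tail _ (List.Mem.tail _ (List.Mem.tail _ (List.Mem.tail _ (List.Mem.tail _ (List.Mem.tail _ (List.Mem.tail _ (List.Mem.tail _ (List.Mem.tail _ (List.Mem.tail _ (List.Mem.tail _ (List.Mem.tail _ (List.Mem.tail _ (List.Mem.tail _ (List.Mem.tail _ (List.Mem.tail _ (List.Mem.head _))))))))))))))))))))))

theorem z_g73_z_T111 : Net.toPerm 324 z_g73 ∈ (grp 324 y_E0) :=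
  z_T111_s0.le (toPerm_mem_grp (E := y_E0) (List.Mem.tail _ (List.Mem.tail _ (List.Mem.tail _ (List.Mem.tail _ (List.Mem.tail _ (List.Mem.tail _ (List.Mem.tail _ (List.Mem.tail _ (List.Mem.tail _ (List.Mem.tail _ (List.Mem.tail _ (List.Mem.tail _ (List.Mem.tail _ (List.Mem.tail _ (List.Mem.tail _ (List.Mem.tail _ (List.Mem.tail _ (List.Mem.tail _ (List.Mem.tail _ (List.Mem.tail _ (List.Mem.tail _ (List.Mem.head _)))))))))))))))))))))))

theorem z_g74_z_T111 : Net.toPerm 324 z_g74 ∈ (grp 324 y_E0) :=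
  z_T111_s0.le (toPerm_mem_grp (E := y_E0) (List.Mem.tail _ (List.Mem.tail _ (List.Mem.tail _ (List.Mem.tail _ (List.Mem.tail _ (List.Mem.tail _ (List.Mem.tail _ (List.Mem.tail _ (List.Mem.tail _ (List.Mem.tail _ (List.Mem.tail _ (List.Mem.tail _ (List.Mem.tail _ (List.Mem.tail _ (List.Mem.tail _ (List.Mem.tail _ (List.Mem.tail _ (List.Mem.tail _ (List.Mem.tail _ (List.Mem.tail _ (List.Mem.tail _ (List.Mem.tail _ (List.Mem.head _))))))))))))))))))))))))

theorem z_g81_z_T111 : Net.toPerm 324 z_g81 ∈ (grp 324 y_E0) :=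
  z_T111_s0.le (toPerm_mem_grp (E := y_E0) (List.Mem.tail _ (List.Mem.tail _ (List.Mem.tail _ (List.Mem.tail _ (List.Mem.tail _ (List.Mem.tail _ (List.Mem.tail _ (List.Mem.tail _ (List.Mem.tail _ (List.Mem.tail _ (List.Mem.tail _ (List.Mem.tail _ (List.Mem.tail _ (List.Mem.tail _ (List.Mem.tail _ (List.Mem.tail _ (List.Mem.tail _ (List.Mem.tail _ (List.Mem.tail _ (List.Mem.tail _ (List.Mem.tail _ (List.Mem.tail _ (List.Mem.tail _ (List.Mem.head _)))))))))))))))))))))))))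

theorem z_g82_z_T111 : Net.toPerm 324 z_g82 ∈ (grp 324 y_E0) :=
  z_T111_s0.le (toPerm_mem_grp (E := y_E0) (List.Mem.tail _ (List.Mem.tail _ (List.Mem.tail _ (List.Mem.tail _ (List.Mem.tail _ (List.Mem.tail _ (List.Mem.tail _ (List.Mem.tail _ (List.Mem.tail _ (List.Mem.tail _ (List.Mem.tail _ (List.Mem.tail _ (List.Mem.tail _ (List.Mem.tail _ (List.Mem.tail _ (List.Mem.tail _ (List.Mem.tail _ (List.Mem.tail _ (List.Mem.tail _ (List.Mem.tail _ (List.Mem.tail _ (List.Mem.tail _ (List.Mem.tail _ (List.Mem.tail _ (List.Mem.head _))))))))))))))))))))))))))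

theorem z_g87_z_T111 : Net.toPerm 324 z_g87 ∈ (grp 324 y_E0) :=
  z_T111_s0.le (toPerm_mem_grp (E := y_E0) (List.Mem.tail _ (List.Mem.tail _ (List.Mem.tail _ (List.Mem.tail _ (List.Mem.tail _ (List.Mem.tail _ (List.Mem.tail _ (List.Mem.tail _ (List.Mem.tail _ (List.Mem.tail _ (List.Mem.tail _ (List.Mem.tail _ (List.Mem.tail _ (List.Mem.tail _ (List.Mem.tail _ (List.Mem.tail _ (List.Mem.tail _ (List.Mem.tail _ (List.Mem.tail _ (List.Mem.tail _ (List.Mem.tail _ (List.Mem.tail _ (List.Mem.tail _ (List.Mem.tail _ (List.Mem.tail _ (List.Mem.head _)))))))))))))))))))))))))))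

theorem zg0_z_T111 : Net.toPerm 324 zg0 ∈ (grp 324 y_E0) :=
  z_T111_s0.le (toPerm_mem_grp (E := y_E0) (List.Mem.tail _ (List.Mem.tail _ (List.Mem.tail _ (List.Mem.tail _ (List.Mem.tail _ (List.Mem.tail _ (List.Mem.tail _ (List.Mem.tail _ (List.Mem.tail _ (List.Mem.tail _ (List.Mem.tail _ (List.Mem.tail _ (List.Mem.tail _ (List.Mem.tail _ (List.Mem.tail _ (List.Mem.tail _ (List.Mem.tail _ (List.Mem.tail _ (List.Mem.tail _ (List.Mem.tail _ (List.Mem.tail _ (List.Mem.tail _ (List.Mem.tail _ (List.Mem.tail _ (List.Mem.tail _ (List.Mem.tail _ (List.Mem.head _))))))))))))))))))))))))))))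

theorem z_g91_z_T111 : Net.toPerm 324 z_g91 ∈ (grp 324 y_E0) :=
  z_T111_s0.le (toPerm_mem_grp (E := y_E0) (List.Mem.tail _ (List.Mem.tail _ (List.Mem.tail _ (List.Mem.tail _ (List.Mem.tail _ (List.Mem.tail _ (List.Mem.tail _ (List.Mem.tail _ (List.Mem.tail _ (List.Mem.tail _ (List.Mem.tail _ (List.Mem.tail _ (List.Mem.tail _ (List.Mem.tail _ (List.Mem.tail _ (List.Mem.tail _ (List.Mem.tail _ (List.Mem.tail _ (List.Mem.tail _ (List.Mem.tail _ (List.Mem.tail _ (List.Mem.tail _ (List.Mem.tail _ (List.Mem.tail _ (List.Mem.tail _ (List.Mem.tail _ (List.Mem.tail _ (List.Mem.head _)))))))))))))))))))))))))))))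

theorem z_g28_z_T111 : Net.toPerm 324 z_g28 ∈ (grp 324 y_E0) :=
  z_T111_s0.le (toPerm_mem_grp (E := y_E0) (List.Mem.tail _ (List.Mem.tail _ (List.Mem.tail _ (List.Mem.tail _ (List.Mem.tail _ (List.Mem.tail _ (List.Mem.tail _ (List.Mem.tail _ (List.Mem.tail _ (List.Mem.tail _ (List.Mem.tail _ (List.Mem.tail _ (List.Mem.tail _ (List.Mem.tail _ (List.Mem.tail _ (List.Mem.tail _ (List.Mem.tail _ (List.Mem.tail _ (List.Mem.tail _ (List.Mem.tail _ (List.Mem.tail _ (List.Mem.tail _ (List.Mem.tail _ (List.Mem.tail _ (List.Mem.tail _ (List.Mem.tail _ (List.Mem.tail _ (List.Mem.tail _ (List.Mem.head _))))))))))))))))))))))))))))))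

theorem z_g88_z_T111 : Net.toPerm 324 z_g88 ∈ (grp 324 y_E0) :=
  z_T111_s0.le (toPerm_mem_grp (E := y_E0) (List.Mem.tail _ (List.Mem.tail _ (List.Mem.tail _ (List.Mem.tail _ (List.Mem.tail _ (List.Mem.tail _ (List.Mem.tail _ (List.Mem.tail _ (List.Mem.tail _ (List.Mem.tail _ (List.Mem.tail _ (List.Mem.tail _ (List.Mem.tail _ (List.Mem.tail _ (List.Mem.tail _ (List.Mem.tail _ (List.Mem.tail _ (List.Mem.tail _ (List.Mem.tail _ (List.Mem.tail _ (List.Mem.tail _ (List.Mem.tail _ (List.Mem.tail _ (List.Mem.tail _ (List.Mem.tail _ (List.Mem.tail _ (List.Mem.tail _ (List.Mem.tail _ (List.Mem.tail _ (List.Mem.head _)))))))))))))))))))))))))))))))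

theorem z_g126_z_T111 : Net.toPerm 324 z_g126 ∈ (grp 324 y_E0) :=
  z_T111_s2.le (toPerm_mem_grp (E := z_V136) (List.Mem.head _))

theorem z_g127_z_T111 : Net.toPerm 324 z_g127 ∈ (grp 324 y_E0) :=
  z_T111_s2.le (toPerm_mem_grp (E := z_V136) (List.Mem.tail _ (List.Mem.head _)))

theorem z_g128_z_T111 : Net.toPerm 324 z_g128 ∈ (grp 324 y_E0) :=
  z_T111_s2.le (toPerm_mem_grp (E := z_V136) (List.Mem.tail _ (List.Mem.tail _ (List.Mem.head _))))

theorem z_g129_z_T111 : Net.toPerm 324 z_g129 ∈ (grp 324 y_E0) :=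
  z_T111_s2.le (toPerm_mem_grp (E := z_V136) (List.Mem.tail _ (List.Mem.tail _ (List.Mem.tail _ (List.Mem.head _)))))

theorem z_g130_z_T111 : Net.toPerm 324 z_g130 ∈ (grp 324 y_E0) :=
  z_T111_s2.le (toPerm_mem_grp (E := z_V136) (List.Mem.tail _ (List.Mem.tail _ (List.Mem.tail _ (List.Mem.tail _ (List.Mem.head _))))))

theorem z_g131_z_T111 : Net.toPerm 324 z_g131 ∈ (grp 324 y_E0) :=
  z_T111_s2.le (toPerm_mem_grp (E := z_V136) (List.Mem.tail _ (List.Mem.tail _ (List.Mem.tail _ (List.Mem.tail _ (List.Mem.tail _ (List.Mem.head _)))))))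

theorem z_g132_z_T111 : Net.toPerm 324 z_g132 ∈ (grp 324 y_E0) :=
  z_T111_s2.le (toPerm_mem_grp (E := z_V136) (List.Mem.tail _ (List.Mem.tail _ (List.Mem.tail _ (List.Mem.tail _ (List.Mem.tail _ (List.Mem.tail _ (List.Mem.head _))))))))

theorem z_g133_z_T111 : Net.toPerm 324 z_g133 ∈ (grp 324 y_E0) :=
  z_T111_s2.le (toPerm_mem_grp (E := z_V136) (List.Mem.tail _ (List.Mem.tail _ (List.Mem.tail _ (List.Mem.tail _ (List.Mem.tail _ (List.Mem.tail _ (List.Mem.tail _ (List.Mem.head _)))))))))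

theorem z_g134_z_T111 : Net.toPerm 324 z_g134 ∈ (grp 324 y_E0) :=
  z_T111_s2.le (toPerm_mem_grp (E := z_V136) (List.Mem.tail _ (List.Mem.tail _ (List.Mem.tail _ (List.Mem.tail _ (List.Mem.tail _ (List.Mem.tail _ (List.Mem.tail _ (List.Mem.tail _ (List.Mem.head _))))))))))

theorem z_g135_z_T111 : Net.toPerm 324 z_g135 ∈ (grp 324 y_E0) :=
  z_T111_s2.le (toPerm_mem_grp (E := z_V136) (List.Mem.tail _ (List.Mem.tail _ (List.Mem.tail _ (List.Mem.tail _ (List.Mem.tail _ (List.Mem.tail _ (List.Mem.tail _ (List.Mem.tail _ (List.Mem.tail _ (List.Mem.head _)))))))))))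

noncomputable def z_T111_s8_O : ℕ := (nat_lit 0xfffffffffffffffff000000000000000000000000000000000000000000000000000000000000000000000000000000000ffffffffffffffffffffffffffffffff00000000000000000000000000000000f0000000000000000ffffffffffffffff0000000000000000ffffffffffffffff00000000000000000ffffffff00000000ffffffff00000000ffffffff00000000ffffffff00000000ffffffff000000000ffff0000ffff0000ffff0000ffff0000ffff0000ffff0000ffff0000ffff0000ffff0000ffff00000ff00ff00ff00ff00ff00ff00ff00ff00ff00ff00ff00ff00ff00ff00ff00ff00ff00ff00ff00ff000f0f0f0f0f0f0f0f0f0f0f0f0f0f0f0f0f0f0f0f0f0f0f0f0f0f0f0f0f0f0f0f0f0f0f0f0f0f0f0f0cccccccccccccccccccccccccccccccccccccccccccccccccccccccccccccccccccccccccccccccccaaaaaaaaaaaaaaaaaaaaaaaaaaaaaaaaaaaaaaaaaaaaaaaaaaaaaaaaaaaaaaaaaaaaaaaaaaaaaaaaa00000000000000000000000000000000000000000000000000000000000000000000000000000000100000040000000000000000000000000000000000000000000000000000000000000000000000000000000000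0000000000000000000000000000000000000000000000000001000000000000000000000000000000000000000000000000000000000000000000000000000000000000000000000008000000000000000000000000000000000000000000000000000000000000000000000000000000000002000000000000000000000000000000000000000000000000000000000000000000000000000002000000000000000000000000000000000000000000000000000000000000000000000000000000004000000000000000000000000000000000000000000000000000000000010000000000000000000000000000)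

theorem z_T111_s8_F : Frame 324 (grp 324 y_E0) 8 17 z_T111_s8_O 1 1 :=
  IsBase.frame z_T111_s8.isBase (by decide +kernel)

noncomputable def z_T111_s7_O : ℕ := (nat_lit 0x10402000000000000000040000000000000000040000000000000000000000000000000000000000000000000000000000000000000000000000000000200000000001ffdffe7effb7bf7e5ebfd9aed045a90b8fcbe1000009b93ca149bfdd1bf7e3c186a8a21b400000001fc000099d7fa12d3f5c7b7762c187a8a0bb581000007e7cbfaf6e6ebfd9eed0558b01af4be1000001c20a8097bb451c9f1d71a9bb1b68644f71a450bf8f70fab873c3d58f0588c58cea83ba4aa4e407081320830e2c77097d89b1e2e19b62161ce4ad5ad59e8d628308f538ba184e48f597a7bab4da32a61720aa0224000000000000000000000000000000000000000000000000000000000000000000000000000000001000000400000000000000000000000000000000000000000000000000000000000000000000000000000000000000000000000000000000000000000000000000000000000001000000000000000000000000000000000000000000000000000000000000000000000000000000000000000000000008000000000000000000000000000000000000000000000000000000000000000000000000000000000002000000000000000000000000000000000000000000000000000000000000000000000000000002000000000000000000000000000000000000000000000000000000000000000000000000000000004000000)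

theorem z_T111_s7_F : Frame 324 (grp 324 y_E0) 7 13 z_T111_s7_O 0 1 :=
  Stab.frame z_hn z_T111_s7 (by decide +kernel)

noncomputable def z_T111_s6_O : ℕ := (nat_lit 0x10402000000000000000040000000000000000040200000000000020a80000000000000000000000010400000000000000000000000000000000000000000000000005fdd57efefff79fde5fbfb9be9041690b2bc5e1000001b938a743bfcd1df6e7c1caacaa5ba000000048000341b938a343bfcd1df6e7c1caa8aa5ba0000000fefff7dfde5fbfb9be9041690b0bc5e10000015a083075bb059917966987a3af69358f71f070bf8f76f28878d0dcaf81e8cbccb09f100706e407081660224000000000000000000000000000000000000000000000000000000000000000000000000000000001000000400000000000000000000000000000000000000000000000000000000000000000000000000000000000000000000000000000000000000000000000000000000000001000000000000000000000000000000000000000000000000000000000000000000000000000000000000000000000008000000000000000000000000000000000000000000000000000000000000000000000000000000000002000000000000000000000000000000000000000000000000000000000000000000000000000002000000)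

theorem z_T111_s6_F : Frame 324 (grp 324 y_E0) 6 11 z_T111_s6_O 0 1 :=
  Stab.frame z_hn z_T111_s6 (by decide +kernel)

noncomputable def z_T111_s4_O : ℕ := (nat_lit 0x100000000000000000000000000000000000000000000000000000000000000000000000000000000004000000000000000000000000000000000000000000000000000000000000000000000000000000000020000000000000000000000000000000000000000000000000000000000000000000000000000000000000000000000000400000000000000000000000000000000000000000000000000000000000000000000000000000000000000000000000000400000000000000000000000000000000000000000000000000000000000000000000000000000000002000000000000000000000000000000000000000000000000000000000000000000000000000000000000000000000022000000000000000000000000000000000000000000000000000000000000000000000000000000000a0000000000000000000000000000000000000000000000000000000000000000000000000000020010000000000000000000000000000000000000000000000000000000000000000000000000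000000804000000000000000000000000000000000000000000000000000000000000000000000000007fc000000000000000000000000000000000000000000000000000000000000000000000000000000001d54a1a9382141a5c91992e1000280a018000000001a9382141a5c91992e1000280a018000000000000000652805890582680680ac49018100706000000652805890582680680ac49018100706000000000000080447822e0210660504014c2008e0f810000080447822e0210660504014c2008e0f81000000000000000000000000000000000000000000000000000000000000000000000000000000000000000000001000000400000000000000000000000000000000000000000000000000000000000000000000000000000000000000000000000000000000000000000000000000000000000001000000000000000000000000000000000000000000000000000000000000000000000000000000000000000000000008000000)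

theorem z_T111_s4_F : Frame 324 (grp 324 y_E0) 4 19 z_T111_s4_O 0 1 :=
  Stab.frame z_hn z_T111_s4 (by decide +kernel)

noncomputable def z_T111_s3_O : ℕ := (nat_lit 0x400000000000000000000000000000000000000000000000000000000000000000000000000000000000000000000000022000000000000000000000000104020000000000000000400000000000000000002000000000080000000000000000000000000000000000000000000000000000000000000000000000000000000000208b4000000000000000000000000000000000000000000000000000000000000000000000000007fdd54a00000000000000000103a2043450001efffff00000000000000000103a2043450001efffff0000000000000000000000000000000000000000000000000000000000000000000000000000000000000001000000400000000000000000000000000000000000000000000000000000000000000000000000000000000000000000000000000000000000000000000000000000000000001000000000000000000000)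

theorem z_T111_s3_F : Frame 324 (grp 324 y_E0) 3 9 z_T111_s3_O 0 1 :=
  Stab.frame z_hn z_T111_s3 (by decide +kernel)

noncomputable def z_T111_s1_O : ℕ := (nat_lit 0x22ab400000040000000000000001040200000000000000004000000000000000104020000000000ffdd54a00000000000000000103a2043450001efffff00000000000000000103a2043450001efffff0000000000000000000000000000000000000000000000000000000000000000000000000000000000000001)

theorem z_T111_s1_F : Frame 324 (grp 324 y_E0) 1 4 z_T111_s1_O 0 1 :=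
  Stab.frame z_hn z_T111_s1 (by decide +kernel)

noncomputable def yt_c1_cnt_L : List ℕ := [1, 4, z_T111_s1_O, 0, 0, 3, 9, z_T111_s3_O, 0, 0, 4, 19, z_T111_s4_O, 0, 0, 6, 11, z_T111_s6_O, 0, 0, 7, 13, z_T111_s7_O, 0, 0, 8, 17, z_T111_s8_O, 1, 0]

theorem yt_c1_cnt_P : Prob 324 9 (grp 324 y_E0) yt_c1_cnt_EG [z_g112] [z_g112] yt_c1_K yt_c1_cnt_L 0 0 :=
  Sym.prob z_hn z_hk yt_c1_sym yt_c1_cnt_EG_ok (grp_cons_le z_g39_z_T111 (grp_cons_le zg1_z_T111 (grp_cons_le zg3_z_T111 (grp_cons_le z_g43_z_T111 (grp_cons_le z_g42_z_T111 (grp_cons_le zg2_z_T111 (grp_cons_le z_g44_z_T111 (grp_cons_le z_g54_z_T111 (grp_cons_le z_g55_z_T111 (grp_cons_le z_g49_z_T111 (grp_cons_le z_g50_z_T111 (grp_cons_le z_g51_z_T111 (grp_cons_le z_g62_z_T111 (grp_cons_le z_g58_z_T111 (grp_cons_le z_g59_z_T111 (grp_cons_le z_g65_z_T111 (grp_cons_le z_g66_z_T111 (grp_cons_le z_g67_z_T111 (grp_cons_le z_g77_z_T111 (grp_cons_le z_g78_z_T111 (grp_cons_le z_g72_z_T111 (grp_cons_le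 z_g73_z_T111 (grp_cons_le z_g74_z_T111 (grp_cons_le z_g81_z_T111 (grp_cons_le z_g82_z_T111 (grp_cons_le z_g87_z_T111 (grp_cons_le zg0_z_T111 (grp_cons_le z_g91_z_T111 (grp_cons_le z_g28_z_T111 (grp_cons_le z_g88_z_T111 (grp_cons_le z_g126_z_T111 (grp_cons_le z_g127_z_T111 (grp_cons_le z_g128_z_T111 (grp_cons_le z_g129_z_T111 (grp_cons_le z_g130_z_T111 (grp_cons_le z_g131_z_T111 (grp_cons_le z_g132_z_T111 (grp_cons_le z_g133_z_T111 (grp_cons_le z_g134_z_T111 (grp_cons_le z_g135_z_T111 (grp_nil_le _))))))))))))))))))))))))))))))))))))))))) (Frames.cons z_T111_s1_F (Frames.cons z_T111_s3_F (Frames.cons z_T111_s4_F (Frames.cons z_T111_s6_F (Frames.cons z_T111_s7_F (Frames.cons z_T111_s8_F Frames.nil)))))) (okE_cons.2 ⟨z_g112_ok, okE_nil _⟩) _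

noncomputable def yt_c1_cnt_t : BT := (BT.fix (nat_lit 1) (BT.br (nat_lit 0) (nat_lit 53) [nat_lit 1, nat_lit 5] (BT.dead (nat_lit 292) (BT.frm (nat_lit 0) (nat_lit 68101) (nat_lit 65799) [nat_lit 0] (BT.pln (nat_lit 0) (nat_lit 2) (BT.and (nat_lit 0) (nat_lit 3) (BT.cnt (nat_lit 0))))) (BT.kid (nat_lit 53) (nat_lit 31104) (BT.frm (nat_lit 0) (nat_lit 68101) (nat_lit 68101) [nat_lit 0] (BT.pln (nat_lit 0) (nat_lit 2) (BT.dif (nat_lit 0) (nat_lit 3) (BT.br (nat_lit 0) (nat_lit 299) [nat_lit 3, nat_lit 7] (BT.kid (nat_lit 299) (nat_lit 3888) (BT.img (nat_lit 1) (nat_lit 0) (BT.frm (nat_lit 1) (nat_lit 0x3e010a05) (nat_lit 0x3e010a05) [nat_lit 0, nat_lit 1, nat_lit 5] (BT.pln (nat_lit 0) (nat_lit 6) (BT.and (nat_lit 4) (nat_lit 0) (BT.br (nat_lit 0) (nat_lit 271) [nat_lit 5, nat_lit 7] (BT.kid (nat_lit 271) (nat_lit 648) (BT.dif (nat_lit 10) (nat_lit 7) (BT.pln (nat_lit 4) (nat_lit 7) (BT.and (nat_lit 1) (nat_lit 0) (BT.br (nat_lit 0) (nat_lit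 103) [nat_lit 9] (BT.kid (nat_lit 103) (nat_lit 324) (BT.and (nat_lit 11) (nat_lit 14) (BT.frm (nat_lit 2) (nat_lit 0x3e010a05) (nat_lit 0x3e010a05) [nat_lit 5, nat_lit 9, nat_lit 10, nat_lit 14] (BT.pln (nat_lit 0) (nat_lit 8) (BT.and (nat_lit 2) (nat_lit 0) (BT.br (nat_lit 0) (nat_lit 138) [nat_lit 11, nat_lit 13] (BT.kid (nat_lit 138) (nat_lit 36) (BT.frm (nat_lit 3) (nat_lit 0x4548433e010a05) (nat_lit 0x4548433e010a05) [nat_lit 0, nat_lit 5, nat_lit 9, nat_lit 13, nat_lit 14, nat_lit 18] (BT.pln (nat_lit 0) (nat_lit 8) (BT.and (nat_lit 4) (nat_lit 0) (BT.br (nat_lit 0) (nat_lit 147) [nat_lit 15] (BT.kid (nat_lit 147) (nat_lit 18) (BT.pln (nat_lit 3) (nat_lit 7) (BT.and (nat_lit 3) (nat_lit 0) (BT.pln (nat_lit 5) (nat_lit 6) (BT.dif (nat_lit 1) (nat_lit 0) (BT.frm (nat_lit 4) (nat_lit 0x494548433e010a05) (nat_lit 0x494548433e010a05) [nat_lit 4, nat_lit 8, nat_lit 13, nat_lit 17, nat_lit 21, nat_lit 22, nat_lit 26] (BT.pln (nat_lit 0)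 (nat_lit 9) (BT.and (nat_lit 2) (nat_lit 0) (BT.br (nat_lit 0) (nat_lit 31) [nat_lit 17, nat_lit 19, nat_lit 21] (BT.kid (nat_lit 31) (nat_lit 1) (BT.one (nat_lit 5) (nat_lit 0x4c4d494548433e010a05) (nat_lit 0x4c4d494548433e010a05) [nat_lit 0, nat_lit 8, nat_lit 12, nat_lit 17, nat_lit 21, nat_lit 25, nat_lit 26, nat_lit 30]) BT.nil))))))))) BT.nil))))) BT.nil)))))) BT.nil))))) BT.nil)))))) BT.nil))))) BT.nil))))

theorem yt_c1_cnt : Cnt 324 (grp 324 y_E0) [z_g112] [z_g112] 0 0 0 0 839808 :=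
  BT.sound yt_c1_cnt_P Known.nil (t := yt_c1_cnt_t) (d := 0) (by decide +kernel)

theorem yt_c1_ge : 839808 ≤ Nat.card (grp 324 yt_c1_K) :=
  Ch.le_card_grp (k := 9) (L := (lab 324 9)) z_hn yt_c1_K_ok (c := (Ch.cons (nat_lit 53) [nat_lit 1] (Ch.cons (nat_lit 299) [nat_lit 3] (Ch.cons (nat_lit 271) [nat_lit 5, nat_lit 7] (Ch.cons (nat_lit 103) [nat_lit 9] (Ch.cons (nat_lit 138) [nat_lit 11, nat_lit 13] (Ch.cons (nat_lit 147) [nat_lit 15] (Ch.cons (nat_lit 31) [nat_lit 17, nat_lit 19, nat_lit 21] Ch.nil)))))))) (by decide +kernel)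

theorem yt_c1_eq : (grp 324 y_E0) ⊓ Subgroup.centralizer {Net.toPerm 324 z_g112} = grp 324 yt_c1_K :=
  cent_eq yt_c1_sym yt_c1_cnt yt_c1_ge

theorem yt_c1_card : Nat.card ↥((grp 324 y_E0) ⊓ Subgroup.centralizer {Net.toPerm 324 z_g112}) = 839808 :=
  card_cent yt_c1_sym yt_c1_cnt yt_c1_ge

theorem yt_c1_ord : orderOf (Net.toPerm 324 z_g112) = 2 :=
  orderOf_net z_hn z_hk z_g112_ok (by decide) (ps := [2]) (by set_option linter.unusedSimpArgs false in simp [Nat.primeFactorsList_ofNat]) (by decide +kernel)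

theorem z_le153 : grp 324 yt_c2_K ≤ grp 324 y_E0 :=
  grp_le_of_memB z_hn z_hk y_E0_ok yt_c2_K_ok (ws := [nat_lit 0x34392f2919201c11070a03082e, nat_lit 0x3b2f2819200f1209011505, nat_lit 0x333b281f1a1f12070c013b02, nat_lit 0x33392f251f19201c070c050212, nat_lit 0x333b2f1f1a250f12031c, nat_lit 0x372f27191b1b0f070a010b05, nat_lit 0x353c191c012502, nat_lit 0x39261f12070c05022d]) (by decide +kernel)

theorem yt_c2_le : grp 324 yt_c2_K ≤ (grp 324 y_E0) :=
  (z_le153.trans z_T111_s0.le)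

theorem yt_c2_mem : Net.toPerm 324 z_g144 ∈ (grp 324 y_E0) :=
  yt_c2_le (mem_grp_of_memB z_hn z_hk yt_c2_K_ok z_g144_ok (w := (nat_lit 0xf0b06030603)) (by decide +kernel))

theorem yt_c2_sym : Sym 324 (grp 324 y_E0) [z_g144] yt_c2_K 0 :=
  Sym.of_lab z_hn z_hk (okE_cons.2 ⟨z_g144_ok, okE_nil _⟩) yt_c2_K_ok yt_c2_le (kT := 0) (by decide +kernel)

theorem z_le160 : grp 324 z_V159 ≤ grp 324 z_V139 :=
  grp_le_of_memB z_hn z_hk z_V139_ok z_V159_ok (ws := [nat_lit 0xa0d0401, nat_lit 0x90b0401, nat_lit 0xa0b0d03, nat_lit 6, nat_lit 0xa070306]) (by decide +kernel)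

theorem z_T111_s9 : Stab 324 (grp 324 y_E0) [nat_lit 3, nat_lit 27, nat_lit 84, nat_lit 298, nat_lit 0] z_V159 72 :=
  Stab.step (k := 9) (L := (lab 324 9)) z_hn z_T111_s4 z_V159_ok z_le160 (c := (Ch.cons (nat_lit 12) [nat_lit 1] (Ch.cons (nat_lit 13) [nat_lit 3] (Ch.cons (nat_lit 119) [nat_lit 5, nat_lit 7, nat_lit 9] Ch.nil)))) (by decide +kernel)

theorem z_T111_s10 : Stab 324 (grp 324 y_E0) [nat_lit 12, nat_lit 3, nat_lit 27, nat_lit 84, nat_lit 298, nat_lit 0] z_V161 36 :=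
  Stab.step (k := 9) (L := (lab 324 9)) z_hn z_T111_s9 z_V161_ok (grp_mono (List.subset_append_right [z_g154] _)) (c := (Ch.cons (nat_lit 13) [nat_lit 1] (Ch.cons (nat_lit 119) [nat_lit 3, nat_lit 5, nat_lit 7] Ch.nil))) (by decide +kernel)

theorem z_T111_s11 : Stab 324 (grp 324 y_E0) [nat_lit 13, nat_lit 12, nat_lit 3, nat_lit 27, nat_lit 84, nat_lit 298, nat_lit 0] z_V162 18 :=
  Stab.step (k := 9) (L := (lab 324 9)) z_hn z_T111_s10 z_V162_ok (grp_mono (List.subset_append_right [z_g155] _)) (c := (Ch.cons (nat_lit 119) [nat_lit 1, nat_lit 3, nat_lit 5] Ch.nil)) (by decide +kernel)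

theorem z_T111_s12 : Stab 324 (grp 324 y_E0) [nat_lit 119, nat_lit 13, nat_lit 12, nat_lit 3, nat_lit 27, nat_lit 84, nat_lit 298, nat_lit 0] z_V163 1 :=
  Stab.step (k := 9) (L := (lab 324 9)) z_hn z_T111_s11 z_V163_ok (grp_mono (List.subset_append_right [z_g156, z_g157, z_g158] _)) (c := Ch.nil) (by decide +kernel)

theorem z_g154_z_T111 : Net.toPerm 324 z_g154 ∈ (grp 324 y_E0) :=
  z_T111_s9.le (toPerm_mem_grp (E := z_V159) (List.Mem.head _))

theorem z_g155_z_T111 : Net.toPerm 324 z_g155 ∈ (grp 324 y_E0) :=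
  z_T111_s9.le (toPerm_mem_grp (E := z_V159) (List.Mem.tail _ (List.Mem.head _)))

theorem z_g156_z_T111 : Net.toPerm 324 z_g156 ∈ (grp 324 y_E0) :=
  z_T111_s9.le (toPerm_mem_grp (E := z_V159) (List.Mem.tail _ (List.Mem.tail _ (List.Mem.head _))))

theorem z_g157_z_T111 : Net.toPerm 324 z_g157 ∈ (grp 324 y_E0) :=
  z_T111_s9.le (toPerm_mem_grp (E := z_V159) (List.Mem.tail _ (List.Mem.tail _ (List.Mem.tail _ (List.Mem.head _)))))

theorem z_g158_z_T111 : Net.toPerm 324 z_g158 ∈ (grp 324 y_E0) :=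
  z_T111_s9.le (toPerm_mem_grp (E := z_V159) (List.Mem.tail _ (List.Mem.tail _ (List.Mem.tail _ (List.Mem.tail _ (List.Mem.head _))))))

noncomputable def z_T111_s12_O : ℕ := (nat_lit 0xfffffffffffffffff000000000000000000000000000000000000000000000000000000000000000000000000000000000ffffffffffffffffffffffffffffffff00000000000000000000000000000000f0000000000000000ffffffffffffffff0000000000000000ffffffffffffffff00000000000000000ffffffff00000000ffffffff00000000ffffffff00000000ffffffff00000000ffffffff000000000ffff0000ffff0000ffff0000ffff0000ffff0000ffff0000ffff0000ffff0000ffff0000ffff00000ff00ff00ff00ff00ff00ff00ff00ff00ff00ff00ff00ff00ff00ff00ff00ff00ff00ff00ff00ff000f0f0f0f0f0f0f0f0f0f0f0f0f0f0f0f0f0f0f0f0f0f0f0f0f0f0f0f0f0f0f0f0f0f0f0f0f0f0f0f0cccccccccccccccccccccccccccccccccccccccccccccccccccccccccccccccccccccccccccccccccaaaaaaaaaaaaaaaaaaaaaaaaaaaaaaaaaaaaaaaaaaaaaaaaaaaaaaaaaaaaaaaaaaaaaaaaaaaaaaaaa000000000000000000000000000000000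000000000000000000000000000000000000000000000001000000400000000000000000000000000000000000000000000000000000000000000000000000000000000000000000000000000000000000000000000000000000000000001000000000000000000000000000000000000000000000000000000000000000000000000000000000000000000000008000000000000000000000000000000000000000000000000000000000000000000000000000000000000008000000000000000000000000000000000000000000000000000000000000000000000000000001000000000000000000000000000000000000000000000000000000000000000000000000000000002000000000000000000000000000000000000000000000000000000800000000000000000000000000000)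

theorem z_T111_s12_F : Frame 324 (grp 324 y_E0) 8 17 z_T111_s12_O 1 1 :=
  IsBase.frame z_T111_s12.isBase (by decide +kernel)

noncomputable def z_T111_s11_O : ℕ := (nat_lit 0x10402000000000000000040000000000000000040000000000000000000000000000000000000000000000000000000000000000000000000000000000200000000007ffcff67fbb879d1fdef99dafb761290b41c070260f21fb3869d1fdcd99f2e3c8b29bb21b00000000003ce0094f7749bd6350fe3334b29718b4bbd91260f2eb0cbb24e9ebf67cdcf4d6ca30a64b600000000381e095f4feabfd8d4f3c743415e74fbe07819980515f0ceab3dac495c647415a30bac0e8f4070800249949a97ba34fa7d97f97e5096ea7a878b00000009ad7f256da7d97f93f5320680a6b8d91260f20014552000000000000000000000000000000000000000000000000000000000000000000000000000000001000000400000000000000000000000000000000000000000000000000000000000000000000000000000000000000000000000000000000000000000000000000000000000001000000000000000000000000000000000000000000000000000000000000000000000000000000000000000000000008000000000000000000000000000000000000000000000000000000000000000000000000000000000000008000000000000000000000000000000000000000000000000000000000000000000000000000001000000000000000000000000000000000000000000000000000000000000000000000000000000002000)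

theorem z_T111_s11_F : Frame 324 (grp 324 y_E0) 7 13 z_T111_s11_O 0 1 :=
  Stab.frame z_hn z_T111_s11 (by decide +kernel)

noncomputable def z_T111_s10_O : ℕ := (nat_lit 0x1040200000000000000004000000000000000004020000000000001c400000000000000000000000010400000000000000000000000000000000000000000000000007fe2bf67bdbc3161bfef1ddaef440280a29cce1000009eb7befdfe5d9fbb7e181debcba7b3000000000023429eb7bebdfe5d9fbb7e181deb8ba7b300000007bdbc3561bfef1ddaef440280a09cce10000000381f0652b87990f9a689f86bccb15b531f060998057fb8058d15c6f906a9af6929cb40707e667fa00149a6000000000000000000000000000000000000000000000000000000000000000000000000000000001000000400000000000000000000000000000000000000000000000000000000000000000000000000000000000000000000000000000000000000000000000000000000000001000000000000000000000000000000000000000000000000000000000000000000000000000000000000000000000008000000000000000000000000000000000000000000000000000000000000000000000000000000000000008000000000000000000000000000000000000000000000000000000000000000000000000000001000)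

theorem z_T111_s10_F : Frame 324 (grp 324 y_E0) 6 11 z_T111_s10_O 0 1 :=
  Stab.frame z_hn z_T111_s10 (by decide +kernel)

noncomputable def z_T111_s9_O : ℕ := (nat_lit 0x10000000000000000000000000000000000000000000000000000000000000000000000000000000000400000000000000000000000000000000000000000000000000000000000000000000000000000000002000000000000000000000000000000000000000000000000000000000000000000000000000000000000000000000000040000000000000000000000000000000000000000000000000000000000000000000000000000000000000000000000000040000000000000000000000000000000000000000000000000000000000000000000000000000000000200000000000000000000000000000000000000000000000000000000000000000000000000000000000000000000011000000000000000000000000000000000000000000000000000000000000000000000000000000008400000000000000000000000000000000000000000000000000000000000000000000000000000002200000000000000000000000000000000000000000000000000000000000000000000000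0000000041000000000000000000000000000000000000000000000000000000000000000000000000000000000a0000000000000000000000000000000000000000000000000000000000000000000000000000020010000000000000000000000000000000000000000000000000000000000000000000000000000000804000000000000000000000000000000000000000000000000000000000000000000000000000000042000000000000000000000000000000000000000000000000000000000000000000000000007fc00001a9382141a5c91992e1000280a018000000001a9382141a5c91992e1000280a018000000000000000652805890582680680ac49018100706000000652805890582680680ac49018100706000000000000080447822e0210660504014c2008e0f810000080447822e0210660504014c2008e0f81000000000000000000000000000000000000000000000000000000000000000000000000000000000000000000001000000400000000000000000000000000000000000000000000000000000000000000000000000000000000000000000000000000000000000000000000000000000000000001000000000000000000000000000000000000000000000000000000000000000000000000000000000000000000000008000000000000000000000000000000000000000000000000000000000000000000000000000000000000008)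

theorem z_T111_s9_F : Frame 324 (grp 324 y_E0) 5 23 z_T111_s9_O 0 1 :=
  Stab.frame z_hn z_T111_s9 (by decide +kernel)

noncomputable def yt_c2_cnt_L : List ℕ := [1, 4, z_T111_s1_O, 0, 0, 3, 9, z_T111_s3_O, 0, 0, 4, 19, z_T111_s4_O, 0, 0, 5, 23, z_T111_s9_O, 0, 0, 6, 11, z_T111_s10_O, 0, 0, 7, 13, z_T111_s11_O, 0, 0, 8, 17, z_T111_s12_O, 1, 0]

theorem yt_c2_cnt_P : Prob 324 9 (grp 324 y_E0) yt_c2_cnt_EG [z_g144] [z_g144] yt_c2_K yt_c2_cnt_L 0 0 :=
  Sym.prob z_hn z_hk yt_c2_sym yt_c2_cnt_EG_ok (grp_cons_le z_g39_z_T111 (grp_cons_le zg1_z_T111 (grp_cons_le zg3_z_T111 (grp_cons_le z_g43_z_T111 (grp_cons_le z_g42_z_T111 (grp_cons_le zg2_z_T111 (grp_cons_le z_g44_z_T111 (grp_cons_le z_g54_z_T111 (grp_cons_le z_g55_z_T111 (grp_cons_le z_g49_z_T111 (grp_cons_le z_g50_z_T111 (grp_cons_le z_g51_z_T111 (grp_cons_le z_g62_z_T111 (grp_cons_le z_g58_z_T111 (grp_cons_le z_g59_z_T111 (grp_cons_le z_g65_z_T111 (grp_cons_le z_g66_z_T111 (grp_cons_le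 z_g67_z_T111 (grp_cons_le z_g77_z_T111 (grp_cons_le z_g78_z_T111 (grp_cons_le z_g72_z_T111 (grp_cons_le z_g73_z_T111 (grp_cons_le z_g74_z_T111 (grp_cons_le z_g81_z_T111 (grp_cons_le z_g82_z_T111 (grp_cons_le z_g87_z_T111 (grp_cons_le zg0_z_T111 (grp_cons_le z_g91_z_T111 (grp_cons_le z_g28_z_T111 (grp_cons_le z_g88_z_T111 (grp_cons_le z_g126_z_T111 (grp_cons_le z_g127_z_T111 (grp_cons_le z_g128_z_T111 (grp_cons_le z_g129_z_T111 (grp_cons_le z_g130_z_T111 (grp_cons_le z_g131_z_T111 (grp_cons_le z_g132_z_T111 (grp_cons_le z_g133_z_T111 (grp_cons_le z_g134_z_T111 (grp_cons_le z_g135_z_T111 (grp_cons_le z_g154_z_T111 (grp_cons_le z_g155_z_T111 (grp_cons_le z_g156_z_T111 (grp_cons_le z_g157_z_T111 (grp_cons_le z_g158_z_T111 (grp_nil_le _)))))))))))))))))))))))))))))))))))))))))))))) (Frames.cons z_T111_s1_F (Frames.cons z_T111_s3_F (Frames.cons z_T111_s4_F (Frames.cons z_T111_s9_F (Frames.cons z_T111_s10_F (Frames.cons z_T111_s11_F (Frames.cons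 z_T111_s12_F Frames.nil))))))) (okE_cons.2 ⟨z_g144_ok, okE_nil _⟩) _

noncomputable def yt_c2_cnt_t : BT := (BT.fix (nat_lit 1) (BT.br (nat_lit 0) (nat_lit 28) [nat_lit 1, nat_lit 3] (BT.dead (nat_lit 89) (BT.frm (nat_lit 0) (nat_lit 68869) (nat_lit 66823) [nat_lit 0] (BT.pln (nat_lit 0) (nat_lit 2) (BT.and (nat_lit 0) (nat_lit 3) (BT.cnt (nat_lit 0))))) (BT.kid (nat_lit 28) (nat_lit 3456) (BT.frm (nat_lit 0) (nat_lit 68869) (nat_lit 68869) [nat_lit 0] (BT.pln (nat_lit 0) (nat_lit 2) (BT.dif (nat_lit 0) (nat_lit 3) (BT.br (nat_lit 0) (nat_lit 216) [nat_lit 3, nat_lit 5] (BT.kid (nat_lit 216) (nat_lit 216) (BT.img (nat_lit 1) (nat_lit 0) (BT.frm (nat_lit 1) (nat_lit 0x3d413d0d010d05) (nat_lit 0x3d413d0d010d05) [nat_lit 0, nat_lit 1, nat_lit 5] (BT.pln (nat_lit 0) (nat_lit 6) (BT.and (nat_lit 4) (nat_lit 0) (BT.br (nat_lit 0) (nat_lit 31) [nat_lit 5] (BT.dead (nat_lit 51) (BT.frm (nat_lit 2) (nat_lit 0x3d413d0d010d05) (nat_lit 0x3f423d413d0d010d05)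 [nat_lit 0, nat_lit 4, nat_lit 5, nat_lit 9] (BT.pln (nat_lit 0) (nat_lit 7) (BT.and (nat_lit 0) (nat_lit 12) (BT.cnt (nat_lit 0))))) (BT.kid (nat_lit 31) (nat_lit 72) (BT.dif (nat_lit 6) (nat_lit 2) (BT.pln (nat_lit 4) (nat_lit 4) (BT.and (nat_lit 1) (nat_lit 0) (BT.frm (nat_lit 2) (nat_lit 0x3d413d0d010d05) (nat_lit 0x3d413d0d010d05) [nat_lit 3, nat_lit 7, nat_lit 8, nat_lit 12] (BT.pln (nat_lit 0) (nat_lit 7) (BT.and (nat_lit 15) (nat_lit 0) (BT.frm (nat_lit 3) (nat_lit 0x434c3d413d0d010d05) (nat_lit 0x434c3d413d0d010d05) [nat_lit 0, nat_lit 6, nat_lit 10, nat_lit 11, nat_lit 15] (BT.pln (nat_lit 0) (nat_lit 16) (BT.and (nat_lit 5) (nat_lit 0) (BT.br (nat_lit 0) (nat_lit 245) [nat_lit 7] (BT.kid (nat_lit 245) (nat_lit 36) (BT.dif (nat_lit 20) (nat_lit 17) (BT.pln (nat_lit 14) (nat_lit 7) (BT.and (nat_lit 1) (nat_lit 0) (BT.br (nat_lit 0) (nat_lit 39) [nat_lit 9] (BT.kid (nat_lit 39) (nat_lit 18) (BT.pln (nat_lit 10) (nat_lit 6) (BT.frm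 (nat_lit 4) (nat_lit 0x51434c3d413d0d010d05) (nat_lit 0x51434c3d413d0d010d05) [nat_lit 5, nat_lit 9, nat_lit 15, nat_lit 19, nat_lit 20, nat_lit 24] (BT.pln (nat_lit 0) (nat_lit 6) (BT.dif (nat_lit 2) (nat_lit 0) (BT.frm (nat_lit 5) (nat_lit 0x5351434c3d413d0d010d05) (nat_lit 0x5351434c3d413d0d010d05) [nat_lit 4, nat_lit 8, nat_lit 12, nat_lit 18, nat_lit 22, nat_lit 23, nat_lit 27] (BT.pln (nat_lit 0) (nat_lit 8) (BT.dif (nat_lit 2) (nat_lit 0) (BT.br (nat_lit 0) (nat_lit 56) [nat_lit 11, nat_lit 13, nat_lit 15] (BT.kid (nat_lit 56) (nat_lit 1) (BT.one (nat_lit 6) (nat_lit 0x5658595351434c3d413d0d010d05) (nat_lit 0x5658595351434c3d413d0d010d05) [nat_lit 0, nat_lit 8, nat_lit 12, nat_lit 16, nat_lit 22, nat_lit 26, nat_lit 27, nat_lit 31]) BT.nil))))))))) BT.nil))))) BT.nil))))))))))) BT.nil))))))) BT.nil))))) BT.nil))))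

theorem yt_c2_cnt : Cnt 324 (grp 324 y_E0) [z_g144] [z_g144] 0 0 0 0 62208 :=
  BT.sound yt_c2_cnt_P Known.nil (t := yt_c2_cnt_t) (d := 0) (by decide +kernel)

theorem yt_c2_ge : 62208 ≤ Nat.card (grp 324 yt_c2_K) :=
  Ch.le_card_grp (k := 9) (L := (lab 324 9)) z_hn yt_c2_K_ok (c := (Ch.cons (nat_lit 28) [nat_lit 1] (Ch.cons (nat_lit 216) [nat_lit 3] (Ch.cons (nat_lit 31) [nat_lit 5] (Ch.cons (nat_lit 245) [nat_lit 7] (Ch.cons (nat_lit 39) [nat_lit 9] (Ch.cons (nat_lit 56) [nat_lit 11, nat_lit 13, nat_lit 15] Ch.nil))))))) (by decide +kernel)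

theorem yt_c2_eq : (grp 324 y_E0) ⊓ Subgroup.centralizer {Net.toPerm 324 z_g144} = grp 324 yt_c2_K :=
  cent_eq yt_c2_sym yt_c2_cnt yt_c2_ge

theorem yt_c2_card : Nat.card ↥((grp 324 y_E0) ⊓ Subgroup.centralizer {Net.toPerm 324 z_g144}) = 62208 :=
  card_cent yt_c2_sym yt_c2_cnt yt_c2_ge

theorem yt_c2_ord : orderOf (Net.toPerm 324 z_g144) = 2 :=
  orderOf_net z_hn z_hk z_g144_ok (by decide) (ps := [2]) (by set_option linter.unusedSimpArgs false in simp [Nat.primeFactorsList_ofNat]) (by decide +kernel)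

theorem z_le173 : grp 324 yt_c3_K ≤ grp 324 y_E0 :=
  grp_le_of_memB z_hn z_hk y_E0_ok yt_c3_K_ok (ws := [nat_lit 0x33353c26281c12070a010e1c, nat_lit 0x33392f271f192015010f01, nat_lit 0x3c2f281f1915070a0307, nat_lit 0x34392f261f192108013802, nat_lit 0x3c2f271f1a1d1207013c02, nat_lit 0x38251f1d1f, nat_lit 0x3439291a1d15070a, nat_lit 0x33271f19201208]) (by decide +kernel)

theorem yt_c3_le : grp 324 yt_c3_K ≤ (grp 324 y_E0) :=
  (z_le173.trans z_T111_s0.le)

theorem yt_c3_mem : Net.toPerm 324 z_g164 ∈ (grp 324 y_E0) :=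
  yt_c3_le (mem_grp_of_memB z_hn z_hk yt_c3_K_ok z_g164_ok (w := (nat_lit 1799)) (by decide +kernel))

theorem yt_c3_sym : Sym 324 (grp 324 y_E0) [z_g164] yt_c3_K 0 :=
  Sym.of_lab z_hn z_hk (okE_cons.2 ⟨z_g164_ok, okE_nil _⟩) yt_c3_K_ok yt_c3_le (kT := 0) (by decide +kernel)

theorem z_le180 : grp 324 z_V179 ≤ grp 324 z_V136 :=
  grp_le_of_memB z_hn z_hk z_V136_ok z_V179_ok (ws := [nat_lit 0x90b07060105, nat_lit 0x1012130a0b070206, nat_lit 0xf12130d0a0b060105, nat_lit 0xf110106, nat_lit 0x10120d0a0c0705010501, nat_lit 0x1011130d090c07060105]) (by decide +kernel)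

theorem z_T111_s13 : Stab 324 (grp 324 y_E0) [nat_lit 26, nat_lit 298, nat_lit 0] z_V179 1728 :=
  Stab.step (k := 9) (L := (lab 324 9)) z_hn z_T111_s2 z_V179_ok z_le180 (c := (Ch.cons (nat_lit 10) [nat_lit 1] (Ch.cons (nat_lit 21) [nat_lit 3] (Ch.cons (nat_lit 12) [nat_lit 5] (Ch.cons (nat_lit 7) [nat_lit 7] (Ch.cons (nat_lit 69) [nat_lit 9] (Ch.cons (nat_lit 250) [nat_lit 11] Ch.nil))))))) (by decide +kernel)

theorem z_T111_s14 : Stab 324 (grp 324 y_E0) [nat_lit 10, nat_lit 26, nat_lit 298, nat_lit 0] z_V181 192 :=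
  Stab.step (k := 9) (L := (lab 324 9)) z_hn z_T111_s13 z_V181_ok (grp_mono (List.subset_append_right [z_g174] _)) (c := (Ch.cons (nat_lit 21) [nat_lit 1] (Ch.cons (nat_lit 12) [nat_lit 3] (Ch.cons (nat_lit 7) [nat_lit 5] (Ch.cons (nat_lit 69) [nat_lit 7] (Ch.cons (nat_lit 250) [nat_lit 9] Ch.nil)))))) (by decide +kernel)

theorem z_T111_s15 : Stab 324 (grp 324 y_E0) [nat_lit 21, nat_lit 10, nat_lit 26, nat_lit 298, nat_lit 0] z_V182 24 :=
  Stab.step (k := 9) (L := (lab 324 9)) z_hn z_T111_s14 z_V182_ok (grp_mono (List.subset_append_right [z_g175] _)) (c := (Ch.cons (nat_lit 12) [nat_lit 1] (Ch.cons (nat_lit 7) [nat_lit 3] (Ch.cons (nat_lit 69) [nat_lit 5] (Ch.cons (nat_lit 250) [nat_lit 7] Ch.nil))))) (by decide +kernel)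

theorem z_T111_s16 : Stab 324 (grp 324 y_E0) [nat_lit 12, nat_lit 21, nat_lit 10, nat_lit 26, nat_lit 298, nat_lit 0] z_V183 12 :=
  Stab.step (k := 9) (L := (lab 324 9)) z_hn z_T111_s15 z_V183_ok (grp_mono (List.subset_append_right [z_g176] _)) (c := (Ch.cons (nat_lit 7) [nat_lit 1] (Ch.cons (nat_lit 69) [nat_lit 3] (Ch.cons (nat_lit 250) [nat_lit 5] Ch.nil)))) (by decide +kernel)

theorem z_T111_s17 : Stab 324 (grp 324 y_E0) [nat_lit 7, nat_lit 12, nat_lit 21, nat_lit 10, nat_lit 26, nat_lit 298, nat_lit 0] z_V184 6 :=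
  Stab.step (k := 9) (L := (lab 324 9)) z_hn z_T111_s16 z_V184_ok (grp_mono (List.subset_append_right [z_g177] _)) (c := (Ch.cons (nat_lit 69) [nat_lit 1] (Ch.cons (nat_lit 250) [nat_lit 3] Ch.nil))) (by decide +kernel)

theorem z_T111_s18 : Stab 324 (grp 324 y_E0) [nat_lit 69, nat_lit 7, nat_lit 12, nat_lit 21, nat_lit 10, nat_lit 26, nat_lit 298, nat_lit 0] z_V185 3 :=
  Stab.step (k := 9) (L := (lab 324 9)) z_hn z_T111_s17 z_V185_ok (grp_mono (List.subset_append_right [z_g30] _)) (c := (Ch.cons (nat_lit 250) [nat_lit 1] Ch.nil)) (by decide +kernel)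

theorem z_T111_s19 : Stab 324 (grp 324 y_E0) [nat_lit 250, nat_lit 69, nat_lit 7, nat_lit 12, nat_lit 21, nat_lit 10, nat_lit 26, nat_lit 298, nat_lit 0] z_V186 1 :=
  Stab.step (k := 9) (L := (lab 324 9)) z_hn z_T111_s18 z_V186_ok (grp_mono (List.subset_append_right [z_g178] _)) (c := Ch.nil) (by decide +kernel)

theorem z_g175_z_T111 : Net.toPerm 324 z_g175 ∈ (grp 324 y_E0) :=
  z_T111_s14.le (toPerm_mem_grp (E := z_V181) (List.Mem.head _))

theorem z_g176_z_T111 : Net.toPerm 324 z_g176 ∈ (grp 324 y_E0) :=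
  z_T111_s14.le (toPerm_mem_grp (E := z_V181) (List.Mem.tail _ (List.Mem.head _)))

theorem z_g177_z_T111 : Net.toPerm 324 z_g177 ∈ (grp 324 y_E0) :=
  z_T111_s14.le (toPerm_mem_grp (E := z_V181) (List.Mem.tail _ (List.Mem.tail _ (List.Mem.head _))))

theorem z_g30_z_T111 : Net.toPerm 324 z_g30 ∈ (grp 324 y_E0) :=
  z_T111_s14.le (toPerm_mem_grp (E := z_V181) (List.Mem.tail _ (List.Mem.tail _ (List.Mem.tail _ (List.Mem.head _)))))

theorem z_g178_z_T111 : Net.toPerm 324 z_g178 ∈ (grp 324 y_E0) :=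
  z_T111_s14.le (toPerm_mem_grp (E := z_V181) (List.Mem.tail _ (List.Mem.tail _ (List.Mem.tail _ (List.Mem.tail _ (List.Mem.head _))))))

theorem z_g174_z_T111 : Net.toPerm 324 z_g174 ∈ (grp 324 y_E0) :=
  z_T111_s13.le (toPerm_mem_grp (E := z_V179) (List.Mem.head _))

noncomputable def z_T111_s19_O : ℕ := (nat_lit 0xfffffffffffffffff000000000000000000000000000000000000000000000000000000000000000000000000000000000ffffffffffffffffffffffffffffffff00000000000000000000000000000000f0000000000000000ffffffffffffffff0000000000000000ffffffffffffffff00000000000000000ffffffff00000000ffffffff00000000ffffffff00000000ffffffff00000000ffffffff000000000ffff0000ffff0000ffff0000ffff0000ffff0000ffff0000ffff0000ffff0000ffff0000ffff00000ff00ff00ff00ff00ff00ff00ff00ff00ff00ff00ff00ff00ff00ff00ff00ff00ff00ff00ff00ff000f0f0f0f0f0f0f0f0f0f0f0f0f0f0f0f0f0f0f0f0f0f0f0f0f0f0f0f0f0f0f0f0f0f0f0f0f0f0f0f0cccccccccccccccccccccccccccccccccccccccccccccccccccccccccccccc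cccccccccccccccccccaaaaaaaaaaaaaaaaaaaaaaaaaaaaaaaaaaaaaaaaaaaaaaaaaaaaaaaaaaaaaaaaaaaaaaaaaaaaaaaaa000000000000000000000000000000000000000000000000000000000000000000000000000000001000000400000000000000000000000000000000000000000000000000000000000000000000000000000000000000000000000000000000000000000000000000000000000000000000000000004000000000000000000000000000000000000000000000000000000000000000000000000000000000000400000000000000000000000000000000000000000000000000000000000000000000000000000200000000000000000000000000000000000000000000000000000000000000000000000000000000001000000000000000000000000000000000000000000000000000000000000000000000000000000000080000000000000000000000000000000000000000000000000000000000000000200000000000000000000000000000000000400000000000000000000000000000000000000000000000000000000000000)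

theorem z_T111_s19_F : Frame 324 (grp 324 y_E0) 9 18 z_T111_s19_O 1 1 :=
  IsBase.frame z_T111_s19.isBase (by decide +kernel)

noncomputable def z_T111_s18_O : ℕ := (nat_lit 0x26ca6e3a8534b9fdc42d360965db67d07f87f2c07df0b6af02980000200041000000a1c5160100060c03591811a0146023bc26280fa741831428c8d3c020701102d27fdcfaffeffac0000a1c5160100060dec0bb3e7d8ee7e9b3b96b636d5bc4b87fcffb97c20a4940fd65ff6dcd000011fffe0000000000000b7f5a9b0e7dcfbb7d460a78fe88a656f8070001c937357d07901fdb230dee111fe01ffeae80000000c35f7dac1d47a29458a341f80af5a1fefc73680099efe06ec105e0ef60f95f41e1e0d81f15bcc00008d17f90829c7f75fad45ee7286df3aac23ea1e0e3710b46980839a7aa8c758f199993935c38104b1845d41d0f1578dea56804edcac5ed489b1b5455bd14cff2359b715654b49495d95554329cb33422a54000000000000000000000000000000000000000000000000000000000000000000000000000000001000000400000000000000000000000000000000000000000000000000000000000000000000000000000000000000000000000000000000000000000000000000000000000000000000000000004000000000000000000000000000000000000000000000000000000000000000000000000000000000000400000000000000000000000000000000000000000000000000000000000000000000000000000200000000000000000000000000000000000000000000000000000000000000000000000000000000001000000000000000000000000000000000000000000000000000000000000000000000000000000000080000000000000000000000000000000000000000000000000000000000000000200000000000000000)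

theorem z_T111_s18_F : Frame 324 (grp 324 y_E0) 8 15 z_T111_s18_O 0 1 :=
  Stab.frame z_hn z_T111_s18 (by decide +kernel)

noncomputable def z_T111_s17_O : ℕ := (nat_lit 0x100060845edb080530de956408660860d921f0428481145b70b72a2a319d40a48041020000a1c5163cfeb1e70200093fa81004a19c433c3fb541e11428c8ee8a40340d1c18e60ad2a1ef9befb00a1c5163cc0a106fe36ca4975fb9efdef43e28eaded9404200864b14fa1e8d154e6287614e39a204feb0c000003e10e22690baf872ac382916fbba0bd53829ae1da10fc6c09e0e31a9936b26a7e630dc4f1412fd4003e10e8c09b79520af22495d0c62affe4c056f857db22b4efb05173351e9c21a5cd81f1ccccf0f2a352610cbe8806abc01a5c3368fea4aa651de8b35d1574a6cdc31bd77104d1b1d03ad2dab6aa229cb308dc14a000000000000000000000000000000000000000000000000000000000000000000000000000000001000000400000000000000000000000000000000000000000000000000000000000000000000000000000000000000000000000000000000000000000000000000000000000000000000000000004000000000000000000000000000000000000000000000000000000000000000000000000000000000000400000000000000000000000000000000000000000000000000000000000000000000000000000200000000000000000000000000000000000000000000000000000000000000000000000000000000001000000000000000000000000000000000000000000000000000000000000000000000000000000000080)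

theorem z_T111_s17_F : Frame 324 (grp 324 y_E0) 7 14 z_T111_s17_O 0 1 :=
  Stab.frame z_hn z_T111_s17 (by decide +kernel)

noncomputable def z_T111_s15_O : ℕ := (nat_lit 0x1040200000000000000004000000000000000104020000000000bdc10e0204a4a0085109c963cc82602a8d42951428484185932b6ba09046401a006d1901000a1c516003eb1e9e15053e68ab4349c0200b69435b86b042000b86a0c84144f2b1932a64c04902eff821c510013fb5e51e8bb9b7fe5e2e81a1c71c1ab05568000848aedee034843c7db78ec011c3828eb06900006353ebbe14a19096629b1969c5947c2d770a4d4607bdb6d08678be61580c0ee33a486986aed28f4d2e08e2ab4000000000000000000000000000000000000000000000000000000000000000000000000000000001000000400000000000000000000000000000000000000000000000000000000000000000000000000000000000000000000000000000000000000000000000000000000000000000000000000004000000000000000000000000000000000000000000000000000000000000000000000000000000000000400000000000000000000000000000000000000000000000000000000000000000000000000000200000)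

theorem z_T111_s15_F : Frame 324 (grp 324 y_E0) 5 10 z_T111_s15_O 0 1 :=
  Stab.frame z_hn z_T111_s15 (by decide +kernel)

noncomputable def z_T111_s13_O : ℕ := (nat_lit 0x10402000000000000000040000000000000001040200000000008000000000000000000000000000000000000000000000000000000000000000000000000000000003fc0000000000000000000000000000000000000000000000000000000000000000000000000000000022ab400000000000000000000000000000000000000000000000000000000000000000000000000001d54a00000000000000000103a2043450001efffff00000000000000000103a2043450001efffff0000000000000000000000000000000000000000000000000000000000000000000000000000000000000001000000400000000000000000000000000000000000000000000000000000000000000000000000000000000000000000000000000000000000000000000000000000000000000000000000000004000000)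

theorem z_T111_s13_F : Frame 324 (grp 324 y_E0) 3 8 z_T111_s13_O 0 1 :=
  Stab.frame z_hn z_T111_s13 (by decide +kernel)

noncomputable def yt_c3_cnt_L : List ℕ := [1, 4, z_T111_s1_O, 0, 0, 3, 8, z_T111_s13_O, 0, 0, 5, 10, z_T111_s15_O, 0, 0, 7, 14, z_T111_s17_O, 0, 0, 8, 15, z_T111_s18_O, 0, 0, 9, 18, z_T111_s19_O, 1, 0]

theorem yt_c3_cnt_P : Prob 324 9 (grp 324 y_E0) yt_c3_cnt_EG [z_g164] [z_g164] yt_c3_K yt_c3_cnt_L 0 0 :=
  Sym.prob z_hn z_hk yt_c3_sym yt_c3_cnt_EG_ok (grp_cons_le z_g39_z_T111 (grp_cons_le zg1_z_T111 (grp_cons_le zg3_z_T111 (grp_cons_le z_g43_z_T111 (grp_cons_le z_g42_z_T111 (grp_cons_le zg2_z_T111 (grp_cons_le z_g44_z_T111 (grp_cons_le z_g54_z_T111 (grp_cons_le z_g55_z_T111 (grp_cons_le z_g49_z_T111 (grp_cons_le z_g50_z_T111 (grp_cons_le z_g51_z_T111 (grp_cons_le z_g62_z_T111 (grp_cons_le z_g58_z_T111 (grp_cons_le z_g59_z_T111 (grp_cons_le z_g65_z_T111 (grp_cons_le z_g66_z_T111 (grp_cons_le z_g67_z_T111 (grp_cons_le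 z_g77_z_T111 (grp_cons_le z_g78_z_T111 (grp_cons_le z_g72_z_T111 (grp_cons_le z_g73_z_T111 (grp_cons_le z_g74_z_T111 (grp_cons_le z_g81_z_T111 (grp_cons_le z_g82_z_T111 (grp_cons_le z_g87_z_T111 (grp_cons_le zg0_z_T111 (grp_cons_le z_g91_z_T111 (grp_cons_le z_g28_z_T111 (grp_cons_le z_g88_z_T111 (grp_cons_le z_g126_z_T111 (grp_cons_le z_g127_z_T111 (grp_cons_le z_g128_z_T111 (grp_cons_le z_g129_z_T111 (grp_cons_le z_g130_z_T111 (grp_cons_le z_g131_z_T111 (grp_cons_le z_g132_z_T111 (grp_cons_le z_g133_z_T111 (grp_cons_le z_g134_z_T111 (grp_cons_le z_g135_z_T111 (grp_cons_le z_g175_z_T111 (grp_cons_le z_g176_z_T111 (grp_cons_le z_g177_z_T111 (grp_cons_le z_g30_z_T111 (grp_cons_le z_g178_z_T111 (grp_cons_le z_g174_z_T111 (grp_nil_le _))))))))))))))))))))))))))))))))))))))))))))))) (Frames.cons z_T111_s1_F (Frames.cons z_T111_s13_F (Frames.cons z_T111_s15_F (Frames.cons z_T111_s17_F (Frames.cons z_T111_s18_F (Frames.cons z_T111_s19_F Frames.nil))))))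 (okE_cons.2 ⟨z_g164_ok, okE_nil _⟩) _

noncomputable def yt_c3_cnt_t : BT := (BT.fix (nat_lit 1) (BT.br (nat_lit 0) (nat_lit 3) [nat_lit 1, nat_lit 5] (BT.kid (nat_lit 3) (nat_lit 1152) (BT.frm (nat_lit 0) (nat_lit 785) (nat_lit 785) [nat_lit 0] (BT.pln (nat_lit 0) (nat_lit 2) (BT.and (nat_lit 3) (nat_lit 0) (BT.br (nat_lit 0) (nat_lit 232) [nat_lit 3] (BT.kid (nat_lit 232) (nat_lit 384) (BT.and (nat_lit 2) (nat_lit 5) (BT.dif (nat_lit 0) (nat_lit 1) (BT.br (nat_lit 0) (nat_lit 23) [nat_lit 5] (BT.kid (nat_lit 23) (nat_lit 192) (BT.frm (nat_lit 1) (nat_lit 0x3d0311) (nat_lit 0x3d0311) [nat_lit 0, nat_lit 3, nat_lit 7] (BT.pln (nat_lit 0) (nat_lit 6) (BT.and (nat_lit 7) (nat_lit 0) (BT.br (nat_lit 0) (nat_lit 18) [nat_lit 7, nat_lit 9] (BT.kid (nat_lit 18) (nat_lit 24) (BT.dif (nat_lit 9) (nat_lit 2) (BT.pln (nat_lit 4) (nat_lit 4) (BT.and (nat_lit 1) (nat_lit 0) (BT.dif (nat_lit 11) (nat_lit 10) (BT.dif (nat_lit 0) (nat_lit 8) (BT.frm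 (nat_lit 2) (nat_lit 0x51515c3d0311) (nat_lit 0x51515c3d0311) [nat_lit 5, nat_lit 0, nat_lit 9, nat_lit 12, nat_lit 16] (BT.pln (nat_lit 0) (nat_lit 9) (BT.and (nat_lit 4) (nat_lit 0) (BT.br (nat_lit 0) (nat_lit 7) [nat_lit 9] (BT.kid (nat_lit 7) (nat_lit 12) (BT.dif (nat_lit 2) (nat_lit 18) (BT.br (nat_lit 0) (nat_lit 8) [nat_lit 11] (BT.kid (nat_lit 8) (nat_lit 6) (BT.pln (nat_lit 5) (nat_lit 7) (BT.and (nat_lit 5) (nat_lit 0) (BT.pln (nat_lit 7) (nat_lit 5) (BT.and (nat_lit 1) (nat_lit 0) (BT.br (nat_lit 0) (nat_lit 84) [nat_lit 13] (BT.kid (nat_lit 84) (nat_lit 3) (BT.dif (nat_lit 31) (nat_lit 2) (BT.pln (nat_lit 11) (nat_lit 8) (BT.and (nat_lit 1) (nat_lit 0) (BT.pln (nat_lit 13) (nat_lit 6) (BT.dif (nat_lit 1) (nat_lit 0) (BT.dif (nat_lit 0) (nat_lit 9) (BT.frm (nat_lit 3) (nat_lit 0x51515c3d0311) (nat_lit 0x51515c3d0311) [nat_lit 11, nat_lit 13, nat_lit 22, nat_lit 17, nat_lit 26, nat_lit 29, nat_lit 33] (BT.pln (nat_lit 0) (nat_lit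 9) (BT.and (nat_lit 2) (nat_lit 0) (BT.frm (nat_lit 4) (nat_lit 0x51515c3d0311) (nat_lit 0x51515c3d0311) [nat_lit 9, nat_lit 14, nat_lit 16, nat_lit 25, nat_lit 20, nat_lit 29, nat_lit 32, nat_lit 36] (BT.pln (nat_lit 0) (nat_lit 9) (BT.and (nat_lit 2) (nat_lit 0) (BT.br (nat_lit 0) (nat_lit 196) [nat_lit 15] (BT.kid (nat_lit 196) (nat_lit 1) (BT.one (nat_lit 5) (nat_lit 0x51515c3d0311) (nat_lit 0x51515c3d0311) [nat_lit 0, nat_lit 13, nat_lit 18, nat_lit 20, nat_lit 29, nat_lit 24, nat_lit 33, nat_lit 36, nat_lit 40]) BT.nil)))))))))))))) BT.nil)))))) BT.nil))) BT.nil)))))))))) BT.nil))))) BT.nil)))) BT.nil))))) BT.nil)))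

theorem yt_c3_cnt : Cnt 324 (grp 324 y_E0) [z_g164] [z_g164] 0 0 0 0 41472 :=
  BT.sound yt_c3_cnt_P Known.nil (t := yt_c3_cnt_t) (d := 0) (by decide +kernel)

theorem yt_c3_ge : 41472 ≤ Nat.card (grp 324 yt_c3_K) :=
  Ch.le_card_grp (k := 9) (L := (lab 324 9)) z_hn yt_c3_K_ok (c := (Ch.cons (nat_lit 3) [nat_lit 1] (Ch.cons (nat_lit 232) [nat_lit 3] (Ch.cons (nat_lit 23) [nat_lit 5] (Ch.cons (nat_lit 18) [nat_lit 7] (Ch.cons (nat_lit 7) [nat_lit 9] (Ch.cons (nat_lit 8) [nat_lit 11] (Ch.cons (nat_lit 84) [nat_lit 13] (Ch.cons (nat_lit 196) [nat_lit 15] Ch.nil))))))))) (by decide +kernel)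

theorem yt_c3_eq : (grp 324 y_E0) ⊓ Subgroup.centralizer {Net.toPerm 324 z_g164} = grp 324 yt_c3_K :=
  cent_eq yt_c3_sym yt_c3_cnt yt_c3_ge

theorem yt_c3_card : Nat.card ↥((grp 324 y_E0) ⊓ Subgroup.centralizer {Net.toPerm 324 z_g164}) = 41472 :=
  card_cent yt_c3_sym yt_c3_cnt yt_c3_ge

theorem yt_c3_ord : orderOf (Net.toPerm 324 z_g164) = 2 :=
  orderOf_net z_hn z_hk z_g164_ok (by decide) (ps := [2]) (by set_option linter.unusedSimpArgs false in simp [Nat.primeFactorsList_ofNat]) (by decide +kernel)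

theorem z_le197 : grp 324 yt_c4_K ≤ grp 324 y_E0 :=
  grp_le_of_memB z_hn z_hk y_E0_ok yt_c4_K_ok (ws := [nat_lit 0x353c2f2919221a070c0539, nat_lit 0x3435271f1a250f12070a, nat_lit 0x33353c25281f1a1d1108020c, nat_lit 0x333b261f191b1b120715030f, nat_lit 0x3538291f191f0f010e1c, nat_lit 0x35251f191c11071501033c, nat_lit 0x353c2f262819221a12021202, nat_lit 0x34352819201c012502, nat_lit 0x3825281b1a120801010b]) (by decide +kernel)

theorem yt_c4_le : grp 324 yt_c4_K ≤ (grp 324 y_E0) :=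
  (z_le197.trans z_T111_s0.le)

theorem yt_c4_mem : Net.toPerm 324 z_g187 ∈ (grp 324 y_E0) :=
  yt_c4_le (mem_grp_of_memB z_hn z_hk yt_c4_K_ok z_g187_ok (w := (nat_lit 0xe110303)) (by decide +kernel))

theorem yt_c4_sym : Sym 324 (grp 324 y_E0) [z_g187] yt_c4_K 0 :=
  Sym.of_lab z_hn z_hk (okE_cons.2 ⟨z_g187_ok, okE_nil _⟩) yt_c4_K_ok yt_c4_le (kT := 0) (by decide +kernel)

theorem z_T111_s20 : Stab 324 (grp 324 y_E0) [nat_lit 2, nat_lit 0] z_V198 104976 :=
  Stab.step (k := 9) (L := (lab 324 9)) z_hn z_T111_s1 z_V198_ok (grp_mono (List.subset_append_right [z_g43, z_g42, zg2, z_g44] _)) (c := (Ch.cons (nat_lit 9) [nat_lit 1, nat_lit 3, nat_lit 5, nat_lit 7, nat_lit 9] (Ch.cons (nat_lit 1) [nat_lit 11, nat_lit 13, nat_lit 15] (Ch.cons (nat_lit 3) [nat_lit 17, nat_lit 19, nat_lit 21] (Ch.cons (nat_lit 18) [nat_lit 23, nat_lit 25, nat_lit 27, nat_lit 29, nat_lit 31] (Ch.cons (nat_lit 24) [nat_lit 33, nat_lit 35] (Ch.cons (nat_lit 28) [nat_lit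 37, nat_lit 39, nat_lit 41, nat_lit 43, nat_lit 45] Ch.nil))))))) (by decide +kernel)

theorem z_T111_s21 : Stab 324 (grp 324 y_E0) [nat_lit 9, nat_lit 2, nat_lit 0] z_V199 17496 :=
  Stab.step (k := 9) (L := (lab 324 9)) z_hn z_T111_s20 z_V199_ok (grp_mono (List.subset_append_right [z_g54, z_g55, z_g49, z_g50, z_g51] _)) (c := (Ch.cons (nat_lit 1) [nat_lit 1, nat_lit 3, nat_lit 5] (Ch.cons (nat_lit 3) [nat_lit 7, nat_lit 9, nat_lit 11] (Ch.cons (nat_lit 18) [nat_lit 13, nat_lit 15, nat_lit 17, nat_lit 19, nat_lit 21] (Ch.cons (nat_lit 24) [nat_lit 23, nat_lit 25] (Ch.cons (nat_lit 28) [nat_lit 27, nat_lit 29, nat_lit 31, nat_lit 33, nat_lit 35] Ch.nil)))))) (by decide +kernel)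

theorem z_T111_s22 : Stab 324 (grp 324 y_E0) [nat_lit 1, nat_lit 9, nat_lit 2, nat_lit 0] z_V200 648 :=
  Stab.step (k := 9) (L := (lab 324 9)) z_hn z_T111_s21 z_V200_ok (grp_mono (List.subset_append_right [z_g62, z_g58, z_g59] _)) (c := (Ch.cons (nat_lit 3) [nat_lit 1, nat_lit 3, nat_lit 5] (Ch.cons (nat_lit 18) [nat_lit 7, nat_lit 9, nat_lit 11, nat_lit 13, nat_lit 15] (Ch.cons (nat_lit 24) [nat_lit 17, nat_lit 19] (Ch.cons (nat_lit 28) [nat_lit 21, nat_lit 23, nat_lit 25, nat_lit 27, nat_lit 29] Ch.nil))))) (by decide +kernel)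

theorem z_T111_s23 : Stab 324 (grp 324 y_E0) [nat_lit 3, nat_lit 1, nat_lit 9, nat_lit 2, nat_lit 0] z_V201 324 :=
  Stab.step (k := 9) (L := (lab 324 9)) z_hn z_T111_s22 z_V201_ok (grp_mono (List.subset_append_right [z_g65, z_g66, z_g67] _)) (c := (Ch.cons (nat_lit 18) [nat_lit 1, nat_lit 3, nat_lit 5, nat_lit 7, nat_lit 9] (Ch.cons (nat_lit 24) [nat_lit 11, nat_lit 13] (Ch.cons (nat_lit 28) [nat_lit 15, nat_lit 17, nat_lit 19, nat_lit 21, nat_lit 23] Ch.nil)))) (by decide +kernel)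

theorem z_T111_s24 : Stab 324 (grp 324 y_E0) [nat_lit 18, nat_lit 3, nat_lit 1, nat_lit 9, nat_lit 2, nat_lit 0] z_V202 36 :=
  Stab.step (k := 9) (L := (lab 324 9)) z_hn z_T111_s23 z_V202_ok (grp_mono (List.subset_append_right [z_g77, z_g78, z_g72, z_g73, z_g74] _)) (c := (Ch.cons (nat_lit 24) [nat_lit 1, nat_lit 3] (Ch.cons (nat_lit 28) [nat_lit 5, nat_lit 7, nat_lit 9, nat_lit 11, nat_lit 13] Ch.nil))) (by decide +kernel)

theorem z_T111_s25 : Stab 324 (grp 324 y_E0) [nat_lit 24, nat_lit 18, nat_lit 3, nat_lit 1, nat_lit 9, nat_lit 2, nat_lit 0] z_V203 18 :=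
  Stab.step (k := 9) (L := (lab 324 9)) z_hn z_T111_s24 z_V203_ok (grp_mono (List.subset_append_right [z_g81, z_g82] _)) (c := (Ch.cons (nat_lit 28) [nat_lit 1, nat_lit 3, nat_lit 5, nat_lit 7, nat_lit 9] Ch.nil)) (by decide +kernel)

theorem z_le205 : grp 324 z_V204 ≤ grp 324 z_V203 :=
  grp_le_of_memB z_hn z_hk z_V203_ok z_V204_ok (ws := []) (by decide +kernel)

theorem z_T111_s26 : Stab 324 (grp 324 y_E0) [nat_lit 309, nat_lit 24, nat_lit 18, nat_lit 3, nat_lit 1, nat_lit 9, nat_lit 2, nat_lit 0] z_V204 1 :=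
  Stab.step (k := 9) (L := (lab 324 9)) z_hn z_T111_s25 z_V204_ok z_le205 (c := Ch.nil) (by decide +kernel)

noncomputable def z_T111_s26_O : ℕ := (nat_lit 0xfffffffffffffffff000000000000000000000000000000000000000000000000000000000000000000000000000000000ffffffffffffffffffffffffffffffff00000000000000000000000000000000f0000000000000000ffffffffffffffff0000000000000000ffffffffffffffff00000000000000000ffffffff00000000ffffffff00000000ffffffff00000000ffffffff00000000ffffffff000000000ffff0000ffff0000ffff0000ffff0000ffff0000ffff0000ffff0000ffff0000ffff0000ffff00000ff00ff00ff00ff00ff00ff00ff00ff00ff00ff00ff00ff00ff00ff00ff00ff00ff00ff00ff00ff000f0f0f0f0f0f0f0f0f0f0f0f0f0f0f0f0f0f0f0f0f0f0f0f0f0f0f0f0f0f0f0f0f0f0f0f0f0f0f0f0cccccccccccccccccccccccccccccccccccccccccccccccccccccccccccccccccccccccccccccccccaaaaaaaaaaaaaaaaaaaaaaaaaaaaaaaaaaaaaaaaaaaaaaaaaaaaaaaaaaaaaaaaaaaaaaaaaaaaaaaaa0000000000000000000000000000000000000000000000000000000000000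00000000000000000001000000000000000000000000000000000000000000000000000000000000000000000000000000004000000000000000000000000000000000000000000000000000000000000000000000000000000200000000000000000000000000000000000000000000000000000000000000000000000000000000002000000000000000000000000000000000000000000000000000000000000000000000000000000008000000000000000000000000000000000000000000000000000000000000000000000000000040000000000000000000000000000000000000000000000000000000000000000000000000000001000000000200000000000000000000000000000000000000000000000000000000000000000000000000000)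

theorem z_T111_s26_F : Frame 324 (grp 324 y_E0) 8 17 z_T111_s26_O 1 1 :=
  IsBase.frame z_T111_s26.isBase (by decide +kernel)

noncomputable def z_T111_s25_O : ℕ := (nat_lit 0x6e000000000004000000000000000104020000000000000000400000000000000010402000000000081bfdf09fb3c6bdbfddd9fd3e7405e90b858e00000009fb3c6bdbfddd9fd3e7405e90b858e000000001bf00075fcbf8b5dae6f1ee4bc59238b0a71e10000075fcbf8b5dae6f1ee4bc59238b0a71e10000041b0d801a1fb39542f4bf95af2eeb0d3053a14cc06881a1fb39542f4bf95af2eeb0d3053a14cc0688298cc60f894b200da6f87fb37d3a268ba435930260f2f894b200da6f87fb37d3a268ba435930260f2252a950000000000000000000000000000000000000000000000000000000000000000000000000000000001000000000000000000000000000000000000000000000000000000000000000000000000000000004000000000000000000000000000000000000000000000000000000000000000000000000000000200000000000000000000000000000000000000000000000000000000000000000000000000000000002000000000000000000000000000000000000000000000000000000000000000000000000000000008000000000000000000000000000000000000000000000000000000000000000000000000000040000000000000000000000000000000000000000000000000000000000000000000000000000001000000)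

theorem z_T111_s25_F : Frame 324 (grp 324 y_E0) 7 13 z_T111_s25_O 0 1 :=
  Stab.frame z_hn z_T111_s25 (by decide +kernel)

noncomputable def z_T111_s24_O : ℕ := (nat_lit 0x3fd8000000040000000000000001040200000000000000004000000000000000104020000000000ffb00709fb7b69ddffddffd3e7401690b038900000009fb7b69ddffddffd3e7401690b03890000000440f07075f8cfab3d8e691ee4bc5da38b8c76e10000075f8cfab3d8e691ee4bc5da38b8c76e100000330cc607a9b83141a5eb19baf9bea28ba41f070260f27a9b83141a5eb19baf9bea28ba41f070260f22aaa950000000000000000000000000000000000000000000000000000000000000000000000000000000001000000000000000000000000000000000000000000000000000000000000000000000000000000004000000000000000000000000000000000000000000000000000000000000000000000000000000200000000000000000000000000000000000000000000000000000000000000000000000000000000002000000000000000000000000000000000000000000000000000000000000000000000000000000008000000000000000000000000000000000000000000000000000000000000000000000000000040000)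

theorem z_T111_s24_F : Frame 324 (grp 324 y_E0) 6 11 z_T111_s24_O 0 1 :=
  Stab.frame z_hn z_T111_s24 (by decide +kernel)

noncomputable def z_T111_s22_O : ℕ := (nat_lit 0x2000000000000000000000000000000000000000000000000000000000000000000000000000000000200000000000000000000000000000000000000000000000000000000000000000000000000000000080000000000000000000000000000000000000000000000000000000000000000000000000000000008000000000000000000000000000000000000000000000000000000000000000000000000000000002000000000000000000000000000000000000000000000000000000000000000000000000000000001000000000000000000000000000000000000000000000000000000000000000000000000000001800000000000000000000000000000000000000000000000000000000000000000000000000000000440000000000000000000000000000000000000000000000000000000000000000000000000000000110000000000000000000000000000000000000000000000000000000000000000000000000000000004800000040000000000000001040200000000000000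0040000000000000001040200000000008000000000000000000000000000000000000000000000000000000000000000000000000000000007fc00001a9382141a5c91992e1000280a018000000001a9382141a5c91992e1000280a018000000000000000652805890582680680ac49018100706000000652805890582680680ac49018100706000000000000080447822e0210660504014c2008e0f810000080447822e0210660504014c2008e0f81000000000000000000000000000000000000000000000000000000000000000000000000000000000000000000001000000000000000000000000000000000000000000000000000000000000000000000000000000004000000000000000000000000000000000000000000000000000000000000000000000000000000200000000000000000000000000000000000000000000000000000000000000000000000000000000002)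

theorem z_T111_s22_F : Frame 324 (grp 324 y_E0) 4 19 z_T111_s22_O 0 1 :=
  Stab.frame z_hn z_T111_s22 (by decide +kernel)

noncomputable def z_T111_s20_O : ℕ := (nat_lit 0x8000000000000000000000000000000000000000000000000000000000000000000000000000000222b000000040000000000000001040200000000000000004000000000000000104020000000000ffdd54a00000000000000000103a2043450001efffff00000000000000000103a2043450001efffff0000000000000000000000000000000000000000000000000000000000000000000000000000000000000001000000000000000000000000000000000000000000000000000000000000000000000000000000004)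

theorem z_T111_s20_F : Frame 324 (grp 324 y_E0) 2 6 z_T111_s20_O 0 1 :=
  Stab.frame z_hn z_T111_s20 (by decide +kernel)

noncomputable def yt_c4_cnt_L : List ℕ := [1, 4, z_T111_s1_O, 0, 0, 2, 6, z_T111_s20_O, 0, 0, 4, 19, z_T111_s22_O, 0, 0, 6, 11, z_T111_s24_O, 0, 0, 7, 13, z_T111_s25_O, 0, 0, 8, 17, z_T111_s26_O, 1, 0]

theorem yt_c4_cnt_P : Prob 324 9 (grp 324 y_E0) yt_c4_cnt_EG [z_g187] [z_g187] yt_c4_K yt_c4_cnt_L 0 0 :=
  Sym.prob z_hn z_hk yt_c4_sym yt_c4_cnt_EG_ok (grp_cons_le z_g39_z_T111 (grp_cons_le zg1_z_T111 (grp_cons_le zg3_z_T111 (grp_cons_le z_g43_z_T111 (grp_cons_le z_g42_z_T111 (grp_cons_le zg2_z_T111 (grp_cons_le z_g44_z_T111 (grp_cons_le z_g54_z_T111 (grp_cons_le z_g55_z_T111 (grp_cons_le z_g49_z_T111 (grp_cons_le z_g50_z_T111 (grp_cons_le z_g51_z_T111 (grp_cons_le z_g62_z_T111 (grp_cons_le z_g58_z_T111 (grp_cons_le z_g59_z_T111 (grp_cons_le z_g65_z_T111 (grp_cons_le z_g66_z_T111 (grp_cons_le z_g67_z_T111 (grp_cons_le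 z_g77_z_T111 (grp_cons_le z_g78_z_T111 (grp_cons_le z_g72_z_T111 (grp_cons_le z_g73_z_T111 (grp_cons_le z_g74_z_T111 (grp_cons_le z_g81_z_T111 (grp_cons_le z_g82_z_T111 (grp_cons_le z_g87_z_T111 (grp_cons_le zg0_z_T111 (grp_cons_le z_g91_z_T111 (grp_cons_le z_g28_z_T111 (grp_cons_le z_g88_z_T111 (grp_nil_le _))))))))))))))))))))))))))))))) (Frames.cons z_T111_s1_F (Frames.cons z_T111_s20_F (Frames.cons z_T111_s22_F (Frames.cons z_T111_s24_F (Frames.cons z_T111_s25_F (Frames.cons z_T111_s26_F Frames.nil)))))) (okE_cons.2 ⟨z_g187_ok, okE_nil _⟩) _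

noncomputable def yt_c4_cnt_t : BT := (BT.fix (nat_lit 1) (BT.br (nat_lit 0) (nat_lit 60) [nat_lit 1, nat_lit 3] (BT.dead (nat_lit 126) (BT.frm (nat_lit 0) (nat_lit 67636) (nat_lit 1317) [nat_lit 0] (BT.pln (nat_lit 0) (nat_lit 2) (BT.and (nat_lit 0) (nat_lit 3) (BT.cnt (nat_lit 0))))) (BT.kid (nat_lit 60) (nat_lit 3456) (BT.frm (nat_lit 0) (nat_lit 67636) (nat_lit 67636) [nat_lit 0] (BT.pln (nat_lit 0) (nat_lit 3) (BT.br (nat_lit 0) (nat_lit 210) [nat_lit 3, nat_lit 5] (BT.kid (nat_lit 210) (nat_lit 432) (BT.frm (nat_lit 1) (nat_lit 0x7010834) (nat_lit 0x7010834) [nat_lit 0, nat_lit 3] (BT.pln (nat_lit 0) (nat_lit 4) (BT.and (nat_lit 3) (nat_lit 0) (BT.br (nat_lit 0) (nat_lit 277) [nat_lit 5, nat_lit 7] (BT.kid (nat_lit 277) (nat_lit 72) (BT.pln (nat_lit 6) (nat_lit 2) (BT.dif (nat_lit 0) (nat_lit 9) (BT.br (nat_lit 0) (nat_lit 80) [nat_lit 9, nat_lit 11] (BT.dead (nat_lit 123) (BT.frm (nat_lit 2) (nat_lit 0x191b1b1507010834) (nat_lit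 0x19201c1507010834) [nat_lit 0, nat_lit 3, nat_lit 7, nat_lit 10] (BT.pln (nat_lit 0) (nat_lit 11) (BT.and (nat_lit 0) (nat_lit 13) (BT.cnt (nat_lit 0))))) (BT.dead (nat_lit 247) (BT.frm (nat_lit 2) (nat_lit 0x191b1b1507010834) (nat_lit 0x19201507010834) [nat_lit 0, nat_lit 3, nat_lit 7, nat_lit 10] (BT.pln (nat_lit 0) (nat_lit 7) (BT.and (nat_lit 0) (nat_lit 13) (BT.cnt (nat_lit 0))))) (BT.dead (nat_lit 54) (BT.frm (nat_lit 2) (nat_lit 0x191b1b1507010834) (nat_lit 0x191f1507010834) [nat_lit 0, nat_lit 3, nat_lit 7, nat_lit 10] (BT.pln (nat_lit 0) (nat_lit 7) (BT.and (nat_lit 0) (nat_lit 13) (BT.cnt (nat_lit 0))))) (BT.dead (nat_lit 94) (BT.frm (nat_lit 2) (nat_lit 0x191b1b1507010834) (nat_lit 0x19231507010834) [nat_lit 0, nat_lit 3, nat_lit 7, nat_lit 10] (BT.pln (nat_lit 0) (nat_lit 7) (BT.and (nat_lit 0) (nat_lit 13) (BT.cnt (nat_lit 0))))) (BT.dead (nat_lit 249) (BT.frm (nat_lit 2) (nat_lit 0x191b1b1507010834) (nat_lit 0x1b1a1507010834)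 [nat_lit 0, nat_lit 3, nat_lit 7, nat_lit 10] (BT.pln (nat_lit 0) (nat_lit 10) (BT.and (nat_lit 0) (nat_lit 13) (BT.cnt (nat_lit 0))))) (BT.dead (nat_lit 262) (BT.frm (nat_lit 2) (nat_lit 0x191b1b1507010834) (nat_lit 0x191c1507010834) [nat_lit 0, nat_lit 3, nat_lit 7, nat_lit 10] (BT.pln (nat_lit 0) (nat_lit 9) (BT.and (nat_lit 0) (nat_lit 13) (BT.cnt (nat_lit 0))))) (BT.dead (nat_lit 125) (BT.frm (nat_lit 2) (nat_lit 0x191b1b1507010834) (nat_lit 0x1b1507010834) [nat_lit 0, nat_lit 3, nat_lit 7, nat_lit 10] (BT.pln (nat_lit 0) (nat_lit 7) (BT.and (nat_lit 0) (nat_lit 13) (BT.cnt (nat_lit 0))))) (BT.kid (nat_lit 80) (nat_lit 36) (BT.frm (nat_lit 2) (nat_lit 0x191b1b1507010834) (nat_lit 0x191b1b1507010834) [nat_lit 0, nat_lit 3, nat_lit 7, nat_lit 10] (BT.pln (nat_lit 0) (nat_lit 7) (BT.and (nat_lit 3) (nat_lit 0) (BT.and (nat_lit 14) (nat_lit 1) (BT.pln (nat_lit 3) (nat_lit 9) (BT.and (nat_lit 7) (nat_lit 0) (BT.pln (nat_lit 5) (nat_lit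 10) (BT.and (nat_lit 9) (nat_lit 0) (BT.img (nat_lit 1) (nat_lit 0) (BT.dif (nat_lit 3) (nat_lit 0) (BT.frm (nat_lit 3) (nat_lit 0x2528191b1b1507010834) (nat_lit 0x2528191b1b1507010834) [nat_lit 6, nat_lit 0, nat_lit 10, nat_lit 13, nat_lit 17, nat_lit 20] (BT.pln (nat_lit 0) (nat_lit 6) (BT.dif (nat_lit 9) (nat_lit 0) (BT.pln (nat_lit 2) (nat_lit 7) (BT.and (nat_lit 1) (nat_lit 0) (BT.br (nat_lit 0) (nat_lit 94) [nat_lit 11] (BT.kid (nat_lit 94) (nat_lit 18) (BT.pln (nat_lit 5) (nat_lit 8) (BT.and (nat_lit 5) (nat_lit 0) (BT.dif (nat_lit 0) (nat_lit 4) (BT.dif (nat_lit 0) (nat_lit 27) (BT.frm (nat_lit 4) (nat_lit 0x2528191b1b1507010834) (nat_lit 0x2528191b1b1507010834) [nat_lit 4, nat_lit 16, nat_lit 10, nat_lit 20, nat_lit 23, nat_lit 27, nat_lit 30] (BT.pln (nat_lit 0) (nat_lit 7) (BT.dif (nat_lit 2) (nat_lit 0) (BT.br (nat_lit 0) (nat_lit 31) [nat_lit 13, nat_lit 15, nat_lit 17] (BT.kid (nat_lit 31) (nat_lit 1) (BT.one (nat_lit 5)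 (nat_lit 0x35382528191b1b1507010834) (nat_lit 0x35382528191b1b1507010834) [nat_lit 0, nat_lit 8, nat_lit 20, nat_lit 14, nat_lit 24, nat_lit 27, nat_lit 31, nat_lit 34]) BT.nil))))))))) BT.nil))))))))))))))))) BT.nil))))))))))) BT.nil))))) BT.nil)))) BT.nil))))

theorem yt_c4_cnt : Cnt 324 (grp 324 y_E0) [z_g187] [z_g187] 0 0 0 0 10368 :=
  BT.sound yt_c4_cnt_P Known.nil (t := yt_c4_cnt_t) (d := 0) (by decide +kernel)

theorem yt_c4_ge : 10368 ≤ Nat.card (grp 324 yt_c4_K) :=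
  Ch.le_card_grp (k := 9) (L := (lab 324 9)) z_hn yt_c4_K_ok (c := (Ch.cons (nat_lit 60) [nat_lit 1] (Ch.cons (nat_lit 210) [nat_lit 3] (Ch.cons (nat_lit 277) [nat_lit 5, nat_lit 7] (Ch.cons (nat_lit 80) [nat_lit 9] (Ch.cons (nat_lit 94) [nat_lit 11] (Ch.cons (nat_lit 31) [nat_lit 13, nat_lit 15, nat_lit 17] Ch.nil))))))) (by decide +kernel)

theorem yt_c4_eq : (grp 324 y_E0) ⊓ Subgroup.centralizer {Net.toPerm 324 z_g187} = grp 324 yt_c4_K :=
  cent_eq yt_c4_sym yt_c4_cnt yt_c4_ge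

theorem yt_c4_card : Nat.card ↥((grp 324 y_E0) ⊓ Subgroup.centralizer {Net.toPerm 324 z_g187}) = 10368 :=
  card_cent yt_c4_sym yt_c4_cnt yt_c4_ge

theorem yt_c4_ord : orderOf (Net.toPerm 324 z_g187) = 2 :=
  orderOf_net z_hn z_hk z_g187_ok (by decide) (ps := [2]) (by set_option linter.unusedSimpArgs false in simp [Nat.primeFactorsList_ofNat]) (by decide +kernel)

theorem z_le215 : grp 324 yt_c5_K ≤ grp 324 y_E0 :=
  grp_le_of_memB z_hn z_hk y_E0_ok yt_c5_K_ok (ws := [nat_lit 0x3525281a250f09031a, nat_lit 0x33353c2f25281a1e1109010d02, nat_lit 0x353c281c150801010b, nat_lit 0x34352f281f191b1b013b02, nat_lit 0x33382f191b1b11011d, nat_lit 0x343528022501, nat_lit 0x33382f2b1f1c0f070c031f, nat_lit 0x3335191e0f12070c010d02]) (by decide +kernel)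

theorem yt_c5_le : grp 324 yt_c5_K ≤ (grp 324 y_E0) :=
  (z_le215.trans z_T111_s0.le)

theorem yt_c5_mem : Net.toPerm 324 z_g206 ∈ (grp 324 y_E0) :=
  yt_c5_le (mem_grp_of_memB z_hn z_hk yt_c5_K_ok z_g206_ok (w := (nat_lit 0xf0b090805)) (by decide +kernel))

theorem yt_c5_sym : Sym 324 (grp 324 y_E0) [z_g206] yt_c5_K 0 :=
  Sym.of_lab z_hn z_hk (okE_cons.2 ⟨z_g206_ok, okE_nil _⟩) yt_c5_K_ok yt_c5_le (kT := 0) (by decide +kernel)

theorem z_le219 : grp 324 z_V218 ≤ grp 324 z_V202 :=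
  grp_le_of_memB z_hn z_hk z_V202_ok z_V218_ok (ws := [nat_lit 1793, nat_lit 1537]) (by decide +kernel)

theorem z_T111_s27 : Stab 324 (grp 324 y_E0) [nat_lit 226, nat_lit 18, nat_lit 3, nat_lit 1, nat_lit 9, nat_lit 2, nat_lit 0] z_V218 4 :=
  Stab.step (k := 9) (L := (lab 324 9)) z_hn z_T111_s24 z_V218_ok z_le219 (c := (Ch.cons (nat_lit 163) [nat_lit 1, nat_lit 3] Ch.nil)) (by decide +kernel)

theorem z_T111_s28 : Stab 324 (grp 324 y_E0) [nat_lit 163, nat_lit 226, nat_lit 18, nat_lit 3, nat_lit 1, nat_lit 9, nat_lit 2, nat_lit 0] z_V220 1 :=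
  Stab.step (k := 9) (L := (lab 324 9)) z_hn z_T111_s27 z_V220_ok (grp_mono (List.subset_append_right [z_g216, z_g217] _)) (c := Ch.nil) (by decide +kernel)

theorem z_g216_z_T111 : Net.toPerm 324 z_g216 ∈ (grp 324 y_E0) :=
  z_T111_s27.le (toPerm_mem_grp (E := z_V218) (List.Mem.head _))

theorem z_g217_z_T111 : Net.toPerm 324 z_g217 ∈ (grp 324 y_E0) :=
  z_T111_s27.le (toPerm_mem_grp (E := z_V218) (List.Mem.tail _ (List.Mem.head _)))

noncomputable def z_T111_s28_O : ℕ := (nat_lit 0xfffffffffffffffff000000000000000000000000000000000000000000000000000000000000000000000000000000000ffffffffffffffffffffffffffffffff00000000000000000000000000000000f0000000000000000ffffffffffffffff0000000000000000ffffffffffffffff00000000000000000ffffffff00000000ffffffff00000000ffffffff00000000ffffffff00000000ffffffff000000000ffff0000ffff0000ffff0000ffff0000ffff0000ffff0000ffff0000ffff0000ffff0000ffff00000ff00ff00ff00ff00ff00ff00ff00ff00ff00ff00ff00ff00ff00f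f00ff00ff00ff00ff00ff00ff000f0f0f0f0f0f0f0f0f0f0f0f0f0f0f0f0f0f0f0f0f0f0f0f0f0f0f0f0f0f0f0f0f0f0f0f0f0f0f0f0cccccccccccccccccccccccccccccccccccccccccccccccccccccccccccccccccccccccccccccccccaaaaaaaaaaaaaaaaaaaaaaaaaaaaaaaaaaaaaaaaaaaaaaaaaaaaaaaaaaaaaaaaaaaaaaaaaaaaaaaaa000000000000000000000000000000000000000000000000000000000000000000000000000000001000000000000000000000000000000000000000000000000000000000000000000000000000000004000000000000000000000000000000000000000000000000000000000000000000000000000000200000000000000000000000000000000000000000000000000000000000000000000000000000000002000000000000000000000000000000000000000000000000000000000000000000000000000000008000000000000000000000000000000000000000000000000000000000000000000000000000040000000000000000000000000000400000000000000000000000000000000000000000000000000000000000000000000000000000000000000000000000080000000000000000000000000000000000000000)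

theorem z_T111_s28_F : Frame 324 (grp 324 y_E0) 8 17 z_T111_s28_O 1 1 :=
  IsBase.frame z_T111_s28.isBase (by decide +kernel)

noncomputable def z_T111_s27_O : ℕ := (nat_lit 0x45000240158881012c1441158e200006000000298804000000000000000104020000000000ffbfdf03ab7099fca7376ba12e01808018bf6e000082dd677799ffbfddc59efd69e900000000000000000000929bbc8668655efcd26926ea018f8d0100000b8446ebef9c97bff600014028b8ffff000000003fdf028d1dd62ea372a7c0322087a20ac546894b61d1636b5da1eaa41abb8c40165fffe00f7e000ffbe0001dc1c5ee8fd60ea6f79c953f167437873e39bb4436e725821df38ba23b9946fe01e09610708021d00a544fb26f5e7b7e398cc09f100fbfd08b9c8aa2c47140e02716f8f4db2c760e1e198f99b4c66198c0cc8ca5da69a3fc05bc3a49109311dc19193db376a56efc3d1c89c89e5a34e8d2d956ed58aa55154a0000000000000000000000000000000000000000000000000000000000000000000000000000000001000000000000000000000000000000000000000000000000000000000000000000000000000000004000000000000000000000000000000000000000000000000000000000000000000000000000000200000000000000000000000000000000000000000000000000000000000000000000000000000000002000000000000000000000000000000000000000000000000000000000000000000000000000000008000000000000000000000000000000000000000000000000000000000000000000000000000040000000000000000000000000000400000000000000000000000000000000000000000000000000000000)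

theorem z_T111_s27_F : Frame 324 (grp 324 y_E0) 7 14 z_T111_s27_O 0 1 :=
  Stab.frame z_hn z_T111_s27 (by decide +kernel)

noncomputable def z_T111_s21_O : ℕ := (nat_lit 0x2000000000000000000000000000000000000000000000000000000000000000000000000000000000200000000000000000000000000000000000000000000000000000000000000000000000000000000080000000000000000000000000000000000000000000000000000000000000000000000000000000008000000000000000000000000000000000000000000000000000000000000000000000000000000002000000000000000000000000000000000000000000000000000000000000000000000000000000001000000040000000000000001040200000000000000004000000000000000104020000000000ffdd54a00000000000000000103a2043450001efffff00000000000000000103a2043450001efffff0000000000000000000000000000000000000000000000000000000000000000000000000000000000000001000000000000000000000000000000000000000000000000000000000000000000000000000000004000000000000000000000000000000000000000000000000000000000000000000000000000000200)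

theorem z_T111_s21_F : Frame 324 (grp 324 y_E0) 3 11 z_T111_s21_O 0 1 :=
  Stab.frame z_hn z_T111_s21 (by decide +kernel)

noncomputable def yt_c5_cnt_L : List ℕ := [1, 4, z_T111_s1_O, 0, 0, 3, 11, z_T111_s21_O, 0, 0, 4, 19, z_T111_s22_O, 0, 0, 7, 14, z_T111_s27_O, 0, 0, 8, 17, z_T111_s28_O, 1, 0]

theorem yt_c5_cnt_P : Prob 324 9 (grp 324 y_E0) yt_c5_cnt_EG [z_g206] [z_g206] yt_c5_K yt_c5_cnt_L 0 0 :=
  Sym.prob z_hn z_hk yt_c5_sym yt_c5_cnt_EG_ok (grp_cons_le z_g39_z_T111 (grp_cons_le zg1_z_T111 (grp_cons_le zg3_z_T111 (grp_cons_le z_g43_z_T111 (grp_cons_le z_g42_z_T111 (grp_cons_le zg2_z_T111 (grp_cons_le z_g44_z_T111 (grp_cons_le z_g54_z_T111 (grp_cons_le z_g55_z_T111 (grp_cons_le z_g49_z_T111 (grp_cons_le z_g50_z_T111 (grp_cons_le z_g51_z_T111 (grp_cons_le z_g62_z_T111 (grp_cons_le z_g58_z_T111 (grp_cons_le z_g59_z_T111 (grp_cons_le z_g65_z_T111 (grp_cons_le z_g66_z_T111 (grp_cons_le z_g67_z_T111 (grp_cons_le z_g77_z_T111 (grp_cons_le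 z_g78_z_T111 (grp_cons_le z_g72_z_T111 (grp_cons_le z_g73_z_T111 (grp_cons_le z_g74_z_T111 (grp_cons_le z_g81_z_T111 (grp_cons_le z_g82_z_T111 (grp_cons_le z_g87_z_T111 (grp_cons_le zg0_z_T111 (grp_cons_le z_g91_z_T111 (grp_cons_le z_g28_z_T111 (grp_cons_le z_g88_z_T111 (grp_cons_le z_g216_z_T111 (grp_cons_le z_g217_z_T111 (grp_nil_le _))))))))))))))))))))))))))))))))) (Frames.cons z_T111_s1_F (Frames.cons z_T111_s21_F (Frames.cons z_T111_s22_F (Frames.cons z_T111_s27_F (Frames.cons z_T111_s28_F Frames.nil))))) (okE_cons.2 ⟨z_g206_ok, okE_nil _⟩) _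

noncomputable def yt_c5_cnt_t : BT := (BT.fix (nat_lit 1) (BT.br (nat_lit 0) (nat_lit 56) [nat_lit 1, nat_lit 3, nat_lit 5] (BT.kid (nat_lit 56) (nat_lit 432) (BT.frm (nat_lit 0) (nat_lit 530) (nat_lit 530) [nat_lit 0] (BT.pln (nat_lit 0) (nat_lit 3) (BT.and (nat_lit 3) (nat_lit 0) (BT.br (nat_lit 0) (nat_lit 142) [nat_lit 3] (BT.kid (nat_lit 142) (nat_lit 216) (BT.dif (nat_lit 2) (nat_lit 5) (BT.br (nat_lit 0) (nat_lit 281) [nat_lit 5] (BT.dead (nat_lit 156) (BT.frm (nat_lit 1) (nat_lit 0xf12070a0212) (nat_lit 0x12070a0212) [nat_lit 0, nat_lit 2, nat_lit 6] (BT.pln (nat_lit 0) (nat_lit 5) (BT.img (nat_lit 1) (nat_lit 2) (BT.and (nat_lit 1) (nat_lit 0) (BT.cnt (nat_lit 0)))))) (BT.dead (nat_lit 122) (BT.frm (nat_lit 1) (nat_lit 0xf12070a0212) (nat_lit 0x70a0212) [nat_lit 0, nat_lit 2, nat_lit 6] (BT.pln (nat_lit 0) (nat_lit 5) (BT.img (nat_lit 1) (nat_lit 2) (BT.and (nat_lit 1) (nat_lit 0) (BT.cnt (nat_lit 0)))))) (BT.kid (nat_lit 281)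 (nat_lit 108) (BT.pln (nat_lit 5) (nat_lit 2) (BT.and (nat_lit 8) (nat_lit 0) (BT.br (nat_lit 0) (nat_lit 276) [nat_lit 7] (BT.kid (nat_lit 276) (nat_lit 36) (BT.frm (nat_lit 2) (nat_lit 0x1a250f12070a0212) (nat_lit 0x1a250f12070a0212) [nat_lit 0, nat_lit 3, nat_lit 5, nat_lit 9] (BT.pln (nat_lit 0) (nat_lit 9) (BT.and (nat_lit 4) (nat_lit 0) (BT.br (nat_lit 0) (nat_lit 102) [nat_lit 9] (BT.kid (nat_lit 102) (nat_lit 18) (BT.pln (nat_lit 3) (nat_lit 7) (BT.and (nat_lit 7) (nat_lit 0) (BT.br (nat_lit 0) (nat_lit 92) [nat_lit 11, nat_lit 13, nat_lit 15] (BT.kid (nat_lit 92) (nat_lit 2) (BT.pln (nat_lit 6) (nat_lit 5) (BT.dif (nat_lit 0) (nat_lit 18) (BT.img (nat_lit 1) (nat_lit 2) (BT.frm (nat_lit 3) (nat_lit 0x39251a250f12070a0212) (nat_lit 0x39251a250f12070a0212) [nat_lit 0, nat_lit 3, nat_lit 6, nat_lit 10, nat_lit 13, nat_lit 15, nat_lit 19] (BT.pln (nat_lit 0) (nat_lit 13) (BT.and (nat_lit 3) (nat_lit 0) (BT.pln (nat_lit 2) (nat_lit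 8) (BT.dif (nat_lit 1) (nat_lit 0) (BT.br (nat_lit 0) (nat_lit 124) [nat_lit 15] (BT.kid (nat_lit 124) (nat_lit 1) (BT.one (nat_lit 4) (nat_lit 0x3f39251a250f12070a0212) (nat_lit 0x3f39251a250f12070a0212) [nat_lit 0, nat_lit 6, nat_lit 9, nat_lit 12, nat_lit 16, nat_lit 19, nat_lit 21, nat_lit 25]) BT.nil)))))))))) BT.nil)))) BT.nil))))) BT.nil)))) BT.nil))))) BT.nil))))) BT.nil)))

theorem yt_c5_cnt : Cnt 324 (grp 324 y_E0) [z_g206] [z_g206] 0 0 0 0 7776 :=
  BT.sound yt_c5_cnt_P Known.nil (t := yt_c5_cnt_t) (d := 0) (by decide +kernel)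

theorem yt_c5_ge : 7776 ≤ Nat.card (grp 324 yt_c5_K) :=
  Ch.le_card_grp (k := 9) (L := (lab 324 9)) z_hn yt_c5_K_ok (c := (Ch.cons (nat_lit 56) [nat_lit 1] (Ch.cons (nat_lit 142) [nat_lit 3] (Ch.cons (nat_lit 281) [nat_lit 5] (Ch.cons (nat_lit 276) [nat_lit 7] (Ch.cons (nat_lit 102) [nat_lit 9] (Ch.cons (nat_lit 92) [nat_lit 11, nat_lit 13] (Ch.cons (nat_lit 124) [nat_lit 15] Ch.nil)))))))) (by decide +kernel)

theorem yt_c5_eq : (grp 324 y_E0) ⊓ Subgroup.centralizer {Net.toPerm 324 z_g206} = grp 324 yt_c5_K :=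
  cent_eq yt_c5_sym yt_c5_cnt yt_c5_ge

theorem yt_c5_card : Nat.card ↥((grp 324 y_E0) ⊓ Subgroup.centralizer {Net.toPerm 324 z_g206}) = 7776 :=
  card_cent yt_c5_sym yt_c5_cnt yt_c5_ge

theorem yt_c5_ord : orderOf (Net.toPerm 324 z_g206) = 2 :=
  orderOf_net z_hn z_hk z_g206_ok (by decide) (ps := [2]) (by set_option linter.unusedSimpArgs false in simp [Nat.primeFactorsList_ofNat]) (by decide +kernel)

theorem z_le230 : grp 324 yt_c6_K ≤ grp 324 y_E0 :=
  grp_le_of_memB z_hn z_hk y_E0_ok yt_c6_K_ok (ws := [nat_lit 0x34392b1f19200715010123, nat_lit 0x382f25281c1108010105, nat_lit 0x34281f19211207070103, nat_lit 0x33353c251f1d1f15070c0317, nat_lit 0x3339251f192315070c010307, nat_lit 0x33352f261f1a1e0f0707010f01, nat_lit 0x33392f271f191b1b012502, nat_lit 0x35382b19221a12021202]) (by decide +kernel)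

theorem yt_c6_le : grp 324 yt_c6_K ≤ (grp 324 y_E0) :=
  (z_le230.trans z_T111_s0.le)

theorem yt_c6_mem : Net.toPerm 324 z_g221 ∈ (grp 324 y_E0) :=
  yt_c6_le (mem_grp_of_memB z_hn z_hk yt_c6_K_ok z_g221_ok (w := (nat_lit 0xf0b0805)) (by decide +kernel))

theorem yt_c6_sym : Sym 324 (grp 324 y_E0) [z_g221] yt_c6_K 0 :=
  Sym.of_lab z_hn z_hk (okE_cons.2 ⟨z_g221_ok, okE_nil _⟩) yt_c6_K_ok yt_c6_le (kT := 0) (by decide +kernel)

theorem z_le236 : grp 324 z_V235 ≤ grp 324 z_V200 :=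
  grp_le_of_memB z_hn z_hk z_V200_ok z_V235_ok (ws := [nat_lit 0x151b11080a, nat_lit 0x15171e11, nat_lit 0x171a0a, nat_lit 5640]) (by decide +kernel)

theorem z_T111_s29 : Stab 324 (grp 324 y_E0) [nat_lit 16, nat_lit 1, nat_lit 9, nat_lit 2, nat_lit 0] z_V235 324 :=
  Stab.step (k := 9) (L := (lab 324 9)) z_hn z_T111_s22 z_V235_ok z_le236 (c := (Ch.cons (nat_lit 50) [nat_lit 1, nat_lit 3] (Ch.cons (nat_lit 107) [nat_lit 5, nat_lit 7] Ch.nil))) (by decide +kernel)

theorem z_T111_s30 : Stab 324 (grp 324 y_E0) [nat_lit 50, nat_lit 16, nat_lit 1, nat_lit 9, nat_lit 2, nat_lit 0] z_V237 9 :=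
  Stab.step (k := 9) (L := (lab 324 9)) z_hn z_T111_s29 z_V237_ok (grp_mono (List.subset_append_right [z_g231, z_g232] _)) (c := (Ch.cons (nat_lit 107) [nat_lit 1, nat_lit 3] Ch.nil)) (by decide +kernel)

theorem z_T111_s31 : Stab 324 (grp 324 y_E0) [nat_lit 107, nat_lit 50, nat_lit 16, nat_lit 1, nat_lit 9, nat_lit 2, nat_lit 0] z_V238 1 :=
  Stab.step (k := 9) (L := (lab 324 9)) z_hn z_T111_s30 z_V238_ok (grp_mono (List.subset_append_right [z_g233, z_g234] _)) (c := Ch.nil) (by decide +kernel)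

theorem z_g231_z_T111 : Net.toPerm 324 z_g231 ∈ (grp 324 y_E0) :=
  z_T111_s29.le (toPerm_mem_grp (E := z_V235) (List.Mem.head _))

theorem z_g232_z_T111 : Net.toPerm 324 z_g232 ∈ (grp 324 y_E0) :=
  z_T111_s29.le (toPerm_mem_grp (E := z_V235) (List.Mem.tail _ (List.Mem.head _)))

theorem z_g233_z_T111 : Net.toPerm 324 z_g233 ∈ (grp 324 y_E0) :=
  z_T111_s29.le (toPerm_mem_grp (E := z_V235) (List.Mem.tail _ (List.Mem.tail _ (List.Mem.head _))))

theorem z_g234_z_T111 : Net.toPerm 324 z_g234 ∈ (grp 324 y_E0) :=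
  z_T111_s29.le (toPerm_mem_grp (E := z_V235) (List.Mem.tail _ (List.Mem.tail _ (List.Mem.tail _ (List.Mem.head _)))))

noncomputable def z_T111_s31_O : ℕ := (nat_lit 0xfffffffffffffffff000000000000000000000000000000000000000000000000000000000000000000000000000000000ffffffffffffffffffffffffffffffff00000000000000000000000000000000f0000000000000000ffffffffffffffff0000000000000000ffffffffffffffff00000000000000000ffffffff00000000ffffffff00000000ffffffff00000000ffffffff00000000ffffffff000000000ffff0000ffff0000ffff0000ffff0000ffff0000ffff0000ffff0000ffff0000ffff0000ffff00000ff00ff00ff00ff00ff00ff00ff00ff00ff00ff00ff00ff00ff00ff00ff00ff00ff00ff00ff00ff000f0f0f0f0f0f0f0f0f0f0f0f0f0f0f0f0f0f0f0f0f0f0f0f0f0f0f0f0f0f0f0f0f0f0f0f0f0f0f0f0cccccccccccccccccccccccccccccccccccccccccccccccccccccccccccccccccccccccccccccccccaaaaaaaaaaaaaaaaaaaaaaaaaaaaaaaaaaaaaaaaaaaaaaaaaaaaaaaaaaaaaaaaaaaaaaaaaaaaaaaaa00000000000000000000000000000000000000000000000000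0000000000000000000000000000001000000000000000000000000000000000000000000000000000000000000000000000000000000004000000000000000000000000000000000000000000000000000000000000000000000000000000200000000000000000000000000000000000000000000000000000000000000000000000000000000002000000000000000000000000000000000000000000000000000000000000000000000000000010000000000000000000000000000000000000000000000000000000000000000000000004000000000000000000000000000000000000000000000000000000000000000000800000000000000000000000000)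

theorem z_T111_s31_F : Frame 324 (grp 324 y_E0) 7 16 z_T111_s31_O 1 1 :=
  IsBase.frame z_T111_s31.isBase (by decide +kernel)

noncomputable def z_T111_s30_O : ℕ := (nat_lit 0x1820430100012a61000000000000000000000000000000000000000000000000000000000000000000000000000000000720000000000000000010220000440000859e8d002fde015f7b69b5f9c4fdd277621210b4b8981000f29fb08e8d9dedd93c7d36b36b3f40000859c000000018febff73cf477b730bc81c6ec3b86c760000721317f2346b3c57db2f5a2c808487bf000028d002c0186e6c3d8f4642bec3cac9d90b811b79ffc067ae94b091283f3e0a7d2ac584e8059f0e9d028c0003c188a0382b5a0d198761d6e2fcd84d4ba103d8e5f21b4195829739e5bbe7c3413041cc7a2f3f30023198981cfbc1cacdafbdf63d5b5b643325423b85518d883e332e4a9d5a76c6db94aed2ac348b09800a950000000000000000000000000000000000000000000000000000000000000000000000000000000001000000000000000000000000000000000000000000000000000000000000000000000000000000004000000000000000000000000000000000000000000000000000000000000000000000000000000200000000000000000000000000000000000000000000000000000000000000000000000000000000002000000000000000000000000000000000000000000000000000000000000000000000000000010000000000000000000000000000000000000000000000000000000000000000000000004000000000000)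

theorem z_T111_s30_F : Frame 324 (grp 324 y_E0) 6 13 z_T111_s30_O 0 1 :=
  Stab.frame z_hn z_T111_s30 (by decide +kernel)

noncomputable def z_T111_s29_O : ℕ := (nat_lit 0x2fc0000000040000000000000001040200000000000000004000000000000000104020000000000ffc01f89fb7b69ddffddffd3e7401690b038900000009fb7b69ddffddffd3e7401690b03890000000002c1e075f8cfab3d8e691ee4bc5da38b8c76e10000075f8cfab3d8e691ee4bc5da38b8c76e10000000231987a9b83541a5eb19baf9bea38fa61f070260f27a9b83541a5eb19baf9bea38fa61f070260f2800a950000000000000000000000000000000000000000000000000000000000000000000000000000000001000000000000000000000000000000000000000000000000000000000000000000000000000000004000000000000000000000000000000000000000000000000000000000000000000000000000000200000000000000000000000000000000000000000000000000000000000000000000000000000000002000000000000000000000000000000000000000000000000000000000000000000000000000010000)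

theorem z_T111_s29_F : Frame 324 (grp 324 y_E0) 5 10 z_T111_s29_O 0 1 :=
  Stab.frame z_hn z_T111_s29 (by decide +kernel)

noncomputable def yt_c6_cnt_L : List ℕ := [1, 4, z_T111_s1_O, 0, 0, 3, 11, z_T111_s21_O, 0, 0, 4, 19, z_T111_s22_O, 0, 0, 5, 10, z_T111_s29_O, 0, 0, 6, 13, z_T111_s30_O, 0, 0, 7, 16, z_T111_s31_O, 1, 0]

theorem yt_c6_cnt_P : Prob 324 9 (grp 324 y_E0) yt_c6_cnt_EG [z_g221] [z_g221] yt_c6_K yt_c6_cnt_L 0 0 :=
  Sym.prob z_hn z_hk yt_c6_sym yt_c6_cnt_EG_ok (grp_cons_le z_g39_z_T111 (grp_cons_le zg1_z_T111 (grp_cons_le zg3_z_T111 (grp_cons_le z_g43_z_T111 (grp_cons_le z_g42_z_T111 (grp_cons_le zg2_z_T111 (grp_cons_le z_g44_z_T111 (grp_cons_le z_g54_z_T111 (grp_cons_le z_g55_z_T111 (grp_cons_le z_g49_z_T111 (grp_cons_le z_g50_z_T111 (grp_cons_le z_g51_z_T111 (grp_cons_le z_g62_z_T111 (grp_cons_le z_g58_z_T111 (grp_cons_le z_g59_z_T111 (grp_cons_le z_g65_z_T111 (grp_cons_le z_g66_z_T111 (grp_cons_le z_g67_z_T111 (grp_cons_le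 z_g77_z_T111 (grp_cons_le z_g78_z_T111 (grp_cons_le z_g72_z_T111 (grp_cons_le z_g73_z_T111 (grp_cons_le z_g74_z_T111 (grp_cons_le z_g81_z_T111 (grp_cons_le z_g82_z_T111 (grp_cons_le z_g87_z_T111 (grp_cons_le zg0_z_T111 (grp_cons_le z_g91_z_T111 (grp_cons_le z_g28_z_T111 (grp_cons_le z_g88_z_T111 (grp_cons_le z_g231_z_T111 (grp_cons_le z_g232_z_T111 (grp_cons_le z_g233_z_T111 (grp_cons_le z_g234_z_T111 (grp_nil_le _))))))))))))))))))))))))))))))))))) (Frames.cons z_T111_s1_F (Frames.cons z_T111_s21_F (Frames.cons z_T111_s22_F (Frames.cons z_T111_s29_F (Frames.cons z_T111_s30_F (Frames.cons z_T111_s31_F Frames.nil)))))) (okE_cons.2 ⟨z_g221_ok, okE_nil _⟩) _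

noncomputable def yt_c6_cnt_t : BT := (BT.fix (nat_lit 1) (BT.br (nat_lit 0) (nat_lit 92) [nat_lit 1, nat_lit 3] (BT.kid (nat_lit 92) (nat_lit 432) (BT.frm (nat_lit 0) (nat_lit 65810) (nat_lit 65810) [nat_lit 0] (BT.pln (nat_lit 0) (nat_lit 3) (BT.and (nat_lit 3) (nat_lit 0) (BT.br (nat_lit 0) (nat_lit 155) [nat_lit 3] (BT.kid (nat_lit 155) (nat_lit 216) (BT.dif (nat_lit 2) (nat_lit 5) (BT.br (nat_lit 0) (nat_lit 203) [nat_lit 5] (BT.dead (nat_lit 81) (BT.frm (nat_lit 1) (nat_lit 0x707010112) (nat_lit 0x150707010112) [nat_lit 0, nat_lit 2, nat_lit 6] (BT.pln (nat_lit 0) (nat_lit 6) (BT.img (nat_lit 1) (nat_lit 2) (BT.and (nat_lit 1) (nat_lit 0) (BT.cnt (nat_lit 0)))))) (BT.dead (nat_lit 110) (BT.frm (nat_lit 1) (nat_lit 0x707010112) (nat_lit 0xf0707010112) [nat_lit 0, nat_lit 2, nat_lit 6] (BT.pln (nat_lit 0) (nat_lit 5) (BT.img (nat_lit 1) (nat_lit 2) (BT.and (nat_lit 1) (nat_lit 0) (BT.cnt (nat_lit 0)))))) (BT.kid (nat_lit 203) (nat_lit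 108) (BT.pln (nat_lit 5) (nat_lit 2) (BT.and (nat_lit 8) (nat_lit 0) (BT.br (nat_lit 0) (nat_lit 118) [nat_lit 7] (BT.kid (nat_lit 118) (nat_lit 36) (BT.frm (nat_lit 2) (nat_lit 0x1a250707010112) (nat_lit 0x1a250707010112) [nat_lit 0, nat_lit 3, nat_lit 5, nat_lit 9] (BT.pln (nat_lit 0) (nat_lit 12) (BT.and (nat_lit 4) (nat_lit 0) (BT.br (nat_lit 0) (nat_lit 256) [nat_lit 9] (BT.kid (nat_lit 256) (nat_lit 18) (BT.dif (nat_lit 14) (nat_lit 6) (BT.pln (nat_lit 13) (nat_lit 1) (BT.and (nat_lit 1) (nat_lit 0) (BT.frm (nat_lit 3) (nat_lit 0x1a250707010112) (nat_lit 0x1a250707010112) [nat_lit 3, nat_lit 7, nat_lit 10, nat_lit 12, nat_lit 16] (BT.pln (nat_lit 0) (nat_lit 5) (BT.dif (nat_lit 2) (nat_lit 0) (BT.br (nat_lit 0) (nat_lit 317) [nat_lit 11, nat_lit 13] (BT.kid (nat_lit 317) (nat_lit 3) (BT.pln (nat_lit 3) (nat_lit 7) (BT.and (nat_lit 3) (nat_lit 0) (BT.pln (nat_lit 5) (nat_lit 6) (BT.dif (nat_lit 1) (nat_lit 0) (BT.frm (nat_lit 4) (nat_lit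 0x3d413d1a250707010112) (nat_lit 0x3d413d1a250707010112) [nat_lit 4, nat_lit 11, nat_lit 15, nat_lit 18, nat_lit 20, nat_lit 24] (BT.pln (nat_lit 0) (nat_lit 8) (BT.dif (nat_lit 2) (nat_lit 0) (BT.dif (nat_lit 0) (nat_lit 20) (BT.br (nat_lit 0) (nat_lit 107) [nat_lit 15] (BT.dead (nat_lit 169) (BT.frm (nat_lit 5) (nat_lit 0x433d413d1a250707010112) (nat_lit 0x423d413d1a250707010112) [nat_lit 0, nat_lit 9, nat_lit 16, nat_lit 20, nat_lit 23, nat_lit 25, nat_lit 29] (BT.pln (nat_lit 0) (nat_lit 7) (BT.img (nat_lit 1) (nat_lit 2) (BT.and (nat_lit 1) (nat_lit 0) (BT.cnt (nat_lit 0)))))) (BT.dead (nat_lit 146) (BT.frm (nat_lit 5) (nat_lit 0x433d413d1a250707010112) (nat_lit 0x3d413d1a250707010112) [nat_lit 0, nat_lit 9, nat_lit 16, nat_lit 20, nat_lit 23, nat_lit 25, nat_lit 29] (BT.pln (nat_lit 0) (nat_lit 7) (BT.img (nat_lit 1) (nat_lit 2) (BT.and (nat_lit 1) (nat_lit 0) (BT.cnt (nat_lit 0)))))) (BT.kid (nat_lit 107) (nat_lit 1) (BT.one (nat_lit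 5) (nat_lit 0x433d413d1a250707010112) (nat_lit 0x433d413d1a250707010112) [nat_lit 0, nat_lit 9, nat_lit 16, nat_lit 20, nat_lit 23, nat_lit 25, nat_lit 29]) BT.nil)))))))))))) BT.nil)))))))) BT.nil))))) BT.nil)))) BT.nil))))) BT.nil))))) BT.nil)))

theorem yt_c6_cnt : Cnt 324 (grp 324 y_E0) [z_g221] [z_g221] 0 0 0 0 7776 :=
  BT.sound yt_c6_cnt_P Known.nil (t := yt_c6_cnt_t) (d := 0) (by decide +kernel)

theorem yt_c6_ge : 7776 ≤ Nat.card (grp 324 yt_c6_K) :=
  Ch.le_card_grp (k := 9) (L := (lab 324 9)) z_hn yt_c6_K_ok (c := (Ch.cons (nat_lit 92) [nat_lit 1] (Ch.cons (nat_lit 155) [nat_lit 3] (Ch.cons (nat_lit 203) [nat_lit 5] (Ch.cons (nat_lit 118) [nat_lit 7] (Ch.cons (nat_lit 256) [nat_lit 9] (Ch.cons (nat_lit 317) [nat_lit 11, nat_lit 13] (Ch.cons (nat_lit 107) [nat_lit 15] Ch.nil)))))))) (by decide +kernel)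

theorem yt_c6_eq : (grp 324 y_E0) ⊓ Subgroup.centralizer {Net.toPerm 324 z_g221} = grp 324 yt_c6_K :=
  cent_eq yt_c6_sym yt_c6_cnt yt_c6_ge

theorem yt_c6_card : Nat.card ↥((grp 324 y_E0) ⊓ Subgroup.centralizer {Net.toPerm 324 z_g221}) = 7776 :=
  card_cent yt_c6_sym yt_c6_cnt yt_c6_ge

theorem yt_c6_ord : orderOf (Net.toPerm 324 z_g221) = 2 :=
  orderOf_net z_hn z_hk z_g221_ok (by decide) (ps := [2]) (by set_option linter.unusedSimpArgs false in simp [Nat.primeFactorsList_ofNat]) (by decide +kernel)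

theorem z_le250 : grp 324 yt_c7_K ≤ grp 324 y_E0 :=
  grp_le_of_memB z_hn z_hk y_E0_ok yt_c7_K_ok (ws := [nat_lit 0x38252812070c011e, nat_lit 0x37252819210f09, nat_lit 0x35382f261f1a0f12070c, nat_lit 0x3326281f191c, nat_lit 0x353c2519201a, nat_lit 0x333b25281f191c, nat_lit 0x33353c2f291f19201c, nat_lit 0x332f1f191b1b, nat_lit 0x333926281d1f, nat_lit 0x34392f2528191b1b]) (by decide +kernel)

theorem yt_c7_le : grp 324 yt_c7_K ≤ (grp 324 y_E0) :=
  (z_le250.trans z_T111_s0.le)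

theorem yt_c7_mem : Net.toPerm 324 z_g239 ∈ (grp 324 y_E0) :=
  yt_c7_le (mem_grp_of_memB z_hn z_hk yt_c7_K_ok z_g239_ok (w := (nat_lit 0x12130b0e080a01071302)) (by decide +kernel))

theorem yt_c7_sym : Sym 324 (grp 324 y_E0) [z_g239] yt_c7_K 0 :=
  Sym.of_lab z_hn z_hk (okE_cons.2 ⟨z_g239_ok, okE_nil _⟩) yt_c7_K_ok yt_c7_le (kT := 0) (by decide +kernel)

noncomputable def z_T111_s23_O : ℕ := (nat_lit 0x3f80000000040000000000000001040200000000000000004000000000000000104020000000000ffc05f09fb7b69ddffddffd3e7401690b038900000009fb7b69ddffddffd3e7401690b0389000000000385c075f8cfab3d8e691ee4bc5da38b8c76e10000075f8cfab3d8e691ee4bc5da38b8c76e10000000265307a9b83541a5eb19baf9bea38fa61f070260f27a9b83541a5eb19baf9bea38fa61f070260f280154a0000000000000000000000000000000000000000000000000000000000000000000000000000000001000000000000000000000000000000000000000000000000000000000000000000000000000000004000000000000000000000000000000000000000000000000000000000000000000000000000000200000000000000000000000000000000000000000000000000000000000000000000000000000000002000000000000000000000000000000000000000000000000000000000000000000000000000000008)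

theorem z_T111_s23_F : Frame 324 (grp 324 y_E0) 5 10 z_T111_s23_O 0 1 :=
  Stab.frame z_hn z_T111_s23 (by decide +kernel)

noncomputable def yt_c7_cnt_L : List ℕ := [1, 4, z_T111_s1_O, 0, 0, 2, 6, z_T111_s20_O, 0, 0, 4, 19, z_T111_s22_O, 0, 0, 5, 10, z_T111_s23_O, 0, 0, 8, 17, z_T111_s26_O, 1, 0]

theorem yt_c7_cnt_P : Prob 324 9 (grp 324 y_E0) yt_c7_cnt_EG [z_g239] [z_g239] yt_c7_K yt_c7_cnt_L 0 0 :=
  Sym.prob z_hn z_hk yt_c7_sym yt_c7_cnt_EG_ok (grp_cons_le z_g39_z_T111 (grp_cons_le zg1_z_T111 (grp_cons_le zg3_z_T111 (grp_cons_le z_g43_z_T111 (grp_cons_le z_g42_z_T111 (grp_cons_le zg2_z_T111 (grp_cons_le z_g44_z_T111 (grp_cons_le z_g54_z_T111 (grp_cons_le z_g55_z_T111 (grp_cons_le z_g49_z_T111 (grp_cons_le z_g50_z_T111 (grp_cons_le z_g51_z_T111 (grp_cons_le z_g62_z_T111 (grp_cons_le z_g58_z_T111 (grp_cons_le z_g59_z_T111 (grp_cons_le z_g65_z_T111 (grp_cons_le z_g66_z_T111 (grp_cons_le z_g67_z_T111 (grp_cons_le z_g77_z_T111 (grp_cons_le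 z_g78_z_T111 (grp_cons_le z_g72_z_T111 (grp_cons_le z_g73_z_T111 (grp_cons_le z_g74_z_T111 (grp_cons_le z_g81_z_T111 (grp_cons_le z_g82_z_T111 (grp_cons_le z_g87_z_T111 (grp_cons_le zg0_z_T111 (grp_cons_le z_g91_z_T111 (grp_cons_le z_g28_z_T111 (grp_cons_le z_g88_z_T111 (grp_nil_le _))))))))))))))))))))))))))))))) (Frames.cons z_T111_s1_F (Frames.cons z_T111_s20_F (Frames.cons z_T111_s22_F (Frames.cons z_T111_s23_F (Frames.cons z_T111_s26_F Frames.nil))))) (okE_cons.2 ⟨z_g239_ok, okE_nil _⟩) _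

noncomputable def yt_c7_cnt_t : BT := (BT.fix (nat_lit 1) (BT.dif (nat_lit 3) (nat_lit 0) (BT.br (nat_lit 0) (nat_lit 0) [nat_lit 1, nat_lit 5] (BT.kid (nat_lit 0) (nat_lit 8748) (BT.frm (nat_lit 0) (nat_lit 0) (nat_lit 0) [nat_lit 0] (BT.pln (nat_lit 0) (nat_lit 3) (BT.img (nat_lit 1) (nat_lit 2) (BT.frm (nat_lit 1) (nat_lit 1802) (nat_lit 1802) [nat_lit 0, nat_lit 3] (BT.pln (nat_lit 0) (nat_lit 4) (BT.and (nat_lit 3) (nat_lit 0) (BT.br (nat_lit 0) (nat_lit 2) [nat_lit 3, nat_lit 5] (BT.kid (nat_lit 2) (nat_lit 1458) (BT.pln (nat_lit 6) (nat_lit 2) (BT.dif (nat_lit 0) (nat_lit 10) (BT.br (nat_lit 0) (nat_lit 84) [nat_lit 7, nat_lit 9] (BT.dead (nat_lit 19) (BT.frm (nat_lit 2) (nat_lit 0x19221a11070a) (nat_lit 0x192211070a) [nat_lit 0, nat_lit 3, nat_lit 7, nat_lit 10] (BT.pln (nat_lit 0) (nat_lit 7) (BT.and (nat_lit 0) (nat_lit 14) (BT.cnt (nat_lit 0))))) (BT.kid (nat_lit 84) (nat_lit 162) (BT.frm (nat_lit 2) (nat_lit 0x19221a11070a)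 (nat_lit 0x19221a11070a) [nat_lit 0, nat_lit 3, nat_lit 7, nat_lit 10] (BT.pln (nat_lit 0) (nat_lit 7) (BT.and (nat_lit 3) (nat_lit 0) (BT.br (nat_lit 0) (nat_lit 18) [nat_lit 11, nat_lit 13] (BT.kid (nat_lit 18) (nat_lit 18) (BT.pln (nat_lit 3) (nat_lit 6) (BT.and (nat_lit 16) (nat_lit 0) (BT.img (nat_lit 1) (nat_lit 6) (BT.frm (nat_lit 3) (nat_lit 0x19221a11070a) (nat_lit 0x19221a11070a) [nat_lit 0, nat_lit 7, nat_lit 10, nat_lit 14, nat_lit 17] (BT.pln (nat_lit 0) (nat_lit 6) (BT.dif (nat_lit 3) (nat_lit 0) (BT.br (nat_lit 0) (nat_lit 53) [nat_lit 15, nat_lit 17, nat_lit 19] (BT.kid (nat_lit 53) (nat_lit 1) (BT.img (nat_lit 1) (nat_lit 7) (BT.one (nat_lit 4) (nat_lit 0x33392b19221a11070a) (nat_lit 0x33392b19221a11070a) [nat_lit 1, nat_lit 0, nat_lit 8, nat_lit 5, nat_lit 12, nat_lit 15, nat_lit 19, nat_lit 22])) BT.nil)))))))) BT.nil))))) BT.nil))))) BT.nil)))))))) BT.nil))))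

theorem yt_c7_cnt : Cnt 324 (grp 324 y_E0) [z_g239] [z_g239] 0 0 0 0 2125764 :=
  BT.sound yt_c7_cnt_P Known.nil (t := yt_c7_cnt_t) (d := 0) (by decide +kernel)

theorem yt_c7_ge : 2125764 ≤ Nat.card (grp 324 yt_c7_K) :=
  Ch.le_card_grp (k := 9) (L := (lab 324 9)) z_hn yt_c7_K_ok (c := (Ch.cons (nat_lit 0) [nat_lit 1] (Ch.cons (nat_lit 2) [nat_lit 3, nat_lit 5] (Ch.cons (nat_lit 84) [nat_lit 7, nat_lit 9] (Ch.cons (nat_lit 18) [nat_lit 11, nat_lit 13] (Ch.cons (nat_lit 53) [nat_lit 15, nat_lit 17, nat_lit 19] Ch.nil)))))) (by decide +kernel)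

theorem yt_c7_eq : (grp 324 y_E0) ⊓ Subgroup.centralizer {Net.toPerm 324 z_g239} = grp 324 yt_c7_K :=
  cent_eq yt_c7_sym yt_c7_cnt yt_c7_ge

theorem yt_c7_card : Nat.card ↥((grp 324 y_E0) ⊓ Subgroup.centralizer {Net.toPerm 324 z_g239}) = 2125764 :=
  card_cent yt_c7_sym yt_c7_cnt yt_c7_ge

theorem yt_c7_ord : orderOf (Net.toPerm 324 z_g239) = 3 :=
  orderOf_net z_hn z_hk z_g239_ok (by decide) (ps := [3]) (by set_option linter.unusedSimpArgs false in simp [Nat.primeFactorsList_ofNat]) (by decide +kernel)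

theorem z_le261 : grp 324 yt_c8_K ≤ grp 324 y_E0 :=
  grp_le_of_memB z_hn z_hk y_E0_ok yt_c8_K_ok (ws := [nat_lit 0x3c2f25281f1b1a0f070a012f01, nat_lit 0x342f191f1508021c02, nat_lit 0x3c2f2711012602, nat_lit 0x353c271f19221a013c02, nat_lit 0x33382f2b19201a012502, nat_lit 0x3439251b1a013802, nat_lit 0x34392f2528, nat_lit 0x333527, nat_lit 0x35382628]) (by decide +kernel)

theorem yt_c8_le : grp 324 yt_c8_K ≤ (grp 324 y_E0) :=
  (z_le261.trans z_T111_s0.le)

theorem yt_c8_mem : Net.toPerm 324 z_g251 ∈ (grp 324 y_E0) :=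
  yt_c8_le (mem_grp_of_memB z_hn z_hk yt_c8_K_ok z_g251_ok (w := (nat_lit 0x120303)) (by decide +kernel))

theorem yt_c8_sym : Sym 324 (grp 324 y_E0) [z_g251] yt_c8_K 0 :=
  Sym.of_lab z_hn z_hk (okE_cons.2 ⟨z_g251_ok, okE_nil _⟩) yt_c8_K_ok yt_c8_le (kT := 0) (by decide +kernel)

noncomputable def z_T111_s5_O : ℕ := (nat_lit 0x10402000000000000000040000000000000000040200000000000020000000000000000000000000000000000000000000000000000000000000000000000000000007fddffefefff79fde5fbfb9be9041794b2bc5e1000001b938a343bfcd1df6e7c1caa8a85ba00000000000aa01b938a343bfcd1df6e7c1cba8a85ba0000000fefff7dfde5fbfb9be9041694b0bc5e1000000000a1475bb059917966987a3af6925cf51f070bf8f76f2887cd0dcaf81e8cbccb09b120706e407087fc0890000000000000000000000000000000000000000000000000000000000000000000000000000000001000000400000000000000000000000000000000000000000000000000000000000000000000000000000000000000000000000000000000000000000000000000000000000001000000000000000000000000000000000000000000000000000000000000000000000000000000000000000000000008000000000000000000000000000000000000000000000000000000000000000000000000000000000002000)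

theorem z_T111_s5_F : Frame 324 (grp 324 y_E0) 5 10 z_T111_s5_O 0 1 :=
  Stab.frame z_hn z_T111_s5 (by decide +kernel)

noncomputable def z_T111_s2_O : ℕ := (nat_lit 0x10402000000000000000040000000000000001040200000000008000000000000000000000000000000000000000000000000000000000000000000000000000000000022ab4000000000000000000000000000000000000000000000000000000000000000000000000007fdd54a00000000000000000103a2043450001efffff00000000000000000103a2043450001efffff0000000000000000000000000000000000000000000000000000000000000000000000000000000000000001000000400000000000000000000000000000000000000000000000000000000000000000000000000)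

theorem z_T111_s2_F : Frame 324 (grp 324 y_E0) 2 6 z_T111_s2_O 0 1 :=
  Stab.frame z_hn z_T111_s2 (by decide +kernel)

noncomputable def yt_c8_cnt_L : List ℕ := [1, 4, z_T111_s1_O, 0, 0, 2, 6, z_T111_s2_O, 0, 0, 3, 9, z_T111_s3_O, 0, 0, 4, 19, z_T111_s4_O, 0, 0, 5, 10, z_T111_s5_O, 0, 0, 6, 11, z_T111_s6_O, 0, 0, 7, 13, z_T111_s7_O, 0, 0, 8, 17, z_T111_s8_O, 1, 0]

theorem yt_c8_cnt_P : Prob 324 9 (grp 324 y_E0) yt_c8_cnt_EG [z_g251] [z_g251] yt_c8_K yt_c8_cnt_L 0 0 :=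
  Sym.prob z_hn z_hk yt_c8_sym yt_c8_cnt_EG_ok (grp_cons_le z_g39_z_T111 (grp_cons_le zg1_z_T111 (grp_cons_le zg3_z_T111 (grp_cons_le z_g43_z_T111 (grp_cons_le z_g42_z_T111 (grp_cons_le zg2_z_T111 (grp_cons_le z_g44_z_T111 (grp_cons_le z_g54_z_T111 (grp_cons_le z_g55_z_T111 (grp_cons_le z_g49_z_T111 (grp_cons_le z_g50_z_T111 (grp_cons_le z_g51_z_T111 (grp_cons_le z_g62_z_T111 (grp_cons_le z_g58_z_T111 (grp_cons_le z_g59_z_T111 (grp_cons_le z_g65_z_T111 (grp_cons_le z_g66_z_T111 (grp_cons_le z_g67_z_T111 (grp_cons_le z_g77_z_T111 (grp_cons_le z_g78_z_T111 (grp_cons_le z_g72_z_T111 (grp_cons_le z_g73_z_T111 (grp_cons_le z_g74_z_T111 (grp_cons_le z_g81_z_T111 (grp_cons_le z_g82_z_T111 (grp_cons_le z_g87_z_T111 (grp_cons_le zg0_z_T111 (grp_cons_le z_g91_z_T111 (grp_cons_le z_g28_z_T111 (grp_cons_le z_g88_z_T111 (grp_cons_le z_g126_z_T111 (grp_cons_le z_g127_z_T111 (grp_cons_le z_g128_z_T111 (grp_cons_le z_g129_z_T111 (grp_cons_le z_g130_z_T111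 (grp_cons_le z_g131_z_T111 (grp_cons_le z_g132_z_T111 (grp_cons_le z_g133_z_T111 (grp_cons_le z_g134_z_T111 (grp_cons_le z_g135_z_T111 (grp_nil_le _))))))))))))))))))))))))))))))))))))))))) (Frames.cons z_T111_s1_F (Frames.cons z_T111_s2_F (Frames.cons z_T111_s3_F (Frames.cons z_T111_s4_F (Frames.cons z_T111_s5_F (Frames.cons z_T111_s6_F (Frames.cons z_T111_s7_F (Frames.cons z_T111_s8_F Frames.nil)))))))) (okE_cons.2 ⟨z_g251_ok, okE_nil _⟩) _

noncomputable def yt_c8_cnt_t : BT := (BT.fix (nat_lit 1) (BT.br (nat_lit 0) (nat_lit 1) [nat_lit 1, nat_lit 5, nat_lit 7] (BT.kid (nat_lit 1) (nat_lit 17496) (BT.frm (nat_lit 0) (nat_lit 777) (nat_lit 777) [nat_lit 0] (BT.pln (nat_lit 0) (nat_lit 2) (BT.dif (nat_lit 0) (nat_lit 3) (BT.br (nat_lit 0) (nat_lit 27) [nat_lit 3, nat_lit 7] (BT.kid (nat_lit 27) (nat_lit 972) (BT.img (nat_lit 1) (nat_lit 0) (BT.frm (nat_lit 2) (nat_lit 0x3e081f0309) (nat_lit 0x3e081f0309) [nat_lit 0, nat_lit 1, nat_lit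 5] (BT.pln (nat_lit 0) (nat_lit 6) (BT.and (nat_lit 4) (nat_lit 0) (BT.br (nat_lit 0) (nat_lit 217) [nat_lit 5] (BT.dead (nat_lit 78) (BT.frm (nat_lit 3) (nat_lit 0x423e081f0309) (nat_lit 0x3f3e081f0309) [nat_lit 0, nat_lit 4, nat_lit 5, nat_lit 9] (BT.pln (nat_lit 0) (nat_lit 7) (BT.and (nat_lit 0) (nat_lit 12) (BT.cnt (nat_lit 0))))) (BT.kid (nat_lit 217) (nat_lit 324) (BT.pln (nat_lit 8) (nat_lit 3) (BT.and (nat_lit 11) (nat_lit 0) (BT.pln (nat_lit 5) (nat_lit 5) (BT.dif (nat_lit 1) (nat_lit 0) (BT.br (nat_lit 0) (nat_lit 3) [nat_lit 7] (BT.kid (nat_lit 3) (nat_lit 162) (BT.dif (nat_lit 11) (nat_lit 7) (BT.pln (nat_lit 9) (nat_lit 4) (BT.and (nat_lit 1) (nat_lit 0) (BT.br (nat_lit 0) (nat_lit 0) [nat_lit 9, nat_lit 11] (BT.kid (nat_lit 0) (nat_lit 18) (BT.dif (nat_lit 22) (nat_lit 19) (BT.frm (nat_lit 3) (nat_lit 0x423e081f0309) (nat_lit 0x423e081f0309) [nat_lit 10, nat_lit 14, nat_lit 15, nat_lit 19] (BT.pln (nat_lit 0) (nat_lit 6)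 (BT.and (nat_lit 2) (nat_lit 0) (BT.frm (nat_lit 4) (nat_lit 0x423e081f0309) (nat_lit 0x423e081f0309) [nat_lit 8, nat_lit 13, nat_lit 17, nat_lit 18, nat_lit 22] (BT.pln (nat_lit 0) (nat_lit 5) (BT.dif (nat_lit 2) (nat_lit 0) (BT.frm (nat_lit 1) (nat_lit 0x81f0309) (nat_lit 0x81f0309) [nat_lit 21, nat_lit 25] (BT.pln (nat_lit 0) (nat_lit 3) (BT.and (nat_lit 24) (nat_lit 0) (BT.dif (nat_lit 0) (nat_lit 10) (BT.frm (nat_lit 5) (nat_lit 0x45423e081f0309) (nat_lit 0x45423e081f0309) [nat_lit 11, nat_lit 15, nat_lit 20, nat_lit 24, nat_lit 25, nat_lit 29] (BT.pln (nat_lit 0) (nat_lit 8) (BT.and (nat_lit 2) (nat_lit 0) (BT.img (nat_lit 1) (nat_lit 14) (BT.dif (nat_lit 4) (nat_lit 0) (BT.img (nat_lit 1) (nat_lit 1) (BT.dif (nat_lit 1) (nat_lit 0) (BT.pln (nat_lit 6) (nat_lit 6) (BT.dif (nat_lit 1) (nat_lit 0) (BT.pln (nat_lit 8) (nat_lit 7) (BT.and (nat_lit 1) (nat_lit 0) (BT.img (nat_lit 1) (nat_lit 0) (BT.dif (nat_lit 9) (nat_lit 0) (BT.frm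 (nat_lit 6) (nat_lit 0x45423e081f0309) (nat_lit 0x45423e081f0309) [nat_lit 0, nat_lit 24, nat_lit 28, nat_lit 33, nat_lit 37, nat_lit 38, nat_lit 42] (BT.pln (nat_lit 0) (nat_lit 7) (BT.dif (nat_lit 19) (nat_lit 0) (BT.br (nat_lit 0) (nat_lit 57) [nat_lit 13, nat_lit 15, nat_lit 17] (BT.kid (nat_lit 57) (nat_lit 1) (BT.one (nat_lit 7) (nat_lit 0x4b4d45423e081f0309) (nat_lit 0x4b4d45423e081f0309) [nat_lit 0, nat_lit 4, nat_lit 28, nat_lit 32, nat_lit 37, nat_lit 41, nat_lit 42, nat_lit 46]) BT.nil))))))))))))))))))))))))))))) BT.nil))))) BT.nil)))))) BT.nil))))))) BT.nil))))) BT.nil)))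

theorem yt_c8_cnt : Cnt 324 (grp 324 y_E0) [z_g251] [z_g251] 0 0 0 0 944784 :=
  BT.sound yt_c8_cnt_P Known.nil (t := yt_c8_cnt_t) (d := 0) (by decide +kernel)

theorem yt_c8_ge : 944784 ≤ Nat.card (grp 324 yt_c8_K) :=
  Ch.le_card_grp (k := 9) (L := (lab 324 9)) z_hn yt_c8_K_ok (c := (Ch.cons (nat_lit 1) [nat_lit 1] (Ch.cons (nat_lit 27) [nat_lit 3] (Ch.cons (nat_lit 217) [nat_lit 5] (Ch.cons (nat_lit 3) [nat_lit 7] (Ch.cons (nat_lit 0) [nat_lit 9, nat_lit 11] (Ch.cons (nat_lit 57) [nat_lit 13, nat_lit 15, nat_lit 17] Ch.nil))))))) (by decide +kernel)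

theorem yt_c8_eq : (grp 324 y_E0) ⊓ Subgroup.centralizer {Net.toPerm 324 z_g251} = grp 324 yt_c8_K :=
  cent_eq yt_c8_sym yt_c8_cnt yt_c8_ge

theorem yt_c8_card : Nat.card ↥((grp 324 y_E0) ⊓ Subgroup.centralizer {Net.toPerm 324 z_g251}) = 944784 :=
  card_cent yt_c8_sym yt_c8_cnt yt_c8_ge

theorem yt_c8_ord : orderOf (Net.toPerm 324 z_g251) = 3 :=
  orderOf_net z_hn z_hk z_g251_ok (by decide) (ps := [3]) (by set_option linter.unusedSimpArgs false in simp [Nat.primeFactorsList_ofNat]) (by decide +kernel)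

theorem z_le274 : grp 324 yt_c9_K ≤ grp 324 y_E0 :=
  grp_le_of_memB z_hn z_hk y_E0_ok yt_c9_K_ok (ws := [nat_lit 0x37251f191c15070705021e, nat_lit 0x33392f2519110801012b, nat_lit 0x3b251f19221a1509050225, nat_lit 0x3b2f262819200f12080234, nat_lit 0x34352f2628191b1b0f12080509, nat_lit 0x3c26013c02, nat_lit 0x352f261f1d1f0f12070a010811, nat_lit 0x34352f1a1209010307, nat_lit 0x343526281d1f12021202, nat_lit 0x33352f252819221a11011101, nat_lit 0x34392f28191b1b11011f]) (by decide +kernel)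

theorem yt_c9_le : grp 324 yt_c9_K ≤ (grp 324 y_E0) :=
  (z_le274.trans z_T111_s0.le)

theorem yt_c9_mem : Net.toPerm 324 z_g262 ∈ (grp 324 y_E0) :=
  yt_c9_le (mem_grp_of_memB z_hn z_hk yt_c9_K_ok z_g262_ok (w := (nat_lit 0x1213150c0d05030604)) (by decide +kernel))

theorem yt_c9_sym : Sym 324 (grp 324 y_E0) [z_g262] yt_c9_K 0 :=
  Sym.of_lab z_hn z_hk (okE_cons.2 ⟨z_g262_ok, okE_nil _⟩) yt_c9_K_ok yt_c9_le (kT := 0) (by decide +kernel)

noncomputable def yt_c9_cnt_L : List ℕ := [1, 4, z_T111_s1_O, 0, 0, 3, 9, z_T111_s3_O, 0, 0, 4, 19, z_T111_s4_O, 0, 0, 6, 11, z_T111_s6_O, 0, 0, 7, 13, z_T111_s7_O, 0, 0, 8, 17, z_T111_s8_O, 1, 0]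

theorem yt_c9_cnt_P : Prob 324 9 (grp 324 y_E0) yt_c9_cnt_EG [z_g262] [z_g262] yt_c9_K yt_c9_cnt_L 0 0 :=
  Sym.prob z_hn z_hk yt_c9_sym yt_c9_cnt_EG_ok (grp_cons_le z_g39_z_T111 (grp_cons_le zg1_z_T111 (grp_cons_le zg3_z_T111 (grp_cons_le z_g43_z_T111 (grp_cons_le z_g42_z_T111 (grp_cons_le zg2_z_T111 (grp_cons_le z_g44_z_T111 (grp_cons_le z_g54_z_T111 (grp_cons_le z_g55_z_T111 (grp_cons_le z_g49_z_T111 (grp_cons_le z_g50_z_T111 (grp_cons_le z_g51_z_T111 (grp_cons_le z_g62_z_T111 (grp_cons_le z_g58_z_T111 (grp_cons_le z_g59_z_T111 (grp_cons_le z_g65_z_T111 (grp_cons_le z_g66_z_T111 (grp_cons_le z_g67_z_T111 (grp_cons_le z_g77_z_T111 (grp_cons_le z_g78_z_T111 (grp_cons_le z_g72_z_T111 (grp_cons_le z_g73_z_T111 (grp_cons_le z_g74_z_T111 (grp_cons_le z_g81_z_T111 (grp_cons_le z_g82_z_T111 (grp_cons_le z_g87_z_T111 (grp_cons_le zg0_z_T111 (grp_cons_le z_g91_z_T111 (grp_cons_le z_g28_z_T111 (grp_cons_le z_g88_z_T111 (grp_cons_le z_g126_z_T111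 (grp_cons_le z_g127_z_T111 (grp_cons_le z_g128_z_T111 (grp_cons_le z_g129_z_T111 (grp_cons_le z_g130_z_T111 (grp_cons_le z_g131_z_T111 (grp_cons_le z_g132_z_T111 (grp_cons_le z_g133_z_T111 (grp_cons_le z_g134_z_T111 (grp_cons_le z_g135_z_T111 (grp_nil_le _))))))))))))))))))))))))))))))))))))))))) (Frames.cons z_T111_s1_F (Frames.cons z_T111_s3_F (Frames.cons z_T111_s4_F (Frames.cons z_T111_s6_F (Frames.cons z_T111_s7_F (Frames.cons z_T111_s8_F Frames.nil)))))) (okE_cons.2 ⟨z_g262_ok, okE_nil _⟩) _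

noncomputable def yt_c9_cnt_t : BT := (BT.fix (nat_lit 1) (BT.br (nat_lit 0) (nat_lit 56) [nat_lit 1, nat_lit 7] (BT.kid (nat_lit 56) (nat_lit 34992) (BT.frm (nat_lit 0) (nat_lit 530) (nat_lit 530) [nat_lit 0] (BT.pln (nat_lit 0) (nat_lit 2) (BT.dif (nat_lit 0) (nat_lit 3) (BT.br (nat_lit 0) (nat_lit 235) [nat_lit 3, nat_lit 5] (BT.kid (nat_lit 235) (nat_lit 3888) (BT.img (nat_lit 1) (nat_lit 0) (BT.frm (nat_lit 1) (nat_lit 0x3d42200212) (nat_lit 0x3d42200212) [nat_lit 0, nat_lit 1, nat_lit 5] (BT.pln (nat_lit 0) (nat_lit 6) (BT.and (nat_lit 4) (nat_lit 0) (BT.br (nat_lit 0) (nat_lit 205) [nat_lit 5, nat_lit 7] (BT.kid (nat_lit 205) (nat_lit 648) (BT.dif (nat_lit 10) (nat_lit 7) (BT.pln (nat_lit 4) (nat_lit 7) (BT.and (nat_lit 1) (nat_lit 0) (BT.br (nat_lit 0) (nat_lit 121) [nat_lit 9] (BT.kid (nat_lit 121) (nat_lit 324) (BT.and (nat_lit 14) (nat_lit 11) (BT.frm (nat_lit 2) (nat_lit 0x3d42200212) (nat_lit 0x3d42200212) [nat_lit 5, nat_lit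 9, nat_lit 10, nat_lit 14] (BT.pln (nat_lit 0) (nat_lit 7) (BT.dif (nat_lit 2) (nat_lit 0) (BT.br (nat_lit 0) (nat_lit 196) [nat_lit 11, nat_lit 13] (BT.kid (nat_lit 196) (nat_lit 36) (BT.frm (nat_lit 3) (nat_lit 0x45483d42200212) (nat_lit 0x45483d42200212) [nat_lit 0, nat_lit 5, nat_lit 9, nat_lit 13, nat_lit 14, nat_lit 18] (BT.pln (nat_lit 0) (nat_lit 8) (BT.and (nat_lit 3) (nat_lit 0) (BT.br (nat_lit 0) (nat_lit 110) [nat_lit 15] (BT.kid (nat_lit 110) (nat_lit 18) (BT.pln (nat_lit 3) (nat_lit 7) (BT.and (nat_lit 3) (nat_lit 0) (BT.pln (nat_lit 5) (nat_lit 6) (BT.dif (nat_lit 1) (nat_lit 0) (BT.frm (nat_lit 4) (nat_lit 0x4945483d42200212) (nat_lit 0x4945483d42200212) [nat_lit 4, nat_lit 8, nat_lit 13, nat_lit 17, nat_lit 21, nat_lit 22, nat_lit 26] (BT.pln (nat_lit 0) (nat_lit 9) (BT.and (nat_lit 2) (nat_lit 0) (BT.br (nat_lit 0) (nat_lit 36) [nat_lit 17, nat_lit 19, nat_lit 21] (BT.kid (nat_lit 36) (nat_lit 1) (BT.one (nat_lit 5) (nat_lit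 0x4c4f4945483d42200212) (nat_lit 0x4c4f4945483d42200212) [nat_lit 0, nat_lit 8, nat_lit 12, nat_lit 17, nat_lit 21, nat_lit 25, nat_lit 26, nat_lit 30]) BT.nil))))))))) BT.nil))))) BT.nil)))))) BT.nil))))) BT.nil)))))) BT.nil))))) BT.nil)))

theorem yt_c9_cnt : Cnt 324 (grp 324 y_E0) [z_g262] [z_g262] 0 0 0 0 944784 :=
  BT.sound yt_c9_cnt_P Known.nil (t := yt_c9_cnt_t) (d := 0) (by decide +kernel)

theorem yt_c9_ge : 944784 ≤ Nat.card (grp 324 yt_c9_K) :=
  Ch.le_card_grp (k := 9) (L := (lab 324 9)) z_hn yt_c9_K_ok (c := (Ch.cons (nat_lit 56) [nat_lit 1] (Ch.cons (nat_lit 235) [nat_lit 3] (Ch.cons (nat_lit 205) [nat_lit 5, nat_lit 7] (Ch.cons (nat_lit 121) [nat_lit 9] (Ch.cons (nat_lit 196) [nat_lit 11, nat_lit 13] (Ch.cons (nat_lit 110) [nat_lit 15] (Ch.cons (nat_lit 36) [nat_lit 17, nat_lit 19, nat_lit 21] Ch.nil)))))))) (by decide +kernel)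

theorem yt_c9_eq : (grp 324 y_E0) ⊓ Subgroup.centralizer {Net.toPerm 324 z_g262} = grp 324 yt_c9_K :=
  cent_eq yt_c9_sym yt_c9_cnt yt_c9_ge

theorem yt_c9_card : Nat.card ↥((grp 324 y_E0) ⊓ Subgroup.centralizer {Net.toPerm 324 z_g262}) = 944784 :=
  card_cent yt_c9_sym yt_c9_cnt yt_c9_ge

theorem yt_c9_ord : orderOf (Net.toPerm 324 z_g262) = 3 :=
  orderOf_net z_hn z_hk z_g262_ok (by decide) (ps := [3]) (by set_option linter.unusedSimpArgs false in simp [Nat.primeFactorsList_ofNat]) (by decide +kernel)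

theorem z_le285 : grp 324 yt_c10_K ≤ grp 324 y_E0 :=
  grp_le_of_memB z_hn z_hk y_E0_ok yt_c10_K_ok (ws := [nat_lit 0x3b2f291a1107150112, nat_lit 0x38251a20070a012602, nat_lit 0x333b2b191e110707011101, nat_lit 0x352519260707013b02, nat_lit 0x33353c2619201a012502, nat_lit 0x3439262819201c12021202, nat_lit 0x38271b1a022501, nat_lit 0x333b2f281f19230707012602, nat_lit 0x3519201a012502]) (by decide +kernel)

theorem yt_c10_le : grp 324 yt_c10_K ≤ (grp 324 y_E0) :=
  (z_le285.trans z_T111_s0.le)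

theorem yt_c10_mem : Net.toPerm 324 z_g275 ∈ (grp 324 y_E0) :=
  yt_c10_le (mem_grp_of_memB z_hn z_hk yt_c10_K_ok z_g275_ok (w := (nat_lit 0xe0f0c08010d02)) (by decide +kernel))

theorem yt_c10_sym : Sym 324 (grp 324 y_E0) [z_g275] yt_c10_K 0 :=
  Sym.of_lab z_hn z_hk (okE_cons.2 ⟨z_g275_ok, okE_nil _⟩) yt_c10_K_ok yt_c10_le (kT := 0) (by decide +kernel)

theorem z_T111_s32 : Stab 324 (grp 324 y_E0) [nat_lit 28, nat_lit 24, nat_lit 18, nat_lit 3, nat_lit 1, nat_lit 9, nat_lit 2, nat_lit 0] z_V286 1 :=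
  Stab.step (k := 9) (L := (lab 324 9)) z_hn z_T111_s25 z_V286_ok (grp_mono (List.subset_append_right [z_g87, zg0, z_g91, z_g28, z_g88] _)) (c := Ch.nil) (by decide +kernel)

noncomputable def z_T111_s32_O : ℕ := (nat_lit 0xfffffffffffffffff000000000000000000000000000000000000000000000000000000000000000000000000000000000ffffffffffffffffffffffffffffffff00000000000000000000000000000000f0000000000000000ffffffffffffffff0000000000000000ffffffffffffffff00000000000000000ffffffff00000000ffffffff00000000ffffffff00000000ffffffff00000000ffffffff000000000ffff0000ffff0000ffff0000ffff0000ffff0000ffff0000ffff0000ffff0000ffff0000ffff00000ff00ff00ff00ff00ff00ff00ff00ff00ff00ff00ff00ff00ff00ff00ff00ff00ff00ff00ff00ff000f0f0f0f0f0f0f0f0f0f0f0f0f0f0f0f0f0f0f0f0f0f0f0f0f0f0f0f0f0f0f0f0f0f0f0f0f0f0f0f0cccccccccccccccccccccccccccccccccccccccccccccccccccccccccccccccccccccccccccccccccaaaaaaaaaaaaaaaaaaaaaaaaaaaaaaaaaaaaaaaaaaaaaaaaaaaaaaaaaaaaaaaaaaaaaaaaaaaa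aaaaa000000000000000000000000000000000000000000000000000000000000000000000000000000001000000000000000000000000000000000000000000000000000000000000000000000000000000004000000000000000000000000000000000000000000000000000000000000000000000000000000200000000000000000000000000000000000000000000000000000000000000000000000000000000002000000000000000000000000000000000000000000000000000000000000000000000000000000008000000000000000000000000000000000000000000000000000000000000000000000000000040000000000000000000000000000000000000000000000000000000000000000000000000000001000000000000000000000000000000000000000000000000000000000000000000000000000000010000000)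

theorem z_T111_s32_F : Frame 324 (grp 324 y_E0) 8 17 z_T111_s32_O 1 1 :=
  IsBase.frame z_T111_s32.isBase (by decide +kernel)

noncomputable def yt_c10_cnt_L : List ℕ := [1, 4, z_T111_s1_O, 0, 0, 2, 6, z_T111_s20_O, 0, 0, 4, 19, z_T111_s22_O, 0, 0, 6, 11, z_T111_s24_O, 0, 0, 7, 13, z_T111_s25_O, 0, 0, 8, 17, z_T111_s32_O, 1, 0]

theorem yt_c10_cnt_P : Prob 324 9 (grp 324 y_E0) yt_c10_cnt_EG [z_g275] [z_g275] yt_c10_K yt_c10_cnt_L 0 0 :=
  Sym.prob z_hn z_hk yt_c10_sym yt_c10_cnt_EG_ok (grp_cons_le z_g39_z_T111 (grp_cons_le zg1_z_T111 (grp_cons_le zg3_z_T111 (grp_cons_le z_g43_z_T111 (grp_cons_le z_g42_z_T111 (grp_cons_le zg2_z_T111 (grp_cons_le z_g44_z_T111 (grp_cons_le z_g54_z_T111 (grp_cons_le z_g55_z_T111 (grp_cons_le z_g49_z_T111 (grp_cons_le z_g50_z_T111 (grp_cons_le z_g51_z_T111 (grp_cons_le z_g62_z_T111 (grp_cons_le z_g58_z_T111 (grp_cons_le z_g59_z_T111 (grp_cons_le z_g65_z_T111 (grp_cons_le z_g66_z_T111 (grp_cons_le z_g67_z_T111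 (grp_cons_le z_g77_z_T111 (grp_cons_le z_g78_z_T111 (grp_cons_le z_g72_z_T111 (grp_cons_le z_g73_z_T111 (grp_cons_le z_g74_z_T111 (grp_cons_le z_g81_z_T111 (grp_cons_le z_g82_z_T111 (grp_cons_le z_g87_z_T111 (grp_cons_le zg0_z_T111 (grp_cons_le z_g91_z_T111 (grp_cons_le z_g28_z_T111 (grp_cons_le z_g88_z_T111 (grp_nil_le _))))))))))))))))))))))))))))))) (Frames.cons z_T111_s1_F (Frames.cons z_T111_s20_F (Frames.cons z_T111_s22_F (Frames.cons z_T111_s24_F (Frames.cons z_T111_s25_F (Frames.cons z_T111_s32_F Frames.nil)))))) (okE_cons.2 ⟨z_g275_ok, okE_nil _⟩) _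

noncomputable def yt_c10_cnt_t : BT := (BT.fix (nat_lit 1) (BT.dif (nat_lit 3) (nat_lit 0) (BT.br (nat_lit 0) (nat_lit 1) [nat_lit 1, nat_lit 5] (BT.kid (nat_lit 1) (nat_lit 2916) (BT.frm (nat_lit 0) (nat_lit 777) (nat_lit 777) [nat_lit 0] (BT.pln (nat_lit 0) (nat_lit 3) (BT.img (nat_lit 1) (nat_lit 2) (BT.frm (nat_lit 1) (nat_lit 0x7070309) (nat_lit 0x7070309) [nat_lit 0, nat_lit 3] (BT.pln (nat_lit 0) (nat_lit 4) (BT.and (nat_lit 3) (nat_lit 0) (BT.br (nat_lit 0) (nat_lit 8) [nat_lit 3] (BT.dead (nat_lit 10) (BT.pln (nat_lit 6) (nat_lit 2) (BT.dif (nat_lit 0) (nat_lit 10) (BT.br (nat_lit 0) (nat_lit 27) [nat_lit 0xd0f0c0508, nat_lit 0xf110c06] (BT.dead (nat_lit 21) (BT.frm (nat_lit 2) (nat_lit 0x191b1107070309) (nat_lit 0x19220f07070309) [nat_lit 0, nat_lit 3, nat_lit 7, nat_lit 10] (BT.pln (nat_lit 0) (nat_lit 11) (BT.img (nat_lit 1) (nat_lit 2) (BT.and (nat_lit 1) (nat_lit 0) (BT.cnt (nat_lit 0)))))) (BT.dead (nat_lit 27) (BT.frm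 (nat_lit 2) (nat_lit 0x191b1107070309) (nat_lit 0x19190f07070309) [nat_lit 0, nat_lit 3, nat_lit 7, nat_lit 10] (BT.pln (nat_lit 0) (nat_lit 7) (BT.and (nat_lit 0) (nat_lit 14) (BT.cnt (nat_lit 0))))) BT.nil))))) (BT.dead (nat_lit 14) (BT.pln (nat_lit 6) (nat_lit 2) (BT.dif (nat_lit 0) (nat_lit 10) (BT.br (nat_lit 0) (nat_lit 27) [nat_lit 0x110a0c07, nat_lit 4614] (BT.dead (nat_lit 27) (BT.frm (nat_lit 2) (nat_lit 0x191b1107070309) (nat_lit 0x191907070309) [nat_lit 0, nat_lit 3, nat_lit 7, nat_lit 10] (BT.pln (nat_lit 0) (nat_lit 10) (BT.img (nat_lit 1) (nat_lit 2) (BT.and (nat_lit 1) (nat_lit 0) (BT.cnt (nat_lit 0)))))) (BT.dead (nat_lit 21) (BT.frm (nat_lit 2) (nat_lit 0x191b1107070309) (nat_lit 0x1b1a07070309) [nat_lit 0, nat_lit 3, nat_lit 7, nat_lit 10] (BT.pln (nat_lit 0) (nat_lit 7) (BT.and (nat_lit 0) (nat_lit 14) (BT.cnt (nat_lit 0))))) BT.nil))))) (BT.kid (nat_lit 8) (nat_lit 1458) (BT.pln (nat_lit 6) (nat_lit 2) (BT.dif (nat_lit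 0) (nat_lit 10) (BT.br (nat_lit 0) (nat_lit 27) [nat_lit 5, nat_lit 7, nat_lit 11] (BT.dead (nat_lit 21) (BT.frm (nat_lit 2) (nat_lit 0x191b1107070309) (nat_lit 0x1d1f1107070309) [nat_lit 0, nat_lit 3, nat_lit 7, nat_lit 10] (BT.pln (nat_lit 0) (nat_lit 7) (BT.and (nat_lit 0) (nat_lit 14) (BT.cnt (nat_lit 0))))) (BT.kid (nat_lit 27) (nat_lit 162) (BT.frm (nat_lit 2) (nat_lit 0x191b1107070309) (nat_lit 0x191b1107070309) [nat_lit 0, nat_lit 3, nat_lit 7, nat_lit 10] (BT.pln (nat_lit 0) (nat_lit 7) (BT.and (nat_lit 3) (nat_lit 0) (BT.br (nat_lit 0) (nat_lit 26) [nat_lit 9, nat_lit 11] (BT.kid (nat_lit 26) (nat_lit 18) (BT.pln (nat_lit 13) (nat_lit 1) (BT.dif (nat_lit 0) (nat_lit 17) (BT.dif (nat_lit 3) (nat_lit 2) (BT.img (nat_lit 1) (nat_lit 3) (BT.dif (nat_lit 1) (nat_lit 0) (BT.img (nat_lit 1) (nat_lit 1) (BT.dif (nat_lit 1) (nat_lit 0) (BT.pln (nat_lit 10) (nat_lit 9) (BT.and (nat_lit 14) (nat_lit 0) (BT.pln (nat_lit 12) (nat_lit 10)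 (BT.and (nat_lit 16) (nat_lit 0) (BT.img (nat_lit 1) (nat_lit 0) (BT.dif (nat_lit 3) (nat_lit 0) (BT.frm (nat_lit 3) (nat_lit 0x191b1107070309) (nat_lit 0x191b1107070309) [nat_lit 13, nat_lit 0, nat_lit 17, nat_lit 20, nat_lit 24, nat_lit 27] (BT.pln (nat_lit 0) (nat_lit 6) (BT.dif (nat_lit 8) (nat_lit 0) (BT.and (nat_lit 9) (nat_lit 1) (BT.pln (nat_lit 3) (nat_lit 7) (BT.and (nat_lit 1) (nat_lit 0) (BT.img (nat_lit 1) (nat_lit 0) (BT.dif (nat_lit 4) (nat_lit 0) (BT.frm (nat_lit 4) (nat_lit 0x191b1107070309) (nat_lit 0x191b1107070309) [nat_lit 0, nat_lit 21, nat_lit 8, nat_lit 25, nat_lit 28, nat_lit 32, nat_lit 35] (BT.pln (nat_lit 0) (nat_lit 8) (BT.dif (nat_lit 21) (nat_lit 0) (BT.br (nat_lit 0) (nat_lit 189) [nat_lit 13, nat_lit 15, nat_lit 17] (BT.kid (nat_lit 189) (nat_lit 1) (BT.one (nat_lit 5) (nat_lit 0x39191b1107070309) (nat_lit 0x39191b1107070309) [nat_lit 0, nat_lit 4, nat_lit 25, nat_lit 12, nat_lit 29, nat_lit 32, nat_lit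 36, nat_lit 39]) BT.nil)))))))))))))))))))))))))) BT.nil))))) BT.nil))))) BT.nil)))))))))) BT.nil))))

theorem yt_c10_cnt : Cnt 324 (grp 324 y_E0) [z_g275] [z_g275] 0 0 0 0 708588 :=
  BT.sound yt_c10_cnt_P Known.nil (t := yt_c10_cnt_t) (d := 0) (by decide +kernel)

theorem yt_c10_ge : 708588 ≤ Nat.card (grp 324 yt_c10_K) :=
  Ch.le_card_grp (k := 9) (L := (lab 324 9)) z_hn yt_c10_K_ok (c := (Ch.cons (nat_lit 1) [nat_lit 1] (Ch.cons (nat_lit 8) [nat_lit 3] (Ch.cons (nat_lit 27) [nat_lit 5, nat_lit 7] (Ch.cons (nat_lit 26) [nat_lit 9, nat_lit 11] (Ch.cons (nat_lit 189) [nat_lit 13, nat_lit 15, nat_lit 17] Ch.nil)))))) (by decide +kernel)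

theorem yt_c10_eq : (grp 324 y_E0) ⊓ Subgroup.centralizer {Net.toPerm 324 z_g275} = grp 324 yt_c10_K :=
  cent_eq yt_c10_sym yt_c10_cnt yt_c10_ge

theorem yt_c10_card : Nat.card ↥((grp 324 y_E0) ⊓ Subgroup.centralizer {Net.toPerm 324 z_g275}) = 708588 :=
  card_cent yt_c10_sym yt_c10_cnt yt_c10_ge

theorem yt_c10_ord : orderOf (Net.toPerm 324 z_g275) = 3 :=
  orderOf_net z_hn z_hk z_g275_ok (by decide) (ps := [3]) (by set_option linter.unusedSimpArgs false in simp [Nat.primeFactorsList_ofNat]) (by decide +kernel)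

theorem z_le296 : grp 324 yt_c11_K ≤ grp 324 y_E0 :=
  grp_le_of_memB z_hn z_hk y_E0_ok yt_c11_K_ok (ws := [nat_lit 0x3311013c, nat_lit 0x3338291f19200f120707020701, nat_lit 0x35261f1a200f12031a, nat_lit 0x34392b1f19221a120707012905, nat_lit 0x38261d1f11011101, nat_lit 0x33392f2819221a022501, nat_lit 0x37251f1d013802, nat_lit 0x353c2f25191b1b1107050705]) (by decide +kernel)

theorem yt_c11_le : grp 324 yt_c11_K ≤ (grp 324 y_E0) :=
  (z_le296.trans z_T111_s0.le)

theorem yt_c11_mem : Net.toPerm 324 z_g287 ∈ (grp 324 y_E0) :=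
  yt_c11_le (mem_grp_of_memB z_hn z_hk yt_c11_K_ok z_g287_ok (w := (nat_lit 0xd0905040604)) (by decide +kernel))

theorem yt_c11_sym : Sym 324 (grp 324 y_E0) [z_g287] yt_c11_K 0 :=
  Sym.of_lab z_hn z_hk (okE_cons.2 ⟨z_g287_ok, okE_nil _⟩) yt_c11_K_ok yt_c11_le (kT := 0) (by decide +kernel)

theorem z_le299 : grp 324 z_V298 ≤ grp 324 z_V142 :=
  grp_le_of_memB z_hn z_hk z_V142_ok z_V298_ok (ws := [nat_lit 66565]) (by decide +kernel)

theorem z_T111_s33 : Stab 324 (grp 324 y_E0) [nat_lit 16, nat_lit 26, nat_lit 25, nat_lit 13, nat_lit 27, nat_lit 84, nat_lit 298, nat_lit 0] z_V298 2 :=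
  Stab.step (k := 9) (L := (lab 324 9)) z_hn z_T111_s7 z_V298_ok z_le299 (c := (Ch.cons (nat_lit 248) [nat_lit 1] Ch.nil)) (by decide +kernel)

theorem z_T111_s34 : Stab 324 (grp 324 y_E0) [nat_lit 248, nat_lit 16, nat_lit 26, nat_lit 25, nat_lit 13, nat_lit 27, nat_lit 84, nat_lit 298, nat_lit 0] z_V300 1 :=
  Stab.step (k := 9) (L := (lab 324 9)) z_hn z_T111_s33 z_V300_ok (grp_mono (List.subset_append_right [z_g297] _)) (c := Ch.nil) (by decide +kernel)

theorem z_g297_z_T111 : Net.toPerm 324 z_g297 ∈ (grp 324 y_E0) :=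
  z_T111_s33.le (toPerm_mem_grp (E := z_V298) (List.Mem.head _))

noncomputable def z_T111_s34_O : ℕ := (nat_lit 0xfffffffffffffffff000000000000000000000000000000000000000000000000000000000000000000000000000000000ffffffffffffffffffffffffffffffff00000000000000000000000000000000f0000000000000000ffffffffffffffff0000000000000000ffffffffffffffff00000000000000000ffffffff00000000ffffffff00000000ffffffff00000000ffffffff00000000ffffffff000000000ffff0000ffff0000ffff0000ffff0000ffff0000ffff0000ffff0000ffff0000ffff0000ffff00000ff00ff00ff00ff00ff00ff00ff00ff00ff00ff00ff00ff00ff00ff00ff00ff00ff00ff00ff00ff000f0f0f0f0f0f0f0f0f0f0f0f0f0f0f0f0f0f0f0f0f0f0f0f0f0f0f0f0f0f0f0f0f0f0f0f0f0f0f0f0cccccccccccccccccccccccccccccccccccccccccccccccccccccccccccccccccccccccccccccccccaaaaaaaaaaaaaaaaaaaaaaaaaaaaaaaaaaaaaaaaaaaaaaaaaaaaaaaaaaaaaaaaaaaaaaaaaaaaaaaaa00000000000000000000000000000000000000000000000000000000000000000000000000000000100000040000000000000000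0000000000000000000000000000000000000000000000000000000000000000000000000000000000000000000000000000000000000000000001000000000000000000000000000000000000000000000000000000000000000000000000000000000000000000000008000000000000000000000000000000000000000000000000000000000000000000000000000000000002000000000000000000000000000000000000000000000000000000000000000000000000000002000000000000000000000000000000000000000000000000000000000000000000000000000000004000000000000000000000000000000000000000000000000000000000000000000000000000000000010000000000000000000000100000000000000000000000000000000000000000000000000000000000000)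

theorem z_T111_s34_F : Frame 324 (grp 324 y_E0) 9 18 z_T111_s34_O 1 1 :=
  IsBase.frame z_T111_s34.isBase (by decide +kernel)

noncomputable def z_T111_s33_O : ℕ := (nat_lit 0xced1e506165aa3992c504511402000000000000000040000000000000000040200000000001fe0ab4212e1ab1a9844c66c3aea02e8addffe3af804bfddef9afb79b79ffea0000000000000000000000000112a102940a55c605126b8fced73ffe3bfc05f9cfe86404864820005d5febffaffc0000000180000098e3f039e8844862820c80e29f1ffff3604314620179dfd3b3040005fdfcfa05003ffff00007e0ab406120daabbbdfb1313af282ea943f80cdfdbf3432139fe60087578159de001f8c02fe00ff007e0a00172e1d1c185c30eaee1712f4f8e986d09f6c205af13d71f368fd8791961e81e13c3e170f0f07800b40d8f8b9b76104be8bbcdfc50c9466632dc96ccf0ad30e89cf46c66718398359e33399ccccc06645e0868d591344ee8ab667ac5996a0eb55a95af522b74a6ac4a6a654555d51566d55aab552aaaa1541d98000000000000000000000000000000000000000000000000000000000000000000000000000000001000000400000000000000000000000000000000000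000000000000000000000000000000000000000000000000000000000000000000000000000000000000000000000000001000000000000000000000000000000000000000000000000000000000000000000000000000000000000000000000008000000000000000000000000000000000000000000000000000000000000000000000000000000000002000000000000000000000000000000000000000000000000000000000000000000000000000002000000000000000000000000000000000000000000000000000000000000000000000000000000004000000000000000000000000000000000000000000000000000000000000000000000000000000000010000)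

theorem z_T111_s33_F : Frame 324 (grp 324 y_E0) 8 16 z_T111_s33_O 0 1 :=
  Stab.frame z_hn z_T111_s33 (by decide +kernel)

noncomputable def yt_c11_cnt_L : List ℕ := [1, 4, z_T111_s1_O, 0, 0, 2, 6, z_T111_s2_O, 0, 0, 3, 9, z_T111_s3_O, 0, 0, 4, 19, z_T111_s4_O, 0, 0, 5, 10, z_T111_s5_O, 0, 0, 6, 11, z_T111_s6_O, 0, 0, 8, 16, z_T111_s33_O, 0, 0, 9, 18, z_T111_s34_O, 1, 0]

theorem yt_c11_cnt_P : Prob 324 9 (grp 324 y_E0) yt_c11_cnt_EG [z_g287] [z_g287] yt_c11_K yt_c11_cnt_L 0 0 :=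
  Sym.prob z_hn z_hk yt_c11_sym yt_c11_cnt_EG_ok (grp_cons_le z_g39_z_T111 (grp_cons_le zg1_z_T111 (grp_cons_le zg3_z_T111 (grp_cons_le z_g43_z_T111 (grp_cons_le z_g42_z_T111 (grp_cons_le zg2_z_T111 (grp_cons_le z_g44_z_T111 (grp_cons_le z_g54_z_T111 (grp_cons_le z_g55_z_T111 (grp_cons_le z_g49_z_T111 (grp_cons_le z_g50_z_T111 (grp_cons_le z_g51_z_T111 (grp_cons_le z_g62_z_T111 (grp_cons_le z_g58_z_T111 (grp_cons_le z_g59_z_T111 (grp_cons_le z_g65_z_T111 (grp_cons_le z_g66_z_T111 (grp_cons_le z_g67_z_T111 (grp_cons_le z_g77_z_T111 (grp_cons_le z_g78_z_T111 (grp_cons_le z_g72_z_T111 (grp_cons_le z_g73_z_T111 (grp_cons_le z_g74_z_T111 (grp_cons_le z_g81_z_T111 (grp_cons_le z_g82_z_T111 (grp_cons_le z_g87_z_T111 (grp_cons_le zg0_z_T111 (grp_cons_le z_g91_z_T111 (grp_cons_le z_g28_z_T111 (grp_cons_le z_g88_z_T111 (grp_cons_le z_g126_z_T111 (grp_cons_le z_g127_z_T111 (grp_cons_le z_g128_z_T111 (grp_cons_le z_g129_z_T111 (grp_cons_le z_g130_z_T111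 (grp_cons_le z_g131_z_T111 (grp_cons_le z_g132_z_T111 (grp_cons_le z_g133_z_T111 (grp_cons_le z_g134_z_T111 (grp_cons_le z_g135_z_T111 (grp_cons_le z_g297_z_T111 (grp_nil_le _)))))))))))))))))))))))))))))))))))))))))) (Frames.cons z_T111_s1_F (Frames.cons z_T111_s2_F (Frames.cons z_T111_s3_F (Frames.cons z_T111_s4_F (Frames.cons z_T111_s5_F (Frames.cons z_T111_s6_F (Frames.cons z_T111_s33_F (Frames.cons z_T111_s34_F Frames.nil)))))))) (okE_cons.2 ⟨z_g287_ok, okE_nil _⟩) _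

noncomputable def yt_c11_cnt_t : BT := (BT.fix (nat_lit 1) (BT.br (nat_lit 0) (nat_lit 36) [nat_lit 1, nat_lit 3, nat_lit 7] (BT.kid (nat_lit 36) (nat_lit 5832) (BT.frm (nat_lit 0) (nat_lit 66847) (nat_lit 66847) [nat_lit 0] (BT.pln (nat_lit 0) (nat_lit 2) (BT.dif (nat_lit 0) (nat_lit 3) (BT.br (nat_lit 0) (nat_lit 194) [nat_lit 3, nat_lit 5] (BT.kid (nat_lit 194) (nat_lit 324) (BT.img (nat_lit 1) (nat_lit 0) (BT.frm (nat_lit 2) (nat_lit 0xd01051f) (nat_lit 0xd01051f) [nat_lit 0, nat_lit 1, nat_lit 5] (BT.pln (nat_lit 0) (nat_lit 6) (BT.and (nat_lit 4) (nat_lit 0) (BT.br (nat_lit 0) (nat_lit 179) [] (BT.dead (nat_lit 198) (BT.frm (nat_lit 3) (nat_lit 0xd01051f) (nat_lit 0x3f420d01051f) [nat_lit 0, nat_lit 4, nat_lit 5, nat_lit 9] (BT.pln (nat_lit 0) (nat_lit 5) (BT.and (nat_lit 0) (nat_lit 12) (BT.cnt (nat_lit 0))))) (BT.dead (nat_lit 199) (BT.frm (nat_lit 3) (nat_lit 0xd01051f) (nat_lit 0x3f410d01051f) [nat_lit 0, nat_lit 4, nat_lit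 5, nat_lit 9] (BT.pln (nat_lit 0) (nat_lit 7) (BT.and (nat_lit 0) (nat_lit 12) (BT.cnt (nat_lit 0))))) (BT.dead (nat_lit 68) (BT.frm (nat_lit 3) (nat_lit 0xd01051f) (nat_lit 0x420d01051f) [nat_lit 0, nat_lit 4, nat_lit 5, nat_lit 9] (BT.pln (nat_lit 0) (nat_lit 5) (BT.and (nat_lit 0) (nat_lit 12) (BT.cnt (nat_lit 0))))) (BT.dead (nat_lit 82) (BT.frm (nat_lit 3) (nat_lit 0xd01051f) (nat_lit 0x3f0d01051f) [nat_lit 0, nat_lit 4, nat_lit 5, nat_lit 9] (BT.pln (nat_lit 0) (nat_lit 4) (BT.and (nat_lit 0) (nat_lit 12) (BT.cnt (nat_lit 0))))) (BT.dead (nat_lit 47) (BT.frm (nat_lit 3) (nat_lit 0xd01051f) (nat_lit 0x410d01051f) [nat_lit 0, nat_lit 4, nat_lit 5, nat_lit 9] (BT.pln (nat_lit 0) (nat_lit 4) (BT.and (nat_lit 0) (nat_lit 12) (BT.cnt (nat_lit 0))))) (BT.kid (nat_lit 179) (nat_lit 324) (BT.pln (nat_lit 8) (nat_lit 3) (BT.and (nat_lit 11) (nat_lit 0) (BT.pln (nat_lit 5) (nat_lit 5) (BT.dif (nat_lit 1) (nat_lit 0) (BT.br (nat_lit 0) (nat_lit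 178) [nat_lit 5] (BT.kid (nat_lit 178) (nat_lit 162) (BT.dif (nat_lit 11) (nat_lit 7) (BT.pln (nat_lit 9) (nat_lit 4) (BT.and (nat_lit 1) (nat_lit 0) (BT.br (nat_lit 0) (nat_lit 104) [nat_lit 7, nat_lit 9] (BT.kid (nat_lit 104) (nat_lit 18) (BT.and (nat_lit 2) (nat_lit 19) (BT.br (nat_lit 0) (nat_lit 189) [nat_lit 11, nat_lit 13] (BT.kid (nat_lit 189) (nat_lit 2) (BT.dif (nat_lit 24) (nat_lit 21) (BT.frm (nat_lit 3) (nat_lit 0xd01051f) (nat_lit 0xd01051f) [nat_lit 12, nat_lit 16, nat_lit 17, nat_lit 21] (BT.pln (nat_lit 0) (nat_lit 6) (BT.and (nat_lit 2) (nat_lit 0) (BT.frm (nat_lit 4) (nat_lit 0x430d01051f) (nat_lit 0x430d01051f) [nat_lit 10, nat_lit 15, nat_lit 19, nat_lit 20, nat_lit 24] (BT.pln (nat_lit 0) (nat_lit 5) (BT.dif (nat_lit 2) (nat_lit 0) (BT.frm (nat_lit 1) (nat_lit 0xd01051f) (nat_lit 0xd01051f) [nat_lit 23, nat_lit 27] (BT.pln (nat_lit 0) (nat_lit 3) (BT.and (nat_lit 26) (nat_lit 0) (BT.dif (nat_lit 0) (nat_lit 12) (BT.frm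 (nat_lit 5) (nat_lit 0x48430d01051f) (nat_lit 0x48430d01051f) [nat_lit 13, nat_lit 17, nat_lit 22, nat_lit 26, nat_lit 27, nat_lit 31] (BT.pln (nat_lit 0) (nat_lit 8) (BT.and (nat_lit 2) (nat_lit 0) (BT.img (nat_lit 1) (nat_lit 16) (BT.dif (nat_lit 4) (nat_lit 0) (BT.img (nat_lit 1) (nat_lit 1) (BT.dif (nat_lit 1) (nat_lit 0) (BT.pln (nat_lit 6) (nat_lit 7) (BT.and (nat_lit 1) (nat_lit 0) (BT.img (nat_lit 1) (nat_lit 0) (BT.dif (nat_lit 7) (nat_lit 0) (BT.frm (nat_lit 6) (nat_lit 0x4f4948430d01051f) (nat_lit 0x4f4948430d01051f) [nat_lit 22, nat_lit 0, nat_lit 24, nat_lit 28, nat_lit 33, nat_lit 37, nat_lit 38, nat_lit 42] (BT.pln (nat_lit 0) (nat_lit 15) (BT.and (nat_lit 17) (nat_lit 0) (BT.pln (nat_lit 2) (nat_lit 8) (BT.dif (nat_lit 1) (nat_lit 0) (BT.pln (nat_lit 4) (nat_lit 9) (BT.dif (nat_lit 1) (nat_lit 0) (BT.br (nat_lit 0) (nat_lit 249) [nat_lit 15] (BT.kid (nat_lit 249) (nat_lit 1) (BT.one (nat_lit 7) (nat_lit 0x4f4948430d01051f)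 (nat_lit 0x4f4948430d01051f) [nat_lit 0, nat_lit 30, nat_lit 8, nat_lit 32, nat_lit 36, nat_lit 41, nat_lit 45, nat_lit 46, nat_lit 50]) BT.nil))))))))))))))))))))))))))))))) BT.nil))) BT.nil))))) BT.nil)))))) BT.nil))))))))))) BT.nil))))) BT.nil)))

theorem yt_c11_cnt : Cnt 324 (grp 324 y_E0) [z_g287] [z_g287] 0 0 0 0 314928 :=
  BT.sound yt_c11_cnt_P Known.nil (t := yt_c11_cnt_t) (d := 0) (by decide +kernel)

theorem yt_c11_ge : 314928 ≤ Nat.card (grp 324 yt_c11_K) :=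
  Ch.le_card_grp (k := 9) (L := (lab 324 9)) z_hn yt_c11_K_ok (c := (Ch.cons (nat_lit 36) [nat_lit 1] (Ch.cons (nat_lit 194) [nat_lit 3] (Ch.cons (nat_lit 178) [nat_lit 5] (Ch.cons (nat_lit 104) [nat_lit 7, nat_lit 9] (Ch.cons (nat_lit 189) [nat_lit 11, nat_lit 13] (Ch.cons (nat_lit 249) [nat_lit 15] Ch.nil))))))) (by decide +kernel)

theorem yt_c11_eq : (grp 324 y_E0) ⊓ Subgroup.centralizer {Net.toPerm 324 z_g287} = grp 324 yt_c11_K :=
  cent_eq yt_c11_sym yt_c11_cnt yt_c11_ge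

theorem yt_c11_card : Nat.card ↥((grp 324 y_E0) ⊓ Subgroup.centralizer {Net.toPerm 324 z_g287}) = 314928 :=
  card_cent yt_c11_sym yt_c11_cnt yt_c11_ge

theorem yt_c11_ord : orderOf (Net.toPerm 324 z_g287) = 3 :=
  orderOf_net z_hn z_hk z_g287_ok (by decide) (ps := [3]) (by set_option linter.unusedSimpArgs false in simp [Nat.primeFactorsList_ofNat]) (by decide +kernel)

theorem z_le308 : grp 324 yt_c12_K ≤ grp 324 y_E0 :=
  grp_le_of_memB z_hn z_hk y_E0_ok yt_c12_K_ok (ws := [nat_lit 0x3c2f2519201c1507010507, nat_lit 0x372519201c1109, nat_lit 0x3b291f1a250f08030d, nat_lit 0x342619201c013b02, nat_lit 0x38262819201a012502, nat_lit 0x35382628, nat_lit 0x392f29, nat_lit 0x34392f291f]) (by decide +kernel)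

theorem yt_c12_le : grp 324 yt_c12_K ≤ (grp 324 y_E0) :=
  (z_le308.trans z_T111_s0.le)

theorem yt_c12_mem : Net.toPerm 324 z_g301 ∈ (grp 324 y_E0) :=
  yt_c12_le (mem_grp_of_memB z_hn z_hk yt_c12_K_ok z_g301_ok (w := (nat_lit 0xc0e08090303)) (by decide +kernel))

theorem yt_c12_sym : Sym 324 (grp 324 y_E0) [z_g301] yt_c12_K 0 :=
  Sym.of_lab z_hn z_hk (okE_cons.2 ⟨z_g301_ok, okE_nil _⟩) yt_c12_K_ok yt_c12_le (kT := 0) (by decide +kernel)

theorem z_le312 : grp 324 z_V311 ≤ grp 324 z_V161 :=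
  grp_le_of_memB z_hn z_hk z_V161_ok z_V311_ok (ws := [nat_lit 198401, nat_lit 1537]) (by decide +kernel)

theorem z_T111_s35 : Stab 324 (grp 324 y_E0) [nat_lit 26, nat_lit 12, nat_lit 3, nat_lit 27, nat_lit 84, nat_lit 298, nat_lit 0] z_V311 4 :=
  Stab.step (k := 9) (L := (lab 324 9)) z_hn z_T111_s10 z_V311_ok z_le312 (c := (Ch.cons (nat_lit 18) [nat_lit 1] (Ch.cons (nat_lit 320) [nat_lit 3] Ch.nil))) (by decide +kernel)

theorem z_T111_s36 : Stab 324 (grp 324 y_E0) [nat_lit 18, nat_lit 26, nat_lit 12, nat_lit 3, nat_lit 27, nat_lit 84, nat_lit 298, nat_lit 0] z_V313 2 :=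
  Stab.step (k := 9) (L := (lab 324 9)) z_hn z_T111_s35 z_V313_ok (grp_mono (List.subset_append_right [z_g309] _)) (c := (Ch.cons (nat_lit 320) [nat_lit 1] Ch.nil)) (by decide +kernel)

theorem z_T111_s37 : Stab 324 (grp 324 y_E0) [nat_lit 320, nat_lit 18, nat_lit 26, nat_lit 12, nat_lit 3, nat_lit 27, nat_lit 84, nat_lit 298, nat_lit 0] z_V314 1 :=
  Stab.step (k := 9) (L := (lab 324 9)) z_hn z_T111_s36 z_V314_ok (grp_mono (List.subset_append_right [z_g310] _)) (c := Ch.nil) (by decide +kernel)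

theorem z_g309_z_T111 : Net.toPerm 324 z_g309 ∈ (grp 324 y_E0) :=
  z_T111_s35.le (toPerm_mem_grp (E := z_V311) (List.Mem.head _))

theorem z_g310_z_T111 : Net.toPerm 324 z_g310 ∈ (grp 324 y_E0) :=
  z_T111_s35.le (toPerm_mem_grp (E := z_V311) (List.Mem.tail _ (List.Mem.head _)))

noncomputable def z_T111_s37_O : ℕ := (nat_lit 0xfffffffffffffffff000000000000000000000000000000000000000000000000000000000000000000000000000000000ffffffffffffffffffffffffffffffff00000000000000000000000000000000f0000000000000000ffffffffffffffff0000000000000000ffffffffffffffff00000000000000000ffffffff00000000ffffffff00000000ffffffff00000000ffffffff00000000ffffffff000000000ffff0000ffff0000ffff0000ffff0000ffff0000ffff0000ffff0000ffff0000ffff0000ffff00000ff00ff00ff00ff00ff00ff00ff00ff00ff00ff00ff00ff00ff00ff00ff00ff00ff00ff00ff00ff000f0f0f0f0f0f0f0f0f0f0f0f0f0f0f0f0f0f0f0f0f0f0f0f0f0f0f0f0f0f0f0f0f0f0f0f0f0f0f0f0ccccccccccccccccccccccccccccccccccccccccccccccccc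ccccccccccccccccccccccccccccccccaaaaaaaaaaaaaaaaaaaaaaaaaaaaaaaaaaaaaaaaaaaaaaaaaaaaaaaaaaaaaaaaaaaaaaaaaaaaaaaaa000000000000000000000000000000000000000000000000000000000000000000000000000000001000000400000000000000000000000000000000000000000000000000000000000000000000000000000000000000000000000000000000000000000000000000000000000001000000000000000000000000000000000000000000000000000000000000000000000000000000000000000000000008000000000000000000000000000000000000000000000000000000000000000000000000000000000000008000000000000000000000000000000000000000000000000000000000000000000000000000001000000000000000000000000000000000000000000000000000000000000000000000000000004000000000000000000000000000000000000000000000000000000000000000000000000000000000040000100000000000000000000000000000000000000000000000000000000000000000000000000000000)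

theorem z_T111_s37_F : Frame 324 (grp 324 y_E0) 9 18 z_T111_s37_O 1 1 :=
  IsBase.frame z_T111_s37.isBase (by decide +kernel)

noncomputable def z_T111_s36_O : ℕ := (nat_lit 0x43162826f6588171141450bed82000000000000000040000000000000000040200000000003f9c5420881d79809061e8aa9ca2f4103ddfbe344718ffffdfbf71ff79dffea00000000000000000000000003448500008a37e8ceb62265141f3c7af45738fffdf7e08e008420001ddbefffbffc00000003000000c37c07316804260e01e3a70021ddb3df5f799b800201df7e77b20005dddefb04003fdfb0000f9c542a8a208871b7d27d736fa864124d56365c942647fb001b73e886ff811fdf000f9c03fe04ff00f9c000bcc3f417184607f40b8472f840b95e4625bfb45c2fc5bea07c2d8795ba4ea0f43c3c1e4f0f0f0054243f91e1495cc5d2719cc5712c3906db18e3e6e730e31a0f96b6e6665e76c1ccb3333198ccc0c927a0d1ac613a98dd14c3cf2c459734e9cdead3a1294aaba91135dae9555d568a96acaaaa952aaa2aaa650000000000000000000000000000000000000000000000000000000000000000000000000000000001000000400000000000000000000000000000000000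000000000000000000000000000000000000000000000000000000000000000000000000000000000000000000000000001000000000000000000000000000000000000000000000000000000000000000000000000000000000000000000000008000000000000000000000000000000000000000000000000000000000000000000000000000000000000008000000000000000000000000000000000000000000000000000000000000000000000000000001000000000000000000000000000000000000000000000000000000000000000000000000000004000000000000000000000000000000000000000000000000000000000000000000000000000000000040000)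

theorem z_T111_s36_F : Frame 324 (grp 324 y_E0) 8 16 z_T111_s36_O 0 1 :=
  Stab.frame z_hn z_T111_s36 (by decide +kernel)

noncomputable def z_T111_s35_O : ℕ := (nat_lit 0x2102800e0180081140644fa4020c1000450014c00040000000000000000040200000000003ffeff649c9d71c1f42992ca8b819018b05386e000306b3ff7aff6f6f9fe6eb898ebac000000000000000000bc2790b71fe5fb7ae2581110c92f3ee100000e9254bf719ed674ff804450043afffe000000001c5427182541a1c67be74aa613915dba136b11208ba02bd7d00a9e64b107fa1b04539f8001bff003fe2ab42ede3c2c94c1ff3872cabcbfbe8c03119750c4b1b630ee03307dc06e541ef13e87a0f5a0f03fdc000e7d2311299e8647daa0550aa42e7cceacb0d69e37c8a7663409d2565d676cb3767591d18cc2b127a00ed74b2f117c95dbfe41a6294c90b1718988918a9bad5ffd0ddaa35d574c28aa54955a92aa38aa650000000000000000000000000000000000000000000000000000000000000000000000000000000001000000400000000000000000000000000000000000000000000000000000000000000000000000000000000000000000000000000000000000000000000000000000000000001000000000000000000000000000000000000000000000000000000000000000000000000000000000000000000000008000000000000000000000000000000000000000000000000000000000000000000000000000000000000008000000000000000000000000000000000000000000000000000000000000000000000000000001000000000000000000000000000000000000000000000000000000000000000000000000000004000000)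

theorem z_T111_s35_F : Frame 324 (grp 324 y_E0) 7 14 z_T111_s35_O 0 1 :=
  Stab.frame z_hn z_T111_s35 (by decide +kernel)

noncomputable def yt_c12_cnt_L : List ℕ := [1, 4, z_T111_s1_O, 0, 0, 3, 9, z_T111_s3_O, 0, 0, 4, 19, z_T111_s4_O, 0, 0, 5, 23, z_T111_s9_O, 0, 0, 7, 14, z_T111_s35_O, 0, 0, 8, 16, z_T111_s36_O, 0, 0, 9, 18, z_T111_s37_O, 1, 0]

theorem yt_c12_cnt_P : Prob 324 9 (grp 324 y_E0) yt_c12_cnt_EG [z_g301] [z_g301] yt_c12_K yt_c12_cnt_L 0 0 :=
  Sym.prob z_hn z_hk yt_c12_sym yt_c12_cnt_EG_ok (grp_cons_le z_g39_z_T111 (grp_cons_le zg1_z_T111 (grp_cons_le zg3_z_T111 (grp_cons_le z_g43_z_T111 (grp_cons_le z_g42_z_T111 (grp_cons_le zg2_z_T111 (grp_cons_le z_g44_z_T111 (grp_cons_le z_g54_z_T111 (grp_cons_le z_g55_z_T111 (grp_cons_le z_g49_z_T111 (grp_cons_le z_g50_z_T111 (grp_cons_le z_g51_z_T111 (grp_cons_le z_g62_z_T111 (grp_cons_le z_g58_z_T111 (grp_cons_le z_g59_z_T111 (grp_cons_le z_g65_z_T111 (grp_cons_le z_g66_z_T111 (grp_cons_le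 z_g67_z_T111 (grp_cons_le z_g77_z_T111 (grp_cons_le z_g78_z_T111 (grp_cons_le z_g72_z_T111 (grp_cons_le z_g73_z_T111 (grp_cons_le z_g74_z_T111 (grp_cons_le z_g81_z_T111 (grp_cons_le z_g82_z_T111 (grp_cons_le z_g87_z_T111 (grp_cons_le zg0_z_T111 (grp_cons_le z_g91_z_T111 (grp_cons_le z_g28_z_T111 (grp_cons_le z_g88_z_T111 (grp_cons_le z_g126_z_T111 (grp_cons_le z_g127_z_T111 (grp_cons_le z_g128_z_T111 (grp_cons_le z_g129_z_T111 (grp_cons_le z_g130_z_T111 (grp_cons_le z_g131_z_T111 (grp_cons_le z_g132_z_T111 (grp_cons_le z_g133_z_T111 (grp_cons_le z_g134_z_T111 (grp_cons_le z_g135_z_T111 (grp_cons_le z_g155_z_T111 (grp_cons_le z_g156_z_T111 (grp_cons_le z_g157_z_T111 (grp_cons_le z_g158_z_T111 (grp_cons_le z_g154_z_T111 (grp_cons_le z_g309_z_T111 (grp_cons_le z_g310_z_T111 (grp_nil_le _)))))))))))))))))))))))))))))))))))))))))))))))) (Frames.cons z_T111_s1_F (Frames.cons z_T111_s3_F (Frames.cons z_T111_s4_F (Frames.cons z_T111_s9_F (Frames.cons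 z_T111_s35_F (Frames.cons z_T111_s36_F (Frames.cons z_T111_s37_F Frames.nil))))))) (okE_cons.2 ⟨z_g301_ok, okE_nil _⟩) _

noncomputable def yt_c12_cnt_t : BT := (BT.fix (nat_lit 1) (BT.br (nat_lit 0) (nat_lit 1) [nat_lit 1, nat_lit 3] (BT.kid (nat_lit 1) (nat_lit 8748) (BT.frm (nat_lit 0) (nat_lit 777) (nat_lit 777) [nat_lit 0] (BT.pln (nat_lit 0) (nat_lit 2) (BT.br (nat_lit 0) (nat_lit 27) [nat_lit 3, nat_lit 5] (BT.kid (nat_lit 27) (nat_lit 324) (BT.img (nat_lit 1) (nat_lit 0) (BT.frm (nat_lit 1) (nat_lit 0x81f0309) (nat_lit 0x81f0309) [nat_lit 0, nat_lit 1, nat_lit 4] (BT.pln (nat_lit 0) (nat_lit 6) (BT.and (nat_lit 4) (nat_lit 0) (BT.br (nat_lit 0) (nat_lit 217) [nat_lit 5] (BT.dead (nat_lit 78) (BT.frm (nat_lit 2) (nat_lit 0x3f41081f0309) (nat_lit 0x3f081f0309) [nat_lit 0, nat_lit 4, nat_lit 5, nat_lit 8] (BT.pln (nat_lit 0) (nat_lit 7) (BT.and (nat_lit 8) (nat_lit 0) (BT.br (nat_lit 0) (nat_lit 11) [nat_lit 3080, nat_lit 0xb0d070a]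 (BT.dead (nat_lit 5) (BT.frm (nat_lit 3) (nat_lit 0x454f3f41081f0309) (nat_lit 0x4d3f081f0309) [nat_lit 0, nat_lit 4, nat_lit 8, nat_lit 9, nat_lit 12] (BT.pln (nat_lit 0) (nat_lit 9) (BT.img (nat_lit 1) (nat_lit 2) (BT.and (nat_lit 1) (nat_lit 0) (BT.cnt (nat_lit 0)))))) BT.nil))))) (BT.dead (nat_lit 69) (BT.frm (nat_lit 2) (nat_lit 0x3f41081f0309) (nat_lit 0x41081f0309) [nat_lit 0, nat_lit 4, nat_lit 5, nat_lit 8] (BT.pln (nat_lit 0) (nat_lit 7) (BT.and (nat_lit 8) (nat_lit 0) (BT.br (nat_lit 0) (nat_lit 11) [nat_lit 1801, nat_lit 724231] (BT.dead (nat_lit 18) (BT.frm (nat_lit 3) (nat_lit 0x454f3f41081f0309) (nat_lit 0x454f41081f0309) [nat_lit 0, nat_lit 4, nat_lit 8, nat_lit 9, nat_lit 12] (BT.pln (nat_lit 0) (nat_lit 9) (BT.img (nat_lit 1) (nat_lit 2) (BT.and (nat_lit 1) (nat_lit 0) (BT.cnt (nat_lit 0)))))) BT.nil))))) (BT.kid (nat_lit 217) (nat_lit 162) (BT.frm (nat_lit 2) (nat_lit 0x3f41081f0309) (nat_lit 0x3f41081f0309) [nat_lit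 0, nat_lit 4, nat_lit 5, nat_lit 8] (BT.pln (nat_lit 0) (nat_lit 7) (BT.and (nat_lit 8) (nat_lit 0) (BT.br (nat_lit 0) (nat_lit 11) [nat_lit 7, nat_lit 9] (BT.kid (nat_lit 11) (nat_lit 18) (BT.dif (nat_lit 10) (nat_lit 2) (BT.pln (nat_lit 4) (nat_lit 8) (BT.and (nat_lit 1) (nat_lit 0) (BT.br (nat_lit 0) (nat_lit 21) [nat_lit 11, nat_lit 13] (BT.kid (nat_lit 21) (nat_lit 2) (BT.pln (nat_lit 7) (nat_lit 6) (BT.frm (nat_lit 3) (nat_lit 0x454f3f41081f0309) (nat_lit 0x454f3f41081f0309) [nat_lit 5, nat_lit 9, nat_lit 13, nat_lit 14, nat_lit 17] (BT.pln (nat_lit 0) (nat_lit 16) (BT.and (nat_lit 17) (nat_lit 0) (BT.pln (nat_lit 2) (nat_lit 15) (BT.and (nat_lit 19) (nat_lit 0) (BT.img (nat_lit 1) (nat_lit 0) (BT.dif (nat_lit 3) (nat_lit 0) (BT.frm (nat_lit 4) (nat_lit 0x5153454f3f41081f0309) (nat_lit 0x5153454f3f41081f0309) [nat_lit 8, nat_lit 0, nat_lit 12, nat_lit 16, nat_lit 20, nat_lit 21, nat_lit 24] (BT.pln (nat_lit 0) (nat_lit 7) (BT.dif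 (nat_lit 9) (nat_lit 0) (BT.pln (nat_lit 2) (nat_lit 12) (BT.dif (nat_lit 1) (nat_lit 0) (BT.img (nat_lit 1) (nat_lit 13) (BT.frm (nat_lit 5) (nat_lit 0x5b5153454f3f41081f0309) (nat_lit 0x5b5153454f3f41081f0309) [nat_lit 0, nat_lit 14, nat_lit 6, nat_lit 18, nat_lit 22, nat_lit 26, nat_lit 27, nat_lit 30] (BT.pln (nat_lit 0) (nat_lit 10) (BT.and (nat_lit 3) (nat_lit 0) (BT.br (nat_lit 0) (nat_lit 58) [nat_lit 15] (BT.kid (nat_lit 58) (nat_lit 1) (BT.one (nat_lit 6) (nat_lit 0x5d5b5153454f3f41081f0309) (nat_lit 0x5d5b5153454f3f41081f0309) [nat_lit 0, nat_lit 4, nat_lit 18, nat_lit 10, nat_lit 22, nat_lit 26, nat_lit 30, nat_lit 31, nat_lit 34]) BT.nil))))))))))))))))))) BT.nil))))) BT.nil))))) BT.nil)))))))) BT.nil)))) BT.nil)))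

theorem yt_c12_cnt : Cnt 324 (grp 324 y_E0) [z_g301] [z_g301] 0 0 0 0 236196 :=
  BT.sound yt_c12_cnt_P Known.nil (t := yt_c12_cnt_t) (d := 0) (by decide +kernel)

theorem yt_c12_ge : 236196 ≤ Nat.card (grp 324 yt_c12_K) :=
  Ch.le_card_grp (k := 9) (L := (lab 324 9)) z_hn yt_c12_K_ok (c := (Ch.cons (nat_lit 1) [nat_lit 1] (Ch.cons (nat_lit 27) [nat_lit 3] (Ch.cons (nat_lit 217) [nat_lit 5] (Ch.cons (nat_lit 11) [nat_lit 7, nat_lit 9] (Ch.cons (nat_lit 21) [nat_lit 11, nat_lit 13] (Ch.cons (nat_lit 58) [nat_lit 15] Ch.nil))))))) (by decide +kernel)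

theorem yt_c12_eq : (grp 324 y_E0) ⊓ Subgroup.centralizer {Net.toPerm 324 z_g301} = grp 324 yt_c12_K :=
  cent_eq yt_c12_sym yt_c12_cnt yt_c12_ge

theorem yt_c12_card : Nat.card ↥((grp 324 y_E0) ⊓ Subgroup.centralizer {Net.toPerm 324 z_g301}) = 236196 :=
  card_cent yt_c12_sym yt_c12_cnt yt_c12_ge

theorem yt_c12_ord : orderOf (Net.toPerm 324 z_g301) = 3 :=
  orderOf_net z_hn z_hk z_g301_ok (by decide) (ps := [3]) (by set_option linter.unusedSimpArgs false in simp [Nat.primeFactorsList_ofNat]) (by decide +kernel)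

theorem z_le323 : grp 324 yt_c13_K ≤ grp 324 y_E0 :=
  grp_le_of_memB z_hn z_hk y_E0_ok yt_c13_K_ok (ws := [nat_lit 0x353c2b1f192311020701, nat_lit 0x35382f25281f191b1b1508021501, nat_lit 0x332f291921090307, nat_lit 0x392b19201c12021202, nat_lit 0x3b262819260707013b02, nat_lit 0x333b2528190707013802, nat_lit 0x3c2519201c12021202]) (by decide +kernel)

theorem yt_c13_le : grp 324 yt_c13_K ≤ (grp 324 y_E0) :=
  (z_le323.trans z_T111_s0.le)

theorem yt_c13_mem : Net.toPerm 324 z_g315 ∈ (grp 324 y_E0) :=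
  yt_c13_le (mem_grp_of_memB z_hn z_hk yt_c13_K_ok z_g315_ok (w := (nat_lit 0xb05080404)) (by decide +kernel))

theorem yt_c13_sym : Sym 324 (grp 324 y_E0) [z_g315] yt_c13_K 0 :=
  Sym.of_lab z_hn z_hk (okE_cons.2 ⟨z_g315_ok, okE_nil _⟩) yt_c13_K_ok yt_c13_le (kT := 0) (by decide +kernel)

theorem z_le326 : grp 324 z_V325 ≤ grp 324 z_V203 :=
  grp_le_of_memB z_hn z_hk z_V203_ok z_V325_ok (ws := [nat_lit 774]) (by decide +kernel)

theorem z_T111_s38 : Stab 324 (grp 324 y_E0) [nat_lit 217, nat_lit 24, nat_lit 18, nat_lit 3, nat_lit 1, nat_lit 9, nat_lit 2, nat_lit 0] z_V325 2 :=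
  Stab.step (k := 9) (L := (lab 324 9)) z_hn z_T111_s25 z_V325_ok z_le326 (c := (Ch.cons (nat_lit 27) [nat_lit 1] Ch.nil)) (by decide +kernel)

theorem z_T111_s39 : Stab 324 (grp 324 y_E0) [nat_lit 27, nat_lit 217, nat_lit 24, nat_lit 18, nat_lit 3, nat_lit 1, nat_lit 9, nat_lit 2, nat_lit 0] z_V327 1 :=
  Stab.step (k := 9) (L := (lab 324 9)) z_hn z_T111_s38 z_V327_ok (grp_mono (List.subset_append_right [z_g324] _)) (c := Ch.nil) (by decide +kernel)

theorem z_g324_z_T111 : Net.toPerm 324 z_g324 ∈ (grp 324 y_E0) :=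
  z_T111_s38.le (toPerm_mem_grp (E := z_V325) (List.Mem.head _))

noncomputable def z_T111_s39_O : ℕ := (nat_lit 0xfffffffffffffffff000000000000000000000000000000000000000000000000000000000000000000000000000000000ffffffffffffffffffffffffffffffff00000000000000000000000000000000f0000000000000000ffffffffffffffff0000000000000000ffffffffffffffff00000000000000000ffffffff00000000ffffffff00000000ffffffff00000000ffffffff00000000ffffffff000000000ffff0000ffff0000ffff0000ffff0000ffff0000ffff0000ffff0000ffff0000ffff0000ffff00000ff00ff00ff00ff00ff00ff00ff00ff00ff00ff00ff00ff00ff00ff00ff00ff00ff00ff00ff00ff000f0f0f0f0f0f0f0f0f0f0f0f0f0f0f0f0f0f0f0f0f0f0f0f0f0f0f0f0f0f0f0f0f0f0f0f0f0f0f0f0cccccccccccccccccccccccccccccccccccccccccccccccccccccccccccccccccccccccccccccccccaaaaaaaaaaaaaaaaaaaaaaaaaaaaaaaaaaaaaaaaaaaaaaaaaaaaaaaaaaaaaaaaaaaaaaaaaaaaaaaaa00000000000000000000000000000000000000000000000000000000000000000000000000000000100000000000000000000000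0000000000000000000000000000000000000000000000000000000004000000000000000000000000000000000000000000000000000000000000000000000000000000200000000000000000000000000000000000000000000000000000000000000000000000000000000002000000000000000000000000000000000000000000000000000000000000000000000000000000008000000000000000000000000000000000000000000000000000000000000000000000000000040000000000000000000000000000000000000000000000000000000000000000000000000000001000000000000000000000000000000002000000000000000000000000000000000000000000000000000000000000000000000000000000000000000000000000000000000000000000000000000000008000000)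

theorem z_T111_s39_F : Frame 324 (grp 324 y_E0) 9 18 z_T111_s39_O 1 1 :=
  IsBase.frame z_T111_s39.isBase (by decide +kernel)

noncomputable def z_T111_s38_O : ℕ := (nat_lit 0x820895713d511dc3558eb30000000000000000000000000000000000000000000000000006fbfdf0d35e66886c22c22188a410cba997fd62c8384fff7bfbd77fddf7dfee000000000000000000000000047cf4028ec28ac00caa2144ffb95ff23c83c47d0ced7e08022080011ffffbfbdf8000000006fa0000a1e07ca38be8e20388a200c3dd9fbda8ce349022a5283f7bd7682001ffff800007ffdf8000001fdf06d50f694481df9d37ce6008bab4dc046100e67dcc90c3efe2217fc11bf807df007fe207f80001fd00f85c27bc183c18b2c0b9f8c7b8806f93144fe62916f41f41f21783c1f8783e0d85e1f878786c1e0f031f6f896b11a7c67f13e574b330c3a3ee70be0f2268315358f1653398666738c651946666663198c039549a8ff498a389e795a6aee19176ec05af1ca2566abaa96c514ab55555296956953555554a954a00000000000000000000000000000000000000000000000000000000000000000000000000000000010000000000000000000000000000000000000000000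00000000000000000000000000000000000004000000000000000000000000000000000000000000000000000000000000000000000000000000200000000000000000000000000000000000000000000000000000000000000000000000000000000002000000000000000000000000000000000000000000000000000000000000000000000000000000008000000000000000000000000000000000000000000000000000000000000000000000000000040000000000000000000000000000000000000000000000000000000000000000000000000000001000000000000000000000000000000002000000000000000000000000000000000000000000000000000000)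

theorem z_T111_s38_F : Frame 324 (grp 324 y_E0) 8 16 z_T111_s38_O 0 1 :=
  Stab.frame z_hn z_T111_s38 (by decide +kernel)

noncomputable def yt_c13_cnt_L : List ℕ := [1, 4, z_T111_s1_O, 0, 0, 4, 19, z_T111_s22_O, 0, 0, 6, 11, z_T111_s24_O, 0, 0, 8, 16, z_T111_s38_O, 0, 0, 9, 18, z_T111_s39_O, 1, 0]

theorem yt_c13_cnt_P : Prob 324 9 (grp 324 y_E0) yt_c13_cnt_EG [z_g315] [z_g315] yt_c13_K yt_c13_cnt_L 0 0 :=
  Sym.prob z_hn z_hk yt_c13_sym yt_c13_cnt_EG_ok (grp_cons_le z_g39_z_T111 (grp_cons_le zg1_z_T111 (grp_cons_le zg3_z_T111 (grp_cons_le z_g43_z_T111 (grp_cons_le z_g42_z_T111 (grp_cons_le zg2_z_T111 (grp_cons_le z_g44_z_T111 (grp_cons_le z_g54_z_T111 (grp_cons_le z_g55_z_T111 (grp_cons_le z_g49_z_T111 (grp_cons_le z_g50_z_T111 (grp_cons_le z_g51_z_T111 (grp_cons_le z_g62_z_T111 (grp_cons_le z_g58_z_T111 (grp_cons_le z_g59_z_T111 (grp_cons_le z_g65_z_T111 (grp_cons_le z_g66_z_T111 (grp_cons_le z_g67_z_T111 (grp_cons_le z_g77_z_T111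 (grp_cons_le z_g78_z_T111 (grp_cons_le z_g72_z_T111 (grp_cons_le z_g73_z_T111 (grp_cons_le z_g74_z_T111 (grp_cons_le z_g81_z_T111 (grp_cons_le z_g82_z_T111 (grp_cons_le z_g87_z_T111 (grp_cons_le zg0_z_T111 (grp_cons_le z_g91_z_T111 (grp_cons_le z_g28_z_T111 (grp_cons_le z_g88_z_T111 (grp_cons_le z_g324_z_T111 (grp_nil_le _)))))))))))))))))))))))))))))))) (Frames.cons z_T111_s1_F (Frames.cons z_T111_s22_F (Frames.cons z_T111_s24_F (Frames.cons z_T111_s38_F (Frames.cons z_T111_s39_F Frames.nil))))) (okE_cons.2 ⟨z_g315_ok, okE_nil _⟩) _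

noncomputable def yt_c13_cnt_t : BT := (BT.fix (nat_lit 1) (BT.br (nat_lit 0) (nat_lit 3) [nat_lit 1, nat_lit 3, nat_lit 7] (BT.kid (nat_lit 3) (nat_lit 3888) (BT.frm (nat_lit 0) (nat_lit 785) (nat_lit 785) [nat_lit 0] (BT.pln (nat_lit 0) (nat_lit 3) (BT.dif (nat_lit 0) (nat_lit 3) (BT.br (nat_lit 0) (nat_lit 6) [nat_lit 3] (BT.kid (nat_lit 6) (nat_lit 648) (BT.pln (nat_lit 3) (nat_lit 2) (BT.dif (nat_lit 0) (nat_lit 6) (BT.br (nat_lit 0) (nat_lit 84) [nat_lit 5, nat_lit 7] (BT.kid (nat_lit 84) (nat_lit 36) (BT.img (nat_lit 1) (nat_lit 3) (BT.frm (nat_lit 1) (nat_lit 0x191b0f0311) (nat_lit 0x191b0f0311) [nat_lit 1, nat_lit 0, nat_lit 4, nat_lit 8] (BT.pln (nat_lit 0) (nat_lit 7) (BT.and (nat_lit 4) (nat_lit 0) (BT.br (nat_lit 0) (nat_lit 21) [nat_lit 7, nat_lit 9] (BT.kid (nat_lit 21) (nat_lit 6) (BT.dif (nat_lit 6) (nat_lit 2) (BT.pln (nat_lit 4) (nat_lit 8) (BT.and (nat_lit 1) (nat_lit 0) (BT.br (nat_lit 0) (nat_lit 4) [nat_lit 11,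 nat_lit 13] (BT.kid (nat_lit 4) (nat_lit 1) (BT.and (nat_lit 17) (nat_lit 11) (BT.and (nat_lit 0) (nat_lit 3) (BT.and (nat_lit 1) (nat_lit 8) (BT.pln (nat_lit 10) (nat_lit 9) (BT.and (nat_lit 21) (nat_lit 0) (BT.frm (nat_lit 2) (nat_lit 0x191b0f0311) (nat_lit 0x191b0f0311) [nat_lit 9, nat_lit 0, nat_lit 14, nat_lit 13, nat_lit 17, nat_lit 21] (BT.pln (nat_lit 0) (nat_lit 6) (BT.dif (nat_lit 4) (nat_lit 0) (BT.frm (nat_lit 3) (nat_lit 0x3b2f191b0f0311) (nat_lit 0x3b2f191b0f0311) [nat_lit 8, nat_lit 0, nat_lit 12, nat_lit 3, nat_lit 17, nat_lit 16, nat_lit 20, nat_lit 24] (BT.pln (nat_lit 0) (nat_lit 13) (BT.dif (nat_lit 8) (nat_lit 0) (BT.one (nat_lit 4) (nat_lit 0x3d3b2f191b0f0311) (nat_lit 0x3d3b2f191b0f0311) [nat_lit 0, nat_lit 11, nat_lit 3, nat_lit 15, nat_lit 6, nat_lit 20, nat_lit 19, nat_lit 23, nat_lit 27])))))))))))) BT.nil))))) BT.nil)))))) BT.nil)))) BT.nil))))) BT.nil)))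

theorem yt_c13_cnt : Cnt 324 (grp 324 y_E0) [z_g315] [z_g315] 0 0 0 0 139968 :=
  BT.sound yt_c13_cnt_P Known.nil (t := yt_c13_cnt_t) (d := 0) (by decide +kernel)

theorem yt_c13_ge : 139968 ≤ Nat.card (grp 324 yt_c13_K) :=
  Ch.le_card_grp (k := 9) (L := (lab 324 9)) z_hn yt_c13_K_ok (c := (Ch.cons (nat_lit 3) [nat_lit 1] (Ch.cons (nat_lit 6) [nat_lit 3] (Ch.cons (nat_lit 84) [nat_lit 5] (Ch.cons (nat_lit 21) [nat_lit 7, nat_lit 9] (Ch.cons (nat_lit 4) [nat_lit 11, nat_lit 13] Ch.nil)))))) (by decide +kernel)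

theorem yt_c13_eq : (grp 324 y_E0) ⊓ Subgroup.centralizer {Net.toPerm 324 z_g315} = grp 324 yt_c13_K :=
  cent_eq yt_c13_sym yt_c13_cnt yt_c13_ge

theorem yt_c13_card : Nat.card ↥((grp 324 y_E0) ⊓ Subgroup.centralizer {Net.toPerm 324 z_g315}) = 139968 :=
  card_cent yt_c13_sym yt_c13_cnt yt_c13_ge

theorem yt_c13_ord : orderOf (Net.toPerm 324 z_g315) = 3 :=
  orderOf_net z_hn z_hk z_g315_ok (by decide) (ps := [3]) (by set_option linter.unusedSimpArgs false in simp [Nat.primeFactorsList_ofNat]) (by decide +kernel)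

theorem z_le335 : grp 324 yt_c14_K ≤ grp 324 y_E0 :=
  grp_le_of_memB z_hn z_hk y_E0_ok yt_c14_K_ok (ws := [nat_lit 0x333b25281b0f09010810, nat_lit 0x33392f250f12030e, nat_lit 0x392f291f1c0319, nat_lit 0x35291f191b1b012602, nat_lit 0x333525281f19201c12021202, nat_lit 0x38271b1a022501, nat_lit 0x333529191b1b012602, nat_lit 0x34392f291f]) (by decide +kernel)

theorem yt_c14_le : grp 324 yt_c14_K ≤ (grp 324 y_E0) :=
  (z_le335.trans z_T111_s0.le)

theorem yt_c14_mem : Net.toPerm 324 z_g328 ∈ (grp 324 y_E0) :=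
  yt_c14_le (mem_grp_of_memB z_hn z_hk yt_c14_K_ok z_g328_ok (w := (nat_lit 0xd0a0404)) (by decide +kernel))

theorem yt_c14_sym : Sym 324 (grp 324 y_E0) [z_g328] yt_c14_K 0 :=
  Sym.of_lab z_hn z_hk (okE_cons.2 ⟨z_g328_ok, okE_nil _⟩) yt_c14_K_ok yt_c14_le (kT := 0) (by decide +kernel)

theorem z_le337 : grp 324 z_V336 ≤ grp 324 z_V313 :=
  grp_le_of_memB z_hn z_hk z_V313_ok z_V336_ok (ws := []) (by decide +kernel)

theorem z_T111_s40 : Stab 324 (grp 324 y_E0) [nat_lit 112, nat_lit 18, nat_lit 26, nat_lit 12, nat_lit 3, nat_lit 27, nat_lit 84, nat_lit 298, nat_lit 0] z_V336 1 :=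
  Stab.step (k := 9) (L := (lab 324 9)) z_hn z_T111_s36 z_V336_ok z_le337 (c := Ch.nil) (by decide +kernel)

noncomputable def z_T111_s40_O : ℕ := (nat_lit 0xfffffffffffffffff000000000000000000000000000000000000000000000000000000000000000000000000000000000ffffffffffffffffffffffffffffffff00000000000000000000000000000000f0000000000000000ffffffffffffffff0000000000000000ffffffffffffffff00000000000000000ffffffff00000000ffffffff00000000ffffffff00000000ffffffff00000000ffffffff000000000ffff0000ffff0000ffff0000ffff0000ffff0000ffff0000ffff0000ffff0000ffff0000ffff00000ff00ff00ff00ff00ff00ff00ff00ff00ff00ff00ff00ff00ff00ff00ff00ff00ff00ff00ff00ff000f0f0f0f0f0f0f0f0f0f0f0f0f0f0f0f0f0f0f0f0f0f0f0f0f0f0f0f0f0f0f0f0f0f0f0f0f0f0f0f0cccccccccccccccccccccccccccccccccccccccccccccccccccccccccccccccccccccccccccccccccaaaaaaaaaaaaaaaaaaaaaaaaaaaaaaaaaaaaaaaaaaaaaaaaaaaaaaaaaaaaaaaaaaaaaaaaaaaaaaaaa0000000000000000000000000000000000000000000000000000000000000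00000000000000000001000000400000000000000000000000000000000000000000000000000000000000000000000000000000000000000000000000000000000000000000000000000000000000001000000000000000000000000000000000000000000000000000000000000000000000000000000000000000000000008000000000000000000000000000000000000000000000000000000000000000000000000000000000000008000000000000000000000000000000000000000000000000000000000000000000000000000001000000000000000000000000000000000000000000000000000000000000000000000000000004000000000000000000000000000000000000000000000000000000000000000000000000000000000040000000000000000000000000000000000000000000000000000000010000000000000000000000000000)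

theorem z_T111_s40_F : Frame 324 (grp 324 y_E0) 9 18 z_T111_s40_O 1 1 :=
  IsBase.frame z_T111_s40.isBase (by decide +kernel)

noncomputable def yt_c14_cnt_L : List ℕ := [1, 4, z_T111_s1_O, 0, 0, 3, 9, z_T111_s3_O, 0, 0, 4, 19, z_T111_s4_O, 0, 0, 5, 23, z_T111_s9_O, 0, 0, 6, 11, z_T111_s10_O, 0, 0, 7, 14, z_T111_s35_O, 0, 0, 9, 18, z_T111_s40_O, 1, 0]

theorem yt_c14_cnt_P : Prob 324 9 (grp 324 y_E0) yt_c14_cnt_EG [z_g328] [z_g328] yt_c14_K yt_c14_cnt_L 0 0 :=
  Sym.prob z_hn z_hk yt_c14_sym yt_c14_cnt_EG_ok (grp_cons_le z_g39_z_T111 (grp_cons_le zg1_z_T111 (grp_cons_le zg3_z_T111 (grp_cons_le z_g43_z_T111 (grp_cons_le z_g42_z_T111 (grp_cons_le zg2_z_T111 (grp_cons_le z_g44_z_T111 (grp_cons_le z_g54_z_T111 (grp_cons_le z_g55_z_T111 (grp_cons_le z_g49_z_T111 (grp_cons_le z_g50_z_T111 (grp_cons_le z_g51_z_T111 (grp_cons_le z_g62_z_T111 (grp_cons_le z_g58_z_T111 (grp_cons_le z_g59_z_T111 (grp_cons_le z_g65_z_T111 (grp_cons_le z_g66_z_T111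 (grp_cons_le z_g67_z_T111 (grp_cons_le z_g77_z_T111 (grp_cons_le z_g78_z_T111 (grp_cons_le z_g72_z_T111 (grp_cons_le z_g73_z_T111 (grp_cons_le z_g74_z_T111 (grp_cons_le z_g81_z_T111 (grp_cons_le z_g82_z_T111 (grp_cons_le z_g87_z_T111 (grp_cons_le zg0_z_T111 (grp_cons_le z_g91_z_T111 (grp_cons_le z_g28_z_T111 (grp_cons_le z_g88_z_T111 (grp_cons_le z_g126_z_T111 (grp_cons_le z_g127_z_T111 (grp_cons_le z_g128_z_T111 (grp_cons_le z_g129_z_T111 (grp_cons_le z_g130_z_T111 (grp_cons_le z_g131_z_T111 (grp_cons_le z_g132_z_T111 (grp_cons_le z_g133_z_T111 (grp_cons_le z_g134_z_T111 (grp_cons_le z_g135_z_T111 (grp_cons_le z_g154_z_T111 (grp_cons_le z_g155_z_T111 (grp_cons_le z_g156_z_T111 (grp_cons_le z_g157_z_T111 (grp_cons_le z_g158_z_T111 (grp_cons_le z_g310_z_T111 (grp_cons_le z_g309_z_T111 (grp_nil_le _)))))))))))))))))))))))))))))))))))))))))))))))) (Frames.cons z_T111_s1_F (Frames.cons z_T111_s3_F (Frames.cons z_T111_s4_F (Frames.cons z_T111_s9_F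 (Frames.cons z_T111_s10_F (Frames.cons z_T111_s35_F (Frames.cons z_T111_s40_F Frames.nil))))))) (okE_cons.2 ⟨z_g328_ok, okE_nil _⟩) _

noncomputable def yt_c14_cnt_t : BT := (BT.fix (nat_lit 1) (BT.br (nat_lit 0) (nat_lit 1) [nat_lit 1, nat_lit 3] (BT.kid (nat_lit 1) (nat_lit 2916) (BT.frm (nat_lit 0) (nat_lit 777) (nat_lit 777) [nat_lit 0] (BT.pln (nat_lit 0) (nat_lit 2) (BT.br (nat_lit 0) (nat_lit 27) [nat_lit 3, nat_lit 5] (BT.dead (nat_lit 21) (BT.img (nat_lit 1) (nat_lit 0) (BT.frm (nat_lit 1) (nat_lit 0x3d42081f0309) (nat_lit 0x3d413d0d0309) [nat_lit 0, nat_lit 1, nat_lit 4] (BT.pln (nat_lit 0) (nat_lit 6) (BT.and (nat_lit 4) (nat_lit 0) (BT.br (nat_lit 0) (nat_lit 217) [] (BT.dead (nat_lit 20) (BT.frm (nat_lit 2) (nat_lit 0x413d42081f0309) (nat_lit 0x413d413d0d0309) [nat_lit 0, nat_lit 4, nat_lit 5, nat_lit 8] (BT.pln (nat_lit 0) (nat_lit 7) (BT.and (nat_lit 8) (nat_lit 0) (BT.br (nat_lit 0) (nat_lit 26) [nat_lit 0xf080404, nat_lit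 0xb0e0a0405] (BT.dead (nat_lit 84) (BT.frm (nat_lit 3) (nat_lit 0x454f413d42081f0309) (nat_lit 0x4345413d413d0d0309) [nat_lit 0, nat_lit 4, nat_lit 8, nat_lit 9, nat_lit 12] (BT.pln (nat_lit 0) (nat_lit 13) (BT.img (nat_lit 1) (nat_lit 2) (BT.and (nat_lit 1) (nat_lit 0) (BT.cnt (nat_lit 0)))))) BT.nil))))) (BT.dead (nat_lit 23) (BT.frm (nat_lit 2) (nat_lit 0x413d42081f0309) (nat_lit 0x3f423d413d0d0309) [nat_lit 0, nat_lit 4, nat_lit 5, nat_lit 8] (BT.pln (nat_lit 0) (nat_lit 7) (BT.and (nat_lit 8) (nat_lit 0) (BT.br (nat_lit 0) (nat_lit 26) [nat_lit 0x70a0503, nat_lit 3854] (BT.dead (nat_lit 2) (BT.frm (nat_lit 3) (nat_lit 0x454f413d42081f0309) (nat_lit 0x4c3f423d413d0d0309) [nat_lit 0, nat_lit 4, nat_lit 8, nat_lit 9, nat_lit 12] (BT.pln (nat_lit 0) (nat_lit 15) (BT.img (nat_lit 1) (nat_lit 2) (BT.and (nat_lit 1) (nat_lit 0) (BT.cnt (nat_lit 0)))))) BT.nil))))) (BT.dead (nat_lit 26) (BT.frm (nat_lit 2) (nat_lit 0x413d42081f0309) (nat_lit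 0x3f413d413d0d0309) [nat_lit 0, nat_lit 4, nat_lit 5, nat_lit 8] (BT.pln (nat_lit 0) (nat_lit 4) (BT.and (nat_lit 0) (nat_lit 11) (BT.cnt (nat_lit 0))))) (BT.dead (nat_lit 25) (BT.frm (nat_lit 2) (nat_lit 0x413d42081f0309) (nat_lit 0x3f3d413d0d0309) [nat_lit 0, nat_lit 4, nat_lit 5, nat_lit 8] (BT.pln (nat_lit 0) (nat_lit 5) (BT.and (nat_lit 0) (nat_lit 11) (BT.cnt (nat_lit 0))))) (BT.dead (nat_lit 24) (BT.frm (nat_lit 2) (nat_lit 0x413d42081f0309) (nat_lit 0x423d413d0d0309) [nat_lit 0, nat_lit 4, nat_lit 5, nat_lit 8] (BT.pln (nat_lit 0) (nat_lit 4) (BT.and (nat_lit 0) (nat_lit 11) (BT.cnt (nat_lit 0))))) (BT.dead (nat_lit 18) (BT.frm (nat_lit 2) (nat_lit 0x413d42081f0309) (nat_lit 0x3d413d0d0309) [nat_lit 0, nat_lit 4, nat_lit 5, nat_lit 8] (BT.pln (nat_lit 0) (nat_lit 5) (BT.and (nat_lit 0) (nat_lit 11) (BT.cnt (nat_lit 0))))) BT.nil))))))))))) (BT.kid (nat_lit 27) (nat_lit 324) (BT.img (nat_lit 1) (nat_lit 0) (BT.frm (nat_lit 1) (nat_lit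 0x3d42081f0309) (nat_lit 0x3d42081f0309) [nat_lit 0, nat_lit 1, nat_lit 4] (BT.pln (nat_lit 0) (nat_lit 6) (BT.and (nat_lit 4) (nat_lit 0) (BT.br (nat_lit 0) (nat_lit 217) [nat_lit 5] (BT.dead (nat_lit 232) (BT.frm (nat_lit 2) (nat_lit 0x413d42081f0309) (nat_lit 0x423d42081f0309) [nat_lit 0, nat_lit 4, nat_lit 5, nat_lit 8] (BT.pln (nat_lit 0) (nat_lit 4) (BT.and (nat_lit 0) (nat_lit 11) (BT.cnt (nat_lit 0))))) (BT.dead (nat_lit 298) (BT.frm (nat_lit 2) (nat_lit 0x413d42081f0309) (nat_lit 0x3d42081f0309) [nat_lit 0, nat_lit 4, nat_lit 5, nat_lit 8] (BT.pln (nat_lit 0) (nat_lit 5) (BT.and (nat_lit 0) (nat_lit 11) (BT.cnt (nat_lit 0))))) (BT.kid (nat_lit 217) (nat_lit 162) (BT.frm (nat_lit 2) (nat_lit 0x413d42081f0309) (nat_lit 0x413d42081f0309) [nat_lit 0, nat_lit 4, nat_lit 5, nat_lit 8] (BT.pln (nat_lit 0) (nat_lit 7) (BT.and (nat_lit 8) (nat_lit 0) (BT.br (nat_lit 0) (nat_lit 26) [nat_lit 7, nat_lit 9] (BT.kid (nat_lit 26) (nat_lit 18)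 (BT.dif (nat_lit 10) (nat_lit 2) (BT.pln (nat_lit 4) (nat_lit 8) (BT.and (nat_lit 1) (nat_lit 0) (BT.br (nat_lit 0) (nat_lit 0) [nat_lit 11, nat_lit 13] (BT.kid (nat_lit 0) (nat_lit 2) (BT.pln (nat_lit 7) (nat_lit 6) (BT.dif (nat_lit 0) (nat_lit 18) (BT.img (nat_lit 1) (nat_lit 6) (BT.frm (nat_lit 4) (nat_lit 0x454f413d42081f0309) (nat_lit 0x454f413d42081f0309) [nat_lit 0, nat_lit 7, nat_lit 11, nat_lit 15, nat_lit 16, nat_lit 19] (BT.pln (nat_lit 0) (nat_lit 6) (BT.dif (nat_lit 3) (nat_lit 0) (BT.frm (nat_lit 5) (nat_lit 0x54454f413d42081f0309) (nat_lit 0x54454f413d42081f0309) [nat_lit 6, nat_lit 3, nat_lit 10, nat_lit 14, nat_lit 18, nat_lit 19, nat_lit 22] (BT.pln (nat_lit 0) (nat_lit 7) (BT.dif (nat_lit 2) (nat_lit 0) (BT.pln (nat_lit 2) (nat_lit 8) (BT.dif (nat_lit 1) (nat_lit 0) (BT.br (nat_lit 0) (nat_lit 98) [nat_lit 15] (BT.kid (nat_lit 98) (nat_lit 1) (BT.img (nat_lit 1) (nat_lit 12) (BT.one (nat_lit 6) (nat_lit 0x5d54454f413d42081f0309)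 (nat_lit 0x5d54454f413d42081f0309) [nat_lit 1, nat_lit 0, nat_lit 13, nat_lit 10, nat_lit 17, nat_lit 21, nat_lit 25, nat_lit 26, nat_lit 29])) BT.nil))))))))))))) BT.nil))))) BT.nil))))) BT.nil)))))))) BT.nil))))) BT.nil)))

theorem yt_c14_cnt : Cnt 324 (grp 324 y_E0) [z_g328] [z_g328] 0 0 0 0 78732 :=
  BT.sound yt_c14_cnt_P Known.nil (t := yt_c14_cnt_t) (d := 0) (by decide +kernel)

theorem yt_c14_ge : 78732 ≤ Nat.card (grp 324 yt_c14_K) :=
  Ch.le_card_grp (k := 9) (L := (lab 324 9)) z_hn yt_c14_K_ok (c := (Ch.cons (nat_lit 1) [nat_lit 1] (Ch.cons (nat_lit 27) [nat_lit 3] (Ch.cons (nat_lit 217) [nat_lit 5] (Ch.cons (nat_lit 26) [nat_lit 7, nat_lit 9] (Ch.cons (nat_lit 0) [nat_lit 11, nat_lit 13] (Ch.cons (nat_lit 98) [nat_lit 15] Ch.nil))))))) (by decide +kernel)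

theorem yt_c14_eq : (grp 324 y_E0) ⊓ Subgroup.centralizer {Net.toPerm 324 z_g328} = grp 324 yt_c14_K :=
  cent_eq yt_c14_sym yt_c14_cnt yt_c14_ge

theorem yt_c14_card : Nat.card ↥((grp 324 y_E0) ⊓ Subgroup.centralizer {Net.toPerm 324 z_g328}) = 78732 :=
  card_cent yt_c14_sym yt_c14_cnt yt_c14_ge

theorem yt_c14_ord : orderOf (Net.toPerm 324 z_g328) = 3 :=
  orderOf_net z_hn z_hk z_g328_ok (by decide) (ps := [3]) (by set_option linter.unusedSimpArgs false in simp [Nat.primeFactorsList_ofNat]) (by decide +kernel)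

theorem z_le343 : grp 324 yt_c15_K ≤ grp 324 y_E0 :=
  grp_le_of_memB z_hn z_hk y_E0_ok yt_c15_K_ok (ws := [nat_lit 0x33392b1f1d1101052d, nat_lit 0x3527191b11070a, nat_lit 0x353c2f25281f19221108, nat_lit 0x35382f2519221a11]) (by decide +kernel)

theorem yt_c15_le : grp 324 yt_c15_K ≤ (grp 324 y_E0) :=
  (z_le343.trans z_T111_s0.le)

theorem yt_c15_mem : Net.toPerm 324 z_g338 ∈ (grp 324 y_E0) :=
  yt_c15_le (mem_grp_of_memB z_hn z_hk yt_c15_K_ok z_g338_ok (w := (nat_lit 0x70401070401)) (by decide +kernel))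

theorem yt_c15_sym : Sym 324 (grp 324 y_E0) [z_g338] yt_c15_K 0 :=
  Sym.of_lab z_hn z_hk (okE_cons.2 ⟨z_g338_ok, okE_nil _⟩) yt_c15_K_ok yt_c15_le (kT := 0) (by decide +kernel)

theorem z_le349 : grp 324 z_V348 ≤ grp 324 z_V125 :=
  grp_le_of_memB z_hn z_hk z_V125_ok z_V348_ok (ws := [nat_lit 0x2d332519140b010f, nat_lit 0x2d23191609, nat_lit 0x2d2f36141f090c0104, nat_lit 0x362119131a0c02]) (by decide +kernel)

theorem z_T111_s41 : Stab 324 (grp 324 y_E0) [nat_lit 68, nat_lit 0] z_V348 11664 :=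
  Stab.step (k := 9) (L := (lab 324 9)) z_hn z_T111_s1 z_V348_ok z_le349 (c := (Ch.cons (nat_lit 43) [nat_lit 1] (Ch.cons (nat_lit 298) [nat_lit 3] (Ch.cons (nat_lit 77) [nat_lit 5] (Ch.cons (nat_lit 22) [nat_lit 7] Ch.nil))))) (by decide +kernel)

theorem z_T111_s42 : Stab 324 (grp 324 y_E0) [nat_lit 43, nat_lit 68, nat_lit 0] z_V350 432 :=
  Stab.step (k := 9) (L := (lab 324 9)) z_hn z_T111_s41 z_V350_ok (grp_mono (List.subset_append_right [z_g344] _)) (c := (Ch.cons (nat_lit 298) [nat_lit 1] (Ch.cons (nat_lit 77) [nat_lit 3] (Ch.cons (nat_lit 22) [nat_lit 5] Ch.nil)))) (by decide +kernel)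

theorem z_T111_s43 : Stab 324 (grp 324 y_E0) [nat_lit 298, nat_lit 43, nat_lit 68, nat_lit 0] z_V351 24 :=
  Stab.step (k := 9) (L := (lab 324 9)) z_hn z_T111_s42 z_V351_ok (grp_mono (List.subset_append_right [z_g345] _)) (c := (Ch.cons (nat_lit 77) [nat_lit 1] (Ch.cons (nat_lit 22) [nat_lit 3] Ch.nil))) (by decide +kernel)

theorem z_T111_s44 : Stab 324 (grp 324 y_E0) [nat_lit 77, nat_lit 298, nat_lit 43, nat_lit 68, nat_lit 0] z_V352 3 :=
  Stab.step (k := 9) (L := (lab 324 9)) z_hn z_T111_s43 z_V352_ok (grp_mono (List.subset_append_right [z_g346] _)) (c := (Ch.cons (nat_lit 22) [nat_lit 1] Ch.nil)) (by decide +kernel)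

theorem z_T111_s45 : Stab 324 (grp 324 y_E0) [nat_lit 22, nat_lit 77, nat_lit 298, nat_lit 43, nat_lit 68, nat_lit 0] z_V353 1 :=
  Stab.step (k := 9) (L := (lab 324 9)) z_hn z_T111_s44 z_V353_ok (grp_mono (List.subset_append_right [z_g347] _)) (c := Ch.nil) (by decide +kernel)

theorem z_g344_z_T111 : Net.toPerm 324 z_g344 ∈ (grp 324 y_E0) :=
  z_T111_s41.le (toPerm_mem_grp (E := z_V348) (List.Mem.head _))

theorem z_g345_z_T111 : Net.toPerm 324 z_g345 ∈ (grp 324 y_E0) :=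
  z_T111_s41.le (toPerm_mem_grp (E := z_V348) (List.Mem.tail _ (List.Mem.head _)))

theorem z_g346_z_T111 : Net.toPerm 324 z_g346 ∈ (grp 324 y_E0) :=
  z_T111_s41.le (toPerm_mem_grp (E := z_V348) (List.Mem.tail _ (List.Mem.tail _ (List.Mem.head _))))

theorem z_g347_z_T111 : Net.toPerm 324 z_g347 ∈ (grp 324 y_E0) :=
  z_T111_s41.le (toPerm_mem_grp (E := z_V348) (List.Mem.tail _ (List.Mem.tail _ (List.Mem.tail _ (List.Mem.head _)))))

noncomputable def z_T111_s45_O : ℕ := (nat_lit 0xfffffffffffffffff000000000000000000000000000000000000000000000000000000000000000000000000000000000ffffffffffffffffffffffffffffffff00000000000000000000000000000000f0000000000000000ffffffffffffffff0000000000000000ffffffffffffffff00000000000000000ffffffff00000000ffffffff00000000ffffffff00000000ffffffff00000000ffffffff000000000ffff0000ffff0000ffff0000ffff0000ffff0000ffff0000ffff0000ffff0000ffff0000ffff00000ff00ff00ff00ff00ff00ff00ff00ff00ff00ff00ff00ff00ff00ff0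0ff00ff00ff00ff00ff00ff000f0f0f0f0f0f0f0f0f0f0f0f0f0f0f0f0f0f0f0f0f0f0f0f0f0f0f0f0f0f0f0f0f0f0f0f0f0f0f0f0cccccccccccccccccccccccccccccccccccccccccccccccccccccccccccccccccccccccccccccccccaaaaaaaaaaaaaaaaaaaaaaaaaaaaaaaaaaaaaaaaaaaaaaaaaaaaaaaaaaaaaaaaaaaaaaaaaaaaaaaaa000000000000000000000000000000000000000000000000000000000000000000000000000000001000000000000000000000000000000000000000000000000000000000000000100000000000000000000000000000000000000000000000000000000000000000000000000000000000000080000000000000000400000000000000000000000000000000000000000000000000000000000000000000000000000000000000000000000000000000000000000000000000000000000000020000000000000000000000000000000000000000000000000000000000000000000000000000000000000000000000400000)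

theorem z_T111_s45_F : Frame 324 (grp 324 y_E0) 6 15 z_T111_s45_O 1 1 :=
  IsBase.frame z_T111_s45.isBase (by decide +kernel)

noncomputable def z_T111_s44_O : ℕ := (nat_lit 0x8579dd2352e3a792fe9fcd02450ddf99bfc77a0a5a7911a19c00001000200002000061439608c41a83280228ca41858090102b260e0e20078c2cc849585864e5e43efeffdadfafd02000061439608c41a86d774397d22eef3cfa679da1df83a4f8bfc77165a102ae5623bfbeffc22400befffc60000000000003f5abbb47dfaa751ff7ece8cf090031e82380a45da79665c61eedc027fdc00bccc039f6ffe0000000c935499f4f44ef67e5dad31a7b858dc640fc8e97abc233e363e803f06f03e0dc03c2195b01ffc4000bcfff186590f3d6a13d34379a291791838ca4e784db26b88b396b38e28e398d2c3339174d18881fd0531d7691f82fb05a54798b83a830ce75e4a7ae63972c8f22eb621b4974b254c89aaacb16a53c63564000000000000000000000000000000000000000000000000000000000000000000000000000000001000000000000000000000000000000000000000000000000000000000000000100000000000000000000000000000000000000000000000000000000000000000000000000000000000000080000000000000000400000000000000000000000000000000000000000000000000000000000000000000000000000000000000000000000000000000000000000000000000000000000000020000000000000000000)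

theorem z_T111_s44_F : Frame 324 (grp 324 y_E0) 5 12 z_T111_s44_O 0 1 :=
  Stab.frame z_hn z_T111_s44 (by decide +kernel)

noncomputable def z_T111_s42_O : ℕ := (nat_lit 0x1000000000000000000000000000000000000000000000000000000000000000000000000000000000000000000000000000000000000200000000000000000000000000000000000000000000000000000000000000000000000000000000000000000000000000400000000000000000000000100000000000026072000000000000000000000000000000000000000000000000000000000000010220000040000000080000000000000000000008000300000000000000000000000000000000000000000000000000c4060800000000000000000000000400000000800000000000000000000000000000000000000000020010000000000000000000000000004000000118050000000000000000000000000000000000000000000000000000000000000000000000000000000007f80000000000000000000000000000000000000000000000000000000000000000000000000000000022ab400000000000000000000820034000000198050000000000000000010220000040000200180000000000000000000000000000000400100000800000000000000000000000100000000001c6667a000000000000040000000000000001040200000000000000004000000000000000104020000000000801d54a000000000000000000000000000000000000000000000000000000000000000000000000000000001000000000000000000000000000000000000000000000000000000000000000100000000000000000000000000000000000000000000000000000000000000000000000000000000000000080000000000)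

theorem z_T111_s42_F : Frame 324 (grp 324 y_E0) 3 15 z_T111_s42_O 0 1 :=
  Stab.frame z_hn z_T111_s42 (by decide +kernel)

noncomputable def z_T111_s41_O : ℕ := (nat_lit 0x200000000000000000000000000000000000000010220000040000000080000000000000000000008000300000000000000000000000000000000000000000000000000c4060800000000000000000000000400000000800000000000000000000000000000000000000000000000000000000000000000000000000000000000000022ab4000000000000000000018200340000103f8770000000000000000010220000040000200180000000000000000000000000000000400100002801000000000000000000000100000400001c7fe7f000000000000040000000000000001040200000000000000004000000000000000104020000000000ffdd54a000000000000000000000000000000000000000000000000000000000000000000000000000000001000000000000000000000000000000000000000000000000000000000000000100000000000000000)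

theorem z_T111_s41_F : Frame 324 (grp 324 y_E0) 2 9 z_T111_s41_O 0 1 :=
  Stab.frame z_hn z_T111_s41 (by decide +kernel)

noncomputable def yt_c15_cnt_L : List ℕ := [1, 4, z_T111_s1_O, 0, 0, 2, 9, z_T111_s41_O, 0, 0, 3, 15, z_T111_s42_O, 0, 0, 5, 12, z_T111_s44_O, 0, 0, 6, 15, z_T111_s45_O, 1, 0]

theorem yt_c15_cnt_P : Prob 324 9 (grp 324 y_E0) yt_c15_cnt_EG [z_g338] [z_g338] yt_c15_K yt_c15_cnt_L 0 0 :=
  Sym.prob z_hn z_hk yt_c15_sym yt_c15_cnt_EG_ok (grp_cons_le z_g39_z_T111 (grp_cons_le zg1_z_T111 (grp_cons_le zg3_z_T111 (grp_cons_le z_g43_z_T111 (grp_cons_le z_g42_z_T111 (grp_cons_le zg2_z_T111 (grp_cons_le z_g44_z_T111 (grp_cons_le z_g54_z_T111 (grp_cons_le z_g55_z_T111 (grp_cons_le z_g49_z_T111 (grp_cons_le z_g50_z_T111 (grp_cons_le z_g51_z_T111 (grp_cons_le z_g62_z_T111 (grp_cons_le z_g58_z_T111 (grp_cons_le z_g59_z_T111 (grp_cons_le z_g65_z_T111 (grp_cons_le z_g66_z_T111 (grp_cons_le z_g67_z_T111 (grp_cons_le z_g77_z_T111 (grp_cons_le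 z_g78_z_T111 (grp_cons_le z_g72_z_T111 (grp_cons_le z_g73_z_T111 (grp_cons_le z_g74_z_T111 (grp_cons_le z_g81_z_T111 (grp_cons_le z_g82_z_T111 (grp_cons_le z_g87_z_T111 (grp_cons_le zg0_z_T111 (grp_cons_le z_g91_z_T111 (grp_cons_le z_g28_z_T111 (grp_cons_le z_g88_z_T111 (grp_cons_le z_g344_z_T111 (grp_cons_le z_g345_z_T111 (grp_cons_le z_g346_z_T111 (grp_cons_le z_g347_z_T111 (grp_nil_le _))))))))))))))))))))))))))))))))))) (Frames.cons z_T111_s1_F (Frames.cons z_T111_s41_F (Frames.cons z_T111_s42_F (Frames.cons z_T111_s44_F (Frames.cons z_T111_s45_F Frames.nil))))) (okE_cons.2 ⟨z_g338_ok, okE_nil _⟩) _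

noncomputable def yt_c15_cnt_t : BT := (BT.br (nat_lit 2) (nat_lit 0) [nat_lit 1, nat_lit 3] (BT.dead (nat_lit 48) (BT.img (nat_lit 1) (nat_lit 0) (BT.frm (nat_lit 1) (nat_lit 2352) (nat_lit 0x2501081b) [nat_lit 0, nat_lit 1] (BT.pln (nat_lit 0) (nat_lit 3) (BT.img (nat_lit 1) (nat_lit 2) (BT.and (nat_lit 1) (nat_lit 0) (BT.cnt (nat_lit 0))))))) (BT.dead (nat_lit 3) (BT.img (nat_lit 1) (nat_lit 0) (BT.frm (nat_lit 1) (nat_lit 2352) (nat_lit 0x9250311) [nat_lit 0, nat_lit 1] (BT.pln (nat_lit 0) (nat_lit 3) (BT.img (nat_lit 1) (nat_lit 2) (BT.and (nat_lit 1) (nat_lit 0) (BT.cnt (nat_lit 0))))))) (BT.dead (nat_lit 1) (BT.img (nat_lit 1) (nat_lit 0) (BT.frm (nat_lit 1) (nat_lit 2352) (nat_lit 0x160309) [nat_lit 0, nat_lit 1] (BT.pln (nat_lit 0) (nat_lit 3) (BT.img (nat_lit 1) (nat_lit 2) (BT.and (nat_lit 1) (nat_lit 0) (BT.cnt (nat_lit 0))))))) (BT.kid (nat_lit 0) (nat_lit 432) (BT.frm (nat_lit 0) (nat_lit 0) (nat_lit 0) [nat_lit 0] (BT.pln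 (nat_lit 0) (nat_lit 2) (BT.img (nat_lit 1) (nat_lit 2) (BT.img (nat_lit 1) (nat_lit 0) (BT.frm (nat_lit 2) (nat_lit 0x3e420930) (nat_lit 0x3e420930) [nat_lit 0, nat_lit 1, nat_lit 4] (BT.pln (nat_lit 0) (nat_lit 3) (BT.and (nat_lit 4) (nat_lit 0) (BT.br (nat_lit 0) (nat_lit 84) [nat_lit 3, nat_lit 5] (BT.kid (nat_lit 84) (nat_lit 24) (BT.frm (nat_lit 1) (nat_lit 2352) (nat_lit 2352) [nat_lit 5, nat_lit 8] (BT.pln (nat_lit 0) (nat_lit 7) (BT.br (nat_lit 0) (nat_lit 198) [nat_lit 5, nat_lit 7] (BT.kid (nat_lit 198) (nat_lit 3) (BT.dif (nat_lit 9) (nat_lit 5) (BT.pln (nat_lit 7) (nat_lit 7) (BT.and (nat_lit 1) (nat_lit 0) (BT.img (nat_lit 1) (nat_lit 3) (BT.dif (nat_lit 1) (nat_lit 0) (BT.frm (nat_lit 3) (nat_lit 0x3f423e420930) (nat_lit 0x3f423e420930) [nat_lit 5, nat_lit 8, nat_lit 12, nat_lit 13, nat_lit 16] (BT.pln (nat_lit 0) (nat_lit 5) (BT.and (nat_lit 2) (nat_lit 0) (BT.pln (nat_lit 2) (nat_lit 6) (BT.dif (nat_lit 1) (nat_lit 0)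 (BT.br (nat_lit 0) (nat_lit 10) [nat_lit 7] (BT.kid (nat_lit 10) (nat_lit 1) (BT.one (nat_lit 4) (nat_lit 0x433f423e420930) (nat_lit 0x433f423e420930) [nat_lit 0, nat_lit 11, nat_lit 14, nat_lit 18, nat_lit 19, nat_lit 22]) BT.nil)))))))))))) BT.nil)))) BT.nil))))))))) BT.nil)))))

theorem yt_c15_cnt : Cnt 324 (grp 324 y_E0) [z_g338] [z_g338] 0 0 0 0 34992 :=
  BT.sound yt_c15_cnt_P Known.nil (t := yt_c15_cnt_t) (d := 0) (by decide +kernel)

theorem yt_c15_ge : 34992 ≤ Nat.card (grp 324 yt_c15_K) :=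
  Ch.le_card_grp (k := 9) (L := (lab 324 9)) z_hn yt_c15_K_ok (c := (Ch.cons (nat_lit 0) [nat_lit 1] (Ch.cons (nat_lit 84) [nat_lit 3] (Ch.cons (nat_lit 198) [nat_lit 5] (Ch.cons (nat_lit 10) [nat_lit 7] Ch.nil))))) (by decide +kernel)

theorem yt_c15_eq : (grp 324 y_E0) ⊓ Subgroup.centralizer {Net.toPerm 324 z_g338} = grp 324 yt_c15_K :=
  cent_eq yt_c15_sym yt_c15_cnt yt_c15_ge

theorem yt_c15_card : Nat.card ↥((grp 324 y_E0) ⊓ Subgroup.centralizer {Net.toPerm 324 z_g338}) = 34992 :=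
  card_cent yt_c15_sym yt_c15_cnt yt_c15_ge

theorem yt_c15_ord : orderOf (Net.toPerm 324 z_g338) = 3 :=
  orderOf_net z_hn z_hk z_g338_ok (by decide) (ps := [3]) (by set_option linter.unusedSimpArgs false in simp [Nat.primeFactorsList_ofNat]) (by decide +kernel)

theorem z_le360 : grp 324 yt_c16_K ≤ grp 324 y_E0 :=
  grp_le_of_memB z_hn z_hk y_E0_ok yt_c16_K_ok (ws := [nat_lit 0x2f2b1c11070c0137, nat_lit 0x33353c2f2b19221a0f1207150129, nat_lit 0x333926191b110715010f12, nat_lit 0x33353c281f19201a15010103, nat_lit 0x353c25191e1107050207]) (by decide +kernel)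

theorem yt_c16_le : grp 324 yt_c16_K ≤ (grp 324 y_E0) :=
  (z_le360.trans z_T111_s0.le)

theorem yt_c16_mem : Net.toPerm 324 z_g354 ∈ (grp 324 y_E0) :=
  yt_c16_le (mem_grp_of_memB z_hn z_hk yt_c16_K_ok z_g354_ok (w := (nat_lit 0x9070508040604)) (by decide +kernel))

theorem yt_c16_sym : Sym 324 (grp 324 y_E0) [z_g354] yt_c16_K 0 :=
  Sym.of_lab z_hn z_hk (okE_cons.2 ⟨z_g354_ok, okE_nil _⟩) yt_c16_K_ok yt_c16_le (kT := 0) (by decide +kernel)

theorem z_le363 : grp 324 z_V362 ≤ grp 324 z_V183 :=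
  grp_le_of_memB z_hn z_hk z_V183_ok z_V362_ok (ws := [nat_lit 769, nat_lit 5]) (by decide +kernel)

theorem z_T111_s46 : Stab 324 (grp 324 y_E0) [nat_lit 226, nat_lit 12, nat_lit 21, nat_lit 10, nat_lit 26, nat_lit 298, nat_lit 0] z_V362 6 :=
  Stab.step (k := 9) (L := (lab 324 9)) z_hn z_T111_s16 z_V362_ok z_le363 (c := (Ch.cons (nat_lit 189) [nat_lit 1] (Ch.cons (nat_lit 85) [nat_lit 3] Ch.nil))) (by decide +kernel)

theorem z_T111_s47 : Stab 324 (grp 324 y_E0) [nat_lit 189, nat_lit 226, nat_lit 12, nat_lit 21, nat_lit 10, nat_lit 26, nat_lit 298, nat_lit 0] z_V364 3 :=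
  Stab.step (k := 9) (L := (lab 324 9)) z_hn z_T111_s46 z_V364_ok (grp_mono (List.subset_append_right [z_g361] _)) (c := (Ch.cons (nat_lit 85) [nat_lit 1] Ch.nil)) (by decide +kernel)

theorem z_T111_s48 : Stab 324 (grp 324 y_E0) [nat_lit 85, nat_lit 189, nat_lit 226, nat_lit 12, nat_lit 21, nat_lit 10, nat_lit 26, nat_lit 298, nat_lit 0] z_V365 1 :=
  Stab.step (k := 9) (L := (lab 324 9)) z_hn z_T111_s47 z_V365_ok (grp_mono (List.subset_append_right [z_g178] _)) (c := Ch.nil) (by decide +kernel)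

theorem z_g361_z_T111 : Net.toPerm 324 z_g361 ∈ (grp 324 y_E0) :=
  z_T111_s46.le (toPerm_mem_grp (E := z_V362) (List.Mem.head _))

noncomputable def z_T111_s48_O : ℕ := (nat_lit 0xfffffffffffffffff000000000000000000000000000000000000000000000000000000000000000000000000000000000ffffffffffffffffffffffffffffffff00000000000000000000000000000000f0000000000000000ffffffffffffffff0000000000000000ffffffffffffffff00000000000000000ffffffff00000000ffffffff00000000ffffffff00000000ffffffff00000000ffffffff000000000ffff0000ffff0000ffff0000ffff0000ffff0000ffff0000ffff0000ffff0000ffff0000ffff00000ff00ff00ff00ff00ff00ff00ff00ff00ff00ff00ff00ff00ff00ff00ff00ff00ff00ff00ff00ff000f0f0f0f0f0f0f0f0f0f0f0f0f0f0f0f0f0f0f0f0f0f0f0f0f0f0f0f0f0f0f0f0f0f0f0f0f0f0f0f0cccccccccccccccccccccccccccccccccccccccccccccccccccccccccccccccccccccccccccccccccaaaaaaaaaaaaaaaaaaaaaaaaaaaaaaaaaaaaaaaaaaaaaaaaaaaaaaaaaaaaaaaaaaaaaaaaaaaaaaaaa0000000000000000000000000000000000000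00000000000000000000000000000000000000000001000000400000000000000000000000000000000000000000000000000000000000000000000000000000000000000000000000000000000000000000000000000000000000000000000000000004000000000000000000000000000000000000000000000000000000000000000000000000000000000000400000000000000000000000000000000000000000000000000000000000000000000000000000200000000000000000000000000000000000000000000000000000000000000000000000000000000001000000000000000000000000000400000000000000000000000000000000000000000000000000000000000000000000000000000000000000000200000000000000000000000000000000000000000000000000000000000000000000000000000000000000000000000000000000002000000000000000000000)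

theorem z_T111_s48_F : Frame 324 (grp 324 y_E0) 9 18 z_T111_s48_O 1 1 :=
  IsBase.frame z_T111_s48.isBase (by decide +kernel)

noncomputable def z_T111_s47_O : ℕ := (nat_lit 0x26ca6e3a8534b9fdc42d360925db67d07d87f2c07df0b6af02980000200041020000a1c51601000e0c03591811a0146023bc26280ba741831408c8d3c020701102d27fdcfaffeffae0000a1c51601000e0dec0bb3e7d8ee7e9b3b96b632d5bc4b87dcffb97c20a4940fd65ff6ded004011fffe0000000000000b7f5a9b0e7dcfbb7d460a78fa8ca656f8070001c937357d07901fdb210dea113fe01ffeee80000000c35f7dac1d47a29458a341f80ab5a1fefcf3680099efe06ec105e0ef40f91f43e1e0f81b17bcc00008d17f90829c7f75fad45ee72869f3abc216e9e0e3710b46980839a7a88c719f3999919b1d18104b9845d41d0f1578dea56804edcaa5bd488b595455bd14cff2359b715654b49495d955549359a53522a54000000000000000000000000000000000000000000000000000000000000000000000000000000001000000400000000000000000000000000000000000000000000000000000000000000000000000000000000000000000000000000000000000000000000000000000000000000000000000000004000000000000000000000000000000000000000000000000000000000000000000000000000000000000400000000000000000000000000000000000000000000000000000000000000000000000000000200000000000000000000000000000000000000000000000000000000000000000000000000000000001000000000000000000000000000400000000000000000000000000000000000000000000000000000000000000000000000000000000000000000200000000000000000000000000000000000000000000000)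

theorem z_T111_s47_F : Frame 324 (grp 324 y_E0) 8 15 z_T111_s47_O 0 1 :=
  Stab.frame z_hn z_T111_s47 (by decide +kernel)

noncomputable def z_T111_s46_O : ℕ := (nat_lit 0x20000000000010004000825f0a09109e7c348c761029f163d042848ac075b6b72d218d6149a00145000000a1c516bcdc1aa365ca0b0e4ad60830a6223d3a27c1c1942c4841c8a0540d2de121ca021bfdfb1ff00a1c516b4000a0cbffe0a7165639face703ea8a156f971420087fb0b791e1a0c6a8e8665def1a800fe91840008dc10a0255afb60527a3c8d12aaba98b52860edcfde388e2cb414463b16bb24cfc4b01e0f1686bd608dc10aae1c332d881f3b03cd6e46ae367f03ef477938236c7f16d311c1c0681ab29e1f94ccaf493808c41a8ba36d9a0e3a2921251f7e73a2c10ab7da16e95122760f8b90ab5acd15caba2d15aaacad3a589d80a2000000000000000000000000000000000000000000000000000000000000000000000000000000001000000400000000000000000000000000000000000000000000000000000000000000000000000000000000000000000000000000000000000000000000000000000000000000000000000000004000000000000000000000000000000000000000000000000000000000000000000000000000000000000400000000000000000000000000000000000000000000000000000000000000000000000000000200000000000000000000000000000000000000000000000000000000000000000000000000000000001000000000000000000000000000400000000000000000000000000000000000000000000000000000000)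

theorem z_T111_s46_F : Frame 324 (grp 324 y_E0) 7 14 z_T111_s46_O 0 1 :=
  Stab.frame z_hn z_T111_s46 (by decide +kernel)

noncomputable def z_T111_s16_O : ℕ := (nat_lit 0x400000000000000000000000000000000000000200000000003dc00e0004ada8005109c943c8c6610a8f42950428484185f36b62b09046cc1a00d55800000a1c516803eb1e3615013ee8ab434bc0602b6b235b869142848b84a04840d0d2b1122a64c2c910fff0a1c516001c10af9a26513f2f53e7e2650379323f07761400082e3b1b55fdc66db81248113ac38fa0e900000813eb5e8c40bd8b0d2fe2c95006c1f8cf2902aa87513aaf26c54145b2d1b9f8303d4f0bc58c434fa0803ebbeaabc96aa8a11586a0d7ed6565375c1fdc0680bc64eb61fd7a128d9f86eabff17912a6c8698b504108000000000000000000000000000000000000000000000000000000000000000000000000000000001000000400000000000000000000000000000000000000000000000000000000000000000000000000000000000000000000000000000000000000000000000000000000000000000000000000004000000000000000000000000000000000000000000000000000000000000000000000000000000000000400000000000000000000000000000000000000000000000000000000000000000000000000000200000000000000000000000000000000000000000000000000000000000000000000000000000000001000)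

theorem z_T111_s16_F : Frame 324 (grp 324 y_E0) 6 12 z_T111_s16_O 0 1 :=
  Stab.frame z_hn z_T111_s16 (by decide +kernel)

noncomputable def z_T111_s14_O : ℕ := (nat_lit 0x200000000000000000000002000410000000145000000000000000000000000000000010402000000000000000040000000000000001040200000000008000000000000000000000000000000000000000000000000000000000000000000000000000000003fc0000000000000000000000000000000000000000000000000000000000000000000000000000000022ab400000000000000000000000000000000000000000000000000000000000000000000000000001d14a00a090800200002000145000000040000000004006000801000808c0000820000002000000000000000000000000000000103a2043450001efdfff00000000000000000101a2002450001eebaff0000000000000000000000000000000000000000000000000000000000000000000000000000000000000001000000400000000000000000000000000000000000000000000000000000000000000000000000000000000000000000000000000000000000000000000000000000000000000000000000000004000000000000000000000000000000000000000000000000000000000000000000000000000000000000400)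

theorem z_T111_s14_F : Frame 324 (grp 324 y_E0) 4 11 z_T111_s14_O 0 1 :=
  Stab.frame z_hn z_T111_s14 (by decide +kernel)

noncomputable def yt_c16_cnt_L : List ℕ := [1, 4, z_T111_s1_O, 0, 0, 3, 8, z_T111_s13_O, 0, 0, 4, 11, z_T111_s14_O, 0, 0, 6, 12, z_T111_s16_O, 0, 0, 7, 14, z_T111_s46_O, 0, 0, 8, 15, z_T111_s47_O, 0, 0, 9, 18, z_T111_s48_O, 1, 0]

theorem yt_c16_cnt_P : Prob 324 9 (grp 324 y_E0) yt_c16_cnt_EG [z_g354] [z_g354] yt_c16_K yt_c16_cnt_L 0 0 :=
  Sym.prob z_hn z_hk yt_c16_sym yt_c16_cnt_EG_ok (grp_cons_le z_g39_z_T111 (grp_cons_le zg1_z_T111 (grp_cons_le zg3_z_T111 (grp_cons_le z_g43_z_T111 (grp_cons_le z_g42_z_T111 (grp_cons_le zg2_z_T111 (grp_cons_le z_g44_z_T111 (grp_cons_le z_g54_z_T111 (grp_cons_le z_g55_z_T111 (grp_cons_le z_g49_z_T111 (grp_cons_le z_g50_z_T111 (grp_cons_le z_g51_z_T111 (grp_cons_le z_g62_z_T111 (grp_cons_le z_g58_z_T111 (grp_cons_le z_g59_z_T111 (grp_cons_le z_g65_z_T111 (grp_cons_le z_g66_z_T111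 (grp_cons_le z_g67_z_T111 (grp_cons_le z_g77_z_T111 (grp_cons_le z_g78_z_T111 (grp_cons_le z_g72_z_T111 (grp_cons_le z_g73_z_T111 (grp_cons_le z_g74_z_T111 (grp_cons_le z_g81_z_T111 (grp_cons_le z_g82_z_T111 (grp_cons_le z_g87_z_T111 (grp_cons_le zg0_z_T111 (grp_cons_le z_g91_z_T111 (grp_cons_le z_g28_z_T111 (grp_cons_le z_g88_z_T111 (grp_cons_le z_g126_z_T111 (grp_cons_le z_g127_z_T111 (grp_cons_le z_g128_z_T111 (grp_cons_le z_g129_z_T111 (grp_cons_le z_g130_z_T111 (grp_cons_le z_g131_z_T111 (grp_cons_le z_g132_z_T111 (grp_cons_le z_g133_z_T111 (grp_cons_le z_g134_z_T111 (grp_cons_le z_g135_z_T111 (grp_cons_le z_g174_z_T111 (grp_cons_le z_g175_z_T111 (grp_cons_le z_g176_z_T111 (grp_cons_le z_g177_z_T111 (grp_cons_le z_g30_z_T111 (grp_cons_le z_g178_z_T111 (grp_cons_le z_g361_z_T111 (grp_nil_le _)))))))))))))))))))))))))))))))))))))))))))))))) (Frames.cons z_T111_s1_F (Frames.cons z_T111_s13_F (Frames.cons z_T111_s14_F (Frames.cons z_T111_s16_F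 (Frames.cons z_T111_s46_F (Frames.cons z_T111_s47_F (Frames.cons z_T111_s48_F Frames.nil))))))) (okE_cons.2 ⟨z_g354_ok, okE_nil _⟩) _

noncomputable def yt_c16_cnt_t : BT := (BT.fix (nat_lit 1) (BT.br (nat_lit 0) (nat_lit 48) [nat_lit 1, nat_lit 5] (BT.kid (nat_lit 48) (nat_lit 1296) (BT.frm (nat_lit 0) (nat_lit 67611) (nat_lit 67611) [nat_lit 0] (BT.pln (nat_lit 0) (nat_lit 2) (BT.br (nat_lit 0) (nat_lit 66) [nat_lit 3, nat_lit 5] (BT.kid (nat_lit 66) (nat_lit 48) (BT.img (nat_lit 1) (nat_lit 0) (BT.frm (nat_lit 1) (nat_lit 0x47071f01081b) (nat_lit 0x47071f01081b) [nat_lit 0, nat_lit 1, nat_lit 4] (BT.pln (nat_lit 0) (nat_lit 6) (BT.and (nat_lit 4) (nat_lit 0) (BT.br (nat_lit 0) (nat_lit 207) [nat_lit 5, nat_lit 7] (BT.kid (nat_lit 207) (nat_lit 6) (BT.pln (nat_lit 7) (nat_lit 1) (BT.dif (nat_lit 0) (nat_lit 10) (BT.img (nat_lit 1) (nat_lit 6) (BT.frm (nat_lit 2) (nat_lit 0x525347071f01081b) (nat_lit 0x525347071f01081b) [nat_lit 0, nat_lit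 7, nat_lit 8, nat_lit 11] (BT.pln (nat_lit 0) (nat_lit 4) (BT.dif (nat_lit 3) (nat_lit 0) (BT.img (nat_lit 1) (nat_lit 6) (BT.frm (nat_lit 3) (nat_lit 0x5356525347071f01081b) (nat_lit 0x5356525347071f01081b) [nat_lit 0, nat_lit 7, nat_lit 4, nat_lit 11, nat_lit 12, nat_lit 15] (BT.pln (nat_lit 0) (nat_lit 6) (BT.dif (nat_lit 3) (nat_lit 0) (BT.br (nat_lit 0) (nat_lit 282) [nat_lit 7] (BT.kid (nat_lit 282) (nat_lit 3) (BT.pln (nat_lit 3) (nat_lit 9) (BT.and (nat_lit 3) (nat_lit 0) (BT.pln (nat_lit 5) (nat_lit 8) (BT.and (nat_lit 1) (nat_lit 0) (BT.pln (nat_lit 7) (nat_lit 7) (BT.dif (nat_lit 1) (nat_lit 0) (BT.dif (nat_lit 0) (nat_lit 16) (BT.img (nat_lit 1) (nat_lit 11) (BT.frm (nat_lit 4) (nat_lit 0x5356525347071f01081b) (nat_lit 0x5356525347071f01081b) [nat_lit 0, nat_lit 12, nat_lit 19, nat_lit 16, nat_lit 23, nat_lit 24, nat_lit 27] (BT.pln (nat_lit 0) (nat_lit 10) (BT.and (nat_lit 3) (nat_lit 0) (BT.frm (nat_lit 5) (nat_lit 0x5356525347071f01081b)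 (nat_lit 0x5356525347071f01081b) [nat_lit 11, nat_lit 3, nat_lit 15, nat_lit 22, nat_lit 19, nat_lit 26, nat_lit 27, nat_lit 30] (BT.pln (nat_lit 0) (nat_lit 8) (BT.dif (nat_lit 2) (nat_lit 0) (BT.br (nat_lit 0) (nat_lit 27) [nat_lit 9] (BT.kid (nat_lit 27) (nat_lit 1) (BT.one (nat_lit 6) (nat_lit 0x5356525347071f01081b) (nat_lit 0x5356525347071f01081b) [nat_lit 0, nat_lit 15, nat_lit 7, nat_lit 19, nat_lit 26, nat_lit 23, nat_lit 30, nat_lit 31, nat_lit 34]) BT.nil)))))))))))))))) BT.nil)))))))))))) BT.nil)))))) BT.nil)))) BT.nil)))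

theorem yt_c16_cnt : Cnt 324 (grp 324 y_E0) [z_g354] [z_g354] 0 0 0 0 34992 :=
  BT.sound yt_c16_cnt_P Known.nil (t := yt_c16_cnt_t) (d := 0) (by decide +kernel)

theorem yt_c16_ge : 34992 ≤ Nat.card (grp 324 yt_c16_K) :=
  Ch.le_card_grp (k := 9) (L := (lab 324 9)) z_hn yt_c16_K_ok (c := (Ch.cons (nat_lit 48) [nat_lit 1] (Ch.cons (nat_lit 66) [nat_lit 3] (Ch.cons (nat_lit 207) [nat_lit 5] (Ch.cons (nat_lit 282) [nat_lit 7] (Ch.cons (nat_lit 27) [nat_lit 9] Ch.nil)))))) (by decide +kernel)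

theorem yt_c16_eq : (grp 324 y_E0) ⊓ Subgroup.centralizer {Net.toPerm 324 z_g354} = grp 324 yt_c16_K :=
  cent_eq yt_c16_sym yt_c16_cnt yt_c16_ge

theorem yt_c16_card : Nat.card ↥((grp 324 y_E0) ⊓ Subgroup.centralizer {Net.toPerm 324 z_g354}) = 34992 :=
  card_cent yt_c16_sym yt_c16_cnt yt_c16_ge

theorem yt_c16_ord : orderOf (Net.toPerm 324 z_g354) = 3 :=
  orderOf_net z_hn z_hk z_g354_ok (by decide) (ps := [3]) (by set_option linter.unusedSimpArgs false in simp [Nat.primeFactorsList_ofNat]) (by decide +kernel)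

theorem z_le371 : grp 324 yt_c17_K ≤ grp 324 y_E0 :=
  grp_le_of_memB z_hn z_hk y_E0_ok yt_c17_K_ok (ws := [nat_lit 0x3b2f25281f1a1d12070a010b, nat_lit 0x3439252819221a0f0715, nat_lit 0x33382619201c, nat_lit 0x33382f291b1a]) (by decide +kernel)

theorem yt_c17_le : grp 324 yt_c17_K ≤ (grp 324 y_E0) :=
  (z_le371.trans z_T111_s0.le)

theorem yt_c17_mem : Net.toPerm 324 z_g366 ∈ (grp 324 y_E0) :=
  yt_c17_le (mem_grp_of_memB z_hn z_hk yt_c17_K_ok z_g366_ok (w := (nat_lit 0x50702050702)) (by decide +kernel))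

theorem yt_c17_sym : Sym 324 (grp 324 y_E0) [z_g366] yt_c17_K 0 :=
  Sym.of_lab z_hn z_hk (okE_cons.2 ⟨z_g366_ok, okE_nil _⟩) yt_c17_K_ok yt_c17_le (kT := 0) (by decide +kernel)

theorem z_le380 : grp 324 z_V379 ≤ grp 324 z_V125 :=
  grp_le_of_memB z_hn z_hk z_V125_ok z_V379_ok (ws := [nat_lit 0x2d3219130c0106, nat_lit 0x2d351f22160f, nat_lit 0x2f32292014180b, nat_lit 0x2d2f211917, nat_lit 0x2f32211719, nat_lit 0x2d22131a14, nat_lit 0x2d2f361f221719]) (by decide +kernel)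

theorem z_T111_s49 : Stab 324 (grp 324 y_E0) [nat_lit 293, nat_lit 0] z_V379 3888 :=
  Stab.step (k := 9) (L := (lab 324 9)) z_hn z_T111_s1 z_V379_ok z_le380 (c := (Ch.cons (nat_lit 11) [nat_lit 1] (Ch.cons (nat_lit 4) [nat_lit 3, nat_lit 5] (Ch.cons (nat_lit 274) [nat_lit 7, nat_lit 9] (Ch.cons (nat_lit 190) [nat_lit 11, nat_lit 13] Ch.nil))))) (by decide +kernel)

theorem z_T111_s50 : Stab 324 (grp 324 y_E0) [nat_lit 11, nat_lit 293, nat_lit 0] z_V381 486 :=
  Stab.step (k := 9) (L := (lab 324 9)) z_hn z_T111_s49 z_V381_ok (grp_mono (List.subset_append_right [z_g372] _)) (c := (Ch.cons (nat_lit 4) [nat_lit 1, nat_lit 3] (Ch.cons (nat_lit 274) [nat_lit 5, nat_lit 7] (Ch.cons (nat_lit 190) [nat_lit 9, nat_lit 11] Ch.nil)))) (by decide +kernel)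

theorem z_T111_s51 : Stab 324 (grp 324 y_E0) [nat_lit 4, nat_lit 11, nat_lit 293, nat_lit 0] z_V382 81 :=
  Stab.step (k := 9) (L := (lab 324 9)) z_hn z_T111_s50 z_V382_ok (grp_mono (List.subset_append_right [z_g373, z_g374] _)) (c := (Ch.cons (nat_lit 274) [nat_lit 1, nat_lit 3] (Ch.cons (nat_lit 190) [nat_lit 5, nat_lit 7] Ch.nil))) (by decide +kernel)

theorem z_T111_s52 : Stab 324 (grp 324 y_E0) [nat_lit 274, nat_lit 4, nat_lit 11, nat_lit 293, nat_lit 0] z_V383 9 :=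
  Stab.step (k := 9) (L := (lab 324 9)) z_hn z_T111_s51 z_V383_ok (grp_mono (List.subset_append_right [z_g375, z_g376] _)) (c := (Ch.cons (nat_lit 190) [nat_lit 1, nat_lit 3] Ch.nil)) (by decide +kernel)

theorem z_T111_s53 : Stab 324 (grp 324 y_E0) [nat_lit 190, nat_lit 274, nat_lit 4, nat_lit 11, nat_lit 293, nat_lit 0] z_V384 1 :=
  Stab.step (k := 9) (L := (lab 324 9)) z_hn z_T111_s52 z_V384_ok (grp_mono (List.subset_append_right [z_g377, z_g378] _)) (c := Ch.nil) (by decide +kernel)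

theorem z_g372_z_T111 : Net.toPerm 324 z_g372 ∈ (grp 324 y_E0) :=
  z_T111_s49.le (toPerm_mem_grp (E := z_V379) (List.Mem.head _))

theorem z_g373_z_T111 : Net.toPerm 324 z_g373 ∈ (grp 324 y_E0) :=
  z_T111_s49.le (toPerm_mem_grp (E := z_V379) (List.Mem.tail _ (List.Mem.head _)))

theorem z_g374_z_T111 : Net.toPerm 324 z_g374 ∈ (grp 324 y_E0) :=
  z_T111_s49.le (toPerm_mem_grp (E := z_V379) (List.Mem.tail _ (List.Mem.tail _ (List.Mem.head _))))

theorem z_g375_z_T111 : Net.toPerm 324 z_g375 ∈ (grp 324 y_E0) :=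
  z_T111_s49.le (toPerm_mem_grp (E := z_V379) (List.Mem.tail _ (List.Mem.tail _ (List.Mem.tail _ (List.Mem.head _)))))

theorem z_g376_z_T111 : Net.toPerm 324 z_g376 ∈ (grp 324 y_E0) :=
  z_T111_s49.le (toPerm_mem_grp (E := z_V379) (List.Mem.tail _ (List.Mem.tail _ (List.Mem.tail _ (List.Mem.tail _ (List.Mem.head _))))))

theorem z_g377_z_T111 : Net.toPerm 324 z_g377 ∈ (grp 324 y_E0) :=
  z_T111_s49.le (toPerm_mem_grp (E := z_V379) (List.Mem.tail _ (List.Mem.tail _ (List.Mem.tail _ (List.Mem.tail _ (List.Mem.tail _ (List.Mem.head _)))))))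

theorem z_g378_z_T111 : Net.toPerm 324 z_g378 ∈ (grp 324 y_E0) :=
  z_T111_s49.le (toPerm_mem_grp (E := z_V379) (List.Mem.tail _ (List.Mem.tail _ (List.Mem.tail _ (List.Mem.tail _ (List.Mem.tail _ (List.Mem.tail _ (List.Mem.head _))))))))

noncomputable def z_T111_s53_O : ℕ := (nat_lit 0xfffffffffffffffff000000000000000000000000000000000000000000000000000000000000000000000000000000000ffffffffffffffffffffffffffffffff00000000000000000000000000000000f0000000000000000ffffffffffffffff0000000000000000ffffffffffffffff00000000000000000ffffffff00000000ffffffff00000000ffffffff00000000ffffffff00000000ffffffff000000000ffff0000ffff0000ffff0000ffff0000ffff0000ffff0000ffff0000ffff0000ffff0000ffff00000ff00ff00ff00ff00ff00ff00ff00ff00ff00ff00ff00ff00ff00ff00ff00ff00ff00ff00ff00ff000f0f0f0f0f0f0f0f0f0f0f0f0f0f0f0f0f0f0f0f0f0f0f0f0f0f0f0f0f0f0f0f0f0f0f0f0f0f0f0f0cccccccccccccccccccccccccccccccccccccccccccccccccccccccccccccccccccccccccccccccccaaaaaaaaaa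aaaaaaaaaaaaaaaaaaaaaaaaaaaaaaaaaaaaaaaaaaaaaaaaaaaaaaaaaaaaaaaaaaaaaaa000000000000000000000000000000000000000000000000000000000000000000000000000000001000000020000000000000000000000000000000000000000000000000000000000000000000000000000000000000000000000000000000000000000000000000000000000000000000000000000000800000000000000000000000000000000000000000000000000000000000000000000000000000000010000000000000400000000000000000000000000000000000000000000000000000000000000000000000000000000000000000000000000000400000000000000000000000000000000000000000000000)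

theorem z_T111_s53_F : Frame 324 (grp 324 y_E0) 6 15 z_T111_s53_O 1 1 :=
  IsBase.frame z_T111_s53.isBase (by decide +kernel)

noncomputable def z_T111_s51_O : ℕ := (nat_lit 0x40000000000040004100000008089126072800008008001002050001042000000000000000222a47fffb79d5fdeffddaff661290b4bc9e1000809fb3869d1ffcd99f2e3c8b29bb01b00000000000000094b7feb9f6350fb376081de38b87b70c406087b5cfb26e9eff77cfcf454cc009e4fe18000000000008567f638edb9467c1576a6c435de87009988517b47cadf5255f602943a7a33bc60f1e667fa00222009ef4346cf4c59766392eaef8ffe63b8219985610bcbd18b3a68d9d7d2e3137461cc621998580200a0985cfb81c8cdaf3cf47c594f04122d439990510d88ba332a529d5e66c5da30e8d2acf59f0d7fc2084000000000000000000000000000000000000000000000000000000000000000000000000000000001000000020000000000000000000000000000000000000000000000000000000000000000000000000000000000000000000000000000000000000000000000000000000000000000000000000000000800000000000000000000000000000000000000000000000000000000000000000000000000000000010)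

theorem z_T111_s51_F : Frame 324 (grp 324 y_E0) 4 10 z_T111_s51_O 0 1 :=
  Stab.frame z_hn z_T111_s51 (by decide +kernel)

noncomputable def z_T111_s50_O : ℕ := (nat_lit 0x40000000000000000000000000000000000000000000000000000000000000000000000000000000000000000000040000000000000000000000000000000000000000000000000000000000000000000000000000000000004000000000000000000000000000000000000000000000000000000000000000000000000000000000000000000000100000000000000000000000000000000000000000000000000000000000000000000000000000000000000000000000000000000000040000000000000000000000000000000000000000000000000000000000000000000000000000000000000000000000000000040000000000000000000000000000080000000800000008001002010000000000000000000000000000000000000000000000000000008008000000000008000000000040001002000000000000000000000000000000000000000000000000000000000000000000000000000000000000000000000000222b0111000000104410020000000000000000000004208608040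00010040000000100000000000000000062000004000210000880000000004020000000003001000100002000000008000900000000000000000000000000000000000000004000000198050000000000000000000100000000001226172000000080000020a0210020100004c0008402000000000047000400006400040000000020d000000000000000004780040000600400010020002050000000004000222020000000000480008c028100000000000000000040000000000000001040200000000000000004000000000000000104020000000000ffdd54a04a0860816800095062c08200b0120000000019180181094ce908a010410900000040000000000000080b01910858a80a80104109800090400000062800004128210850aac08200a016020000000000000000000000000000000000000000000000000000000000000000000000000000000000000000000001000000020000000000000000000000000000000000000000000000000000000000000000000000000000000000000000000000000000000000000000000000000000000000000000000000000000000800)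

theorem z_T111_s50_F : Frame 324 (grp 324 y_E0) 3 20 z_T111_s50_O 0 1 :=
  Stab.frame z_hn z_T111_s50 (by decide +kernel)

noncomputable def z_T111_s49_O : ℕ := (nat_lit 0x4000000000000000000000000000000000000000000000000000000000000000000000000000000000000400000000008000000080000000800100201000004000000000000000000000004000000000000000000000000800810000000000800000000004000100200000000000000000000000000000000000000000000000000000000000000000000000000000000000000000000000022ab480000020a0210020100004c0008402000000000047000400006400040000000020d000000000000000004780040000600400010020002050000000004000222020000000000480008c028100000000000000000040000000000000001040200000000000000004000000000000000104020000000000ffdd54a66a0860c168210950eac08200b01602000000191b0191095ce90aa010410980009040000000000000191b0191095ce90aa0104109800090400000066a0860c168210950eac08200b016020000000000000000000000000000000000000000000000000000000000000000000000000000000000000000000001000000020000000000000000000000000000000000000000000000000000000000000000000000000)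

theorem z_T111_s49_F : Frame 324 (grp 324 y_E0) 2 11 z_T111_s49_O 0 1 :=
  Stab.frame z_hn z_T111_s49 (by decide +kernel)

noncomputable def yt_c17_cnt_L : List ℕ := [1, 4, z_T111_s1_O, 0, 0, 2, 11, z_T111_s49_O, 0, 0, 3, 20, z_T111_s50_O, 0, 0, 4, 10, z_T111_s51_O, 0, 0, 6, 15, z_T111_s53_O, 1, 0]

theorem yt_c17_cnt_P : Prob 324 9 (grp 324 y_E0) yt_c17_cnt_EG [z_g366] [z_g366] yt_c17_K yt_c17_cnt_L 0 0 :=
  Sym.prob z_hn z_hk yt_c17_sym yt_c17_cnt_EG_ok (grp_cons_le z_g39_z_T111 (grp_cons_le zg1_z_T111 (grp_cons_le zg3_z_T111 (grp_cons_le z_g43_z_T111 (grp_cons_le z_g42_z_T111 (grp_cons_le zg2_z_T111 (grp_cons_le z_g44_z_T111 (grp_cons_le z_g54_z_T111 (grp_cons_le z_g55_z_T111 (grp_cons_le z_g49_z_T111 (grp_cons_le z_g50_z_T111 (grp_cons_le z_g51_z_T111 (grp_cons_le z_g62_z_T111 (grp_cons_le z_g58_z_T111 (grp_cons_le z_g59_z_T111 (grp_cons_le z_g65_z_T111 (grp_cons_le z_g66_z_T111 (grp_cons_le z_g67_z_T111 (grp_cons_le z_g77_z_T111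 (grp_cons_le z_g78_z_T111 (grp_cons_le z_g72_z_T111 (grp_cons_le z_g73_z_T111 (grp_cons_le z_g74_z_T111 (grp_cons_le z_g81_z_T111 (grp_cons_le z_g82_z_T111 (grp_cons_le z_g87_z_T111 (grp_cons_le zg0_z_T111 (grp_cons_le z_g91_z_T111 (grp_cons_le z_g28_z_T111 (grp_cons_le z_g88_z_T111 (grp_cons_le z_g372_z_T111 (grp_cons_le z_g373_z_T111 (grp_cons_le z_g374_z_T111 (grp_cons_le z_g375_z_T111 (grp_cons_le z_g376_z_T111 (grp_cons_le z_g377_z_T111 (grp_cons_le z_g378_z_T111 (grp_nil_le _)))))))))))))))))))))))))))))))))))))) (Frames.cons z_T111_s1_F (Frames.cons z_T111_s49_F (Frames.cons z_T111_s50_F (Frames.cons z_T111_s51_F (Frames.cons z_T111_s53_F Frames.nil))))) (okE_cons.2 ⟨z_g366_ok, okE_nil _⟩) _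

noncomputable def yt_c17_cnt_t : BT := (BT.br (nat_lit 2) (nat_lit 0) [nat_lit 1, nat_lit 3] (BT.dead (nat_lit 29) (BT.frm (nat_lit 0) (nat_lit 0) (nat_lit 328199) [nat_lit 0] (BT.pln (nat_lit 0) (nat_lit 3) (BT.br (nat_lit 0) (nat_lit 2) [nat_lit 0x60803030301050203, nat_lit 0x70103010401] (BT.dead (nat_lit 42) (BT.img (nat_lit 1) (nat_lit 3) (BT.frm (nat_lit 2) (nat_lit 0x3d41071a) (nat_lit 0x3d3f3e0b1d050207) [nat_lit 1, nat_lit 0, nat_lit 4] (BT.pln (nat_lit 0) (nat_lit 12) (BT.img (nat_lit 1) (nat_lit 3) (BT.and (nat_lit 1) (nat_lit 0) (BT.cnt (nat_lit 0))))))) (BT.dead (nat_lit 33) (BT.img (nat_lit 1) (nat_lit 3) (BT.frm (nat_lit 2) (nat_lit 0x3d41071a) (nat_lit 0x3d0b1d050207) [nat_lit 1, nat_lit 0, nat_lit 4] (BT.pln (nat_lit 0) (nat_lit 12) (BT.img (nat_lit 1) (nat_lit 3) (BT.and (nat_lit 1) (nat_lit 0) (BT.cnt (nat_lit 0))))))) (BT.dead (nat_lit 32) (BT.img (nat_lit 1) (nat_lit 3) (BT.frm (nat_lit 2) (nat_lit 0x3d41071a) (nat_lit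 0xb1d050207) [nat_lit 1, nat_lit 0, nat_lit 4] (BT.pln (nat_lit 0) (nat_lit 12) (BT.img (nat_lit 1) (nat_lit 3) (BT.and (nat_lit 1) (nat_lit 0) (BT.cnt (nat_lit 0))))))) BT.nil)))))) (BT.dead (nat_lit 32) (BT.frm (nat_lit 0) (nat_lit 0) (nat_lit 137473) [nat_lit 0] (BT.pln (nat_lit 0) (nat_lit 3) (BT.br (nat_lit 0) (nat_lit 2) [nat_lit 395268, nat_lit 0x508040101010406] (BT.dead (nat_lit 41) (BT.img (nat_lit 1) (nat_lit 3) (BT.frm (nat_lit 2) (nat_lit 0x3d41071a) (nat_lit 0x3d42122e021901) [nat_lit 1, nat_lit 0, nat_lit 4] (BT.pln (nat_lit 0) (nat_lit 12) (BT.img (nat_lit 1) (nat_lit 3) (BT.and (nat_lit 1) (nat_lit 0) (BT.cnt (nat_lit 0))))))) BT.nil)))) (BT.dead (nat_lit 28) (BT.img (nat_lit 1) (nat_lit 0) (BT.frm (nat_lit 1) (nat_lit 1818) (nat_lit 0x1927010d05) [nat_lit 0, nat_lit 1] (BT.pln (nat_lit 0) (nat_lit 5) (BT.img (nat_lit 1) (nat_lit 2) (BT.and (nat_lit 1) (nat_lit 0) (BT.cnt (nat_lit 0))))))) (BT.kid (nat_lit 0) (nat_lit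 54) (BT.frm (nat_lit 0) (nat_lit 0) (nat_lit 0) [nat_lit 0] (BT.pln (nat_lit 0) (nat_lit 3) (BT.br (nat_lit 0) (nat_lit 2) [nat_lit 3] (BT.dead (nat_lit 7) (BT.img (nat_lit 1) (nat_lit 3) (BT.frm (nat_lit 2) (nat_lit 0x3d41071a) (nat_lit 0x3d42071a) [nat_lit 1, nat_lit 0, nat_lit 4] (BT.pln (nat_lit 0) (nat_lit 12) (BT.img (nat_lit 1) (nat_lit 3) (BT.and (nat_lit 1) (nat_lit 0) (BT.cnt (nat_lit 0))))))) (BT.kid (nat_lit 2) (nat_lit 9) (BT.img (nat_lit 1) (nat_lit 3) (BT.frm (nat_lit 2) (nat_lit 0x3d41071a) (nat_lit 0x3d41071a) [nat_lit 1, nat_lit 0, nat_lit 4] (BT.pln (nat_lit 0) (nat_lit 10) (BT.img (nat_lit 1) (nat_lit 4) (BT.img (nat_lit 1) (nat_lit 0) (BT.pln (nat_lit 3) (nat_lit 15) (BT.and (nat_lit 1) (nat_lit 0) (BT.img (nat_lit 1) (nat_lit 0) (BT.and (nat_lit 9) (nat_lit 0) (BT.frm (nat_lit 3) (nat_lit 0x3f413d41071a) (nat_lit 0x3f413d41071a) [nat_lit 0, nat_lit 9, nat_lit 8, nat_lit 12] (BT.pln (nat_lit 0) (nat_lit 4) (BT.dif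 (nat_lit 8) (nat_lit 0) (BT.br (nat_lit 0) (nat_lit 64) [nat_lit 5, nat_lit 7] (BT.kid (nat_lit 64) (nat_lit 1) (BT.img (nat_lit 1) (nat_lit 0) (BT.one (nat_lit 4) (nat_lit 0x484a3f413d41071a) (nat_lit 0x484a3f413d41071a) [nat_lit 0, nat_lit 1, nat_lit 5, nat_lit 14, nat_lit 13, nat_lit 17])) BT.nil)))))))))))))) BT.nil))))) BT.nil)))))

theorem yt_c17_cnt : Cnt 324 (grp 324 y_E0) [z_g366] [z_g366] 0 0 0 0 11664 :=
  BT.sound yt_c17_cnt_P Known.nil (t := yt_c17_cnt_t) (d := 0) (by decide +kernel)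

theorem yt_c17_ge : 11664 ≤ Nat.card (grp 324 yt_c17_K) :=
  Ch.le_card_grp (k := 9) (L := (lab 324 9)) z_hn yt_c17_K_ok (c := (Ch.cons (nat_lit 0) [nat_lit 1] (Ch.cons (nat_lit 2) [nat_lit 3] (Ch.cons (nat_lit 64) [nat_lit 5, nat_lit 7] Ch.nil)))) (by decide +kernel)

theorem yt_c17_eq : (grp 324 y_E0) ⊓ Subgroup.centralizer {Net.toPerm 324 z_g366} = grp 324 yt_c17_K :=
  cent_eq yt_c17_sym yt_c17_cnt yt_c17_ge

theorem yt_c17_card : Nat.card ↥((grp 324 y_E0) ⊓ Subgroup.centralizer {Net.toPerm 324 z_g366}) = 11664 :=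
  card_cent yt_c17_sym yt_c17_cnt yt_c17_ge

theorem yt_c17_ord : orderOf (Net.toPerm 324 z_g366) = 3 :=
  orderOf_net z_hn z_hk z_g366_ok (by decide) (ps := [3]) (by set_option linter.unusedSimpArgs false in simp [Nat.primeFactorsList_ofNat]) (by decide +kernel)

theorem z_le390 : grp 324 yt_c18_K ≤ grp 324 y_E0 :=
  grp_le_of_memB z_hn z_hk y_E0_ok yt_c18_K_ok (ws := [nat_lit 0x352f1f19201c1208021f, nat_lit 0x332f261f19211207012f01, nat_lit 0x372f281c0f120715010535, nat_lit 0x33353c2619261207022e02]) (by decide +kernel)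

theorem yt_c18_le : grp 324 yt_c18_K ≤ (grp 324 y_E0) :=
  (z_le390.trans z_T111_s0.le)

theorem yt_c18_mem : Net.toPerm 324 z_g385 ∈ (grp 324 y_E0) :=
  yt_c18_le (mem_grp_of_memB z_hn z_hk yt_c18_K_ok z_g385_ok (w := (nat_lit 0x706060706060404)) (by decide +kernel))

theorem yt_c18_sym : Sym 324 (grp 324 y_E0) [z_g385] yt_c18_K 0 :=
  Sym.of_lab z_hn z_hk (okE_cons.2 ⟨z_g385_ok, okE_nil _⟩) yt_c18_K_ok yt_c18_le (kT := 0) (by decide +kernel)

theorem z_le396 : grp 324 z_V395 ≤ grp 324 z_V200 :=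
  grp_le_of_memB z_hn z_hk z_V200_ok z_V395_ok (ws := [nat_lit 0x1d080a01, nat_lit 0x1a0a01, nat_lit 0x161b110b01, nat_lit 0x1d1107, nat_lit 0x15171e1107]) (by decide +kernel)

theorem z_T111_s54 : Stab 324 (grp 324 y_E0) [nat_lit 69, nat_lit 1, nat_lit 9, nat_lit 2, nat_lit 0] z_V395 72 :=
  Stab.step (k := 9) (L := (lab 324 9)) z_hn z_T111_s22 z_V395_ok z_le396 (c := (Ch.cons (nat_lit 20) [nat_lit 1, nat_lit 3] (Ch.cons (nat_lit 16) [nat_lit 5] (Ch.cons (nat_lit 68) [nat_lit 7, nat_lit 9] Ch.nil)))) (by decide +kernel)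

theorem z_T111_s55 : Stab 324 (grp 324 y_E0) [nat_lit 20, nat_lit 69, nat_lit 1, nat_lit 9, nat_lit 2, nat_lit 0] z_V397 8 :=
  Stab.step (k := 9) (L := (lab 324 9)) z_hn z_T111_s54 z_V397_ok (grp_mono (List.subset_append_right [z_g391, z_g392] _)) (c := (Ch.cons (nat_lit 16) [nat_lit 1] (Ch.cons (nat_lit 68) [nat_lit 3, nat_lit 5] Ch.nil))) (by decide +kernel)

theorem z_T111_s56 : Stab 324 (grp 324 y_E0) [nat_lit 16, nat_lit 20, nat_lit 69, nat_lit 1, nat_lit 9, nat_lit 2, nat_lit 0] z_V398 4 :=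
  Stab.step (k := 9) (L := (lab 324 9)) z_hn z_T111_s55 z_V398_ok (grp_mono (List.subset_append_right [z_g135] _)) (c := (Ch.cons (nat_lit 68) [nat_lit 1, nat_lit 3] Ch.nil)) (by decide +kernel)

theorem z_T111_s57 : Stab 324 (grp 324 y_E0) [nat_lit 68, nat_lit 16, nat_lit 20, nat_lit 69, nat_lit 1, nat_lit 9, nat_lit 2, nat_lit 0] z_V399 1 :=
  Stab.step (k := 9) (L := (lab 324 9)) z_hn z_T111_s56 z_V399_ok (grp_mono (List.subset_append_right [z_g393, z_g394] _)) (c := Ch.nil) (by decide +kernel)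

theorem z_g391_z_T111 : Net.toPerm 324 z_g391 ∈ (grp 324 y_E0) :=
  z_T111_s54.le (toPerm_mem_grp (E := z_V395) (List.Mem.head _))

theorem z_g392_z_T111 : Net.toPerm 324 z_g392 ∈ (grp 324 y_E0) :=
  z_T111_s54.le (toPerm_mem_grp (E := z_V395) (List.Mem.tail _ (List.Mem.head _)))

theorem z_g393_z_T111 : Net.toPerm 324 z_g393 ∈ (grp 324 y_E0) :=
  z_T111_s54.le (toPerm_mem_grp (E := z_V395) (List.Mem.tail _ (List.Mem.tail _ (List.Mem.tail _ (List.Mem.head _)))))

theorem z_g394_z_T111 : Net.toPerm 324 z_g394 ∈ (grp 324 y_E0) :=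
  z_T111_s54.le (toPerm_mem_grp (E := z_V395) (List.Mem.tail _ (List.Mem.tail _ (List.Mem.tail _ (List.Mem.tail _ (List.Mem.head _))))))

noncomputable def z_T111_s57_O : ℕ := (nat_lit 0xfffffffffffffffff000000000000000000000000000000000000000000000000000000000000000000000000000000000ffffffffffffffffffffffffffffffff00000000000000000000000000000000f0000000000000000ffffffffffffffff0000000000000000ffffffffffffffff00000000000000000ffffffff00000000ffffffff00000000ffffffff00000000ffffffff00000000ffffffff000000000ffff0000ffff0000ffff0000ffff0000ffff0000ffff0000ffff0000ffff0000ffff0000ffff00000ff00ff00ff00ff00ff00ff00ff00ff00ff00ff00ff00ff00ff00ff00ff00ff00ff00ff00ff00ff000f0f0f0f0f0f0f0f0f0f0f0f0f0f0f0f0f0f0f0f0f0f0f0f0f0f0f0f0f0f0f0f0f0f0f0f0f0f0f0f0cccccccccccccccccccccccccccccccccccccccccccccccccccccccccccccccccccccccccccccccccaaaaaaaaaaaaaaaaaaaaaaaaaaaaaaaaaaaaaaaaaaaaaaaaaaaaaaaaaaaaaaaaaaaaaaaaaaaaaaaaa00000000000000000000000000000000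0000000000000000000000000000000000000000000000001000000000000000000000000000000000000000000000000000000000000000000000000000000004000000000000000000000000000000000000000000000000000000000000000000000000000000200000000000000000000000000000000000000000000000000000000000000000000000000000000002000000000000000000000000000000000000000000000000000000000000000200000000000000000000000000000000000000000000000000000000000000000000000000000000000000000000100000000000000000000000000000000000000000000000000000000000000000000000000000000010000000000000000000000000000000000000000000000000000000000000000000100000000000000000)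

theorem z_T111_s57_F : Frame 324 (grp 324 y_E0) 8 17 z_T111_s57_O 1 1 :=
  IsBase.frame z_T111_s57.isBase (by decide +kernel)

noncomputable def z_T111_s56_O : ℕ := (nat_lit 0x3580a2d0188d8108020000104620204880100c016004000000000000000104000000000000feefdf88a354d0dc7126cf62cfc452b81079f20000101ee9b79c5f5b7fcf77fd5f2b88000000000000000000c04f512787621ee1d8745dcb8982d981000a02f29dca7e3fceef3f800004003cffff000000002fdf8c0460c41e4421a8770e6c1bce9698fb028e0f15a175fd53d7b1308e5cf890470fe005f7c00feef0009f5493cffdbc0060654791f17feb199acd1121f887cf3d4a55d9e075103f8679c0f09ec3e08020d8035a3d4eab7a85b6c98a41727481fe9436925461f1145927c6dd35472de7d717930ccbcb3144e0cc6025193ee5ebe52a851d3baab95b8c2fc323453cee4b8ae211d49b92dc7b6e2d21a9aa522a522c8a950000000000000000000000000000000000000000000000000000000000000000000000000000000001000000000000000000000000000000000000000000000000000000000000000000000000000000004000000000000000000000000000000000000000000000000000000000000000000000000000000200000000000000000000000000000000000000000000000000000000000000000000000000000000002000000000000000000000000000000000000000000000000000000000000000200000000000000000000000000000000000000000000000000000000000000000000000000000000000000000000100000000000000000000000000000000000000000000000000000000000000000000000000000000010000)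

theorem z_T111_s56_F : Frame 324 (grp 324 y_E0) 7 14 z_T111_s56_O 0 1 :=
  Stab.frame z_hn z_T111_s56 (by decide +kernel)

noncomputable def z_T111_s55_O : ℕ := (nat_lit 0x308182501b0c81880a00001942202040000004012004400104801000000104000000000000feffdf84f521d8cc4f23c1764bc41a088059fa0000001be9f7391fcfb3debedc5d6a8b0de8000000000228b0852c6cebe4836266b0cedd72c5afcf2980102b4c53ddaf663352446fc5d93c08217e120000fec00008a0465660413047420c455f2c8a3908365cb99b8d0e7bfae637d2571de2186bd8079c1afa0803f5488fbe2ad748d5d19ba7511a2c5b91c62201afcbe97abd65a5d91982f711a3d1ad19672116544e1cc80eab64d52e112db1c96607677c00d7f406aaec61fa3219c9a1f92ac666b4ab5dc36559db5122cb9920000000000000000000000000000000000000000000000000000000000000000000000000000000001000000000000000000000000000000000000000000000000000000000000000000000000000000004000000000000000000000000000000000000000000000000000000000000000000000000000000200000000000000000000000000000000000000000000000000000000000000000000000000000000002000000000000000000000000000000000000000000000000000000000000000200000000000000000000000000000000000000000000000000000000000000000000000000000000000000000000100000)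

theorem z_T111_s55_F : Frame 324 (grp 324 y_E0) 6 12 z_T111_s55_O 0 1 :=
  Stab.frame z_hn z_T111_s55 (by decide +kernel)

noncomputable def yt_c18_cnt_L : List ℕ := [1, 4, z_T111_s1_O, 0, 0, 4, 19, z_T111_s22_O, 0, 0, 6, 12, z_T111_s55_O, 0, 0, 7, 14, z_T111_s56_O, 0, 0, 8, 17, z_T111_s57_O, 1, 0]

theorem yt_c18_cnt_P : Prob 324 9 (grp 324 y_E0) yt_c18_cnt_EG [z_g385] [z_g385] yt_c18_K yt_c18_cnt_L 0 0 :=
  Sym.prob z_hn z_hk yt_c18_sym yt_c18_cnt_EG_ok (grp_cons_le z_g39_z_T111 (grp_cons_le zg1_z_T111 (grp_cons_le zg3_z_T111 (grp_cons_le z_g43_z_T111 (grp_cons_le z_g42_z_T111 (grp_cons_le zg2_z_T111 (grp_cons_le z_g44_z_T111 (grp_cons_le z_g54_z_T111 (grp_cons_le z_g55_z_T111 (grp_cons_le z_g49_z_T111 (grp_cons_le z_g50_z_T111 (grp_cons_le z_g51_z_T111 (grp_cons_le z_g62_z_T111 (grp_cons_le z_g58_z_T111 (grp_cons_le z_g59_z_T111 (grp_cons_le z_g65_z_T111 (grp_cons_le z_g66_z_T111 (grp_cons_le z_g67_z_T111 (grp_cons_le z_g77_z_T111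 (grp_cons_le z_g78_z_T111 (grp_cons_le z_g72_z_T111 (grp_cons_le z_g73_z_T111 (grp_cons_le z_g74_z_T111 (grp_cons_le z_g81_z_T111 (grp_cons_le z_g82_z_T111 (grp_cons_le z_g87_z_T111 (grp_cons_le zg0_z_T111 (grp_cons_le z_g91_z_T111 (grp_cons_le z_g28_z_T111 (grp_cons_le z_g88_z_T111 (grp_cons_le z_g391_z_T111 (grp_cons_le z_g392_z_T111 (grp_cons_le z_g135_z_T111 (grp_cons_le z_g393_z_T111 (grp_cons_le z_g394_z_T111 (grp_nil_le _)))))))))))))))))))))))))))))))))))) (Frames.cons z_T111_s1_F (Frames.cons z_T111_s22_F (Frames.cons z_T111_s55_F (Frames.cons z_T111_s56_F (Frames.cons z_T111_s57_F Frames.nil))))) (okE_cons.2 ⟨z_g385_ok, okE_nil _⟩) _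

noncomputable def yt_c18_cnt_t : BT := (BT.fix (nat_lit 1) (BT.br (nat_lit 0) (nat_lit 39) [nat_lit 1, nat_lit 3] (BT.kid (nat_lit 39) (nat_lit 324) (BT.frm (nat_lit 0) (nat_lit 132865) (nat_lit 132865) [nat_lit 0] (BT.pln (nat_lit 0) (nat_lit 3) (BT.dif (nat_lit 0) (nat_lit 3) (BT.br (nat_lit 0) (nat_lit 74) [nat_lit 3] (BT.kid (nat_lit 74) (nat_lit 54) (BT.pln (nat_lit 3) (nat_lit 2) (BT.br (nat_lit 0) (nat_lit 50) [nat_lit 5, nat_lit 7] (BT.kid (nat_lit 50) (nat_lit 2) (BT.img (nat_lit 1) (nat_lit 2) (BT.frm (nat_lit 1) (nat_lit 0x192312020701) (nat_lit 0x192312020701) [nat_lit 1, nat_lit 0, nat_lit 3, nat_lit 7] (BT.pln (nat_lit 0) (nat_lit 12) (BT.and (nat_lit 4) (nat_lit 0) (BT.br (nat_lit 0) (nat_lit 31) [nat_lit 7] (BT.kid (nat_lit 31) (nat_lit 1) (BT.pln (nat_lit 10) (nat_lit 1) (BT.and (nat_lit 13) (nat_lit 0) (BT.img (nat_lit 1) (nat_lit 7) (BT.img (nat_lit 1) (nat_lit 0) (BT.frm (nat_lit 2) (nat_lit 0x20192312020701) (nat_lit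 0x20192312020701) [nat_lit 0, nat_lit 1, nat_lit 9, nat_lit 8, nat_lit 11, nat_lit 15] (BT.pln (nat_lit 0) (nat_lit 6) (BT.dif (nat_lit 4) (nat_lit 0) (BT.frm (nat_lit 3) (nat_lit 0x4120192312020701) (nat_lit 0x4120192312020701) [nat_lit 7, nat_lit 3, nat_lit 4, nat_lit 12, nat_lit 11, nat_lit 14, nat_lit 18] (BT.pln (nat_lit 0) (nat_lit 12) (BT.dif (nat_lit 2) (nat_lit 0) (BT.one (nat_lit 4) (nat_lit 0x454120192312020701) (nat_lit 0x454120192312020701) [nat_lit 0, nat_lit 10, nat_lit 6, nat_lit 7, nat_lit 15, nat_lit 14, nat_lit 17, nat_lit 21]))))))))))) BT.nil)))))) BT.nil))) BT.nil))))) BT.nil)))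

theorem yt_c18_cnt : Cnt 324 (grp 324 y_E0) [z_g385] [z_g385] 0 0 0 0 8748 :=
  BT.sound yt_c18_cnt_P Known.nil (t := yt_c18_cnt_t) (d := 0) (by decide +kernel)

theorem yt_c18_ge : 8748 ≤ Nat.card (grp 324 yt_c18_K) :=
  Ch.le_card_grp (k := 9) (L := (lab 324 9)) z_hn yt_c18_K_ok (c := (Ch.cons (nat_lit 39) [nat_lit 1] (Ch.cons (nat_lit 74) [nat_lit 3] (Ch.cons (nat_lit 50) [nat_lit 5] (Ch.cons (nat_lit 31) [nat_lit 7] Ch.nil))))) (by decide +kernel)

theorem yt_c18_eq : (grp 324 y_E0) ⊓ Subgroup.centralizer {Net.toPerm 324 z_g385} = grp 324 yt_c18_K :=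
  cent_eq yt_c18_sym yt_c18_cnt yt_c18_ge

theorem yt_c18_card : Nat.card ↥((grp 324 y_E0) ⊓ Subgroup.centralizer {Net.toPerm 324 z_g385}) = 8748 :=
  card_cent yt_c18_sym yt_c18_cnt yt_c18_ge

theorem yt_c18_ord : orderOf (Net.toPerm 324 z_g385) = 3 :=
  orderOf_net z_hn z_hk z_g385_ok (by decide) (ps := [3]) (by set_option linter.unusedSimpArgs false in simp [Nat.primeFactorsList_ofNat]) (by decide +kernel)

theorem z_le406 : grp 324 yt_c19_K ≤ grp 324 y_E0 :=
  grp_le_of_memB z_hn z_hk y_E0_ok yt_c19_K_ok (ws := [nat_lit 0x34281f1c0f0715021901, nat_lit 0x392f291f1b1a12013c02, nat_lit 0x33353c2f281f191b1b012602, nat_lit 0x34352f27, nat_lit 0x352f25281f191b1b012602, nat_lit 59]) (by decide +kernel)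

theorem yt_c19_le : grp 324 yt_c19_K ≤ (grp 324 y_E0) :=
  (z_le406.trans z_T111_s0.le)

theorem yt_c19_mem : Net.toPerm 324 z_g400 ∈ (grp 324 y_E0) :=
  yt_c19_le (mem_grp_of_memB z_hn z_hk yt_c19_K_ok z_g400_ok (w := (nat_lit 328451)) (by decide +kernel))

theorem yt_c19_sym : Sym 324 (grp 324 y_E0) [z_g400] yt_c19_K 0 :=
  Sym.of_lab z_hn z_hk (okE_cons.2 ⟨z_g400_ok, okE_nil _⟩) yt_c19_K_ok yt_c19_le (kT := 0) (by decide +kernel)

noncomputable def yt_c19_cnt_L : List ℕ := [1, 4, z_T111_s1_O, 0, 0, 4, 19, z_T111_s22_O, 0, 0, 5, 10, z_T111_s23_O, 0, 0, 6, 11, z_T111_s24_O, 0, 0, 7, 13, z_T111_s25_O, 0, 0, 8, 17, z_T111_s32_O, 1, 0]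

theorem yt_c19_cnt_P : Prob 324 9 (grp 324 y_E0) yt_c19_cnt_EG [z_g400] [z_g400] yt_c19_K yt_c19_cnt_L 0 0 :=
  Sym.prob z_hn z_hk yt_c19_sym yt_c19_cnt_EG_ok (grp_cons_le z_g39_z_T111 (grp_cons_le zg1_z_T111 (grp_cons_le zg3_z_T111 (grp_cons_le z_g43_z_T111 (grp_cons_le z_g42_z_T111 (grp_cons_le zg2_z_T111 (grp_cons_le z_g44_z_T111 (grp_cons_le z_g54_z_T111 (grp_cons_le z_g55_z_T111 (grp_cons_le z_g49_z_T111 (grp_cons_le z_g50_z_T111 (grp_cons_le z_g51_z_T111 (grp_cons_le z_g62_z_T111 (grp_cons_le z_g58_z_T111 (grp_cons_le z_g59_z_T111 (grp_cons_le z_g65_z_T111 (grp_cons_le z_g66_z_T111 (grp_cons_le z_g67_z_T111 (grp_cons_le z_g77_z_T111 (grp_cons_le z_g78_z_T111 (grp_cons_le z_g72_z_T111 (grp_cons_le z_g73_z_T111 (grp_cons_le z_g74_z_T111 (grp_cons_le z_g81_z_T111 (grp_cons_le z_g82_z_T111 (grp_cons_le z_g87_z_T111 (grp_cons_le zg0_z_T111 (grp_cons_le z_g91_z_T111 (grp_cons_le z_g28_z_T111 (grp_cons_le z_g88_z_T111 (grp_nil_le _)))))))))))))))))))))))))))))))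 (Frames.cons z_T111_s1_F (Frames.cons z_T111_s22_F (Frames.cons z_T111_s23_F (Frames.cons z_T111_s24_F (Frames.cons z_T111_s25_F (Frames.cons z_T111_s32_F Frames.nil)))))) (okE_cons.2 ⟨z_g400_ok, okE_nil _⟩) _

noncomputable def yt_c19_cnt_t : BT := (BT.fix (nat_lit 1) (BT.br (nat_lit 0) (nat_lit 8) [nat_lit 1, nat_lit 3] (BT.kid (nat_lit 8) (nat_lit 324) (BT.frm (nat_lit 0) (nat_lit 780) (nat_lit 780) [nat_lit 0] (BT.pln (nat_lit 0) (nat_lit 3) (BT.dif (nat_lit 0) (nat_lit 3) (BT.br (nat_lit 0) (nat_lit 12) [nat_lit 3] (BT.kid (nat_lit 12) (nat_lit 54) (BT.pln (nat_lit 3) (nat_lit 2) (BT.and (nat_lit 6) (nat_lit 0) (BT.br (nat_lit 0) (nat_lit 19) [nat_lit 5] (BT.kid (nat_lit 19) (nat_lit 18) (BT.img (nat_lit 1) (nat_lit 3) (BT.frm (nat_lit 1) (nat_lit 0x191e070a030c) (nat_lit 0x191e070a030c) [nat_lit 1, nat_lit 0, nat_lit 4, nat_lit 8] (BT.pln (nat_lit 0) (nat_lit 12) (BT.and (nat_lit 5) (nat_lit 0) (BT.br (nat_lit 0) (nat_lit 18) [nat_lit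 7] (BT.kid (nat_lit 18) (nat_lit 9) (BT.pln (nat_lit 3) (nat_lit 7) (BT.and (nat_lit 8) (nat_lit 0) (BT.br (nat_lit 0) (nat_lit 13) [nat_lit 9] (BT.dead (nat_lit 17) (BT.img (nat_lit 1) (nat_lit 3) (BT.frm (nat_lit 3) (nat_lit 0x26191e070a030c) (nat_lit 0x2628191e070a030c) [nat_lit 1, nat_lit 0, nat_lit 9, nat_lit 8, nat_lit 12, nat_lit 16] (BT.pln (nat_lit 0) (nat_lit 6) (BT.img (nat_lit 1) (nat_lit 3) (BT.and (nat_lit 1) (nat_lit 0) (BT.cnt (nat_lit 0))))))) (BT.dead (nat_lit 2) (BT.img (nat_lit 1) (nat_lit 3) (BT.frm (nat_lit 3) (nat_lit 0x26191e070a030c) (nat_lit 0x29191e070a030c) [nat_lit 1, nat_lit 0, nat_lit 9, nat_lit 8, nat_lit 12, nat_lit 16] (BT.pln (nat_lit 0) (nat_lit 6) (BT.img (nat_lit 1) (nat_lit 3) (BT.img (nat_lit 1) (nat_lit 0) (BT.and (nat_lit 2) (nat_lit 0) (BT.cnt (nat_lit 0)))))))) (BT.kid (nat_lit 13) (nat_lit 3) (BT.dif (nat_lit 16) (nat_lit 10) (BT.pln (nat_lit 15) (nat_lit 1) (BT.and (nat_lit 1) (nat_lit 0) (BT.img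 (nat_lit 1) (nat_lit 6) (BT.frm (nat_lit 2) (nat_lit 0x191e070a030c) (nat_lit 0x191e070a030c) [nat_lit 0, nat_lit 12, nat_lit 11, nat_lit 15, nat_lit 19] (BT.pln (nat_lit 0) (nat_lit 5) (BT.dif (nat_lit 3) (nat_lit 0) (BT.dif (nat_lit 8) (nat_lit 7) (BT.img (nat_lit 1) (nat_lit 8) (BT.dif (nat_lit 1) (nat_lit 0) (BT.img (nat_lit 1) (nat_lit 1) (BT.dif (nat_lit 1) (nat_lit 0) (BT.frm (nat_lit 3) (nat_lit 0x26191e070a030c) (nat_lit 0x26191e070a030c) [nat_lit 12, nat_lit 8, nat_lit 20, nat_lit 19, nat_lit 23, nat_lit 27] (BT.pln (nat_lit 0) (nat_lit 7) (BT.and (nat_lit 2) (nat_lit 0) (BT.pln (nat_lit 2) (nat_lit 6) (BT.dif (nat_lit 1) (nat_lit 0) (BT.img (nat_lit 1) (nat_lit 0) (BT.dif (nat_lit 1) (nat_lit 0) (BT.frm (nat_lit 4) (nat_lit 0x2f26191e070a030c) (nat_lit 0x2f26191e070a030c) [nat_lit 0, nat_lit 19, nat_lit 15, nat_lit 27, nat_lit 26, nat_lit 30, nat_lit 34] (BT.pln (nat_lit 0) (nat_lit 8) (BT.dif (nat_lit 14) (nat_lit 0) (BT.br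 (nat_lit 0) (nat_lit 176) [nat_lit 11] (BT.kid (nat_lit 176) (nat_lit 1) (BT.one (nat_lit 5) (nat_lit 0x34392f26191e070a030c) (nat_lit 0x34392f26191e070a030c) [nat_lit 0, nat_lit 4, nat_lit 23, nat_lit 19, nat_lit 31, nat_lit 30, nat_lit 34, nat_lit 38]) BT.nil)))))))))))))))))))))))) BT.nil)))))) BT.nil)))))) BT.nil)))) BT.nil))))) BT.nil)))

theorem yt_c19_cnt : Cnt 324 (grp 324 y_E0) [z_g400] [z_g400] 0 0 0 0 5832 :=
  BT.sound yt_c19_cnt_P Known.nil (t := yt_c19_cnt_t) (d := 0) (by decide +kernel)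

theorem yt_c19_ge : 5832 ≤ Nat.card (grp 324 yt_c19_K) :=
  Ch.le_card_grp (k := 9) (L := (lab 324 9)) z_hn yt_c19_K_ok (c := (Ch.cons (nat_lit 8) [nat_lit 1] (Ch.cons (nat_lit 12) [nat_lit 3] (Ch.cons (nat_lit 19) [nat_lit 5] (Ch.cons (nat_lit 18) [nat_lit 7] (Ch.cons (nat_lit 13) [nat_lit 9] (Ch.cons (nat_lit 176) [nat_lit 11] Ch.nil))))))) (by decide +kernel)

theorem yt_c19_eq : (grp 324 y_E0) ⊓ Subgroup.centralizer {Net.toPerm 324 z_g400} = grp 324 yt_c19_K :=
  cent_eq yt_c19_sym yt_c19_cnt yt_c19_ge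

theorem yt_c19_card : Nat.card ↥((grp 324 y_E0) ⊓ Subgroup.centralizer {Net.toPerm 324 z_g400}) = 5832 :=
  card_cent yt_c19_sym yt_c19_cnt yt_c19_ge

theorem yt_c19_ord : orderOf (Net.toPerm 324 z_g400) = 3 :=
  orderOf_net z_hn z_hk z_g400_ok (by decide) (ps := [3]) (by set_option linter.unusedSimpArgs false in simp [Nat.primeFactorsList_ofNat]) (by decide +kernel)

theorem z_le415 : grp 324 yt_c20_K ≤ grp 324 y_E0 :=
  grp_le_of_memB z_hn z_hk y_E0_ok yt_c20_K_ok (ws := [nat_lit 0x3c29192115031a, nat_lit 0x3338261a070c01051d, nat_lit 0x35382f2719201a0f010e33, nat_lit 0x332f261f191c09031f, nat_lit 0x372f2519221a12021202, nat_lit 0x332f1f1a200f12011a16, nat_lit 0x3525191c013b02]) (by decide +kernel)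

theorem yt_c20_le : grp 324 yt_c20_K ≤ (grp 324 y_E0) :=
  (z_le415.trans z_T111_s0.le)

theorem yt_c20_mem : Net.toPerm 324 z_g407 ∈ (grp 324 y_E0) :=
  yt_c20_le (mem_grp_of_memB z_hn z_hk yt_c20_K_ok z_g407_ok (w := (nat_lit 918275)) (by decide +kernel))

theorem yt_c20_sym : Sym 324 (grp 324 y_E0) [z_g407] yt_c20_K 0 :=
  Sym.of_lab z_hn z_hk (okE_cons.2 ⟨z_g407_ok, okE_nil _⟩) yt_c20_K_ok yt_c20_le (kT := 0) (by decide +kernel)

noncomputable def yt_c20_cnt_L : List ℕ := [1, 4, z_T111_s1_O, 0, 0, 4, 19, z_T111_s22_O, 0, 0, 6, 11, z_T111_s24_O, 0, 0, 8, 16, z_T111_s38_O, 0, 0, 9, 18, z_T111_s39_O, 1, 0]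

theorem yt_c20_cnt_P : Prob 324 9 (grp 324 y_E0) yt_c20_cnt_EG [z_g407] [z_g407] yt_c20_K yt_c20_cnt_L 0 0 :=
  Sym.prob z_hn z_hk yt_c20_sym yt_c20_cnt_EG_ok (grp_cons_le z_g39_z_T111 (grp_cons_le zg1_z_T111 (grp_cons_le zg3_z_T111 (grp_cons_le z_g43_z_T111 (grp_cons_le z_g42_z_T111 (grp_cons_le zg2_z_T111 (grp_cons_le z_g44_z_T111 (grp_cons_le z_g54_z_T111 (grp_cons_le z_g55_z_T111 (grp_cons_le z_g49_z_T111 (grp_cons_le z_g50_z_T111 (grp_cons_le z_g51_z_T111 (grp_cons_le z_g62_z_T111 (grp_cons_le z_g58_z_T111 (grp_cons_le z_g59_z_T111 (grp_cons_le z_g65_z_T111 (grp_cons_le z_g66_z_T111 (grp_cons_le z_g67_z_T111 (grp_cons_le z_g77_z_T111 (grp_cons_le z_g78_z_T111 (grp_cons_le z_g72_z_T111 (grp_cons_le z_g73_z_T111 (grp_cons_le z_g74_z_T111 (grp_cons_le z_g81_z_T111 (grp_cons_le z_g82_z_T111 (grp_cons_le z_g87_z_T111 (grp_cons_le zg0_z_T111 (grp_cons_le z_g91_z_T111 (grp_cons_le z_g28_z_T111 (grp_cons_le z_g88_z_T111 (grp_cons_le z_g324_z_T111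 (grp_nil_le _)))))))))))))))))))))))))))))))) (Frames.cons z_T111_s1_F (Frames.cons z_T111_s22_F (Frames.cons z_T111_s24_F (Frames.cons z_T111_s38_F (Frames.cons z_T111_s39_F Frames.nil))))) (okE_cons.2 ⟨z_g407_ok, okE_nil _⟩) _

noncomputable def yt_c20_cnt_t : BT := (BT.fix (nat_lit 1) (BT.br (nat_lit 0) (nat_lit 71) [nat_lit 1] (BT.kid (nat_lit 71) (nat_lit 648) (BT.frm (nat_lit 0) (nat_lit 67587) (nat_lit 67587) [nat_lit 0] (BT.pln (nat_lit 0) (nat_lit 3) (BT.dif (nat_lit 0) (nat_lit 3) (BT.br (nat_lit 0) (nat_lit 90) [nat_lit 3] (BT.kid (nat_lit 90) (nat_lit 108) (BT.pln (nat_lit 3) (nat_lit 2) (BT.and (nat_lit 6) (nat_lit 0) (BT.br (nat_lit 0) (nat_lit 310) [nat_lit 5, nat_lit 7] (BT.dead (nat_lit 117) (BT.img (nat_lit 1) (nat_lit 3) (BT.frm (nat_lit 1) (nat_lit 0x19210f12070a010803) (nat_lit 0x191b0f12070a010803) [nat_lit 1, nat_lit 0, nat_lit 4, nat_lit 8] (BT.pln (nat_lit 0) (nat_lit 7) (BT.and (nat_lit 0) (nat_lit 11) (BT.cnt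 (nat_lit 0)))))) (BT.kid (nat_lit 310) (nat_lit 36) (BT.img (nat_lit 1) (nat_lit 3) (BT.frm (nat_lit 1) (nat_lit 0x19210f12070a010803) (nat_lit 0x19210f12070a010803) [nat_lit 1, nat_lit 0, nat_lit 4, nat_lit 8] (BT.pln (nat_lit 0) (nat_lit 12) (BT.and (nat_lit 5) (nat_lit 0) (BT.br (nat_lit 0) (nat_lit 270) [nat_lit 7] (BT.kid (nat_lit 270) (nat_lit 18) (BT.dif (nat_lit 7) (nat_lit 13) (BT.pln (nat_lit 4) (nat_lit 7) (BT.and (nat_lit 1) (nat_lit 0) (BT.br (nat_lit 0) (nat_lit 207) [nat_lit 9, nat_lit 11] (BT.kid (nat_lit 207) (nat_lit 3) (BT.dif (nat_lit 11) (nat_lit 2) (BT.pln (nat_lit 8) (nat_lit 8) (BT.and (nat_lit 1) (nat_lit 0) (BT.br (nat_lit 0) (nat_lit 166) [nat_lit 13] (BT.dead (nat_lit 48) (BT.dif (nat_lit 14) (nat_lit 13) (BT.and (nat_lit 0) (nat_lit 7) (BT.img (nat_lit 1) (nat_lit 10) (BT.frm (nat_lit 2) (nat_lit 0x26281f19210f12070a010803) (nat_lit 0x26281f19210f12070a010803) [nat_lit 7, nat_lit 0, nat_lit 16, nat_lit 15,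 nat_lit 19, nat_lit 23] (BT.pln (nat_lit 0) (nat_lit 6) (BT.dif (nat_lit 3) (nat_lit 0) (BT.frm (nat_lit 3) (nat_lit 0x3826281f19210f12070a010803) (nat_lit 0x333526281f19210f12070a010803) [nat_lit 6, nat_lit 0, nat_lit 10, nat_lit 3, nat_lit 19, nat_lit 18, nat_lit 22, nat_lit 26] (BT.pln (nat_lit 0) (nat_lit 8) (BT.img (nat_lit 1) (nat_lit 8) (BT.and (nat_lit 1) (nat_lit 0) (BT.cnt (nat_lit 0)))))))))))) (BT.dead (nat_lit 145) (BT.dif (nat_lit 14) (nat_lit 13) (BT.and (nat_lit 0) (nat_lit 7) (BT.img (nat_lit 1) (nat_lit 10) (BT.frm (nat_lit 2) (nat_lit 0x26281f19210f12070a010803) (nat_lit 0x26281f19210f12070a010803) [nat_lit 7, nat_lit 0, nat_lit 16, nat_lit 15, nat_lit 19, nat_lit 23] (BT.pln (nat_lit 0) (nat_lit 6) (BT.dif (nat_lit 3) (nat_lit 0) (BT.frm (nat_lit 3) (nat_lit 0x3826281f19210f12070a010803) (nat_lit 0x3326281f19210f12070a010803) [nat_lit 6, nat_lit 0, nat_lit 10, nat_lit 3, nat_lit 19, nat_lit 18, nat_lit 22, nat_lit 26]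 (BT.pln (nat_lit 0) (nat_lit 8) (BT.img (nat_lit 1) (nat_lit 8) (BT.and (nat_lit 1) (nat_lit 0) (BT.cnt (nat_lit 0)))))))))))) (BT.kid (nat_lit 166) (nat_lit 1) (BT.and (nat_lit 15) (nat_lit 2) (BT.dif (nat_lit 0) (nat_lit 1) (BT.img (nat_lit 1) (nat_lit 2) (BT.dif (nat_lit 1) (nat_lit 0) (BT.img (nat_lit 1) (nat_lit 1) (BT.dif (nat_lit 1) (nat_lit 0) (BT.dif (nat_lit 20) (nat_lit 19) (BT.and (nat_lit 0) (nat_lit 13) (BT.img (nat_lit 1) (nat_lit 16) (BT.frm (nat_lit 2) (nat_lit 0x26281f19210f12070a010803) (nat_lit 0x26281f19210f12070a010803) [nat_lit 13, nat_lit 0, nat_lit 22, nat_lit 21, nat_lit 25, nat_lit 29] (BT.pln (nat_lit 0) (nat_lit 6) (BT.dif (nat_lit 3) (nat_lit 0) (BT.frm (nat_lit 3) (nat_lit 0x3826281f19210f12070a010803) (nat_lit 0x3826281f19210f12070a010803) [nat_lit 12, nat_lit 0, nat_lit 16, nat_lit 3, nat_lit 25, nat_lit 24, nat_lit 28, nat_lit 32] (BT.pln (nat_lit 0) (nat_lit 13) (BT.dif (nat_lit 8) (nat_lit 0) (BT.pln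 (nat_lit 2) (nat_lit 15) (BT.dif (nat_lit 1) (nat_lit 0) (BT.and (nat_lit 11) (nat_lit 1) (BT.img (nat_lit 1) (nat_lit 0) (BT.dif (nat_lit 2) (nat_lit 0) (BT.one (nat_lit 4) (nat_lit 0x3d3826281f19210f12070a010803) (nat_lit 0x3d3826281f19210f12070a010803) [nat_lit 0, nat_lit 20, nat_lit 8, nat_lit 24, nat_lit 11, nat_lit 33, nat_lit 32, nat_lit 36, nat_lit 40]))))))))))))))))))))) BT.nil))))))) BT.nil))))) BT.nil)))))) BT.nil))))) BT.nil))))) BT.nil)))

theorem yt_c20_cnt : Cnt 324 (grp 324 y_E0) [z_g407] [z_g407] 0 0 0 0 5832 :=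
  BT.sound yt_c20_cnt_P Known.nil (t := yt_c20_cnt_t) (d := 0) (by decide +kernel)

theorem yt_c20_ge : 5832 ≤ Nat.card (grp 324 yt_c20_K) :=
  Ch.le_card_grp (k := 9) (L := (lab 324 9)) z_hn yt_c20_K_ok (c := (Ch.cons (nat_lit 71) [nat_lit 1] (Ch.cons (nat_lit 90) [nat_lit 3] (Ch.cons (nat_lit 310) [nat_lit 5] (Ch.cons (nat_lit 270) [nat_lit 7] (Ch.cons (nat_lit 207) [nat_lit 9, nat_lit 11] (Ch.cons (nat_lit 166) [nat_lit 13] Ch.nil))))))) (by decide +kernel)

theorem yt_c20_eq : (grp 324 y_E0) ⊓ Subgroup.centralizer {Net.toPerm 324 z_g407} = grp 324 yt_c20_K :=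
  cent_eq yt_c20_sym yt_c20_cnt yt_c20_ge

theorem yt_c20_card : Nat.card ↥((grp 324 y_E0) ⊓ Subgroup.centralizer {Net.toPerm 324 z_g407}) = 5832 :=
  card_cent yt_c20_sym yt_c20_cnt yt_c20_ge

theorem yt_c20_ord : orderOf (Net.toPerm 324 z_g407) = 3 :=
  orderOf_net z_hn z_hk z_g407_ok (by decide) (ps := [3]) (by set_option linter.unusedSimpArgs false in simp [Nat.primeFactorsList_ofNat]) (by decide +kernel)

theorem z_le423 : grp 324 yt_c21_K ≤ grp 324 y_E0 :=
  grp_le_of_memB z_hn z_hk y_E0_ok yt_c21_K_ok (ws := [nat_lit 0x33392f261f1a15071501030f, nat_lit 0x3439251f1b0f0715010135, nat_lit 0x3c2f251f191b1b022501, nat_lit 0x3c25190f1209012101, nat_lit 0x352f2b11011101, nat_lit 0x33382519201c]) (by decide +kernel)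

theorem yt_c21_le : grp 324 yt_c21_K ≤ (grp 324 y_E0) :=
  (z_le423.trans z_T111_s0.le)

theorem yt_c21_mem : Net.toPerm 324 z_g416 ∈ (grp 324 y_E0) :=
  yt_c21_le (mem_grp_of_memB z_hn z_hk yt_c21_K_ok z_g416_ok (w := (nat_lit 0xb0a050303)) (by decide +kernel))

theorem yt_c21_sym : Sym 324 (grp 324 y_E0) [z_g416] yt_c21_K 0 :=
  Sym.of_lab z_hn z_hk (okE_cons.2 ⟨z_g416_ok, okE_nil _⟩) yt_c21_K_ok yt_c21_le (kT := 0) (by decide +kernel)

theorem z_le429 : grp 324 z_V428 ≤ grp 324 z_V199 :=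
  grp_le_of_memB z_hn z_hk z_V199_ok z_V428_ok (ws := [nat_lit 0x1b210e10070103, nat_lit 0x1b20170d07020d, nat_lit 0x1f0e0507, nat_lit 0x20170d010a02]) (by decide +kernel)

theorem z_T111_s58 : Stab 324 (grp 324 y_E0) [nat_lit 70, nat_lit 9, nat_lit 2, nat_lit 0] z_V428 243 :=
  Stab.step (k := 9) (L := (lab 324 9)) z_hn z_T111_s21 z_V428_ok z_le429 (c := (Ch.cons (nat_lit 120) [nat_lit 1, nat_lit 3] (Ch.cons (nat_lit 206) [nat_lit 5, nat_lit 7] Ch.nil))) (by decide +kernel)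

theorem z_T111_s59 : Stab 324 (grp 324 y_E0) [nat_lit 120, nat_lit 70, nat_lit 9, nat_lit 2, nat_lit 0] z_V430 9 :=
  Stab.step (k := 9) (L := (lab 324 9)) z_hn z_T111_s58 z_V430_ok (grp_mono (List.subset_append_right [z_g424, z_g425] _)) (c := (Ch.cons (nat_lit 206) [nat_lit 1, nat_lit 3] Ch.nil)) (by decide +kernel)

theorem z_T111_s60 : Stab 324 (grp 324 y_E0) [nat_lit 206, nat_lit 120, nat_lit 70, nat_lit 9, nat_lit 2, nat_lit 0] z_V431 1 :=
  Stab.step (k := 9) (L := (lab 324 9)) z_hn z_T111_s59 z_V431_ok (grp_mono (List.subset_append_right [z_g426, z_g427] _)) (c := Ch.nil) (by decide +kernel)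

theorem z_g424_z_T111 : Net.toPerm 324 z_g424 ∈ (grp 324 y_E0) :=
  z_T111_s58.le (toPerm_mem_grp (E := z_V428) (List.Mem.head _))

theorem z_g425_z_T111 : Net.toPerm 324 z_g425 ∈ (grp 324 y_E0) :=
  z_T111_s58.le (toPerm_mem_grp (E := z_V428) (List.Mem.tail _ (List.Mem.head _)))

theorem z_g426_z_T111 : Net.toPerm 324 z_g426 ∈ (grp 324 y_E0) :=
  z_T111_s58.le (toPerm_mem_grp (E := z_V428) (List.Mem.tail _ (List.Mem.tail _ (List.Mem.head _))))

theorem z_g427_z_T111 : Net.toPerm 324 z_g427 ∈ (grp 324 y_E0) :=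
  z_T111_s58.le (toPerm_mem_grp (E := z_V428) (List.Mem.tail _ (List.Mem.tail _ (List.Mem.tail _ (List.Mem.head _)))))

noncomputable def z_T111_s60_O : ℕ := (nat_lit 0xfffffffffffffffff000000000000000000000000000000000000000000000000000000000000000000000000000000000ffffffffffffffffffffffffffffffff00000000000000000000000000000000f0000000000000000ffffffffffffffff0000000000000000ffffffffffffffff00000000000000000ffffffff00000000ffffffff00000000ffffffff00000000ffffffff00000000ffffffff000000000ffff0000ffff0000ffff0000ffff0000ffff0000ffff0000ffff0000ffff0000ffff0000ffff00000ff00ff00ff00ff00ff00ff00ff00ff00ff00ff00ff00ff00ff00ff00ff00ff00ff00ff00ff00ff000f0f0f0f0f0f0f0f0f0f0f0f0f0f0f0f0f0f0f0f0f0f0f0f0f0f0f0f0f0f0f0f0f0f0f0f0f0f0f0f0cccccccccccccccccccccccccccccccccccccccccccccccccccccccccccccccccccccccccccccccccaaaaaaaaaaaaaaaaaaaaaaaaaaaaaaaaaaaaaaaaaaaaaaaaaaaaaaaaaaaaaaaaaaaaaaaaaaaaaaaaa000000000000000000000000000000000000000000000000000000000000000000000000000000001000000000000000000000000000000000000000000000000000000000000000000000000000000004000000000000000000000000000000000000000000000000000000000000000000000000000000200000000000000000000000000000000000000000000000000000000000000000400000000000000000000000000000000000000000000000000000000000000000001000000000000000000000000000000000000000000000000000000000004000000000000000000000000000000000000000000000000000)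

theorem z_T111_s60_F : Frame 324 (grp 324 y_E0) 6 15 z_T111_s60_O 1 1 :=
  IsBase.frame z_T111_s60.isBase (by decide +kernel)

noncomputable def z_T111_s59_O : ℕ := (nat_lit 0x6107b23061124610048086843096c320000000000000000000000000000000000000000000000000061078000000000000000000000000000800001630440c04241002290220008100140c40688002000014f036bb7f9e4fdd27f721210b490891a60f29fb0ce8d9dedd83e7434936b3a0000000000000028b09e38773ce565b122b809ceccb1803450a6072773ff730631266d18fca6c808187ff600000000028b0eb883ba59253fce1da40d7eb0e17884cd9e0d9e43001e8ef980ed1b7f284c0019a89fe657200028a04ac678d750f29a144825953f6a3c469fe677a107738ff6a9c1e8d4b341597c5bf838d99a8580028102ced6f1a3450e240c54afa2e1f5a6dc3999858568492aaf0d60abda1adec2b48d32cb59b0d7fc2090000000000000000000000000000000000000000000000000000000000000000000000000000000001000000000000000000000000000000000000000000000000000000000000000000000000000000004000000000000000000000000000000000000000000000000000000000000000000000000000000200000000000000000000000000000000000000000000000000000000000000000400000000000000000000000000000000000000000000000000000000000000000001000000000000000000000000000000)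

theorem z_T111_s59_F : Frame 324 (grp 324 y_E0) 5 12 z_T111_s59_O 0 1 :=
  Stab.frame z_hn z_T111_s59 (by decide +kernel)

noncomputable def z_T111_s58_O : ℕ := (nat_lit 0x820000000000000000000000000000000000000000000000000000000000000000000000000000000000430100000800000000000000000000010220000000000c4068800200006567b63a6712469106800484319fc3a1800001f304c0c0564d1026902300a810014000000000028b08a88410498e9b06e987c486cba103c4000000e08f31b1fa1b2ee992d84de10a87eb6c4040000028a01cf84d8b16e4a985e225512f2f0904ddffe7f0944baa36bc8ce9d473c1d8f009f238f8038000028109b1f7995c155ff20f90af94f1042a54280180066b873e26b030d58e6fce80358daad97fa7f0002090000000000000000000000000000000000000000000000000000000000000000000000000000000001000000000000000000000000000000000000000000000000000000000000000000000000000000004000000000000000000000000000000000000000000000000000000000000000000000000000000200000000000000000000000000000000000000000000000000000000000000000400000000000000000)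

theorem z_T111_s58_F : Frame 324 (grp 324 y_E0) 4 10 z_T111_s58_O 0 1 :=
  Stab.frame z_hn z_T111_s58 (by decide +kernel)

noncomputable def yt_c21_cnt_L : List ℕ := [1, 4, z_T111_s1_O, 0, 0, 4, 10, z_T111_s58_O, 0, 0, 5, 12, z_T111_s59_O, 0, 0, 6, 15, z_T111_s60_O, 1, 0]

theorem yt_c21_cnt_P : Prob 324 9 (grp 324 y_E0) yt_c21_cnt_EG [z_g416] [z_g416] yt_c21_K yt_c21_cnt_L 0 0 :=
  Sym.prob z_hn z_hk yt_c21_sym yt_c21_cnt_EG_ok (grp_cons_le z_g39_z_T111 (grp_cons_le zg1_z_T111 (grp_cons_le zg3_z_T111 (grp_cons_le z_g43_z_T111 (grp_cons_le z_g42_z_T111 (grp_cons_le zg2_z_T111 (grp_cons_le z_g44_z_T111 (grp_cons_le z_g54_z_T111 (grp_cons_le z_g55_z_T111 (grp_cons_le z_g49_z_T111 (grp_cons_le z_g50_z_T111 (grp_cons_le z_g51_z_T111 (grp_cons_le z_g62_z_T111 (grp_cons_le z_g58_z_T111 (grp_cons_le z_g59_z_T111 (grp_cons_le z_g65_z_T111 (grp_cons_le z_g66_z_T111 (grp_cons_le z_g67_z_T111 (grp_cons_le z_g77_z_T111 (grp_cons_le z_g78_z_T111 (grp_cons_le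 z_g72_z_T111 (grp_cons_le z_g73_z_T111 (grp_cons_le z_g74_z_T111 (grp_cons_le z_g81_z_T111 (grp_cons_le z_g82_z_T111 (grp_cons_le z_g87_z_T111 (grp_cons_le zg0_z_T111 (grp_cons_le z_g91_z_T111 (grp_cons_le z_g28_z_T111 (grp_cons_le z_g88_z_T111 (grp_cons_le z_g424_z_T111 (grp_cons_le z_g425_z_T111 (grp_cons_le z_g426_z_T111 (grp_cons_le z_g427_z_T111 (grp_nil_le _))))))))))))))))))))))))))))))))))) (Frames.cons z_T111_s1_F (Frames.cons z_T111_s58_F (Frames.cons z_T111_s59_F (Frames.cons z_T111_s60_F Frames.nil)))) (okE_cons.2 ⟨z_g416_ok, okE_nil _⟩) _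

noncomputable def yt_c21_cnt_t : BT := (BT.fix (nat_lit 1) (BT.br (nat_lit 0) (nat_lit 67) [nat_lit 1, nat_lit 3] (BT.kid (nat_lit 67) (nat_lit 486) (BT.frm (nat_lit 0) (nat_lit 67601) (nat_lit 67601) [nat_lit 0] (BT.pln (nat_lit 0) (nat_lit 3) (BT.dif (nat_lit 0) (nat_lit 3) (BT.br (nat_lit 0) (nat_lit 303) [nat_lit 3] (BT.kid (nat_lit 303) (nat_lit 81) (BT.pln (nat_lit 3) (nat_lit 1) (BT.and (nat_lit 6) (nat_lit 0) (BT.br (nat_lit 0) (nat_lit 292) [nat_lit 5] (BT.dead (nat_lit 153) (BT.dif (nat_lit 11) (nat_lit 2) (BT.img (nat_lit 1) (nat_lit 4) (BT.frm (nat_lit 1) (nat_lit 0x19350f120715010811) (nat_lit 0x3b0f120715010811) [nat_lit 2, nat_lit 0, nat_lit 5, nat_lit 9] (BT.pln (nat_lit 0) (nat_lit 7) (BT.and (nat_lit 3) (nat_lit 0) (BT.pln (nat_lit 2) (nat_lit 4) (BT.dif (nat_lit 1) (nat_lit 0) (BT.pln (nat_lit 4) (nat_lit 5) (BT.dif (nat_lit 1) (nat_lit 0) (BT.dif (nat_lit 0) (nat_lit 14) (BT.br (nat_lit 0) (nat_lit 0) [nat_lit 2826,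 nat_lit 788490] (BT.dead (nat_lit 54) (BT.and (nat_lit 3) (nat_lit 5) (BT.pln (nat_lit 9) (nat_lit 6) (BT.and (nat_lit 1) (nat_lit 0) (BT.frm (nat_lit 2) (nat_lit 0x3d3f19350f120715010811) (nat_lit 0x3e3f3b0f120715010811) [nat_lit 3, nat_lit 14, nat_lit 12, nat_lit 17, nat_lit 21] (BT.pln (nat_lit 0) (nat_lit 7) (BT.dif (nat_lit 2) (nat_lit 0) (BT.dif (nat_lit 0) (nat_lit 19) (BT.br (nat_lit 0) (nat_lit 212) [nat_lit 12] (BT.dead (nat_lit 14) (BT.frm (nat_lit 3) (nat_lit 0x423d3f19350f120715010811) (nat_lit 0x41433e3f3b0f120715010811) [nat_lit 0, nat_lit 8, nat_lit 19, nat_lit 17, nat_lit 22, nat_lit 26] (BT.pln (nat_lit 0) (nat_lit 6) (BT.img (nat_lit 1) (nat_lit 2) (BT.img (nat_lit 1) (nat_lit 0) (BT.and (nat_lit 2) (nat_lit 0) (BT.cnt (nat_lit 0))))))) (BT.dead (nat_lit 1) (BT.frm (nat_lit 3) (nat_lit 0x423d3f19350f120715010811) (nat_lit 0x41443e3f3b0f120715010811) [nat_lit 0, nat_lit 8, nat_lit 19, nat_lit 17, nat_lit 22, nat_lit 26]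 (BT.pln (nat_lit 0) (nat_lit 6) (BT.img (nat_lit 1) (nat_lit 2) (BT.and (nat_lit 1) (nat_lit 0) (BT.cnt (nat_lit 0)))))) (BT.dead (nat_lit 10) (BT.frm (nat_lit 3) (nat_lit 0x423d3f19350f120715010811) (nat_lit 0x413e3f3b0f120715010811) [nat_lit 0, nat_lit 8, nat_lit 19, nat_lit 17, nat_lit 22, nat_lit 26] (BT.pln (nat_lit 0) (nat_lit 6) (BT.img (nat_lit 1) (nat_lit 2) (BT.and (nat_lit 1) (nat_lit 0) (BT.cnt (nat_lit 0)))))) BT.nil))))))))))) (BT.dead (nat_lit 59) (BT.frm (nat_lit 2) (nat_lit 0x3d3f19350f120715010811) (nat_lit 0x3f3d403b0f120715010811) [nat_lit 0, nat_lit 11, nat_lit 9, nat_lit 14, nat_lit 18] (BT.pln (nat_lit 0) (nat_lit 5) (BT.img (nat_lit 1) (nat_lit 2) (BT.and (nat_lit 1) (nat_lit 0) (BT.cnt (nat_lit 0)))))) (BT.dead (nat_lit 94) (BT.frm (nat_lit 2) (nat_lit 0x3d3f19350f120715010811) (nat_lit 0x403d3b0f120715010811) [nat_lit 0, nat_lit 11, nat_lit 9, nat_lit 14, nat_lit 18] (BT.pln (nat_lit 0) (nat_lit 5) (BT.img (nat_lit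 1) (nat_lit 2) (BT.and (nat_lit 1) (nat_lit 0) (BT.cnt (nat_lit 0)))))) BT.nil)))))))))))))) (BT.kid (nat_lit 292) (nat_lit 27) (BT.dif (nat_lit 11) (nat_lit 2) (BT.img (nat_lit 1) (nat_lit 4) (BT.frm (nat_lit 1) (nat_lit 0x19350f120715010811) (nat_lit 0x19350f120715010811) [nat_lit 2, nat_lit 0, nat_lit 5, nat_lit 9] (BT.pln (nat_lit 0) (nat_lit 7) (BT.and (nat_lit 3) (nat_lit 0) (BT.pln (nat_lit 2) (nat_lit 4) (BT.dif (nat_lit 1) (nat_lit 0) (BT.pln (nat_lit 4) (nat_lit 5) (BT.dif (nat_lit 1) (nat_lit 0) (BT.dif (nat_lit 0) (nat_lit 14) (BT.br (nat_lit 0) (nat_lit 0) [nat_lit 7, nat_lit 9] (BT.dead (nat_lit 5) (BT.frm (nat_lit 2) (nat_lit 0x3d3f19350f120715010811) (nat_lit 0x3f3e4019350f120715010811) [nat_lit 0, nat_lit 11, nat_lit 9, nat_lit 14, nat_lit 18] (BT.pln (nat_lit 0) (nat_lit 5) (BT.img (nat_lit 1) (nat_lit 2) (BT.and (nat_lit 1) (nat_lit 0) (BT.cnt (nat_lit 0)))))) (BT.dead (nat_lit 2) (BT.frm (nat_lit 2) (nat_lit 0x3d3f19350f120715010811)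 (nat_lit 0x3d403e19350f120715010811) [nat_lit 0, nat_lit 11, nat_lit 9, nat_lit 14, nat_lit 18] (BT.pln (nat_lit 0) (nat_lit 5) (BT.img (nat_lit 1) (nat_lit 2) (BT.and (nat_lit 1) (nat_lit 0) (BT.cnt (nat_lit 0)))))) (BT.kid (nat_lit 0) (nat_lit 3) (BT.and (nat_lit 3) (nat_lit 5) (BT.pln (nat_lit 9) (nat_lit 6) (BT.and (nat_lit 1) (nat_lit 0) (BT.frm (nat_lit 2) (nat_lit 0x3d3f19350f120715010811) (nat_lit 0x3d3f19350f120715010811) [nat_lit 3, nat_lit 14, nat_lit 12, nat_lit 17, nat_lit 21] (BT.pln (nat_lit 0) (nat_lit 7) (BT.dif (nat_lit 2) (nat_lit 0) (BT.dif (nat_lit 0) (nat_lit 19) (BT.br (nat_lit 0) (nat_lit 212) [nat_lit 11] (BT.dead (nat_lit 134) (BT.frm (nat_lit 3) (nat_lit 0x423d3f19350f120715010811) (nat_lit 0x42433d3f19350f120715010811) [nat_lit 0, nat_lit 8, nat_lit 19, nat_lit 17, nat_lit 22, nat_lit 26] (BT.pln (nat_lit 0) (nat_lit 6) (BT.img (nat_lit 1) (nat_lit 2) (BT.and (nat_lit 1) (nat_lit 0) (BT.cnt (nat_lit 0))))))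 (BT.dead (nat_lit 267) (BT.frm (nat_lit 3) (nat_lit 0x423d3f19350f120715010811) (nat_lit 0x42443d3f19350f120715010811) [nat_lit 0, nat_lit 8, nat_lit 19, nat_lit 17, nat_lit 22, nat_lit 26] (BT.pln (nat_lit 0) (nat_lit 6) (BT.img (nat_lit 1) (nat_lit 2) (BT.and (nat_lit 1) (nat_lit 0) (BT.cnt (nat_lit 0)))))) (BT.kid (nat_lit 212) (nat_lit 1) (BT.one (nat_lit 3) (nat_lit 0x423d3f19350f120715010811) (nat_lit 0x423d3f19350f120715010811) [nat_lit 0, nat_lit 8, nat_lit 19, nat_lit 17, nat_lit 22, nat_lit 26]) BT.nil))))))))))) BT.nil)))))))))))))) BT.nil))))) BT.nil))))) BT.nil)))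

theorem yt_c21_cnt : Cnt 324 (grp 324 y_E0) [z_g416] [z_g416] 0 0 0 0 4374 :=
  BT.sound yt_c21_cnt_P Known.nil (t := yt_c21_cnt_t) (d := 0) (by decide +kernel)

theorem yt_c21_ge : 4374 ≤ Nat.card (grp 324 yt_c21_K) :=
  Ch.le_card_grp (k := 9) (L := (lab 324 9)) z_hn yt_c21_K_ok (c := (Ch.cons (nat_lit 67) [nat_lit 1] (Ch.cons (nat_lit 303) [nat_lit 3] (Ch.cons (nat_lit 292) [nat_lit 5] (Ch.cons (nat_lit 0) [nat_lit 7, nat_lit 9] (Ch.cons (nat_lit 212) [nat_lit 11] Ch.nil)))))) (by decide +kernel)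

theorem yt_c21_eq : (grp 324 y_E0) ⊓ Subgroup.centralizer {Net.toPerm 324 z_g416} = grp 324 yt_c21_K :=
  cent_eq yt_c21_sym yt_c21_cnt yt_c21_ge

theorem yt_c21_card : Nat.card ↥((grp 324 y_E0) ⊓ Subgroup.centralizer {Net.toPerm 324 z_g416}) = 4374 :=
  card_cent yt_c21_sym yt_c21_cnt yt_c21_ge

theorem yt_c21_ord : orderOf (Net.toPerm 324 z_g416) = 3 :=
  orderOf_net z_hn z_hk z_g416_ok (by decide) (ps := [3]) (by set_option linter.unusedSimpArgs false in simp [Nat.primeFactorsList_ofNat]) (by decide +kernel)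

theorem z_le435 : grp 324 yt_c22_K ≤ grp 324 y_E0 :=
  grp_le_of_memB z_hn z_hk y_E0_ok yt_c22_K_ok (ws := [nat_lit 0x353c2f26191e0f08010810, nat_lit 0x353c2f271f1a200f070a, nat_lit 56]) (by decide +kernel)

theorem yt_c22_le : grp 324 yt_c22_K ≤ (grp 324 y_E0) :=
  (z_le435.trans z_T111_s0.le)

theorem yt_c22_mem : Net.toPerm 324 z_g432 ∈ (grp 324 y_E0) :=
  yt_c22_le (mem_grp_of_memB z_hn z_hk yt_c22_K_ok z_g432_ok (w := (nat_lit 0x40101040101)) (by decide +kernel))

theorem yt_c22_sym : Sym 324 (grp 324 y_E0) [z_g432] yt_c22_K 0 :=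
  Sym.of_lab z_hn z_hk (okE_cons.2 ⟨z_g432_ok, okE_nil _⟩) yt_c22_K_ok yt_c22_le (kT := 0) (by decide +kernel)

theorem z_le440 : grp 324 z_V439 ≤ grp 324 z_V179 :=
  grp_le_of_memB z_hn z_hk z_V179_ok z_V439_ok (ws := [nat_lit 0x703030107, nat_lit 0xb09030302, nat_lit 0x4050204, nat_lit 0x70504060104, nat_lit 0x904060104, nat_lit 0xb0905030301]) (by decide +kernel)

theorem z_T111_s61 : Stab 324 (grp 324 y_E0) [nat_lit 20, nat_lit 26, nat_lit 298, nat_lit 0] z_V439 216 :=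
  Stab.step (k := 9) (L := (lab 324 9)) z_hn z_T111_s13 z_V439_ok z_le440 (c := (Ch.cons (nat_lit 22) [nat_lit 1] (Ch.cons (nat_lit 7) [nat_lit 3] (Ch.cons (nat_lit 84) [nat_lit 5] (Ch.cons (nat_lit 35) [nat_lit 7, nat_lit 9, nat_lit 11] Ch.nil))))) (by decide +kernel)

theorem z_T111_s62 : Stab 324 (grp 324 y_E0) [nat_lit 22, nat_lit 20, nat_lit 26, nat_lit 298, nat_lit 0] z_V441 72 :=
  Stab.step (k := 9) (L := (lab 324 9)) z_hn z_T111_s61 z_V441_ok (grp_mono (List.subset_append_right [z_g436] _)) (c := (Ch.cons (nat_lit 7) [nat_lit 1] (Ch.cons (nat_lit 84) [nat_lit 3] (Ch.cons (nat_lit 35) [nat_lit 5, nat_lit 7, nat_lit 9] Ch.nil)))) (by decide +kernel)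

theorem z_T111_s63 : Stab 324 (grp 324 y_E0) [nat_lit 7, nat_lit 22, nat_lit 20, nat_lit 26, nat_lit 298, nat_lit 0] z_V442 36 :=
  Stab.step (k := 9) (L := (lab 324 9)) z_hn z_T111_s62 z_V442_ok (grp_mono (List.subset_append_right [z_g437] _)) (c := (Ch.cons (nat_lit 84) [nat_lit 1] (Ch.cons (nat_lit 35) [nat_lit 3, nat_lit 5, nat_lit 7] Ch.nil))) (by decide +kernel)

theorem z_T111_s64 : Stab 324 (grp 324 y_E0) [nat_lit 84, nat_lit 7, nat_lit 22, nat_lit 20, nat_lit 26, nat_lit 298, nat_lit 0] z_V443 18 :=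
  Stab.step (k := 9) (L := (lab 324 9)) z_hn z_T111_s63 z_V443_ok (grp_mono (List.subset_append_right [z_g438] _)) (c := (Ch.cons (nat_lit 35) [nat_lit 1, nat_lit 3, nat_lit 5] Ch.nil)) (by decide +kernel)

theorem z_T111_s65 : Stab 324 (grp 324 y_E0) [nat_lit 35, nat_lit 84, nat_lit 7, nat_lit 22, nat_lit 20, nat_lit 26, nat_lit 298, nat_lit 0] z_V444 1 :=
  Stab.step (k := 9) (L := (lab 324 9)) z_hn z_T111_s64 z_V444_ok (grp_mono (List.subset_append_right [z_g297, z_g248, z_g247] _)) (c := Ch.nil) (by decide +kernel)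

theorem z_g436_z_T111 : Net.toPerm 324 z_g436 ∈ (grp 324 y_E0) :=
  z_T111_s61.le (toPerm_mem_grp (E := z_V439) (List.Mem.head _))

theorem z_g437_z_T111 : Net.toPerm 324 z_g437 ∈ (grp 324 y_E0) :=
  z_T111_s61.le (toPerm_mem_grp (E := z_V439) (List.Mem.tail _ (List.Mem.head _)))

theorem z_g438_z_T111 : Net.toPerm 324 z_g438 ∈ (grp 324 y_E0) :=
  z_T111_s61.le (toPerm_mem_grp (E := z_V439) (List.Mem.tail _ (List.Mem.tail _ (List.Mem.head _))))

theorem z_g248_z_T111 : Net.toPerm 324 z_g248 ∈ (grp 324 y_E0) :=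
  z_T111_s61.le (toPerm_mem_grp (E := z_V439) (List.Mem.tail _ (List.Mem.tail _ (List.Mem.tail _ (List.Mem.tail _ (List.Mem.head _))))))

theorem z_g247_z_T111 : Net.toPerm 324 z_g247 ∈ (grp 324 y_E0) :=
  z_T111_s61.le (toPerm_mem_grp (E := z_V439) (List.Mem.tail _ (List.Mem.tail _ (List.Mem.tail _ (List.Mem.tail _ (List.Mem.tail _ (List.Mem.head _)))))))

noncomputable def z_T111_s65_O : ℕ := (nat_lit 0xfffffffffffffffff000000000000000000000000000000000000000000000000000000000000000000000000000000000ffffffffffffffffffffffffffffffff00000000000000000000000000000000f0000000000000000ffffffffffffffff0000000000000000ffffffffffffffff00000000000000000ffffffff00000000ffffffff00000000ffffffff00000000ffffffff00000000ffffffff000000000ffff0000ffff0000ffff0000ffff0000ffff0000ffff0000ffff0000ffff0000ffff0000ffff00000ff00ff00ff00ff00ff00ff00ff00ff00ff00ff00ff00ff00ff00ff00ff00ff00ff00ff00ff00ff000f0f0f0f0f0f0f0f0f0f0f0f0f0f0f0f0f0f0f0f0f0f0f0f0f0f0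f0f0f0f0f0f0f0f0f0f0f0f0f0f0cccccccccccccccccccccccccccccccccccccccccccccccccccccccccccccccccccccccccccccccccaaaaaaaaaaaaaaaaaaaaaaaaaaaaaaaaaaaaaaaaaaaaaaaaaaaaaaaaaaaaaaaaaaaaaaaaaaaaaaaaa000000000000000000000000000000000000000000000000000000000000000000000000000000001000000400000000000000000000000000000000000000000000000000000000000000000000000000000000000000000000000000000000000000000000000000000000000000000000000000004000000000000000000000000000000000000000000000000000000000000000000000000000000000100000000000000000000000000000000000000000000000000000000000000000000000000000000400000000000000000000000000000000000000000000000000000000000000000000000000000000000080000000000000000000000000000000000000000000000000000000000001000000000000000000000000000000000000000000000000000000000000000000000000000000000000000000000800000000)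

theorem z_T111_s65_F : Frame 324 (grp 324 y_E0) 8 17 z_T111_s65_O 1 1 :=
  IsBase.frame z_T111_s65.isBase (by decide +kernel)

noncomputable def z_T111_s63_O : ℕ := (nat_lit 0x3ae2a0000000000000000000000001040200000000000000004000000000000000104020000000000b01d57e9fbbc73cbf5df1f9be584cf80ba5ae40000009fbbc73cbf5df1f9be584ce80b85ae40000000ac00347ad7ba975afe9f9f6eb4112bca0bd1a1000007ad7ba975afe9f9f6eb4113bca2bd1a1000000a22030f810c2a1a2c789f736e505cd80955e3ce667af810c2e1a2c789f736e505ddc0955e3ce667aa8a0824000000000000000000000000000000000000000000000000000000000000000000000000000000001000000400000000000000000000000000000000000000000000000000000000000000000000000000000000000000000000000000000000000000000000000000000000000000000000000000004000000000000000000000000000000000000000000000000000000000000000000000000000000000100000000000000000000000000000000000000000000000000000000000000000000000000000000400000000000000000000000000000000000000000000000000000000000000000000000000000000000080)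

theorem z_T111_s63_F : Frame 324 (grp 324 y_E0) 6 11 z_T111_s63_O 0 1 :=
  Stab.frame z_hn z_T111_s63 (by decide +kernel)

noncomputable def z_T111_s62_O : ℕ := (nat_lit 0x2000000000000000000000000000000000000000000000000000000000000000000000000000000001000000000000000000000000000000000000000000000000000000000000000000000000000000000800000000000000000000000000000000000000000000000000000000000000000000000000000000200000000000000000000000000000000000000000000000000000000000000000000000000000000080000000000000000000000000000000000000000000000000000000000000000000000000000000040000000000000000000000000010002000000000000000000000000000000000000000000000000000000000000000000000000000000000000000000000000000000000000000001040000000000000000000000000000000000000000000400000000000000000000000000000000000000200000000000000000000000000000000000000000000000000000000000040000000000000000000000000000008000000000000000000000000000000000000000000000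0000000000000000000000000000000000000022000000000000000000000000000000000000000000000000000000000000000000000000000000000a000000000000000000000000000000000000000000000000000000000000000000000000000002001000000000000000000000000000000000000000000000000000000000000000000000000000000080400000000000000000000000000000000000000000000000000000000000000000000000000001d54a1a9382141a5c91992e1000280a018000000001a9382141a5c91992e1000280a018000000000000000652805890582680680ac49018100706000000652805890582680680ac49018100706000000000000080447822e0210660504014c2008e0f810000080447822e0210660504014c2008e0f81000000000000000000000000000000000000000000000000000000000000000000000000000000000000000000001000000400000000000000000000000000000000000000000000000000000000000000000000000000000000000000000000000000000000000000000000000000000000000000000000000000004000000000000000000000000000000000000000000000000000000000000000000000000000000000100000000000000000000000000000000000000000000000000000000000000000000000000000000400000)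

theorem z_T111_s62_F : Frame 324 (grp 324 y_E0) 5 23 z_T111_s62_O 0 1 :=
  Stab.frame z_hn z_T111_s62 (by decide +kernel)

noncomputable def z_T111_s61_O : ℕ := (nat_lit 0x2000000000000000000000000000004000000000000000000000000000000000000002000000000000000000000000000000000000000000000000000000000000000000000000000000000000000000000000a00000000000000000000000000000000000000000000000000000000000000000000000000034000000000000000000000000000000000000000000000000000000000000000000000000000000008c0000000000000000000000000010002000000000000000040000000000000001040000000000008000000000000000000000000000000000000000000000000000000000000000000000000000000000022a1400000000000000000000000000000000000000000000000000000000000000000000000000001d54a00000000000000000103a2043450001efffff00000000000000000103a2043450001efffff0000000000000000000000000000000000000000000000000000000000000000000000000000000000000001000000400000000000000000000000000000000000000000000000000000000000000000000000000000000000000000000000000000000000000000000000000000000000000000000000000004000000000000000000000000000000000000000000000000000000000000000000000000000000000100000)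

theorem z_T111_s61_F : Frame 324 (grp 324 y_E0) 4 13 z_T111_s61_O 0 1 :=
  Stab.frame z_hn z_T111_s61 (by decide +kernel)

noncomputable def yt_c22_cnt_L : List ℕ := [1, 4, z_T111_s1_O, 0, 0, 4, 13, z_T111_s61_O, 0, 0, 5, 23, z_T111_s62_O, 0, 0, 6, 11, z_T111_s63_O, 0, 0, 8, 17, z_T111_s65_O, 1, 0]

theorem yt_c22_cnt_P : Prob 324 9 (grp 324 y_E0) yt_c22_cnt_EG [z_g432] [z_g432] yt_c22_K yt_c22_cnt_L 0 0 :=
  Sym.prob z_hn z_hk yt_c22_sym yt_c22_cnt_EG_ok (grp_cons_le z_g39_z_T111 (grp_cons_le zg1_z_T111 (grp_cons_le zg3_z_T111 (grp_cons_le z_g43_z_T111 (grp_cons_le z_g42_z_T111 (grp_cons_le zg2_z_T111 (grp_cons_le z_g44_z_T111 (grp_cons_le z_g54_z_T111 (grp_cons_le z_g55_z_T111 (grp_cons_le z_g49_z_T111 (grp_cons_le z_g50_z_T111 (grp_cons_le z_g51_z_T111 (grp_cons_le z_g62_z_T111 (grp_cons_le z_g58_z_T111 (grp_cons_le z_g59_z_T111 (grp_cons_le z_g65_z_T111 (grp_cons_le z_g66_z_T111 (grp_cons_le z_g67_z_T111 (grp_cons_le z_g77_z_T111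 (grp_cons_le z_g78_z_T111 (grp_cons_le z_g72_z_T111 (grp_cons_le z_g73_z_T111 (grp_cons_le z_g74_z_T111 (grp_cons_le z_g81_z_T111 (grp_cons_le z_g82_z_T111 (grp_cons_le z_g87_z_T111 (grp_cons_le zg0_z_T111 (grp_cons_le z_g91_z_T111 (grp_cons_le z_g28_z_T111 (grp_cons_le z_g88_z_T111 (grp_cons_le z_g174_z_T111 (grp_cons_le z_g175_z_T111 (grp_cons_le z_g176_z_T111 (grp_cons_le z_g177_z_T111 (grp_cons_le z_g30_z_T111 (grp_cons_le z_g178_z_T111 (grp_cons_le z_g126_z_T111 (grp_cons_le z_g127_z_T111 (grp_cons_le z_g128_z_T111 (grp_cons_le z_g129_z_T111 (grp_cons_le z_g130_z_T111 (grp_cons_le z_g131_z_T111 (grp_cons_le z_g132_z_T111 (grp_cons_le z_g133_z_T111 (grp_cons_le z_g134_z_T111 (grp_cons_le z_g135_z_T111 (grp_cons_le z_g436_z_T111 (grp_cons_le z_g437_z_T111 (grp_cons_le z_g438_z_T111 (grp_cons_le z_g297_z_T111 (grp_cons_le z_g248_z_T111 (grp_cons_le z_g247_z_T111 (grp_nil_le _))))))))))))))))))))))))))))))))))))))))))))))))))))) (Frames.cons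 z_T111_s1_F (Frames.cons z_T111_s61_F (Frames.cons z_T111_s62_F (Frames.cons z_T111_s63_F (Frames.cons z_T111_s65_F Frames.nil))))) (okE_cons.2 ⟨z_g432_ok, okE_nil _⟩) _

noncomputable def yt_c22_cnt_t : BT := (BT.br (nat_lit 2) (nat_lit 0) [nat_lit 1, nat_lit 3] (BT.dead (nat_lit 27) (BT.frm (nat_lit 0) (nat_lit 0) (nat_lit 198702) [nat_lit 0] (BT.pln (nat_lit 0) (nat_lit 2) (BT.img (nat_lit 1) (nat_lit 2) (BT.and (nat_lit 1) (nat_lit 0) (BT.cnt (nat_lit 0)))))) (BT.kid (nat_lit 0) (nat_lit 18) (BT.frm (nat_lit 0) (nat_lit 0) (nat_lit 0) [nat_lit 0] (BT.pln (nat_lit 0) (nat_lit 3) (BT.img (nat_lit 1) (nat_lit 0) (BT.img (nat_lit 1) (nat_lit 0) (BT.br (nat_lit 0) (nat_lit 25) [nat_lit 3] (BT.dead (nat_lit 24) (BT.img (nat_lit 1) (nat_lit 5) (BT.img (nat_lit 1) (nat_lit 0) (BT.frm (nat_lit 1) (nat_lit 0x3f414b5707) (nat_lit 0x3f424b5707) [nat_lit 2, nat_lit 0, nat_lit 1, nat_lit 7] (BT.pln (nat_lit 0) (nat_lit 6) (BT.img (nat_lit 1) (nat_lit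 4) (BT.and (nat_lit 1) (nat_lit 0) (BT.cnt (nat_lit 0)))))))) (BT.kid (nat_lit 25) (nat_lit 3) (BT.pln (nat_lit 4) (nat_lit 1) (BT.img (nat_lit 1) (nat_lit 6) (BT.img (nat_lit 1) (nat_lit 0) (BT.frm (nat_lit 1) (nat_lit 0x3f414b5707) (nat_lit 0x3f414b5707) [nat_lit 3, nat_lit 0, nat_lit 1, nat_lit 8] (BT.pln (nat_lit 0) (nat_lit 6) (BT.dif (nat_lit 8) (nat_lit 0) (BT.pln (nat_lit 2) (nat_lit 8) (BT.and (nat_lit 8) (nat_lit 0) (BT.img (nat_lit 1) (nat_lit 0) (BT.dif (nat_lit 3) (nat_lit 0) (BT.dif (nat_lit 11) (nat_lit 10) (BT.img (nat_lit 1) (nat_lit 1) (BT.and (nat_lit 14) (nat_lit 0) (BT.img (nat_lit 1) (nat_lit 0) (BT.and (nat_lit 3) (nat_lit 0) (BT.frm (nat_lit 3) (nat_lit 0x5d3f414b5707) (nat_lit 0x5d3f414b5707) [nat_lit 5, nat_lit 0, nat_lit 15, nat_lit 12, nat_lit 13, nat_lit 20] (BT.pln (nat_lit 0) (nat_lit 6) (BT.dif (nat_lit 16) (nat_lit 0) (BT.and (nat_lit 17) (nat_lit 1) (BT.img (nat_lit 1) (nat_lit 0) (BT.and (nat_lit 2) (nat_lit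 0) (BT.br (nat_lit 0) (nat_lit 32) [nat_lit 5] (BT.dead (nat_lit 42) (BT.img (nat_lit 1) (nat_lit 22) (BT.img (nat_lit 1) (nat_lit 0) (BT.dif (nat_lit 26) (nat_lit 0) (BT.frm (nat_lit 2) (nat_lit 0x5d3f414b5707) (nat_lit 0x5d3f414b5707) [nat_lit 10, nat_lit 25, nat_lit 22, nat_lit 23, nat_lit 30] (BT.pln (nat_lit 0) (nat_lit 15) (BT.and (nat_lit 2) (nat_lit 0) (BT.dif (nat_lit 31) (nat_lit 5) (BT.and (nat_lit 0) (nat_lit 20) (BT.and (nat_lit 0) (nat_lit 25) (BT.img (nat_lit 1) (nat_lit 0) (BT.and (nat_lit 4) (nat_lit 0) (BT.frm (nat_lit 4) (nat_lit 0x63685d3f414b5707) (nat_lit 0x63675d3f414b5707) [nat_lit 11, nat_lit 0, nat_lit 23, nat_lit 18, nat_lit 33, nat_lit 30, nat_lit 31, nat_lit 38] (BT.pln (nat_lit 0) (nat_lit 8) (BT.img (nat_lit 1) (nat_lit 13) (BT.img (nat_lit 1) (nat_lit 0) (BT.and (nat_lit 2) (nat_lit 0) (BT.cnt (nat_lit 0)))))))))))))))))) (BT.dead (nat_lit 189) (BT.img (nat_lit 1) (nat_lit 22) (BT.img (nat_lit 1) (nat_lit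 0) (BT.dif (nat_lit 26) (nat_lit 0) (BT.frm (nat_lit 2) (nat_lit 0x5d3f414b5707) (nat_lit 0x5d3f414b5707) [nat_lit 10, nat_lit 25, nat_lit 22, nat_lit 23, nat_lit 30] (BT.pln (nat_lit 0) (nat_lit 15) (BT.and (nat_lit 2) (nat_lit 0) (BT.dif (nat_lit 31) (nat_lit 5) (BT.and (nat_lit 0) (nat_lit 20) (BT.and (nat_lit 0) (nat_lit 25) (BT.img (nat_lit 1) (nat_lit 0) (BT.and (nat_lit 4) (nat_lit 0) (BT.frm (nat_lit 4) (nat_lit 0x63685d3f414b5707) (nat_lit 0x66685d3f414b5707) [nat_lit 11, nat_lit 0, nat_lit 23, nat_lit 18, nat_lit 33, nat_lit 30, nat_lit 31, nat_lit 38] (BT.pln (nat_lit 0) (nat_lit 8) (BT.img (nat_lit 1) (nat_lit 13) (BT.and (nat_lit 1) (nat_lit 0) (BT.cnt (nat_lit 0))))))))))))))))) (BT.dead (nat_lit 200) (BT.img (nat_lit 1) (nat_lit 22) (BT.img (nat_lit 1) (nat_lit 0) (BT.dif (nat_lit 26) (nat_lit 0) (BT.frm (nat_lit 2) (nat_lit 0x5d3f414b5707) (nat_lit 0x5d3f414b5707) [nat_lit 10, nat_lit 25, nat_lit 22, nat_lit 23, nat_lit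 30] (BT.pln (nat_lit 0) (nat_lit 15) (BT.and (nat_lit 2) (nat_lit 0) (BT.dif (nat_lit 31) (nat_lit 5) (BT.and (nat_lit 0) (nat_lit 20) (BT.and (nat_lit 0) (nat_lit 25) (BT.img (nat_lit 1) (nat_lit 0) (BT.and (nat_lit 4) (nat_lit 0) (BT.frm (nat_lit 4) (nat_lit 0x63685d3f414b5707) (nat_lit 0x66675d3f414b5707) [nat_lit 11, nat_lit 0, nat_lit 23, nat_lit 18, nat_lit 33, nat_lit 30, nat_lit 31, nat_lit 38] (BT.pln (nat_lit 0) (nat_lit 8) (BT.img (nat_lit 1) (nat_lit 13) (BT.and (nat_lit 1) (nat_lit 0) (BT.cnt (nat_lit 0))))))))))))))))) (BT.dead (nat_lit 29) (BT.img (nat_lit 1) (nat_lit 22) (BT.img (nat_lit 1) (nat_lit 0) (BT.dif (nat_lit 26) (nat_lit 0) (BT.frm (nat_lit 2) (nat_lit 0x5d3f414b5707) (nat_lit 0x5d3f414b5707) [nat_lit 10, nat_lit 25, nat_lit 22, nat_lit 23, nat_lit 30] (BT.pln (nat_lit 0) (nat_lit 15) (BT.and (nat_lit 2) (nat_lit 0) (BT.dif (nat_lit 31) (nat_lit 5) (BT.and (nat_lit 0) (nat_lit 20) (BT.and (nat_lit 0) (nat_lit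 25) (BT.img (nat_lit 1) (nat_lit 0) (BT.and (nat_lit 4) (nat_lit 0) (BT.frm (nat_lit 4) (nat_lit 0x63685d3f414b5707) (nat_lit 0x635d3f414b5707) [nat_lit 11, nat_lit 0, nat_lit 23, nat_lit 18, nat_lit 33, nat_lit 30, nat_lit 31, nat_lit 38] (BT.pln (nat_lit 0) (nat_lit 8) (BT.img (nat_lit 1) (nat_lit 13) (BT.img (nat_lit 1) (nat_lit 0) (BT.and (nat_lit 2) (nat_lit 0) (BT.cnt (nat_lit 0)))))))))))))))))) (BT.dead (nat_lit 244) (BT.img (nat_lit 1) (nat_lit 22) (BT.img (nat_lit 1) (nat_lit 0) (BT.dif (nat_lit 26) (nat_lit 0) (BT.frm (nat_lit 2) (nat_lit 0x5d3f414b5707) (nat_lit 0x5d3f414b5707) [nat_lit 10, nat_lit 25, nat_lit 22, nat_lit 23, nat_lit 30] (BT.pln (nat_lit 0) (nat_lit 15) (BT.and (nat_lit 2) (nat_lit 0) (BT.dif (nat_lit 31) (nat_lit 5) (BT.and (nat_lit 0) (nat_lit 20) (BT.and (nat_lit 0) (nat_lit 25) (BT.img (nat_lit 1) (nat_lit 0) (BT.and (nat_lit 4) (nat_lit 0) (BT.frm (nat_lit 4) (nat_lit 0x63685d3f414b5707) (nat_lit 0x685d3f414b5707)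 [nat_lit 11, nat_lit 0, nat_lit 23, nat_lit 18, nat_lit 33, nat_lit 30, nat_lit 31, nat_lit 38] (BT.pln (nat_lit 0) (nat_lit 8) (BT.img (nat_lit 1) (nat_lit 13) (BT.and (nat_lit 1) (nat_lit 0) (BT.cnt (nat_lit 0))))))))))))))))) (BT.kid (nat_lit 32) (nat_lit 1) (BT.img (nat_lit 1) (nat_lit 22) (BT.img (nat_lit 1) (nat_lit 0) (BT.dif (nat_lit 26) (nat_lit 0) (BT.frm (nat_lit 2) (nat_lit 0x5d3f414b5707) (nat_lit 0x5d3f414b5707) [nat_lit 10, nat_lit 25, nat_lit 22, nat_lit 23, nat_lit 30] (BT.pln (nat_lit 0) (nat_lit 15) (BT.and (nat_lit 2) (nat_lit 0) (BT.dif (nat_lit 31) (nat_lit 5) (BT.and (nat_lit 0) (nat_lit 20) (BT.and (nat_lit 0) (nat_lit 25) (BT.img (nat_lit 1) (nat_lit 0) (BT.and (nat_lit 4) (nat_lit 0) (BT.one (nat_lit 4) (nat_lit 0x63685d3f414b5707) (nat_lit 0x63685d3f414b5707) [nat_lit 11, nat_lit 0, nat_lit 23, nat_lit 18, nat_lit 33, nat_lit 30, nat_lit 31, nat_lit 38])))))))))))) BT.nil)))))))))))))))))))))))))))) BT.nil)))))))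 BT.nil)))

theorem yt_c22_cnt : Cnt 324 (grp 324 y_E0) [z_g432] [z_g432] 0 0 0 0 4374 :=
  BT.sound yt_c22_cnt_P Known.nil (t := yt_c22_cnt_t) (d := 0) (by decide +kernel)

theorem yt_c22_ge : 4374 ≤ Nat.card (grp 324 yt_c22_K) :=
  Ch.le_card_grp (k := 9) (L := (lab 324 9)) z_hn yt_c22_K_ok (c := (Ch.cons (nat_lit 0) [nat_lit 1] (Ch.cons (nat_lit 25) [nat_lit 3] (Ch.cons (nat_lit 32) [nat_lit 5] Ch.nil)))) (by decide +kernel)

theorem yt_c22_eq : (grp 324 y_E0) ⊓ Subgroup.centralizer {Net.toPerm 324 z_g432} = grp 324 yt_c22_K :=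
  cent_eq yt_c22_sym yt_c22_cnt yt_c22_ge

theorem yt_c22_card : Nat.card ↥((grp 324 y_E0) ⊓ Subgroup.centralizer {Net.toPerm 324 z_g432}) = 4374 :=
  card_cent yt_c22_sym yt_c22_cnt yt_c22_ge

theorem yt_c22_ord : orderOf (Net.toPerm 324 z_g432) = 3 :=
  orderOf_net z_hn z_hk z_g432_ok (by decide) (ps := [3]) (by set_option linter.unusedSimpArgs false in simp [Nat.primeFactorsList_ofNat]) (by decide +kernel)

theorem z_le451 : grp 324 yt_c23_K ≤ grp 324 y_E0 :=
  grp_le_of_memB z_hn z_hk y_E0_ok yt_c23_K_ok (ws := [nat_lit 0x3c191b1508051d, nat_lit 0x333b2f251f1a20110707022d05, nat_lit 0x333b271a2515070a, nat_lit 0x352b19221a, nat_lit 0x3c2f2b19201a]) (by decide +kernel)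

theorem yt_c23_le : grp 324 yt_c23_K ≤ (grp 324 y_E0) :=
  (z_le451.trans z_T111_s0.le)

theorem yt_c23_mem : Net.toPerm 324 z_g445 ∈ (grp 324 y_E0) :=
  yt_c23_le (mem_grp_of_memB z_hn z_hk yt_c23_K_ok z_g445_ok (w := (nat_lit 0x6010601)) (by decide +kernel))

theorem yt_c23_sym : Sym 324 (grp 324 y_E0) [z_g445] yt_c23_K 0 :=
  Sym.of_lab z_hn z_hk (okE_cons.2 ⟨z_g445_ok, okE_nil _⟩) yt_c23_K_ok yt_c23_le (kT := 0) (by decide +kernel)

theorem z_le458 : grp 324 z_V457 ≤ grp 324 z_V348 :=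
  grp_le_of_memB z_hn z_hk z_V348_ok z_V457_ok (ws := [nat_lit 0x806020206, nat_lit 0x30308010103, nat_lit 0x805030603020804, nat_lit 0x70508010105, nat_lit 0x80507030305020205, nat_lit 0x70607030307010106]) (by decide +kernel)

theorem z_T111_s66 : Stab 324 (grp 324 y_E0) [nat_lit 252, nat_lit 68, nat_lit 0] z_V457 1458 :=
  Stab.step (k := 9) (L := (lab 324 9)) z_hn z_T111_s41 z_V457_ok z_le458 (c := (Ch.cons (nat_lit 2) [nat_lit 1, nat_lit 3] (Ch.cons (nat_lit 129) [nat_lit 5, nat_lit 7] (Ch.cons (nat_lit 231) [nat_lit 9, nat_lit 11] Ch.nil)))) (by decide +kernel)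

theorem z_T111_s67 : Stab 324 (grp 324 y_E0) [nat_lit 2, nat_lit 252, nat_lit 68, nat_lit 0] z_V459 243 :=
  Stab.step (k := 9) (L := (lab 324 9)) z_hn z_T111_s66 z_V459_ok (grp_mono (List.subset_append_right [z_g452, z_g453] _)) (c := (Ch.cons (nat_lit 129) [nat_lit 1, nat_lit 3] (Ch.cons (nat_lit 231) [nat_lit 5, nat_lit 7] Ch.nil))) (by decide +kernel)

theorem z_T111_s68 : Stab 324 (grp 324 y_E0) [nat_lit 129, nat_lit 2, nat_lit 252, nat_lit 68, nat_lit 0] z_V460 9 :=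
  Stab.step (k := 9) (L := (lab 324 9)) z_hn z_T111_s67 z_V460_ok (grp_mono (List.subset_append_right [z_g454, z_g244] _)) (c := (Ch.cons (nat_lit 231) [nat_lit 1, nat_lit 3] Ch.nil)) (by decide +kernel)

theorem z_T111_s69 : Stab 324 (grp 324 y_E0) [nat_lit 231, nat_lit 129, nat_lit 2, nat_lit 252, nat_lit 68, nat_lit 0] z_V461 1 :=
  Stab.step (k := 9) (L := (lab 324 9)) z_hn z_T111_s68 z_V461_ok (grp_mono (List.subset_append_right [z_g455, z_g456] _)) (c := Ch.nil) (by decide +kernel)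

theorem z_g452_z_T111 : Net.toPerm 324 z_g452 ∈ (grp 324 y_E0) :=
  z_T111_s66.le (toPerm_mem_grp (E := z_V457) (List.Mem.head _))

theorem z_g453_z_T111 : Net.toPerm 324 z_g453 ∈ (grp 324 y_E0) :=
  z_T111_s66.le (toPerm_mem_grp (E := z_V457) (List.Mem.tail _ (List.Mem.head _)))

theorem z_g454_z_T111 : Net.toPerm 324 z_g454 ∈ (grp 324 y_E0) :=
  z_T111_s66.le (toPerm_mem_grp (E := z_V457) (List.Mem.tail _ (List.Mem.tail _ (List.Mem.head _))))

theorem z_g244_z_T111 : Net.toPerm 324 z_g244 ∈ (grp 324 y_E0) :=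
  z_T111_s66.le (toPerm_mem_grp (E := z_V457) (List.Mem.tail _ (List.Mem.tail _ (List.Mem.tail _ (List.Mem.head _)))))

theorem z_g455_z_T111 : Net.toPerm 324 z_g455 ∈ (grp 324 y_E0) :=
  z_T111_s66.le (toPerm_mem_grp (E := z_V457) (List.Mem.tail _ (List.Mem.tail _ (List.Mem.tail _ (List.Mem.tail _ (List.Mem.head _))))))

theorem z_g456_z_T111 : Net.toPerm 324 z_g456 ∈ (grp 324 y_E0) :=
  z_T111_s66.le (toPerm_mem_grp (E := z_V457) (List.Mem.tail _ (List.Mem.tail _ (List.Mem.tail _ (List.Mem.tail _ (List.Mem.tail _ (List.Mem.head _)))))))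

noncomputable def z_T111_s69_O : ℕ := (nat_lit 0xfffffffffffffffff000000000000000000000000000000000000000000000000000000000000000000000000000000000ffffffffffffffffffffffffffffffff00000000000000000000000000000000f0000000000000000ffffffffffffffff0000000000000000ffffffffffffffff00000000000000000ffffffff00000000ffffffff00000000ffffffff00000000ffffffff00000000ffffffff000000000ffff0000ffff0000ffff0000ffff0000ffff0000ffff0000ffff0000ffff0000ffff0000ffff00000ff00ff00ff00ff00ff00ff00ff00ff00ff00ff00ff00ff00ff00ff00ff00ff00ff00ff00ff00ff000f0f0f0f0f0f0f0f0f0f0f0f0f0f0f0f0f0f0f0f0f0f0f0f0f0f0f0f0f0f0f0f0f0f0f0f0f0f0f0f0cccccccccccccccccccccccccccccccccccccccccccccccccccccccccccccccccccccccccccccccccaaaaaaaaaaaaaaaaaaaaaaaaaaaaaaaaaaaaaaaaaaaaaaaaaaaaaaaaaaaaaaaaaaaaaaaaaaaaaaaaa000000000000000000000000000000000000000000000000000000000000000000000000000000001000000000000000000000000000000000000000000000000000000000000000100000000000000000000000000000000001000000000000000000000000000000000000000000000000000000000000000000000000000000000000000000000000000000000000000000000000000000000000000000000004000000000000000000000000000000000000000000000000200000000000000000000000000000000000000000000000000000008000000000000000000000000000000000000000000000000000000000)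

theorem z_T111_s69_F : Frame 324 (grp 324 y_E0) 6 15 z_T111_s69_O 1 1 :=
  IsBase.frame z_T111_s69.isBase (by decide +kernel)

noncomputable def z_T111_s68_O : ℕ := (nat_lit 0x1630440c04241102280220008140140c406886107a00000000000000000000000000000000000000016304400000000000000000000000000000000000123061104610048086843086c32080000002200000c7b29f5ebc1fdf2e7721218b4b9991260729a901ab5f9fddf3c7cb4956b0a000000000000000ab0e90cbb2ce567f732d4895cca0086677c666fa1478573a673421c3a2484a84b18f3cc1000000000ab07f8b019d1572e840a8c2e32d3e10cc6cd9805e724163c8e8956bf1b3f2ac4a141f31e667fa0000aa099f3007eb355d0a13a0186f8ffad869b3ff776e235e4c6e48d4c94fd2329a55e1cc22999858000a10852f7199c7956fa5b22e49458453a54699d854f2a95ad45e0fa448c6ccb0d1504aa6e59f0d7fe0890000000000000000000000000000000000000000000000000000000000000000000000000000000001000000000000000000000000000000000000000000000000000000000000000100000000000000000000000000000000001000000000000000000000000000000000000000000000000000000000000000000000000000000000000000000000000000000000000000000000000000000000000000000000004000000000000000000000000000000000000000000000000200000000000000000000000000000000)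

theorem z_T111_s68_F : Frame 324 (grp 324 y_E0) 5 12 z_T111_s68_O 0 1 :=
  Stab.frame z_hn z_T111_s68 (by decide +kernel)

noncomputable def z_T111_s67_O : ℕ := (nat_lit 0x220000000000000000000000000000000000000000000000000000000000000000000000000000000000000040000c4068800000000000000000000820430000000800000022000004fb39348982e5c84744101004a89cd406889290088590a51924782c19630a002000000000000ab0f6b0442cb62711a33a880ce08bc5762c40000690ff330695ae65a84d0c68ca086df60000000000aa0efe08e0e95e3d0345ca5926a3f4840b93fe7715773c9b4f1c4fcb6352b303914b9983801800000a10e98438a1fb4bcea9529a1def0ad76326805800ce8450a1ee8a0cf8275c02c9f091cdd7fe7f0020890000000000000000000000000000000000000000000000000000000000000000000000000000000001000000000000000000000000000000000000000000000000000000000000000100000000000000000000000000000000001000000000000000000000000000000000000000000000000000000000000000000000000000000000000000000000000000000000000000000000000000000000000000000000004)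

theorem z_T111_s67_F : Frame 324 (grp 324 y_E0) 4 10 z_T111_s67_O 0 1 :=
  Stab.frame z_hn z_T111_s67 (by decide +kernel)

noncomputable def z_T111_s66_O : ℕ := (nat_lit 0x200000000000000000000000000000000000000000000000000000000000000000000000000000000000000000000000000000000200000000000000000000000000000000000000000000000000000000000000000000000000000000004000000000000000000000000000000000000000000000000000000000000000000000000000000000100000000000000000000000000000000000000000000000000000000000000000000000000000000000000000000000020000000000000000000000000000000000000000000000000000000000000000000000000000000002000000000000000000000220000040000000080000000000000000000008000200000000000000000000000000000000000000000000000000c40408000000000000000000000000000000008000000000000000000000000000000000000000000000000000000000000000000000000000000000000000208b4000000000000000000018200340000103f8770000000000000000010220000040000200180000000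000000000000000000000000400100002801000000000000000000000100000400001c7fe7f000000000000040000000000000001040200000000000000004000000000000000104020000000000ffdd54a004b83120090205484644000000888c10000092100885800519207808194300002000000000000000000000000000000000000000000000000000000000000000000000000000000000000000000000001000000000000000000000000000000000000000000000000000000000000000100000000000000000000000000000000001000000000000000000000000000000000000000000000000000000000000000)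

theorem z_T111_s66_F : Frame 324 (grp 324 y_E0) 3 16 z_T111_s66_O 0 1 :=
  Stab.frame z_hn z_T111_s66 (by decide +kernel)

noncomputable def yt_c23_cnt_L : List ℕ := [1, 4, z_T111_s1_O, 0, 0, 2, 9, z_T111_s41_O, 0, 0, 3, 16, z_T111_s66_O, 0, 0, 4, 10, z_T111_s67_O, 0, 0, 5, 12, z_T111_s68_O, 0, 0, 6, 15, z_T111_s69_O, 1, 0]

theorem yt_c23_cnt_P : Prob 324 9 (grp 324 y_E0) yt_c23_cnt_EG [z_g445] [z_g445] yt_c23_K yt_c23_cnt_L 0 0 :=
  Sym.prob z_hn z_hk yt_c23_sym yt_c23_cnt_EG_ok (grp_cons_le z_g39_z_T111 (grp_cons_le zg1_z_T111 (grp_cons_le zg3_z_T111 (grp_cons_le z_g43_z_T111 (grp_cons_le z_g42_z_T111 (grp_cons_le zg2_z_T111 (grp_cons_le z_g44_z_T111 (grp_cons_le z_g54_z_T111 (grp_cons_le z_g55_z_T111 (grp_cons_le z_g49_z_T111 (grp_cons_le z_g50_z_T111 (grp_cons_le z_g51_z_T111 (grp_cons_le z_g62_z_T111 (grp_cons_le z_g58_z_T111 (grp_cons_le z_g59_z_T111 (grp_cons_le z_g65_z_T111 (grp_cons_le z_g66_z_T111 (grp_cons_le z_g67_z_T111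 (grp_cons_le z_g77_z_T111 (grp_cons_le z_g78_z_T111 (grp_cons_le z_g72_z_T111 (grp_cons_le z_g73_z_T111 (grp_cons_le z_g74_z_T111 (grp_cons_le z_g81_z_T111 (grp_cons_le z_g82_z_T111 (grp_cons_le z_g87_z_T111 (grp_cons_le zg0_z_T111 (grp_cons_le z_g91_z_T111 (grp_cons_le z_g28_z_T111 (grp_cons_le z_g88_z_T111 (grp_cons_le z_g344_z_T111 (grp_cons_le z_g345_z_T111 (grp_cons_le z_g346_z_T111 (grp_cons_le z_g347_z_T111 (grp_cons_le z_g452_z_T111 (grp_cons_le z_g453_z_T111 (grp_cons_le z_g454_z_T111 (grp_cons_le z_g244_z_T111 (grp_cons_le z_g455_z_T111 (grp_cons_le z_g456_z_T111 (grp_nil_le _))))))))))))))))))))))))))))))))))))))))) (Frames.cons z_T111_s1_F (Frames.cons z_T111_s41_F (Frames.cons z_T111_s66_F (Frames.cons z_T111_s67_F (Frames.cons z_T111_s68_F (Frames.cons z_T111_s69_F Frames.nil)))))) (okE_cons.2 ⟨z_g445_ok, okE_nil _⟩) _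

noncomputable def yt_c23_cnt_t : BT := (BT.br (nat_lit 2) (nat_lit 0) [nat_lit 1, nat_lit 3, nat_lit 5] (BT.dead (nat_lit 58) (BT.img (nat_lit 1) (nat_lit 0) (BT.frm (nat_lit 1) (nat_lit 13) (nat_lit 0x92901031b) [nat_lit 0, nat_lit 1] (BT.pln (nat_lit 0) (nat_lit 3) (BT.img (nat_lit 1) (nat_lit 2) (BT.and (nat_lit 1) (nat_lit 0) (BT.cnt (nat_lit 0))))))) (BT.dead (nat_lit 121) (BT.img (nat_lit 1) (nat_lit 0) (BT.frm (nat_lit 1) (nat_lit 13) (nat_lit 0xb2e013c) [nat_lit 0, nat_lit 1] (BT.pln (nat_lit 0) (nat_lit 7) (BT.img (nat_lit 1) (nat_lit 2) (BT.and (nat_lit 1) (nat_lit 0) (BT.cnt (nat_lit 0))))))) (BT.dead (nat_lit 94) (BT.img (nat_lit 1) (nat_lit 0) (BT.frm (nat_lit 1) (nat_lit 13) (nat_lit 0x7010920) [nat_lit 0, nat_lit 1] (BT.pln (nat_lit 0) (nat_lit 7) (BT.img (nat_lit 1) (nat_lit 2) (BT.and (nat_lit 1) (nat_lit 0) (BT.cnt (nat_lit 0))))))) (BT.dead (nat_lit 54) (BT.img (nat_lit 1) (nat_lit 0) (BT.frm (nat_lit 1) (nat_lit 13)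 (nat_lit 0x9250115) [nat_lit 0, nat_lit 1] (BT.pln (nat_lit 0) (nat_lit 7) (BT.img (nat_lit 1) (nat_lit 2) (BT.and (nat_lit 1) (nat_lit 0) (BT.cnt (nat_lit 0))))))) (BT.dead (nat_lit 1) (BT.img (nat_lit 1) (nat_lit 0) (BT.frm (nat_lit 1) (nat_lit 13) (nat_lit 0x81b0309) [nat_lit 0, nat_lit 1] (BT.pln (nat_lit 0) (nat_lit 7) (BT.img (nat_lit 1) (nat_lit 2) (BT.and (nat_lit 1) (nat_lit 0) (BT.cnt (nat_lit 0))))))) (BT.kid (nat_lit 0) (nat_lit 27) (BT.frm (nat_lit 0) (nat_lit 0) (nat_lit 0) [nat_lit 0] (BT.pln (nat_lit 0) (nat_lit 3) (BT.img (nat_lit 1) (nat_lit 2) (BT.img (nat_lit 1) (nat_lit 0) (BT.frm (nat_lit 2) (nat_lit 13) (nat_lit 13) [nat_lit 0, nat_lit 1, nat_lit 4] (BT.pln (nat_lit 0) (nat_lit 7) (BT.and (nat_lit 4) (nat_lit 0) (BT.br (nat_lit 0) (nat_lit 13) [nat_lit 5] (BT.dead (nat_lit 4) (BT.frm (nat_lit 3) (nat_lit 17677) (nat_lit 18189) [nat_lit 0, nat_lit 4, nat_lit 5, nat_lit 8] (BT.pln (nat_lit 0) (nat_lit 4) (BT.img (nat_lit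 1) (nat_lit 2) (BT.and (nat_lit 1) (nat_lit 0) (BT.cnt (nat_lit 0)))))) (BT.kid (nat_lit 13) (nat_lit 9) (BT.frm (nat_lit 3) (nat_lit 17677) (nat_lit 17677) [nat_lit 0, nat_lit 4, nat_lit 5, nat_lit 8] (BT.pln (nat_lit 0) (nat_lit 6) (BT.pln (nat_lit 1) (nat_lit 4) (BT.dif (nat_lit 1) (nat_lit 0) (BT.pln (nat_lit 3) (nat_lit 5) (BT.dif (nat_lit 1) (nat_lit 0) (BT.pln (nat_lit 5) (nat_lit 7) (BT.dif (nat_lit 1) (nat_lit 0) (BT.pln (nat_lit 7) (nat_lit 8) (BT.dif (nat_lit 1) (nat_lit 0) (BT.br (nat_lit 0) (nat_lit 72) [nat_lit 7, nat_lit 9] (BT.dead (nat_lit 86) (BT.img (nat_lit 1) (nat_lit 0) (BT.frm (nat_lit 5) (nat_lit 0x4e5049450d) (nat_lit 0x4d4a4c49450d) [nat_lit 0, nat_lit 1, nat_lit 12, nat_lit 16, nat_lit 17, nat_lit 20] (BT.pln (nat_lit 0) (nat_lit 6) (BT.pln (nat_lit 21) (nat_lit 1) (BT.dif (nat_lit 26) (nat_lit 0) (BT.pln (nat_lit 23) (nat_lit 2) (BT.dif (nat_lit 1) (nat_lit 0) (BT.frm (nat_lit 4) (nat_lit 0x49450d) (nat_lit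 0x4a4c49450d) [nat_lit 7, nat_lit 18, nat_lit 22, nat_lit 23, nat_lit 26] (BT.pln (nat_lit 0) (nat_lit 10) (BT.pln (nat_lit 1) (nat_lit 9) (BT.and (nat_lit 1) (nat_lit 0) (BT.pln (nat_lit 3) (nat_lit 5) (BT.dif (nat_lit 1) (nat_lit 0) (BT.pln (nat_lit 5) (nat_lit 6) (BT.dif (nat_lit 1) (nat_lit 0) (BT.pln (nat_lit 7) (nat_lit 7) (BT.and (nat_lit 1) (nat_lit 0) (BT.pln (nat_lit 9) (nat_lit 8) (BT.dif (nat_lit 1) (nat_lit 0) (BT.img (nat_lit 1) (nat_lit 0) (BT.and (nat_lit 13) (nat_lit 0) (BT.img (nat_lit 1) (nat_lit 0) (BT.and (nat_lit 19) (nat_lit 0) (BT.cnt (nat_lit 0))))))))))))))))))))))))) (BT.dead (nat_lit 106) (BT.img (nat_lit 1) (nat_lit 0) (BT.frm (nat_lit 5) (nat_lit 0x4e5049450d) (nat_lit 0x4d4c4a450d) [nat_lit 0, nat_lit 1, nat_lit 12, nat_lit 16, nat_lit 17, nat_lit 20] (BT.pln (nat_lit 0) (nat_lit 6) (BT.img (nat_lit 1) (nat_lit 2) (BT.and (nat_lit 1) (nat_lit 0) (BT.cnt (nat_lit 0))))))) (BT.kid (nat_lit 72) (nat_lit 1) (BT.img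 (nat_lit 1) (nat_lit 0) (BT.one (nat_lit 5) (nat_lit 0x4e5049450d) (nat_lit 0x4e5049450d) [nat_lit 0, nat_lit 1, nat_lit 12, nat_lit 16, nat_lit 17, nat_lit 20])) BT.nil)))))))))))))) BT.nil)))))))))) BT.nil)))))))

theorem yt_c23_cnt : Cnt 324 (grp 324 y_E0) [z_g445] [z_g445] 0 0 0 0 4374 :=
  BT.sound yt_c23_cnt_P Known.nil (t := yt_c23_cnt_t) (d := 0) (by decide +kernel)

theorem yt_c23_ge : 4374 ≤ Nat.card (grp 324 yt_c23_K) :=
  Ch.le_card_grp (k := 9) (L := (lab 324 9)) z_hn yt_c23_K_ok (c := (Ch.cons (nat_lit 0) [nat_lit 1, nat_lit 3] (Ch.cons (nat_lit 13) [nat_lit 5] (Ch.cons (nat_lit 72) [nat_lit 7, nat_lit 9] Ch.nil)))) (by decide +kernel)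

theorem yt_c23_eq : (grp 324 y_E0) ⊓ Subgroup.centralizer {Net.toPerm 324 z_g445} = grp 324 yt_c23_K :=
  cent_eq yt_c23_sym yt_c23_cnt yt_c23_ge

theorem yt_c23_card : Nat.card ↥((grp 324 y_E0) ⊓ Subgroup.centralizer {Net.toPerm 324 z_g445}) = 4374 :=
  card_cent yt_c23_sym yt_c23_cnt yt_c23_ge

theorem yt_c23_ord : orderOf (Net.toPerm 324 z_g445) = 3 :=
  orderOf_net z_hn z_hk z_g445_ok (by decide) (ps := [3]) (by set_option linter.unusedSimpArgs false in simp [Nat.primeFactorsList_ofNat]) (by decide +kernel)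

theorem z_le466 : grp 324 yt_c24_K ≤ grp 324 y_E0 :=
  grp_le_of_memB z_hn z_hk y_E0_ok yt_c24_K_ok (ws := [nat_lit 0x342719201c08011d01, nat_lit 0x351f1b0707, nat_lit 0x33353c2f2919201a11, nat_lit 0x35382628, nat_lit 0x333527]) (by decide +kernel)

theorem yt_c24_le : grp 324 yt_c24_K ≤ (grp 324 y_E0) :=
  (z_le466.trans z_T111_s0.le)

theorem yt_c24_mem : Net.toPerm 324 z_g462 ∈ (grp 324 y_E0) :=
  yt_c24_le (mem_grp_of_memB z_hn z_hk yt_c24_K_ok z_g462_ok (w := (nat_lit 0x80a050301030501)) (by decide +kernel))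

theorem yt_c24_sym : Sym 324 (grp 324 y_E0) [z_g462] yt_c24_K 0 :=
  Sym.of_lab z_hn z_hk (okE_cons.2 ⟨z_g462_ok, okE_nil _⟩) yt_c24_K_ok yt_c24_le (kT := 0) (by decide +kernel)

theorem z_le472 : grp 324 z_V471 ≤ grp 324 z_V439 :=
  grp_le_of_memB z_hn z_hk z_V439_ok z_V471_ok (ws := [nat_lit 592645, nat_lit 0xa0c050302, nat_lit 7, nat_lit 2571, nat_lit 2315]) (by decide +kernel)

theorem z_T111_s70 : Stab 324 (grp 324 y_E0) [nat_lit 5, nat_lit 20, nat_lit 26, nat_lit 298, nat_lit 0] z_V471 108 :=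
  Stab.step (k := 9) (L := (lab 324 9)) z_hn z_T111_s61 z_V471_ok z_le472 (c := (Ch.cons (nat_lit 69) [nat_lit 1] (Ch.cons (nat_lit 24) [nat_lit 3] (Ch.cons (nat_lit 313) [nat_lit 5, nat_lit 7, nat_lit 9] Ch.nil)))) (by decide +kernel)

theorem z_T111_s71 : Stab 324 (grp 324 y_E0) [nat_lit 69, nat_lit 5, nat_lit 20, nat_lit 26, nat_lit 298, nat_lit 0] z_V473 54 :=
  Stab.step (k := 9) (L := (lab 324 9)) z_hn z_T111_s70 z_V473_ok (grp_mono (List.subset_append_right [z_g467] _)) (c := (Ch.cons (nat_lit 24) [nat_lit 1] (Ch.cons (nat_lit 313) [nat_lit 3, nat_lit 5, nat_lit 7] Ch.nil))) (by decide +kernel)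

theorem z_T111_s72 : Stab 324 (grp 324 y_E0) [nat_lit 24, nat_lit 69, nat_lit 5, nat_lit 20, nat_lit 26, nat_lit 298, nat_lit 0] z_V474 18 :=
  Stab.step (k := 9) (L := (lab 324 9)) z_hn z_T111_s71 z_V474_ok (grp_mono (List.subset_append_right [z_g468] _)) (c := (Ch.cons (nat_lit 313) [nat_lit 1, nat_lit 3, nat_lit 5] Ch.nil)) (by decide +kernel)

theorem z_T111_s73 : Stab 324 (grp 324 y_E0) [nat_lit 313, nat_lit 24, nat_lit 69, nat_lit 5, nat_lit 20, nat_lit 26, nat_lit 298, nat_lit 0] z_V475 1 :=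
  Stab.step (k := 9) (L := (lab 324 9)) z_hn z_T111_s72 z_V475_ok (grp_mono (List.subset_append_right [z_g297, z_g469, z_g470] _)) (c := Ch.nil) (by decide +kernel)

theorem z_g467_z_T111 : Net.toPerm 324 z_g467 ∈ (grp 324 y_E0) :=
  z_T111_s70.le (toPerm_mem_grp (E := z_V471) (List.Mem.head _))

theorem z_g468_z_T111 : Net.toPerm 324 z_g468 ∈ (grp 324 y_E0) :=
  z_T111_s70.le (toPerm_mem_grp (E := z_V471) (List.Mem.tail _ (List.Mem.head _)))

theorem z_g469_z_T111 : Net.toPerm 324 z_g469 ∈ (grp 324 y_E0) :=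
  z_T111_s70.le (toPerm_mem_grp (E := z_V471) (List.Mem.tail _ (List.Mem.tail _ (List.Mem.tail _ (List.Mem.head _)))))

theorem z_g470_z_T111 : Net.toPerm 324 z_g470 ∈ (grp 324 y_E0) :=
  z_T111_s70.le (toPerm_mem_grp (E := z_V471) (List.Mem.tail _ (List.Mem.tail _ (List.Mem.tail _ (List.Mem.tail _ (List.Mem.head _))))))

noncomputable def z_T111_s73_O : ℕ := (nat_lit 0xfffffffffffffffff000000000000000000000000000000000000000000000000000000000000000000000000000000000ffffffffffffffffffffffffffffffff00000000000000000000000000000000f0000000000000000ffffffffffffffff0000000000000000ffffffffffffffff00000000000000000ffffffff00000000ffffffff00000000ffffffff00000000ffffffff00000000ffffffff000000000ffff0000ffff0000ffff0000ffff0000ffff0000ffff0000ffff0000ffff0000ffff0000ffff00000ff00ff00ff00ff00ff00ff00ff00ff00ff00ff00ff00ff00ff00ff00ff00ff00ff00ff00ff00ff000f0f0f0f0f0f0f0f0f0f0f0f0f0f0f0f0f0f0f0f0f0f0f0f0f0f0f0f0f0f0f0f0f0f0f0f0f0f0f0f0cccccccc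cccccccccccccccccccccccccccccccccccccccccccccccccccccccccccccccccccccccccaaaaaaaaaaaaaaaaaaaaaaaaaaaaaaaaaaaaaaaaaaaaaaaaaaaaaaaaaaaaaaaaaaaaaaaaaaaaaaaaa000000000000000000000000000000000000000000000000000000000000000000000000000000001000000400000000000000000000000000000000000000000000000000000000000000000000000000000000000000000000000000000000000000000000000000000000000000000000000000004000000000000000000000000000000000000000000000000000000000000000000000000000000000100000000000000000000000000000000000000000000000000000000000000000000000000000000000020000000000000000000000000000000000000000000000000000000000000000200000000000000000000000000000000000000000000000000000000000000000000000000000000000000000001000000002000000000000000000000000000000000000000000000000000000000000000000000000000000)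

theorem z_T111_s73_F : Frame 324 (grp 324 y_E0) 8 17 z_T111_s73_O 1 1 :=
  IsBase.frame z_T111_s73.isBase (by decide +kernel)

noncomputable def z_T111_s72_O : ℕ := (nat_lit 0x1040200000000000000004000000000000000100000000000000000000000000000000000000000000000000000000000000000000000000000000004000000000000aefffde7effb7bf7e5ebfd9aed045a90b8fcbe1000009b93ca149bfdd1bf7e3c186aca01b40000000aec000099d7fa12d3f5c7b7762c187a8a0bb581000007e7cbfaf6e6ebfd9eed0558b418f4be100000a822a0097bb451c9f1d71a9bb1b68644f71a450bf8f70fab873c3d58f0588c58cea87b84aa4e407088622090e2c77097d89b1e2e19b62161ce4ad5ad59e8d628308f538ba184e48f597a7fa94da32a617224a0884000000000000000000000000000000000000000000000000000000000000000000000000000000001000000400000000000000000000000000000000000000000000000000000000000000000000000000000000000000000000000000000000000000000000000000000000000000000000000000004000000000000000000000000000000000000000000000000000000000000000000000000000000000100000000000000000000000000000000000000000000000000000000000000000000000000000000000020000000000000000000000000000000000000000000000000000000000000000200000000000000000000000000000000000000000000000000000000000000000000000000000000000000000001000000)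

theorem z_T111_s72_F : Frame 324 (grp 324 y_E0) 7 13 z_T111_s72_O 0 1 :=
  Stab.frame z_hn z_T111_s72 (by decide +kernel)

noncomputable def z_T111_s71_O : ℕ := (nat_lit 0x4000000000000000000000000000000000000000000000000000000000000000000000000000000000000000000000000000000000000000000000000000000000002000000000000000000000000000000000000000000000000000000000000000000000000000000000000800000000000000000000000000020000000000000000400000000000000000400000000000000000000000000000000000000000100000000000000000000000000000000000010000000000000080000000000000000000000000000000000000000000000000000000000000000000000000000000034000000000000000000000000000000000000000000000000000000000000000000000000000000008c0000000000000000000000000000000000000000000000000000000000000000000000000000000000a100000000000000000000000000000000000000000000000000000000000000000000000000000220040000000000000000000000000000000000000000000000000000000000000000000000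0000001d54a00000000000000000102200004400000198850000000000000000000082003000000200100000000000000000000000000001000400100010a60720000000000000000000000000000000c4060800000000000000000000000000000000000000c4060800000000000000000001000400100010a60720000000000000000000000000008200300000020010000000000000000000102200004400000198850000000147c350a46042781a2004000010b01c10000009008a000160c0104408180a00002000000000000000e083409190130820108001610a00c42000000020000242888104e0874048080841a00000000000000020000242888104e0874048080841a0000000e083409190130820108001610a00c420000000000000000000000000000000000000000000000000000000000000000000000000000000000000000000001000000400000000000000000000000000000000000000000000000000000000000000000000000000000000000000000000000000000000000000000000000000000000000000000000000000004000000000000000000000000000000000000000000000000000000000000000000000000000000000100000000000000000000000000000000000000000000000000000000000000000000000000000000000020000000000000000000000000000000000000000000000000000000000000000200000000000000000)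

theorem z_T111_s71_F : Frame 324 (grp 324 y_E0) 6 23 z_T111_s71_O 0 1 :=
  Stab.frame z_hn z_T111_s71 (by decide +kernel)

noncomputable def yt_c24_cnt_L : List ℕ := [1, 4, z_T111_s1_O, 0, 0, 4, 13, z_T111_s61_O, 0, 0, 6, 23, z_T111_s71_O, 0, 0, 7, 13, z_T111_s72_O, 0, 0, 8, 17, z_T111_s73_O, 1, 0]

theorem yt_c24_cnt_P : Prob 324 9 (grp 324 y_E0) yt_c24_cnt_EG [z_g462] [z_g462] yt_c24_K yt_c24_cnt_L 0 0 :=
  Sym.prob z_hn z_hk yt_c24_sym yt_c24_cnt_EG_ok (grp_cons_le z_g39_z_T111 (grp_cons_le zg1_z_T111 (grp_cons_le zg3_z_T111 (grp_cons_le z_g43_z_T111 (grp_cons_le z_g42_z_T111 (grp_cons_le zg2_z_T111 (grp_cons_le z_g44_z_T111 (grp_cons_le z_g54_z_T111 (grp_cons_le z_g55_z_T111 (grp_cons_le z_g49_z_T111 (grp_cons_le z_g50_z_T111 (grp_cons_le z_g51_z_T111 (grp_cons_le z_g62_z_T111 (grp_cons_le z_g58_z_T111 (grp_cons_le z_g59_z_T111 (grp_cons_le z_g65_z_T111 (grp_cons_le z_g66_z_T111 (grp_cons_le z_g67_z_T111 (grp_cons_le z_g77_z_T111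 (grp_cons_le z_g78_z_T111 (grp_cons_le z_g72_z_T111 (grp_cons_le z_g73_z_T111 (grp_cons_le z_g74_z_T111 (grp_cons_le z_g81_z_T111 (grp_cons_le z_g82_z_T111 (grp_cons_le z_g87_z_T111 (grp_cons_le zg0_z_T111 (grp_cons_le z_g91_z_T111 (grp_cons_le z_g28_z_T111 (grp_cons_le z_g88_z_T111 (grp_cons_le z_g174_z_T111 (grp_cons_le z_g175_z_T111 (grp_cons_le z_g176_z_T111 (grp_cons_le z_g177_z_T111 (grp_cons_le z_g30_z_T111 (grp_cons_le z_g178_z_T111 (grp_cons_le z_g126_z_T111 (grp_cons_le z_g127_z_T111 (grp_cons_le z_g128_z_T111 (grp_cons_le z_g129_z_T111 (grp_cons_le z_g130_z_T111 (grp_cons_le z_g131_z_T111 (grp_cons_le z_g132_z_T111 (grp_cons_le z_g133_z_T111 (grp_cons_le z_g134_z_T111 (grp_cons_le z_g135_z_T111 (grp_cons_le z_g467_z_T111 (grp_cons_le z_g468_z_T111 (grp_cons_le z_g297_z_T111 (grp_cons_le z_g469_z_T111 (grp_cons_le z_g470_z_T111 (grp_cons_le z_g436_z_T111 (grp_cons_le z_g437_z_T111 (grp_cons_le z_g438_z_T111 (grp_cons_le z_g248_z_T111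 (grp_cons_le z_g247_z_T111 (grp_nil_le _))))))))))))))))))))))))))))))))))))))))))))))))))))))))) (Frames.cons z_T111_s1_F (Frames.cons z_T111_s61_F (Frames.cons z_T111_s71_F (Frames.cons z_T111_s72_F (Frames.cons z_T111_s73_F Frames.nil))))) (okE_cons.2 ⟨z_g462_ok, okE_nil _⟩) _

noncomputable def yt_c24_cnt_t : BT := (BT.br (nat_lit 2) (nat_lit 0) [nat_lit 1, nat_lit 3] (BT.dead (nat_lit 59) (BT.frm (nat_lit 0) (nat_lit 0) (nat_lit 68919) [nat_lit 0] (BT.pln (nat_lit 0) (nat_lit 1) (BT.img (nat_lit 1) (nat_lit 2) (BT.and (nat_lit 1) (nat_lit 0) (BT.cnt (nat_lit 0)))))) (BT.dead (nat_lit 48) (BT.frm (nat_lit 0) (nat_lit 0) (nat_lit 67611) [nat_lit 0] (BT.pln (nat_lit 0) (nat_lit 1) (BT.img (nat_lit 1) (nat_lit 2) (BT.and (nat_lit 1) (nat_lit 0) (BT.cnt (nat_lit 0)))))) (BT.dead (nat_lit 18) (BT.frm (nat_lit 0) (nat_lit 0) (nat_lit 783) [nat_lit 0] (BT.pln (nat_lit 0) (nat_lit 2) (BT.img (nat_lit 1) (nat_lit 2) (BT.and (nat_lit 1) (nat_lit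 0) (BT.cnt (nat_lit 0)))))) (BT.kid (nat_lit 0) (nat_lit 54) (BT.frm (nat_lit 0) (nat_lit 0) (nat_lit 0) [nat_lit 0] (BT.pln (nat_lit 0) (nat_lit 3) (BT.img (nat_lit 1) (nat_lit 0) (BT.img (nat_lit 1) (nat_lit 0) (BT.br (nat_lit 0) (nat_lit 14) [nat_lit 3, nat_lit 5] (BT.dead (nat_lit 6) (BT.img (nat_lit 1) (nat_lit 5) (BT.img (nat_lit 1) (nat_lit 0) (BT.frm (nat_lit 1) (nat_lit 0x3f424b511d) (nat_lit 0x4b511d) [nat_lit 2, nat_lit 0, nat_lit 1, nat_lit 7] (BT.pln (nat_lit 0) (nat_lit 9) (BT.and (nat_lit 5) (nat_lit 0) (BT.br (nat_lit 0) (nat_lit 6) [] (BT.dead (nat_lit 16) (BT.img (nat_lit 1) (nat_lit 6) (BT.img (nat_lit 1) (nat_lit 0) (BT.frm (nat_lit 2) (nat_lit 0x3f424b511d) (nat_lit 0x674b511d) [nat_lit 0, nat_lit 1, nat_lit 8, nat_lit 6, nat_lit 7, nat_lit 13] (BT.pln (nat_lit 0) (nat_lit 8) (BT.frm (nat_lit 3) (nat_lit 0x3f424b511d) (nat_lit 0x60674b511d) [nat_lit 4, nat_lit 2, nat_lit 3, nat_lit 10, nat_lit 8, nat_lit 9, nat_lit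 15] (BT.pln (nat_lit 0) (nat_lit 9) (BT.dif (nat_lit 2) (nat_lit 0) (BT.br (nat_lit 0) (nat_lit 83) [nat_lit 1802, nat_lit 10] (BT.dead (nat_lit 86) (BT.frm (nat_lit 4) (nat_lit 0x63663f424b511d) (nat_lit 0x636560674b511d) [nat_lit 0, nat_lit 8, nat_lit 6, nat_lit 7, nat_lit 14, nat_lit 12, nat_lit 13, nat_lit 19] (BT.pln (nat_lit 0) (nat_lit 9) (BT.img (nat_lit 1) (nat_lit 2) (BT.img (nat_lit 1) (nat_lit 0) (BT.and (nat_lit 2) (nat_lit 0) (BT.cnt (nat_lit 0))))))) (BT.dead (nat_lit 56) (BT.frm (nat_lit 4) (nat_lit 0x63663f424b511d) (nat_lit 0x616360674b511d) [nat_lit 0, nat_lit 8, nat_lit 6, nat_lit 7, nat_lit 14, nat_lit 12, nat_lit 13, nat_lit 19] (BT.pln (nat_lit 0) (nat_lit 9) (BT.img (nat_lit 1) (nat_lit 2) (BT.and (nat_lit 1) (nat_lit 0) (BT.cnt (nat_lit 0)))))) BT.nil)))))))))) (BT.dead (nat_lit 3) (BT.img (nat_lit 1) (nat_lit 6) (BT.img (nat_lit 1) (nat_lit 0) (BT.frm (nat_lit 2) (nat_lit 0x3f424b511d) (nat_lit 0x674b511d) [nat_lit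 0, nat_lit 1, nat_lit 8, nat_lit 6, nat_lit 7, nat_lit 13] (BT.pln (nat_lit 0) (nat_lit 8) (BT.frm (nat_lit 3) (nat_lit 0x3f424b511d) (nat_lit 0x5f674b511d) [nat_lit 4, nat_lit 2, nat_lit 3, nat_lit 10, nat_lit 8, nat_lit 9, nat_lit 15] (BT.pln (nat_lit 0) (nat_lit 9) (BT.dif (nat_lit 2) (nat_lit 0) (BT.br (nat_lit 0) (nat_lit 83) [nat_lit 10, nat_lit 8] (BT.dead (nat_lit 126) (BT.frm (nat_lit 4) (nat_lit 0x63663f424b511d) (nat_lit 0x61635f674b511d) [nat_lit 0, nat_lit 8, nat_lit 6, nat_lit 7, nat_lit 14, nat_lit 12, nat_lit 13, nat_lit 19] (BT.pln (nat_lit 0) (nat_lit 10) (BT.img (nat_lit 1) (nat_lit 2) (BT.and (nat_lit 1) (nat_lit 0) (BT.cnt (nat_lit 0)))))) (BT.dead (nat_lit 98) (BT.frm (nat_lit 4) (nat_lit 0x63663f424b511d) (nat_lit 0x655f674b511d) [nat_lit 0, nat_lit 8, nat_lit 6, nat_lit 7, nat_lit 14, nat_lit 12, nat_lit 13, nat_lit 19] (BT.pln (nat_lit 0) (nat_lit 8) (BT.img (nat_lit 1) (nat_lit 2) (BT.img (nat_lit 1) (nat_lit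 0) (BT.and (nat_lit 2) (nat_lit 0) (BT.cnt (nat_lit 0))))))) BT.nil)))))))))) (BT.dead (nat_lit 12) (BT.img (nat_lit 1) (nat_lit 6) (BT.img (nat_lit 1) (nat_lit 0) (BT.frm (nat_lit 2) (nat_lit 0x3f424b511d) (nat_lit 0x674b511d) [nat_lit 0, nat_lit 1, nat_lit 8, nat_lit 6, nat_lit 7, nat_lit 13] (BT.pln (nat_lit 0) (nat_lit 8) (BT.frm (nat_lit 3) (nat_lit 0x3f424b511d) (nat_lit 0x674b511d) [nat_lit 4, nat_lit 2, nat_lit 3, nat_lit 10, nat_lit 8, nat_lit 9, nat_lit 15] (BT.pln (nat_lit 0) (nat_lit 9) (BT.dif (nat_lit 2) (nat_lit 0) (BT.br (nat_lit 0) (nat_lit 83) [nat_lit 8, nat_lit 9] (BT.dead (nat_lit 63) (BT.frm (nat_lit 4) (nat_lit 0x63663f424b511d) (nat_lit 0x616366674b511d) [nat_lit 0, nat_lit 8, nat_lit 6, nat_lit 7, nat_lit 14, nat_lit 12, nat_lit 13, nat_lit 19] (BT.pln (nat_lit 0) (nat_lit 8) (BT.img (nat_lit 1) (nat_lit 2) (BT.and (nat_lit 1) (nat_lit 0) (BT.cnt (nat_lit 0)))))) (BT.dead (nat_lit 64) (BT.frm (nat_lit 4) (nat_lit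 0x63663f424b511d) (nat_lit 0x66674b511d) [nat_lit 0, nat_lit 8, nat_lit 6, nat_lit 7, nat_lit 14, nat_lit 12, nat_lit 13, nat_lit 19] (BT.pln (nat_lit 0) (nat_lit 8) (BT.img (nat_lit 1) (nat_lit 2) (BT.and (nat_lit 1) (nat_lit 0) (BT.cnt (nat_lit 0)))))) BT.nil)))))))))) BT.nil))))))))) (BT.kid (nat_lit 14) (nat_lit 27) (BT.img (nat_lit 1) (nat_lit 5) (BT.img (nat_lit 1) (nat_lit 0) (BT.frm (nat_lit 1) (nat_lit 0x3f424b511d) (nat_lit 0x3f424b511d) [nat_lit 2, nat_lit 0, nat_lit 1, nat_lit 7] (BT.pln (nat_lit 0) (nat_lit 9) (BT.and (nat_lit 5) (nat_lit 0) (BT.br (nat_lit 0) (nat_lit 6) [nat_lit 5] (BT.kid (nat_lit 6) (nat_lit 9) (BT.img (nat_lit 1) (nat_lit 6) (BT.img (nat_lit 1) (nat_lit 0) (BT.frm (nat_lit 2) (nat_lit 0x3f424b511d) (nat_lit 0x3f424b511d) [nat_lit 0, nat_lit 1, nat_lit 8, nat_lit 6, nat_lit 7, nat_lit 13] (BT.pln (nat_lit 0) (nat_lit 8) (BT.frm (nat_lit 3) (nat_lit 0x3f424b511d) (nat_lit 0x3f424b511d) [nat_lit 4, nat_lit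 2, nat_lit 3, nat_lit 10, nat_lit 8, nat_lit 9, nat_lit 15] (BT.pln (nat_lit 0) (nat_lit 9) (BT.dif (nat_lit 2) (nat_lit 0) (BT.br (nat_lit 0) (nat_lit 83) [nat_lit 7, nat_lit 9] (BT.dead (nat_lit 107) (BT.frm (nat_lit 4) (nat_lit 0x63663f424b511d) (nat_lit 0x6163653f424b511d) [nat_lit 0, nat_lit 8, nat_lit 6, nat_lit 7, nat_lit 14, nat_lit 12, nat_lit 13, nat_lit 19] (BT.pln (nat_lit 0) (nat_lit 8) (BT.img (nat_lit 1) (nat_lit 2) (BT.and (nat_lit 1) (nat_lit 0) (BT.cnt (nat_lit 0)))))) (BT.kid (nat_lit 83) (nat_lit 1) (BT.one (nat_lit 4) (nat_lit 0x63663f424b511d) (nat_lit 0x63663f424b511d) [nat_lit 0, nat_lit 8, nat_lit 6, nat_lit 7, nat_lit 14, nat_lit 12, nat_lit 13, nat_lit 19]) BT.nil)))))))))) BT.nil))))))) BT.nil))))))) BT.nil)))))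

theorem yt_c24_cnt : Cnt 324 (grp 324 y_E0) [z_g462] [z_g462] 0 0 0 0 4374 :=
  BT.sound yt_c24_cnt_P Known.nil (t := yt_c24_cnt_t) (d := 0) (by decide +kernel)

theorem yt_c24_ge : 4374 ≤ Nat.card (grp 324 yt_c24_K) :=
  Ch.le_card_grp (k := 9) (L := (lab 324 9)) z_hn yt_c24_K_ok (c := (Ch.cons (nat_lit 0) [nat_lit 1] (Ch.cons (nat_lit 14) [nat_lit 3] (Ch.cons (nat_lit 6) [nat_lit 5] (Ch.cons (nat_lit 83) [nat_lit 7, nat_lit 9] Ch.nil))))) (by decide +kernel)

theorem yt_c24_eq : (grp 324 y_E0) ⊓ Subgroup.centralizer {Net.toPerm 324 z_g462} = grp 324 yt_c24_K :=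
  cent_eq yt_c24_sym yt_c24_cnt yt_c24_ge

theorem yt_c24_card : Nat.card ↥((grp 324 y_E0) ⊓ Subgroup.centralizer {Net.toPerm 324 z_g462}) = 4374 :=
  card_cent yt_c24_sym yt_c24_cnt yt_c24_ge

theorem yt_c24_ord : orderOf (Net.toPerm 324 z_g462) = 3 :=
  orderOf_net z_hn z_hk z_g462_ok (by decide) (ps := [3]) (by set_option linter.unusedSimpArgs false in simp [Nat.primeFactorsList_ofNat]) (by decide +kernel)

theorem z_le483 : grp 324 yt_c25_K ≤ grp 324 y_E0 :=
  grp_le_of_memB z_hn z_hk y_E0_ok yt_c25_K_ok (ws := [nat_lit 0x333b2f2919191207150317, nat_lit 0x3b2f2b1d1f150707011a16, nat_lit 0x333b271f1a1e1109010318, nat_lit 0x33382f2519221a013b02, nat_lit 0x353c2f251f1a2512050705, nat_lit 0x332f291b1a013802]) (by decide +kernel)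

theorem yt_c25_le : grp 324 yt_c25_K ≤ (grp 324 y_E0) :=
  (z_le483.trans z_T111_s0.le)

theorem yt_c25_mem : Net.toPerm 324 z_g476 ∈ (grp 324 y_E0) :=
  yt_c25_le (mem_grp_of_memB z_hn z_hk yt_c25_K_ok z_g476_ok (w := (nat_lit 0xc080a0303)) (by decide +kernel))

theorem yt_c25_sym : Sym 324 (grp 324 y_E0) [z_g476] yt_c25_K 0 :=
  Sym.of_lab z_hn z_hk (okE_cons.2 ⟨z_g476_ok, okE_nil _⟩) yt_c25_K_ok yt_c25_le (kT := 0) (by decide +kernel)

noncomputable def yt_c25_cnt_L : List ℕ := [1, 4, z_T111_s1_O, 0, 0, 4, 10, z_T111_s58_O, 0, 0, 5, 12, z_T111_s59_O, 0, 0, 6, 15, z_T111_s60_O, 1, 0]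

theorem yt_c25_cnt_P : Prob 324 9 (grp 324 y_E0) yt_c25_cnt_EG [z_g476] [z_g476] yt_c25_K yt_c25_cnt_L 0 0 :=
  Sym.prob z_hn z_hk yt_c25_sym yt_c25_cnt_EG_ok (grp_cons_le z_g39_z_T111 (grp_cons_le zg1_z_T111 (grp_cons_le zg3_z_T111 (grp_cons_le z_g43_z_T111 (grp_cons_le z_g42_z_T111 (grp_cons_le zg2_z_T111 (grp_cons_le z_g44_z_T111 (grp_cons_le z_g54_z_T111 (grp_cons_le z_g55_z_T111 (grp_cons_le z_g49_z_T111 (grp_cons_le z_g50_z_T111 (grp_cons_le z_g51_z_T111 (grp_cons_le z_g62_z_T111 (grp_cons_le z_g58_z_T111 (grp_cons_le z_g59_z_T111 (grp_cons_le z_g65_z_T111 (grp_cons_le z_g66_z_T111 (grp_cons_le z_g67_z_T111 (grp_cons_le z_g77_z_T111 (grp_cons_le z_g78_z_T111 (grp_cons_le z_g72_z_T111 (grp_cons_le z_g73_z_T111 (grp_cons_le z_g74_z_T111 (grp_cons_le z_g81_z_T111 (grp_cons_le z_g82_z_T111 (grp_cons_le z_g87_z_T111 (grp_cons_le zg0_z_T111 (grp_cons_le z_g91_z_T111 (grp_cons_le z_g28_z_T111 (grp_cons_le z_g88_z_T111 (grp_cons_le z_g424_z_T111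 (grp_cons_le z_g425_z_T111 (grp_cons_le z_g426_z_T111 (grp_cons_le z_g427_z_T111 (grp_nil_le _))))))))))))))))))))))))))))))))))) (Frames.cons z_T111_s1_F (Frames.cons z_T111_s58_F (Frames.cons z_T111_s59_F (Frames.cons z_T111_s60_F Frames.nil)))) (okE_cons.2 ⟨z_g476_ok, okE_nil _⟩) _

noncomputable def yt_c25_cnt_t : BT := (BT.fix (nat_lit 1) (BT.br (nat_lit 0) (nat_lit 57) [nat_lit 1, nat_lit 5] (BT.kid (nat_lit 57) (nat_lit 324) (BT.frm (nat_lit 0) (nat_lit 67343) (nat_lit 67343) [nat_lit 0] (BT.pln (nat_lit 0) (nat_lit 3) (BT.dif (nat_lit 0) (nat_lit 3) (BT.br (nat_lit 0) (nat_lit 306) [nat_lit 3] (BT.kid (nat_lit 306) (nat_lit 54) (BT.pln (nat_lit 3) (nat_lit 1) (BT.and (nat_lit 6) (nat_lit 0) (BT.br (nat_lit 0) (nat_lit 154) [nat_lit 5] (BT.dead (nat_lit 316) (BT.dif (nat_lit 11) (nat_lit 2) (BT.img (nat_lit 1) (nat_lit 4) (BT.frm (nat_lit 1) (nat_lit 0x1a2b070701070f) (nat_lit 0x1926070701070f) [nat_lit 2, nat_lit 0, nat_lit 5,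 nat_lit 9] (BT.pln (nat_lit 0) (nat_lit 7) (BT.and (nat_lit 3) (nat_lit 0) (BT.pln (nat_lit 2) (nat_lit 4) (BT.dif (nat_lit 1) (nat_lit 0) (BT.pln (nat_lit 4) (nat_lit 5) (BT.dif (nat_lit 1) (nat_lit 0) (BT.dif (nat_lit 0) (nat_lit 14) (BT.br (nat_lit 0) (nat_lit 54) [nat_lit 1802, nat_lit 8] (BT.dead (nat_lit 94) (BT.frm (nat_lit 2) (nat_lit 0x3d403e1a2b070701070f) (nat_lit 0x403d3f1926070701070f) [nat_lit 0, nat_lit 11, nat_lit 9, nat_lit 14, nat_lit 18] (BT.pln (nat_lit 0) (nat_lit 5) (BT.img (nat_lit 1) (nat_lit 2) (BT.img (nat_lit 1) (nat_lit 0) (BT.and (nat_lit 2) (nat_lit 0) (BT.cnt (nat_lit 0))))))) (BT.dead (nat_lit 54) (BT.frm (nat_lit 2) (nat_lit 0x3d403e1a2b070701070f) (nat_lit 0x3d3f3e1926070701070f) [nat_lit 0, nat_lit 11, nat_lit 9, nat_lit 14, nat_lit 18] (BT.pln (nat_lit 0) (nat_lit 5) (BT.img (nat_lit 1) (nat_lit 2) (BT.img (nat_lit 1) (nat_lit 0) (BT.and (nat_lit 2) (nat_lit 0) (BT.cnt (nat_lit 0))))))) (BT.dead (nat_lit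 63) (BT.frm (nat_lit 2) (nat_lit 0x3d403e1a2b070701070f) (nat_lit 0x401926070701070f) [nat_lit 0, nat_lit 11, nat_lit 9, nat_lit 14, nat_lit 18] (BT.pln (nat_lit 0) (nat_lit 5) (BT.img (nat_lit 1) (nat_lit 2) (BT.img (nat_lit 1) (nat_lit 0) (BT.and (nat_lit 2) (nat_lit 0) (BT.cnt (nat_lit 0))))))) BT.nil)))))))))))))) (BT.dead (nat_lit 85) (BT.dif (nat_lit 11) (nat_lit 2) (BT.img (nat_lit 1) (nat_lit 4) (BT.frm (nat_lit 1) (nat_lit 0x1a2b070701070f) (nat_lit 0x22070701070f) [nat_lit 2, nat_lit 0, nat_lit 5, nat_lit 9] (BT.pln (nat_lit 0) (nat_lit 7) (BT.and (nat_lit 3) (nat_lit 0) (BT.pln (nat_lit 2) (nat_lit 4) (BT.dif (nat_lit 1) (nat_lit 0) (BT.pln (nat_lit 4) (nat_lit 5) (BT.dif (nat_lit 1) (nat_lit 0) (BT.dif (nat_lit 0) (nat_lit 14) (BT.br (nat_lit 0) (nat_lit 54) [nat_lit 2823, nat_lit 9] (BT.dead (nat_lit 3) (BT.frm (nat_lit 2) (nat_lit 0x3d403e1a2b070701070f) (nat_lit 0x3d403e22070701070f) [nat_lit 0, nat_lit 11, nat_lit 9, nat_lit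 14, nat_lit 18] (BT.pln (nat_lit 0) (nat_lit 6) (BT.img (nat_lit 1) (nat_lit 2) (BT.and (nat_lit 1) (nat_lit 0) (BT.cnt (nat_lit 0)))))) (BT.dead (nat_lit 1) (BT.frm (nat_lit 2) (nat_lit 0x3d403e1a2b070701070f) (nat_lit 0x403e3f22070701070f) [nat_lit 0, nat_lit 11, nat_lit 9, nat_lit 14, nat_lit 18] (BT.pln (nat_lit 0) (nat_lit 6) (BT.img (nat_lit 1) (nat_lit 2) (BT.and (nat_lit 1) (nat_lit 0) (BT.cnt (nat_lit 0)))))) (BT.dead (nat_lit 6) (BT.frm (nat_lit 2) (nat_lit 0x3d403e1a2b070701070f) (nat_lit 0x3d3f22070701070f) [nat_lit 0, nat_lit 11, nat_lit 9, nat_lit 14, nat_lit 18] (BT.pln (nat_lit 0) (nat_lit 6) (BT.img (nat_lit 1) (nat_lit 2) (BT.and (nat_lit 1) (nat_lit 0) (BT.cnt (nat_lit 0)))))) BT.nil)))))))))))))) (BT.kid (nat_lit 154) (nat_lit 27) (BT.dif (nat_lit 11) (nat_lit 2) (BT.img (nat_lit 1) (nat_lit 4) (BT.frm (nat_lit 1) (nat_lit 0x1a2b070701070f) (nat_lit 0x1a2b070701070f) [nat_lit 2, nat_lit 0, nat_lit 5, nat_lit 9] (BT.pln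 (nat_lit 0) (nat_lit 7) (BT.and (nat_lit 3) (nat_lit 0) (BT.pln (nat_lit 2) (nat_lit 4) (BT.dif (nat_lit 1) (nat_lit 0) (BT.pln (nat_lit 4) (nat_lit 5) (BT.dif (nat_lit 1) (nat_lit 0) (BT.dif (nat_lit 0) (nat_lit 14) (BT.br (nat_lit 0) (nat_lit 54) [nat_lit 7, nat_lit 9] (BT.dead (nat_lit 94) (BT.and (nat_lit 3) (nat_lit 5) (BT.pln (nat_lit 9) (nat_lit 6) (BT.and (nat_lit 1) (nat_lit 0) (BT.frm (nat_lit 2) (nat_lit 0x3d403e1a2b070701070f) (nat_lit 0x3f3d1a2b070701070f) [nat_lit 3, nat_lit 14, nat_lit 12, nat_lit 17, nat_lit 21] (BT.pln (nat_lit 0) (nat_lit 7) (BT.dif (nat_lit 2) (nat_lit 0) (BT.dif (nat_lit 0) (nat_lit 19) (BT.br (nat_lit 0) (nat_lit 28) [nat_lit 11] (BT.dead (nat_lit 43) (BT.frm (nat_lit 3) (nat_lit 0x413d403e1a2b070701070f) (nat_lit 0x41433f3d1a2b070701070f) [nat_lit 0, nat_lit 8, nat_lit 19, nat_lit 17, nat_lit 22, nat_lit 26] (BT.pln (nat_lit 0) (nat_lit 6) (BT.img (nat_lit 1) (nat_lit 2) (BT.img (nat_lit 1) (nat_lit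 0) (BT.and (nat_lit 2) (nat_lit 0) (BT.cnt (nat_lit 0))))))) (BT.dead (nat_lit 39) (BT.frm (nat_lit 3) (nat_lit 0x413d403e1a2b070701070f) (nat_lit 0x41443f3d1a2b070701070f) [nat_lit 0, nat_lit 8, nat_lit 19, nat_lit 17, nat_lit 22, nat_lit 26] (BT.pln (nat_lit 0) (nat_lit 6) (BT.img (nat_lit 1) (nat_lit 2) (BT.and (nat_lit 1) (nat_lit 0) (BT.cnt (nat_lit 0)))))) (BT.dead (nat_lit 40) (BT.frm (nat_lit 3) (nat_lit 0x413d403e1a2b070701070f) (nat_lit 0x413f3d1a2b070701070f) [nat_lit 0, nat_lit 8, nat_lit 19, nat_lit 17, nat_lit 22, nat_lit 26] (BT.pln (nat_lit 0) (nat_lit 6) (BT.img (nat_lit 1) (nat_lit 2) (BT.and (nat_lit 1) (nat_lit 0) (BT.cnt (nat_lit 0)))))) BT.nil))))))))))) (BT.dead (nat_lit 63) (BT.and (nat_lit 3) (nat_lit 5) (BT.pln (nat_lit 9) (nat_lit 6) (BT.and (nat_lit 1) (nat_lit 0) (BT.frm (nat_lit 2) (nat_lit 0x3d403e1a2b070701070f) (nat_lit 0x1a2b070701070f) [nat_lit 3, nat_lit 14, nat_lit 12, nat_lit 17, nat_lit 21] (BT.pln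 (nat_lit 0) (nat_lit 7) (BT.dif (nat_lit 2) (nat_lit 0) (BT.dif (nat_lit 0) (nat_lit 19) (BT.br (nat_lit 0) (nat_lit 28) [nat_lit 11] (BT.dead (nat_lit 11) (BT.frm (nat_lit 3) (nat_lit 0x413d403e1a2b070701070f) (nat_lit 0x42431a2b070701070f) [nat_lit 0, nat_lit 8, nat_lit 19, nat_lit 17, nat_lit 22, nat_lit 26] (BT.pln (nat_lit 0) (nat_lit 6) (BT.img (nat_lit 1) (nat_lit 2) (BT.img (nat_lit 1) (nat_lit 0) (BT.and (nat_lit 2) (nat_lit 0) (BT.cnt (nat_lit 0))))))) (BT.dead (nat_lit 4) (BT.frm (nat_lit 3) (nat_lit 0x413d403e1a2b070701070f) (nat_lit 0x42441a2b070701070f) [nat_lit 0, nat_lit 8, nat_lit 19, nat_lit 17, nat_lit 22, nat_lit 26] (BT.pln (nat_lit 0) (nat_lit 6) (BT.img (nat_lit 1) (nat_lit 2) (BT.and (nat_lit 1) (nat_lit 0) (BT.cnt (nat_lit 0)))))) (BT.dead (nat_lit 9) (BT.frm (nat_lit 3) (nat_lit 0x413d403e1a2b070701070f) (nat_lit 0x421a2b070701070f) [nat_lit 0, nat_lit 8, nat_lit 19, nat_lit 17, nat_lit 22, nat_lit 26] (BT.pln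 (nat_lit 0) (nat_lit 6) (BT.img (nat_lit 1) (nat_lit 2) (BT.and (nat_lit 1) (nat_lit 0) (BT.cnt (nat_lit 0)))))) BT.nil))))))))))) (BT.kid (nat_lit 54) (nat_lit 3) (BT.and (nat_lit 3) (nat_lit 5) (BT.pln (nat_lit 9) (nat_lit 6) (BT.and (nat_lit 1) (nat_lit 0) (BT.frm (nat_lit 2) (nat_lit 0x3d403e1a2b070701070f) (nat_lit 0x3d403e1a2b070701070f) [nat_lit 3, nat_lit 14, nat_lit 12, nat_lit 17, nat_lit 21] (BT.pln (nat_lit 0) (nat_lit 7) (BT.dif (nat_lit 2) (nat_lit 0) (BT.dif (nat_lit 0) (nat_lit 19) (BT.br (nat_lit 0) (nat_lit 28) [nat_lit 11] (BT.dead (nat_lit 184) (BT.frm (nat_lit 3) (nat_lit 0x413d403e1a2b070701070f) (nat_lit 0x41443d403e1a2b070701070f) [nat_lit 0, nat_lit 8, nat_lit 19, nat_lit 17, nat_lit 22, nat_lit 26] (BT.pln (nat_lit 0) (nat_lit 6) (BT.img (nat_lit 1) (nat_lit 2) (BT.img (nat_lit 1) (nat_lit 0) (BT.and (nat_lit 2) (nat_lit 0) (BT.cnt (nat_lit 0))))))) (BT.dead (nat_lit 30) (BT.frm (nat_lit 3) (nat_lit 0x413d403e1a2b070701070f)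 (nat_lit 0x41433d403e1a2b070701070f) [nat_lit 0, nat_lit 8, nat_lit 19, nat_lit 17, nat_lit 22, nat_lit 26] (BT.pln (nat_lit 0) (nat_lit 6) (BT.img (nat_lit 1) (nat_lit 2) (BT.and (nat_lit 1) (nat_lit 0) (BT.cnt (nat_lit 0)))))) (BT.kid (nat_lit 28) (nat_lit 1) (BT.one (nat_lit 3) (nat_lit 0x413d403e1a2b070701070f) (nat_lit 0x413d403e1a2b070701070f) [nat_lit 0, nat_lit 8, nat_lit 19, nat_lit 17, nat_lit 22, nat_lit 26]) BT.nil))))))))))) BT.nil)))))))))))))) BT.nil)))))) BT.nil))))) BT.nil)))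

theorem yt_c25_cnt : Cnt 324 (grp 324 y_E0) [z_g476] [z_g476] 0 0 0 0 2916 :=
  BT.sound yt_c25_cnt_P Known.nil (t := yt_c25_cnt_t) (d := 0) (by decide +kernel)

theorem yt_c25_ge : 2916 ≤ Nat.card (grp 324 yt_c25_K) :=
  Ch.le_card_grp (k := 9) (L := (lab 324 9)) z_hn yt_c25_K_ok (c := (Ch.cons (nat_lit 57) [nat_lit 1] (Ch.cons (nat_lit 306) [nat_lit 3] (Ch.cons (nat_lit 154) [nat_lit 5] (Ch.cons (nat_lit 54) [nat_lit 7, nat_lit 9] (Ch.cons (nat_lit 28) [nat_lit 11] Ch.nil)))))) (by decide +kernel)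

theorem yt_c25_eq : (grp 324 y_E0) ⊓ Subgroup.centralizer {Net.toPerm 324 z_g476} = grp 324 yt_c25_K :=
  cent_eq yt_c25_sym yt_c25_cnt yt_c25_ge

theorem yt_c25_card : Nat.card ↥((grp 324 y_E0) ⊓ Subgroup.centralizer {Net.toPerm 324 z_g476}) = 2916 :=
  card_cent yt_c25_sym yt_c25_cnt yt_c25_ge

theorem yt_c25_ord : orderOf (Net.toPerm 324 z_g476) = 3 :=
  orderOf_net z_hn z_hk z_g476_ok (by decide) (ps := [3]) (by set_option linter.unusedSimpArgs false in simp [Nat.primeFactorsList_ofNat]) (by decide +kernel)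

theorem z_le489 : grp 324 yt_c26_K ≤ grp 324 y_E0 :=
  grp_le_of_memB z_hn z_hk y_E0_ok yt_c26_K_ok (ws := [nat_lit 0x3426281f1b1a1107070539, nat_lit 0x333512090230, nat_lit 0x34392519201a, nat_lit 0x353c251b1a]) (by decide +kernel)

theorem yt_c26_le : grp 324 yt_c26_K ≤ (grp 324 y_E0) :=
  (z_le489.trans z_T111_s0.le)

theorem yt_c26_mem : Net.toPerm 324 z_g484 ∈ (grp 324 y_E0) :=
  yt_c26_le (mem_grp_of_memB z_hn z_hk yt_c26_K_ok z_g484_ok (w := (nat_lit 0x702030204)) (by decide +kernel))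

theorem yt_c26_sym : Sym 324 (grp 324 y_E0) [z_g484] yt_c26_K 0 :=
  Sym.of_lab z_hn z_hk (okE_cons.2 ⟨z_g484_ok, okE_nil _⟩) yt_c26_K_ok yt_c26_le (kT := 0) (by decide +kernel)

noncomputable def z_T111_s52_O : ℕ := (nat_lit 0x735000040106114028c00000040848a11980584238c0000000000000000000000000000000000000073500000000000000000000000000000000000000021884110032540110428100901226172002000004a7b69d5f9e1fdd2ff721210f4bc990260f21b90029d9dfdd93e7c3593693a0000000000000022a48c2c752ce567b762b0094cc8818637713f877610c7338e73366e182c84c828187ff722000000022a4f88b8bb5b157a830dcc0d7ef3e94826dd86089672421e8a8c11df7b7e28068159ac8dc67c800022a04b0bcb5403f0b195cea5501a4029c47f67f7a9e55b2f766549f932e090d9fc4bf33919f8358002204aac4fa04d24596f15f4aba6a3a4b2d221118498790b2a2e6da1d9e752f68a35cd1ac31d9a77fc2084000000000000000000000000000000000000000000000000000000000000000000000000000000001000000020000000000000000000000000000000000000000000000000000000000000000000000000000000000000000000000000000000000000000000000000000000000000000000000000000000800000000000000000000000000000000000000000000000000000000000000000000000000000000010000000000000400000000000000000000000000000000000000000000000000000000000000000000)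

theorem z_T111_s52_F : Frame 324 (grp 324 y_E0) 5 12 z_T111_s52_O 0 1 :=
  Stab.frame z_hn z_T111_s52 (by decide +kernel)

noncomputable def yt_c26_cnt_L : List ℕ := [1, 4, z_T111_s1_O, 0, 0, 2, 11, z_T111_s49_O, 0, 0, 3, 20, z_T111_s50_O, 0, 0, 4, 10, z_T111_s51_O, 0, 0, 5, 12, z_T111_s52_O, 0, 0, 6, 15, z_T111_s53_O, 1, 0]

theorem yt_c26_cnt_P : Prob 324 9 (grp 324 y_E0) yt_c26_cnt_EG [z_g484] [z_g484] yt_c26_K yt_c26_cnt_L 0 0 :=
  Sym.prob z_hn z_hk yt_c26_sym yt_c26_cnt_EG_ok (grp_cons_le z_g39_z_T111 (grp_cons_le zg1_z_T111 (grp_cons_le zg3_z_T111 (grp_cons_le z_g43_z_T111 (grp_cons_le z_g42_z_T111 (grp_cons_le zg2_z_T111 (grp_cons_le z_g44_z_T111 (grp_cons_le z_g54_z_T111 (grp_cons_le z_g55_z_T111 (grp_cons_le z_g49_z_T111 (grp_cons_le z_g50_z_T111 (grp_cons_le z_g51_z_T111 (grp_cons_le z_g62_z_T111 (grp_cons_le z_g58_z_T111 (grp_cons_le z_g59_z_T111 (grp_cons_le z_g65_z_T111 (grp_cons_le z_g66_z_T111 (grp_cons_le z_g67_z_T111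 (grp_cons_le z_g77_z_T111 (grp_cons_le z_g78_z_T111 (grp_cons_le z_g72_z_T111 (grp_cons_le z_g73_z_T111 (grp_cons_le z_g74_z_T111 (grp_cons_le z_g81_z_T111 (grp_cons_le z_g82_z_T111 (grp_cons_le z_g87_z_T111 (grp_cons_le zg0_z_T111 (grp_cons_le z_g91_z_T111 (grp_cons_le z_g28_z_T111 (grp_cons_le z_g88_z_T111 (grp_cons_le z_g372_z_T111 (grp_cons_le z_g373_z_T111 (grp_cons_le z_g374_z_T111 (grp_cons_le z_g375_z_T111 (grp_cons_le z_g376_z_T111 (grp_cons_le z_g377_z_T111 (grp_cons_le z_g378_z_T111 (grp_nil_le _)))))))))))))))))))))))))))))))))))))) (Frames.cons z_T111_s1_F (Frames.cons z_T111_s49_F (Frames.cons z_T111_s50_F (Frames.cons z_T111_s51_F (Frames.cons z_T111_s52_F (Frames.cons z_T111_s53_F Frames.nil)))))) (okE_cons.2 ⟨z_g484_ok, okE_nil _⟩) _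

noncomputable def yt_c26_cnt_t : BT := (BT.br (nat_lit 2) (nat_lit 0) [nat_lit 1, nat_lit 3, nat_lit 5] (BT.dead (nat_lit 119) (BT.img (nat_lit 1) (nat_lit 0) (BT.frm (nat_lit 1) (nat_lit 2101) (nat_lit 0x1917010129) [nat_lit 0, nat_lit 1] (BT.pln (nat_lit 0) (nat_lit 9) (BT.img (nat_lit 1) (nat_lit 2) (BT.and (nat_lit 1) (nat_lit 0) (BT.cnt (nat_lit 0))))))) (BT.dead (nat_lit 97) (BT.img (nat_lit 1) (nat_lit 0) (BT.frm (nat_lit 1) (nat_lit 2101) (nat_lit 0x81d010511) [nat_lit 0, nat_lit 1] (BT.pln (nat_lit 0) (nat_lit 9) (BT.img (nat_lit 1) (nat_lit 2) (BT.and (nat_lit 1) (nat_lit 0) (BT.cnt (nat_lit 0))))))) (BT.dead (nat_lit 36) (BT.img (nat_lit 1) (nat_lit 0) (BT.frm (nat_lit 1) (nat_lit 2101) (nat_lit 0x81101051f) [nat_lit 0, nat_lit 1] (BT.pln (nat_lit 0) (nat_lit 5) (BT.img (nat_lit 1) (nat_lit 2) (BT.and (nat_lit 1) (nat_lit 0) (BT.cnt (nat_lit 0))))))) (BT.dead (nat_lit 35) (BT.img (nat_lit 1) (nat_lit 0) (BT.frm (nat_lit 1)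 (nat_lit 2101) (nat_lit 0x1923010515) [nat_lit 0, nat_lit 1] (BT.pln (nat_lit 0) (nat_lit 9) (BT.img (nat_lit 1) (nat_lit 2) (BT.and (nat_lit 1) (nat_lit 0) (BT.cnt (nat_lit 0))))))) (BT.dead (nat_lit 56) (BT.img (nat_lit 1) (nat_lit 0) (BT.frm (nat_lit 1) (nat_lit 2101) (nat_lit 0x91e0212) [nat_lit 0, nat_lit 1] (BT.pln (nat_lit 0) (nat_lit 9) (BT.img (nat_lit 1) (nat_lit 2) (BT.and (nat_lit 1) (nat_lit 0) (BT.cnt (nat_lit 0))))))) (BT.dead (nat_lit 18) (BT.img (nat_lit 1) (nat_lit 0) (BT.frm (nat_lit 1) (nat_lit 2101) (nat_lit 0x39030f) [nat_lit 0, nat_lit 1] (BT.pln (nat_lit 0) (nat_lit 9) (BT.img (nat_lit 1) (nat_lit 2) (BT.and (nat_lit 1) (nat_lit 0) (BT.cnt (nat_lit 0))))))) (BT.kid (nat_lit 0) (nat_lit 9) (BT.frm (nat_lit 0) (nat_lit 0) (nat_lit 0) [nat_lit 0] (BT.pln (nat_lit 0) (nat_lit 3) (BT.img (nat_lit 1) (nat_lit 2) (BT.frm (nat_lit 1) (nat_lit 2101) (nat_lit 2101) [nat_lit 0, nat_lit 3] (BT.pln (nat_lit 0) (nat_lit 10) (BT.img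 (nat_lit 1) (nat_lit 0) (BT.and (nat_lit 4) (nat_lit 0) (BT.frm (nat_lit 2) (nat_lit 0x3d410835) (nat_lit 0x3d410835) [nat_lit 0, nat_lit 4, nat_lit 7] (BT.pln (nat_lit 0) (nat_lit 11) (BT.and (nat_lit 7) (nat_lit 0) (BT.br (nat_lit 0) (nat_lit 9) [] (BT.dead (nat_lit 17) (BT.pln (nat_lit 7) (nat_lit 2) (BT.pln (nat_lit 4) (nat_lit 3) (BT.dif (nat_lit 1) (nat_lit 0) (BT.frm (nat_lit 3) (nat_lit 0x3f413d410835) (nat_lit 0x3f423d410835) [nat_lit 3, nat_lit 7, nat_lit 11, nat_lit 14] (BT.pln (nat_lit 0) (nat_lit 4) (BT.dif (nat_lit 2) (nat_lit 0) (BT.br (nat_lit 0) (nat_lit 56) [] (BT.dead (nat_lit 122) (BT.dif (nat_lit 21) (nat_lit 2) (BT.pln (nat_lit 4) (nat_lit 9) (BT.and (nat_lit 1) (nat_lit 0) (BT.pln (nat_lit 20) (nat_lit 1) (BT.and (nat_lit 1) (nat_lit 0) (BT.br (nat_lit 0) (nat_lit 82) [nat_lit 5, nat_lit 7] (BT.dead (nat_lit 191) (BT.frm (nat_lit 5) (nat_lit 0x4a44453f413d410835) (nat_lit 0x4749433f423d410835) [nat_lit 0, nat_lit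 6, nat_lit 13, nat_lit 17, nat_lit 21, nat_lit 24] (BT.pln (nat_lit 0) (nat_lit 6) (BT.img (nat_lit 1) (nat_lit 2) (BT.and (nat_lit 1) (nat_lit 0) (BT.cnt (nat_lit 0)))))) BT.nil))))))) (BT.dead (nat_lit 142) (BT.dif (nat_lit 21) (nat_lit 2) (BT.pln (nat_lit 4) (nat_lit 9) (BT.and (nat_lit 1) (nat_lit 0) (BT.pln (nat_lit 20) (nat_lit 1) (BT.and (nat_lit 1) (nat_lit 0) (BT.br (nat_lit 0) (nat_lit 82) [nat_lit 5, nat_lit 7] (BT.dead (nat_lit 191) (BT.frm (nat_lit 5) (nat_lit 0x4a44453f413d410835) (nat_lit 0x484a3f423d410835) [nat_lit 0, nat_lit 6, nat_lit 13, nat_lit 17, nat_lit 21, nat_lit 24] (BT.pln (nat_lit 0) (nat_lit 6) (BT.img (nat_lit 1) (nat_lit 2) (BT.and (nat_lit 1) (nat_lit 0) (BT.cnt (nat_lit 0)))))) BT.nil))))))) (BT.dead (nat_lit 281) (BT.dif (nat_lit 21) (nat_lit 2) (BT.pln (nat_lit 4) (nat_lit 9) (BT.and (nat_lit 1) (nat_lit 0) (BT.pln (nat_lit 20) (nat_lit 1) (BT.and (nat_lit 1) (nat_lit 0) (BT.br (nat_lit 0) (nat_lit 82)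 [nat_lit 5, nat_lit 7] (BT.dead (nat_lit 191) (BT.frm (nat_lit 5) (nat_lit 0x4a44453f413d410835) (nat_lit 0x443f423d410835) [nat_lit 0, nat_lit 6, nat_lit 13, nat_lit 17, nat_lit 21, nat_lit 24] (BT.pln (nat_lit 0) (nat_lit 6) (BT.img (nat_lit 1) (nat_lit 2) (BT.img (nat_lit 1) (nat_lit 0) (BT.and (nat_lit 2) (nat_lit 0) (BT.cnt (nat_lit 0))))))) BT.nil))))))) (BT.dead (nat_lit 162) (BT.frm (nat_lit 4) (nat_lit 0x44453f413d410835) (nat_lit 0x44453f423d410835) [nat_lit 0, nat_lit 7, nat_lit 11, nat_lit 15, nat_lit 18] (BT.pln (nat_lit 0) (nat_lit 5) (BT.img (nat_lit 1) (nat_lit 2) (BT.and (nat_lit 1) (nat_lit 0) (BT.cnt (nat_lit 0)))))) (BT.dead (nat_lit 157) (BT.frm (nat_lit 4) (nat_lit 0x44453f413d410835) (nat_lit 0x43463f423d410835) [nat_lit 0, nat_lit 7, nat_lit 11, nat_lit 15, nat_lit 18] (BT.pln (nat_lit 0) (nat_lit 7) (BT.img (nat_lit 1) (nat_lit 2) (BT.and (nat_lit 1) (nat_lit 0) (BT.cnt (nat_lit 0)))))) (BT.dead (nat_lit 156) (BT.frm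 (nat_lit 4) (nat_lit 0x44453f413d410835) (nat_lit 0x43453f423d410835) [nat_lit 0, nat_lit 7, nat_lit 11, nat_lit 15, nat_lit 18] (BT.pln (nat_lit 0) (nat_lit 5) (BT.img (nat_lit 1) (nat_lit 2) (BT.and (nat_lit 1) (nat_lit 0) (BT.cnt (nat_lit 0)))))) (BT.dead (nat_lit 121) (BT.frm (nat_lit 4) (nat_lit 0x44453f413d410835) (nat_lit 0x44463f423d410835) [nat_lit 0, nat_lit 7, nat_lit 11, nat_lit 15, nat_lit 18] (BT.pln (nat_lit 0) (nat_lit 7) (BT.img (nat_lit 1) (nat_lit 2) (BT.and (nat_lit 1) (nat_lit 0) (BT.cnt (nat_lit 0)))))) (BT.dead (nat_lit 65) (BT.frm (nat_lit 4) (nat_lit 0x44453f413d410835) (nat_lit 0x453f423d410835) [nat_lit 0, nat_lit 7, nat_lit 11, nat_lit 15, nat_lit 18] (BT.pln (nat_lit 0) (nat_lit 5) (BT.img (nat_lit 1) (nat_lit 2) (BT.and (nat_lit 1) (nat_lit 0) (BT.cnt (nat_lit 0)))))) (BT.dead (nat_lit 56) (BT.frm (nat_lit 4) (nat_lit 0x44453f413d410835) (nat_lit 0x463f423d410835) [nat_lit 0, nat_lit 7, nat_lit 11, nat_lit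 15, nat_lit 18] (BT.pln (nat_lit 0) (nat_lit 7) (BT.img (nat_lit 1) (nat_lit 2) (BT.and (nat_lit 1) (nat_lit 0) (BT.cnt (nat_lit 0)))))) BT.nil)))))))))))))))) (BT.dead (nat_lit 7) (BT.pln (nat_lit 7) (nat_lit 2) (BT.pln (nat_lit 4) (nat_lit 3) (BT.dif (nat_lit 1) (nat_lit 0) (BT.frm (nat_lit 3) (nat_lit 0x3f413d410835) (nat_lit 0x3f3d410835) [nat_lit 3, nat_lit 7, nat_lit 11, nat_lit 14] (BT.pln (nat_lit 0) (nat_lit 4) (BT.dif (nat_lit 2) (nat_lit 0) (BT.br (nat_lit 0) (nat_lit 56) [] (BT.dead (nat_lit 65) (BT.dif (nat_lit 21) (nat_lit 2) (BT.pln (nat_lit 4) (nat_lit 9) (BT.and (nat_lit 1) (nat_lit 0) (BT.pln (nat_lit 20) (nat_lit 1) (BT.and (nat_lit 1) (nat_lit 0) (BT.br (nat_lit 0) (nat_lit 82) [nat_lit 5, nat_lit 7] (BT.dead (nat_lit 190) (BT.frm (nat_lit 5) (nat_lit 0x4a44453f413d410835) (nat_lit 0x474943463f3d410835) [nat_lit 0, nat_lit 6, nat_lit 13, nat_lit 17, nat_lit 21, nat_lit 24] (BT.pln (nat_lit 0) (nat_lit 6) (BT.img (nat_lit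 1) (nat_lit 2) (BT.and (nat_lit 1) (nat_lit 0) (BT.cnt (nat_lit 0)))))) BT.nil))))))) (BT.dead (nat_lit 162) (BT.dif (nat_lit 21) (nat_lit 2) (BT.pln (nat_lit 4) (nat_lit 9) (BT.and (nat_lit 1) (nat_lit 0) (BT.pln (nat_lit 20) (nat_lit 1) (BT.and (nat_lit 1) (nat_lit 0) (BT.br (nat_lit 0) (nat_lit 82) [nat_lit 5, nat_lit 7] (BT.dead (nat_lit 190) (BT.frm (nat_lit 5) (nat_lit 0x4a44453f413d410835) (nat_lit 0x484a463f3d410835) [nat_lit 0, nat_lit 6, nat_lit 13, nat_lit 17, nat_lit 21, nat_lit 24] (BT.pln (nat_lit 0) (nat_lit 6) (BT.img (nat_lit 1) (nat_lit 2) (BT.and (nat_lit 1) (nat_lit 0) (BT.cnt (nat_lit 0)))))) BT.nil))))))) (BT.dead (nat_lit 156) (BT.dif (nat_lit 21) (nat_lit 2) (BT.pln (nat_lit 4) (nat_lit 9) (BT.and (nat_lit 1) (nat_lit 0) (BT.pln (nat_lit 20) (nat_lit 1) (BT.and (nat_lit 1) (nat_lit 0) (BT.br (nat_lit 0) (nat_lit 82) [nat_lit 5, nat_lit 7] (BT.dead (nat_lit 190) (BT.frm (nat_lit 5) (nat_lit 0x4a44453f413d410835)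 (nat_lit 0x44463f3d410835) [nat_lit 0, nat_lit 6, nat_lit 13, nat_lit 17, nat_lit 21, nat_lit 24] (BT.pln (nat_lit 0) (nat_lit 6) (BT.img (nat_lit 1) (nat_lit 2) (BT.and (nat_lit 1) (nat_lit 0) (BT.cnt (nat_lit 0)))))) BT.nil))))))) (BT.dead (nat_lit 281) (BT.frm (nat_lit 4) (nat_lit 0x44453f413d410835) (nat_lit 0x44453f3d410835) [nat_lit 0, nat_lit 7, nat_lit 11, nat_lit 15, nat_lit 18] (BT.pln (nat_lit 0) (nat_lit 7) (BT.img (nat_lit 1) (nat_lit 2) (BT.and (nat_lit 1) (nat_lit 0) (BT.cnt (nat_lit 0)))))) (BT.dead (nat_lit 122) (BT.frm (nat_lit 4) (nat_lit 0x44453f413d410835) (nat_lit 0x43453f3d410835) [nat_lit 0, nat_lit 7, nat_lit 11, nat_lit 15, nat_lit 18] (BT.pln (nat_lit 0) (nat_lit 7) (BT.img (nat_lit 1) (nat_lit 2) (BT.and (nat_lit 1) (nat_lit 0) (BT.cnt (nat_lit 0)))))) (BT.dead (nat_lit 142) (BT.frm (nat_lit 4) (nat_lit 0x44453f413d410835) (nat_lit 0x453f3d410835) [nat_lit 0, nat_lit 7, nat_lit 11, nat_lit 15, nat_lit 18] (BT.pln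 (nat_lit 0) (nat_lit 7) (BT.img (nat_lit 1) (nat_lit 2) (BT.and (nat_lit 1) (nat_lit 0) (BT.cnt (nat_lit 0)))))) (BT.dead (nat_lit 121) (BT.frm (nat_lit 4) (nat_lit 0x44453f413d410835) (nat_lit 0x433f3d410835) [nat_lit 0, nat_lit 7, nat_lit 11, nat_lit 15, nat_lit 18] (BT.pln (nat_lit 0) (nat_lit 5) (BT.img (nat_lit 1) (nat_lit 2) (BT.and (nat_lit 1) (nat_lit 0) (BT.cnt (nat_lit 0)))))) (BT.dead (nat_lit 56) (BT.frm (nat_lit 4) (nat_lit 0x44453f413d410835) (nat_lit 0x443f3d410835) [nat_lit 0, nat_lit 7, nat_lit 11, nat_lit 15, nat_lit 18] (BT.pln (nat_lit 0) (nat_lit 5) (BT.img (nat_lit 1) (nat_lit 2) (BT.and (nat_lit 1) (nat_lit 0) (BT.cnt (nat_lit 0)))))) (BT.dead (nat_lit 157) (BT.frm (nat_lit 4) (nat_lit 0x44453f413d410835) (nat_lit 0x3f3d410835) [nat_lit 0, nat_lit 7, nat_lit 11, nat_lit 15, nat_lit 18] (BT.pln (nat_lit 0) (nat_lit 5) (BT.img (nat_lit 1) (nat_lit 2) (BT.and (nat_lit 1) (nat_lit 0) (BT.cnt (nat_lit 0)))))) BT.nil))))))))))))))))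 (BT.dead (nat_lit 4) (BT.frm (nat_lit 3) (nat_lit 0x3f413d410835) (nat_lit 0x413d410835) [nat_lit 0, nat_lit 4, nat_lit 8, nat_lit 11] (BT.pln (nat_lit 0) (nat_lit 4) (BT.img (nat_lit 1) (nat_lit 2) (BT.img (nat_lit 1) (nat_lit 0) (BT.and (nat_lit 2) (nat_lit 0) (BT.cnt (nat_lit 0))))))) (BT.dead (nat_lit 5) (BT.frm (nat_lit 3) (nat_lit 0x3f413d410835) (nat_lit 0x423d410835) [nat_lit 0, nat_lit 4, nat_lit 8, nat_lit 11] (BT.pln (nat_lit 0) (nat_lit 4) (BT.img (nat_lit 1) (nat_lit 2) (BT.img (nat_lit 1) (nat_lit 0) (BT.and (nat_lit 2) (nat_lit 0) (BT.cnt (nat_lit 0))))))) (BT.dead (nat_lit 13) (BT.frm (nat_lit 3) (nat_lit 0x3f413d410835) (nat_lit 0x3d410835) [nat_lit 0, nat_lit 4, nat_lit 8, nat_lit 11] (BT.pln (nat_lit 0) (nat_lit 4) (BT.img (nat_lit 1) (nat_lit 2) (BT.img (nat_lit 1) (nat_lit 0) (BT.and (nat_lit 2) (nat_lit 0) (BT.cnt (nat_lit 0))))))) (BT.kid (nat_lit 9) (nat_lit 9) (BT.pln (nat_lit 7) (nat_lit 2) (BT.pln (nat_lit 4)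 (nat_lit 3) (BT.dif (nat_lit 1) (nat_lit 0) (BT.frm (nat_lit 3) (nat_lit 0x3f413d410835) (nat_lit 0x3f413d410835) [nat_lit 3, nat_lit 7, nat_lit 11, nat_lit 14] (BT.pln (nat_lit 0) (nat_lit 4) (BT.dif (nat_lit 2) (nat_lit 0) (BT.br (nat_lit 0) (nat_lit 56) [] (BT.dead (nat_lit 157) (BT.dif (nat_lit 21) (nat_lit 2) (BT.pln (nat_lit 4) (nat_lit 9) (BT.and (nat_lit 1) (nat_lit 0) (BT.pln (nat_lit 20) (nat_lit 1) (BT.and (nat_lit 1) (nat_lit 0) (BT.br (nat_lit 0) (nat_lit 82) [nat_lit 5, nat_lit 7] (BT.dead (nat_lit 82) (BT.frm (nat_lit 5) (nat_lit 0x4a44453f413d410835) (nat_lit 0x4849453f413d410835) [nat_lit 0, nat_lit 6, nat_lit 13, nat_lit 17, nat_lit 21, nat_lit 24] (BT.pln (nat_lit 0) (nat_lit 9) (BT.img (nat_lit 1) (nat_lit 2) (BT.img (nat_lit 1) (nat_lit 0) (BT.and (nat_lit 2) (nat_lit 0) (BT.cnt (nat_lit 0))))))) BT.nil))))))) (BT.dead (nat_lit 121) (BT.dif (nat_lit 21) (nat_lit 2) (BT.pln (nat_lit 4) (nat_lit 9) (BT.and (nat_lit 1)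 (nat_lit 0) (BT.pln (nat_lit 20) (nat_lit 1) (BT.and (nat_lit 1) (nat_lit 0) (BT.br (nat_lit 0) (nat_lit 82) [nat_lit 5, nat_lit 7] (BT.dead (nat_lit 82) (BT.frm (nat_lit 5) (nat_lit 0x4a44453f413d410835) (nat_lit 0x4743453f413d410835) [nat_lit 0, nat_lit 6, nat_lit 13, nat_lit 17, nat_lit 21, nat_lit 24] (BT.pln (nat_lit 0) (nat_lit 6) (BT.img (nat_lit 1) (nat_lit 2) (BT.and (nat_lit 1) (nat_lit 0) (BT.cnt (nat_lit 0)))))) BT.nil))))))) (BT.dead (nat_lit 142) (BT.frm (nat_lit 4) (nat_lit 0x44453f413d410835) (nat_lit 0x43463f413d410835) [nat_lit 0, nat_lit 7, nat_lit 11, nat_lit 15, nat_lit 18] (BT.pln (nat_lit 0) (nat_lit 5) (BT.img (nat_lit 1) (nat_lit 2) (BT.and (nat_lit 1) (nat_lit 0) (BT.cnt (nat_lit 0)))))) (BT.dead (nat_lit 122) (BT.frm (nat_lit 4) (nat_lit 0x44453f413d410835) (nat_lit 0x44463f413d410835) [nat_lit 0, nat_lit 7, nat_lit 11, nat_lit 15, nat_lit 18] (BT.pln (nat_lit 0) (nat_lit 5) (BT.img (nat_lit 1) (nat_lit 2) (BT.and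 (nat_lit 1) (nat_lit 0) (BT.cnt (nat_lit 0)))))) (BT.dead (nat_lit 281) (BT.frm (nat_lit 4) (nat_lit 0x44453f413d410835) (nat_lit 0x463f413d410835) [nat_lit 0, nat_lit 7, nat_lit 11, nat_lit 15, nat_lit 18] (BT.pln (nat_lit 0) (nat_lit 5) (BT.img (nat_lit 1) (nat_lit 2) (BT.and (nat_lit 1) (nat_lit 0) (BT.cnt (nat_lit 0)))))) (BT.dead (nat_lit 162) (BT.frm (nat_lit 4) (nat_lit 0x44453f413d410835) (nat_lit 0x443f413d410835) [nat_lit 0, nat_lit 7, nat_lit 11, nat_lit 15, nat_lit 18] (BT.pln (nat_lit 0) (nat_lit 7) (BT.img (nat_lit 1) (nat_lit 2) (BT.and (nat_lit 1) (nat_lit 0) (BT.cnt (nat_lit 0)))))) (BT.dead (nat_lit 156) (BT.frm (nat_lit 4) (nat_lit 0x44453f413d410835) (nat_lit 0x433f413d410835) [nat_lit 0, nat_lit 7, nat_lit 11, nat_lit 15, nat_lit 18] (BT.pln (nat_lit 0) (nat_lit 7) (BT.img (nat_lit 1) (nat_lit 2) (BT.and (nat_lit 1) (nat_lit 0) (BT.cnt (nat_lit 0)))))) (BT.dead (nat_lit 65) (BT.frm (nat_lit 4) (nat_lit 0x44453f413d410835)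 (nat_lit 0x3f413d410835) [nat_lit 0, nat_lit 7, nat_lit 11, nat_lit 15, nat_lit 18] (BT.pln (nat_lit 0) (nat_lit 7) (BT.img (nat_lit 1) (nat_lit 2) (BT.and (nat_lit 1) (nat_lit 0) (BT.cnt (nat_lit 0)))))) (BT.kid (nat_lit 56) (nat_lit 9) (BT.dif (nat_lit 21) (nat_lit 2) (BT.pln (nat_lit 4) (nat_lit 9) (BT.and (nat_lit 1) (nat_lit 0) (BT.pln (nat_lit 20) (nat_lit 1) (BT.and (nat_lit 1) (nat_lit 0) (BT.br (nat_lit 0) (nat_lit 82) [nat_lit 5, nat_lit 7] (BT.kid (nat_lit 82) (nat_lit 1) (BT.one (nat_lit 5) (nat_lit 0x4a44453f413d410835) (nat_lit 0x4a44453f413d410835) [nat_lit 0, nat_lit 6, nat_lit 13, nat_lit 17, nat_lit 21, nat_lit 24]) BT.nil))))))) BT.nil)))))))))))))))) BT.nil))))))))))))))))) BT.nil))))))))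

theorem yt_c26_cnt : Cnt 324 (grp 324 y_E0) [z_g484] [z_g484] 0 0 0 0 1458 :=
  BT.sound yt_c26_cnt_P Known.nil (t := yt_c26_cnt_t) (d := 0) (by decide +kernel)

theorem yt_c26_ge : 1458 ≤ Nat.card (grp 324 yt_c26_K) :=
  Ch.le_card_grp (k := 9) (L := (lab 324 9)) z_hn yt_c26_K_ok (c := (Ch.cons (nat_lit 0) [nat_lit 1, nat_lit 3] (Ch.cons (nat_lit 82) [nat_lit 5, nat_lit 7] Ch.nil))) (by decide +kernel)

theorem yt_c26_eq : (grp 324 y_E0) ⊓ Subgroup.centralizer {Net.toPerm 324 z_g484} = grp 324 yt_c26_K :=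
  cent_eq yt_c26_sym yt_c26_cnt yt_c26_ge

theorem yt_c26_card : Nat.card ↥((grp 324 y_E0) ⊓ Subgroup.centralizer {Net.toPerm 324 z_g484}) = 1458 :=
  card_cent yt_c26_sym yt_c26_cnt yt_c26_ge

theorem yt_c26_ord : orderOf (Net.toPerm 324 z_g484) = 3 :=
  orderOf_net z_hn z_hk z_g484_ok (by decide) (ps := [3]) (by set_option linter.unusedSimpArgs false in simp [Nat.primeFactorsList_ofNat]) (by decide +kernel)

theorem z_le494 : grp 324 yt_c27_K ≤ grp 324 y_E0 :=
  grp_le_of_memB z_hn z_hk y_E0_ok yt_c27_K_ok (ws := [nat_lit 0x33261b0f09022d05, nat_lit 0x33353c25281f1a201207, nat_lit 13115]) (by decide +kernel)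

theorem yt_c27_le : grp 324 yt_c27_K ≤ (grp 324 y_E0) :=
  (z_le494.trans z_T111_s0.le)

theorem yt_c27_mem : Net.toPerm 324 z_g490 ∈ (grp 324 y_E0) :=
  yt_c27_le (mem_grp_of_memB z_hn z_hk yt_c27_K_ok z_g490_ok (w := (nat_lit 0x30301030301)) (by decide +kernel))

theorem yt_c27_sym : Sym 324 (grp 324 y_E0) [z_g490] yt_c27_K 0 :=
  Sym.of_lab z_hn z_hk (okE_cons.2 ⟨z_g490_ok, okE_nil _⟩) yt_c27_K_ok yt_c27_le (kT := 0) (by decide +kernel)

noncomputable def yt_c27_cnt_L : List ℕ := [1, 4, z_T111_s1_O, 0, 0, 4, 13, z_T111_s61_O, 0, 0, 6, 11, z_T111_s63_O, 0, 0, 8, 17, z_T111_s65_O, 1, 0]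

theorem yt_c27_cnt_P : Prob 324 9 (grp 324 y_E0) yt_c27_cnt_EG [z_g490] [z_g490] yt_c27_K yt_c27_cnt_L 0 0 :=
  Sym.prob z_hn z_hk yt_c27_sym yt_c27_cnt_EG_ok (grp_cons_le z_g39_z_T111 (grp_cons_le zg1_z_T111 (grp_cons_le zg3_z_T111 (grp_cons_le z_g43_z_T111 (grp_cons_le z_g42_z_T111 (grp_cons_le zg2_z_T111 (grp_cons_le z_g44_z_T111 (grp_cons_le z_g54_z_T111 (grp_cons_le z_g55_z_T111 (grp_cons_le z_g49_z_T111 (grp_cons_le z_g50_z_T111 (grp_cons_le z_g51_z_T111 (grp_cons_le z_g62_z_T111 (grp_cons_le z_g58_z_T111 (grp_cons_le z_g59_z_T111 (grp_cons_le z_g65_z_T111 (grp_cons_le z_g66_z_T111 (grp_cons_le z_g67_z_T111 (grp_cons_le z_g77_z_T111 (grp_cons_le z_g78_z_T111 (grp_cons_le z_g72_z_T111 (grp_cons_le z_g73_z_T111 (grp_cons_le z_g74_z_T111 (grp_cons_le z_g81_z_T111 (grp_cons_le z_g82_z_T111 (grp_cons_le z_g87_z_T111 (grp_cons_le zg0_z_T111 (grp_cons_le z_g91_z_T111 (grp_cons_le z_g28_z_T111 (grp_cons_le z_g88_z_T111 (grp_cons_le z_g174_z_T111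 (grp_cons_le z_g175_z_T111 (grp_cons_le z_g176_z_T111 (grp_cons_le z_g177_z_T111 (grp_cons_le z_g30_z_T111 (grp_cons_le z_g178_z_T111 (grp_cons_le z_g126_z_T111 (grp_cons_le z_g127_z_T111 (grp_cons_le z_g128_z_T111 (grp_cons_le z_g129_z_T111 (grp_cons_le z_g130_z_T111 (grp_cons_le z_g131_z_T111 (grp_cons_le z_g132_z_T111 (grp_cons_le z_g133_z_T111 (grp_cons_le z_g134_z_T111 (grp_cons_le z_g135_z_T111 (grp_cons_le z_g437_z_T111 (grp_cons_le z_g438_z_T111 (grp_cons_le z_g297_z_T111 (grp_cons_le z_g248_z_T111 (grp_cons_le z_g247_z_T111 (grp_cons_le z_g436_z_T111 (grp_nil_le _))))))))))))))))))))))))))))))))))))))))))))))))))))) (Frames.cons z_T111_s1_F (Frames.cons z_T111_s61_F (Frames.cons z_T111_s63_F (Frames.cons z_T111_s65_F Frames.nil)))) (okE_cons.2 ⟨z_g490_ok, okE_nil _⟩) _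

noncomputable def yt_c27_cnt_t : BT := (BT.br (nat_lit 2) (nat_lit 0) [nat_lit 1, nat_lit 3] (BT.dead (nat_lit 48) (BT.frm (nat_lit 0) (nat_lit 0) (nat_lit 67611) [nat_lit 0] (BT.pln (nat_lit 0) (nat_lit 1) (BT.img (nat_lit 1) (nat_lit 2) (BT.and (nat_lit 1) (nat_lit 0) (BT.cnt (nat_lit 0)))))) (BT.dead (nat_lit 27) (BT.frm (nat_lit 0) (nat_lit 0) (nat_lit 198702) [nat_lit 0] (BT.pln (nat_lit 0) (nat_lit 2) (BT.img (nat_lit 1) (nat_lit 2) (BT.and (nat_lit 1) (nat_lit 0) (BT.cnt (nat_lit 0)))))) (BT.dead (nat_lit 54) (BT.frm (nat_lit 0) (nat_lit 0) (nat_lit 277) [nat_lit 0] (BT.pln (nat_lit 0) (nat_lit 1) (BT.img (nat_lit 1) (nat_lit 2) (BT.and (nat_lit 1) (nat_lit 0) (BT.cnt (nat_lit 0)))))) (BT.kid (nat_lit 0) (nat_lit 18) (BT.frm (nat_lit 0) (nat_lit 0) (nat_lit 0) [nat_lit 0] (BT.pln (nat_lit 0) (nat_lit 3) (BT.img (nat_lit 1) (nat_lit 0) (BT.img (nat_lit 1) (nat_lit 0) (BT.br (nat_lit 0) (nat_lit 8) [nat_lit 3] (BT.dead (nat_lit 15)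 (BT.img (nat_lit 1) (nat_lit 5) (BT.img (nat_lit 1) (nat_lit 0) (BT.frm (nat_lit 1) (nat_lit 0x3f42494f08) (nat_lit 0x494f08) [nat_lit 2, nat_lit 0, nat_lit 1, nat_lit 7] (BT.pln (nat_lit 0) (nat_lit 6) (BT.img (nat_lit 1) (nat_lit 4) (BT.and (nat_lit 1) (nat_lit 0) (BT.cnt (nat_lit 0)))))))) (BT.kid (nat_lit 8) (nat_lit 3) (BT.pln (nat_lit 4) (nat_lit 1) (BT.img (nat_lit 1) (nat_lit 6) (BT.img (nat_lit 1) (nat_lit 0) (BT.frm (nat_lit 1) (nat_lit 0x3f42494f08) (nat_lit 0x3f42494f08) [nat_lit 3, nat_lit 0, nat_lit 1, nat_lit 8] (BT.pln (nat_lit 0) (nat_lit 6) (BT.dif (nat_lit 8) (nat_lit 0) (BT.pln (nat_lit 2) (nat_lit 8) (BT.and (nat_lit 8) (nat_lit 0) (BT.img (nat_lit 1) (nat_lit 0) (BT.dif (nat_lit 3) (nat_lit 0) (BT.dif (nat_lit 11) (nat_lit 10) (BT.img (nat_lit 1) (nat_lit 1) (BT.and (nat_lit 14) (nat_lit 0) (BT.img (nat_lit 1) (nat_lit 0) (BT.and (nat_lit 3) (nat_lit 0) (BT.frm (nat_lit 2) (nat_lit 0x5d683f42494f08) (nat_lit 0x5d683f42494f08)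 [nat_lit 5, nat_lit 0, nat_lit 15, nat_lit 12, nat_lit 13, nat_lit 20] (BT.pln (nat_lit 0) (nat_lit 6) (BT.dif (nat_lit 16) (nat_lit 0) (BT.and (nat_lit 17) (nat_lit 1) (BT.img (nat_lit 1) (nat_lit 0) (BT.dif (nat_lit 2) (nat_lit 0) (BT.br (nat_lit 0) (nat_lit 35) [nat_lit 5] (BT.dead (nat_lit 97) (BT.and (nat_lit 16) (nat_lit 13) (BT.img (nat_lit 1) (nat_lit 0) (BT.and (nat_lit 26) (nat_lit 0) (BT.frm (nat_lit 3) (nat_lit 0x61635d683f42494f08) (nat_lit 0x6164665d683f42494f08) [nat_lit 3, nat_lit 0, nat_lit 15, nat_lit 10, nat_lit 25, nat_lit 22, nat_lit 23, nat_lit 30] (BT.pln (nat_lit 0) (nat_lit 8) (BT.img (nat_lit 1) (nat_lit 5) (BT.img (nat_lit 1) (nat_lit 0) (BT.and (nat_lit 2) (nat_lit 0) (BT.cnt (nat_lit 0)))))))))) (BT.dead (nat_lit 93) (BT.and (nat_lit 16) (nat_lit 13) (BT.img (nat_lit 1) (nat_lit 0) (BT.and (nat_lit 26) (nat_lit 0) (BT.frm (nat_lit 3) (nat_lit 0x61635d683f42494f08) (nat_lit 0x6163655d683f42494f08) [nat_lit 3,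 nat_lit 0, nat_lit 15, nat_lit 10, nat_lit 25, nat_lit 22, nat_lit 23, nat_lit 30] (BT.pln (nat_lit 0) (nat_lit 9) (BT.img (nat_lit 1) (nat_lit 5) (BT.and (nat_lit 1) (nat_lit 0) (BT.cnt (nat_lit 0))))))))) (BT.dead (nat_lit 89) (BT.and (nat_lit 16) (nat_lit 13) (BT.img (nat_lit 1) (nat_lit 0) (BT.and (nat_lit 26) (nat_lit 0) (BT.frm (nat_lit 3) (nat_lit 0x61635d683f42494f08) (nat_lit 0x64655d683f42494f08) [nat_lit 3, nat_lit 0, nat_lit 15, nat_lit 10, nat_lit 25, nat_lit 22, nat_lit 23, nat_lit 30] (BT.pln (nat_lit 0) (nat_lit 8) (BT.img (nat_lit 1) (nat_lit 5) (BT.and (nat_lit 1) (nat_lit 0) (BT.cnt (nat_lit 0))))))))) (BT.dead (nat_lit 183) (BT.and (nat_lit 16) (nat_lit 13) (BT.img (nat_lit 1) (nat_lit 0) (BT.and (nat_lit 26) (nat_lit 0) (BT.frm (nat_lit 3) (nat_lit 0x61635d683f42494f08) (nat_lit 0x645d683f42494f08) [nat_lit 3, nat_lit 0, nat_lit 15, nat_lit 10, nat_lit 25, nat_lit 22, nat_lit 23, nat_lit 30] (BT.pln (nat_lit 0) (nat_lit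 8) (BT.img (nat_lit 1) (nat_lit 5) (BT.and (nat_lit 1) (nat_lit 0) (BT.cnt (nat_lit 0))))))))) (BT.dead (nat_lit 76) (BT.and (nat_lit 16) (nat_lit 13) (BT.img (nat_lit 1) (nat_lit 0) (BT.and (nat_lit 26) (nat_lit 0) (BT.frm (nat_lit 3) (nat_lit 0x61635d683f42494f08) (nat_lit 0x665d683f42494f08) [nat_lit 3, nat_lit 0, nat_lit 15, nat_lit 10, nat_lit 25, nat_lit 22, nat_lit 23, nat_lit 30] (BT.pln (nat_lit 0) (nat_lit 8) (BT.img (nat_lit 1) (nat_lit 5) (BT.and (nat_lit 1) (nat_lit 0) (BT.cnt (nat_lit 0))))))))) (BT.kid (nat_lit 35) (nat_lit 1) (BT.and (nat_lit 16) (nat_lit 13) (BT.img (nat_lit 1) (nat_lit 0) (BT.and (nat_lit 26) (nat_lit 0) (BT.one (nat_lit 3) (nat_lit 0x61635d683f42494f08) (nat_lit 0x61635d683f42494f08) [nat_lit 3, nat_lit 0, nat_lit 15, nat_lit 10, nat_lit 25, nat_lit 22, nat_lit 23, nat_lit 30])))) BT.nil)))))))))))))))))))))))))))) BT.nil))))))) BT.nil)))))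

theorem yt_c27_cnt : Cnt 324 (grp 324 y_E0) [z_g490] [z_g490] 0 0 0 0 1458 :=
  BT.sound yt_c27_cnt_P Known.nil (t := yt_c27_cnt_t) (d := 0) (by decide +kernel)

theorem yt_c27_ge : 1458 ≤ Nat.card (grp 324 yt_c27_K) :=
  Ch.le_card_grp (k := 9) (L := (lab 324 9)) z_hn yt_c27_K_ok (c := (Ch.cons (nat_lit 0) [nat_lit 1] (Ch.cons (nat_lit 8) [nat_lit 3] (Ch.cons (nat_lit 35) [nat_lit 5] Ch.nil)))) (by decide +kernel)

theorem yt_c27_eq : (grp 324 y_E0) ⊓ Subgroup.centralizer {Net.toPerm 324 z_g490} = grp 324 yt_c27_K :=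
  cent_eq yt_c27_sym yt_c27_cnt yt_c27_ge

theorem yt_c27_card : Nat.card ↥((grp 324 y_E0) ⊓ Subgroup.centralizer {Net.toPerm 324 z_g490}) = 1458 :=
  card_cent yt_c27_sym yt_c27_cnt yt_c27_ge

theorem yt_c27_ord : orderOf (Net.toPerm 324 z_g490) = 3 :=
  orderOf_net z_hn z_hk z_g490_ok (by decide) (ps := [3]) (by set_option linter.unusedSimpArgs false in simp [Nat.primeFactorsList_ofNat]) (by decide +kernel)

theorem z_le501 : grp 324 yt_c28_K ≤ grp 324 y_E0 :=
  grp_le_of_memB z_hn z_hk y_E0_ok yt_c28_K_ok (ws := [nat_lit 0x352f2b1923070a01050f, nat_lit 0x332f25191f070c010d02, nat_lit 0x3435271f19201c0f070a01052b, nat_lit 0x33353c2628192612070c012101, nat_lit 0x35261926070a01050f]) (by decide +kernel)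

theorem yt_c28_le : grp 324 yt_c28_K ≤ (grp 324 y_E0) :=
  (z_le501.trans z_T111_s0.le)

theorem yt_c28_mem : Net.toPerm 324 z_g495 ∈ (grp 324 y_E0) :=
  yt_c28_le (mem_grp_of_memB z_hn z_hk yt_c28_K_ok z_g495_ok (w := (nat_lit 0x9050705010601)) (by decide +kernel))

theorem yt_c28_sym : Sym 324 (grp 324 y_E0) [z_g495] yt_c28_K 0 :=
  Sym.of_lab z_hn z_hk (okE_cons.2 ⟨z_g495_ok, okE_nil _⟩) yt_c28_K_ok yt_c28_le (kT := 0) (by decide +kernel)

noncomputable def yt_c28_cnt_L : List ℕ := [1, 4, z_T111_s1_O, 0, 0, 3, 8, z_T111_s13_O, 0, 0, 5, 10, z_T111_s15_O, 0, 0, 7, 14, z_T111_s17_O, 0, 0, 8, 15, z_T111_s18_O, 0, 0, 9, 18, z_T111_s19_O, 1, 0]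

theorem yt_c28_cnt_P : Prob 324 9 (grp 324 y_E0) yt_c28_cnt_EG [z_g495] [z_g495] yt_c28_K yt_c28_cnt_L 0 0 :=
  Sym.prob z_hn z_hk yt_c28_sym yt_c28_cnt_EG_ok (grp_cons_le z_g39_z_T111 (grp_cons_le zg1_z_T111 (grp_cons_le zg3_z_T111 (grp_cons_le z_g43_z_T111 (grp_cons_le z_g42_z_T111 (grp_cons_le zg2_z_T111 (grp_cons_le z_g44_z_T111 (grp_cons_le z_g54_z_T111 (grp_cons_le z_g55_z_T111 (grp_cons_le z_g49_z_T111 (grp_cons_le z_g50_z_T111 (grp_cons_le z_g51_z_T111 (grp_cons_le z_g62_z_T111 (grp_cons_le z_g58_z_T111 (grp_cons_le z_g59_z_T111 (grp_cons_le z_g65_z_T111 (grp_cons_le z_g66_z_T111 (grp_cons_le z_g67_z_T111 (grp_cons_le z_g77_z_T111 (grp_cons_le z_g78_z_T111 (grp_cons_le z_g72_z_T111 (grp_cons_le z_g73_z_T111 (grp_cons_le z_g74_z_T111 (grp_cons_le z_g81_z_T111 (grp_cons_le z_g82_z_T111 (grp_cons_le z_g87_z_T111 (grp_cons_le zg0_z_T111 (grp_cons_le z_g91_z_T111 (grp_cons_le z_g28_z_T111 (grp_cons_le z_g88_z_T111 (grp_cons_le z_g126_z_T111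 (grp_cons_le z_g127_z_T111 (grp_cons_le z_g128_z_T111 (grp_cons_le z_g129_z_T111 (grp_cons_le z_g130_z_T111 (grp_cons_le z_g131_z_T111 (grp_cons_le z_g132_z_T111 (grp_cons_le z_g133_z_T111 (grp_cons_le z_g134_z_T111 (grp_cons_le z_g135_z_T111 (grp_cons_le z_g175_z_T111 (grp_cons_le z_g176_z_T111 (grp_cons_le z_g177_z_T111 (grp_cons_le z_g30_z_T111 (grp_cons_le z_g178_z_T111 (grp_cons_le z_g174_z_T111 (grp_nil_le _))))))))))))))))))))))))))))))))))))))))))))))) (Frames.cons z_T111_s1_F (Frames.cons z_T111_s13_F (Frames.cons z_T111_s15_F (Frames.cons z_T111_s17_F (Frames.cons z_T111_s18_F (Frames.cons z_T111_s19_F Frames.nil)))))) (okE_cons.2 ⟨z_g495_ok, okE_nil _⟩) _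

noncomputable def yt_c28_cnt_t : BT := (BT.fix (nat_lit 257) (BT.fix (nat_lit 1) (BT.dif (nat_lit 1) (nat_lit 0) (BT.br (nat_lit 0) (nat_lit 53) [nat_lit 1, nat_lit 3] (BT.kid (nat_lit 53) (nat_lit 96) (BT.frm (nat_lit 0) (nat_lit 68101) (nat_lit 68101) [nat_lit 0] (BT.pln (nat_lit 0) (nat_lit 2) (BT.and (nat_lit 5) (nat_lit 0) (BT.img (nat_lit 1) (nat_lit 3) (BT.dif (nat_lit 1) (nat_lit 0) (BT.br (nat_lit 0) (nat_lit 170) [nat_lit 3] (BT.kid (nat_lit 170) (nat_lit 48) (BT.frm (nat_lit 1) (nat_lit 0x4220010a05) (nat_lit 0x4220010a05) [nat_lit 0, nat_lit 2, nat_lit 6] (BT.pln (nat_lit 0) (nat_lit 6) (BT.and (nat_lit 6) (nat_lit 0) (BT.br (nat_lit 0) (nat_lit 284) [nat_lit 5, nat_lit 7] (BT.kid (nat_lit 284) (nat_lit 6) (BT.pln (nat_lit 9) (nat_lit 3) (BT.and (nat_lit 9) (nat_lit 14) (BT.dif (nat_lit 0) (nat_lit 6) (BT.dif (nat_lit 0) (nat_lit 9) (BT.frm (nat_lit 2) (nat_lit 0x51545c524220010a05) (nat_lit 0x51545c524220010a05) [nat_lit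 4, nat_lit 0, nat_lit 8, nat_lit 10, nat_lit 14] (BT.pln (nat_lit 0) (nat_lit 7) (BT.dif (nat_lit 5) (nat_lit 0) (BT.br (nat_lit 0) (nat_lit 173) [nat_lit 7] (BT.kid (nat_lit 173) (nat_lit 3) (BT.dif (nat_lit 24) (nat_lit 2) (BT.pln (nat_lit 4) (nat_lit 8) (BT.and (nat_lit 1) (nat_lit 0) (BT.pln (nat_lit 6) (nat_lit 5) (BT.dif (nat_lit 1) (nat_lit 0) (BT.pln (nat_lit 8) (nat_lit 6) (BT.dif (nat_lit 1) (nat_lit 0) (BT.img (nat_lit 1) (nat_lit 15) (BT.frm (nat_lit 3) (nat_lit 0x5351545c524220010a05) (nat_lit 0x5351545c524220010a05) [nat_lit 8, nat_lit 0, nat_lit 16, nat_lit 12, nat_lit 20, nat_lit 22, nat_lit 26] (BT.pln (nat_lit 0) (nat_lit 9) (BT.and (nat_lit 3) (nat_lit 0) (BT.img (nat_lit 1) (nat_lit 11) (BT.frm (nat_lit 4) (nat_lit 0x575351545c524220010a05) (nat_lit 0x575351545c524220010a05) [nat_lit 0, nat_lit 12, nat_lit 4, nat_lit 20, nat_lit 16, nat_lit 24, nat_lit 26, nat_lit 30] (BT.pln (nat_lit 0) (nat_lit 9) (BT.and (nat_lit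 3) (nat_lit 0) (BT.br (nat_lit 0) (nat_lit 19) [nat_lit 9] (BT.kid (nat_lit 19) (nat_lit 1) (BT.one (nat_lit 5) (nat_lit 0x5a575351545c524220010a05) (nat_lit 0x5a575351545c524220010a05) [nat_lit 0, nat_lit 4, nat_lit 16, nat_lit 8, nat_lit 24, nat_lit 20, nat_lit 28, nat_lit 30, nat_lit 34]) BT.nil))))))))))))))))) BT.nil))))))))) BT.nil))))) BT.nil))))))) BT.nil)))))

theorem yt_c28_cnt : Cnt 324 (grp 324 y_E0) [z_g495] [z_g495] 0 0 0 0 2304 :=
  BT.sound yt_c28_cnt_P Known.nil (t := yt_c28_cnt_t) (d := 0) (by decide +kernel)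

theorem yt_c28_ge : 2304 ≤ Nat.card (grp 324 yt_c28_K) :=
  Ch.le_card_grp (k := 9) (L := (lab 324 9)) z_hn yt_c28_K_ok (c := (Ch.cons (nat_lit 53) [nat_lit 1] (Ch.cons (nat_lit 170) [nat_lit 3] (Ch.cons (nat_lit 284) [nat_lit 5] (Ch.cons (nat_lit 173) [nat_lit 7] (Ch.cons (nat_lit 19) [nat_lit 9] Ch.nil)))))) (by decide +kernel)

theorem yt_c28_eq : (grp 324 y_E0) ⊓ Subgroup.centralizer {Net.toPerm 324 z_g495} = grp 324 yt_c28_K :=
  cent_eq yt_c28_sym yt_c28_cnt yt_c28_ge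

theorem yt_c28_card : Nat.card ↥((grp 324 y_E0) ⊓ Subgroup.centralizer {Net.toPerm 324 z_g495}) = 2304 :=
  card_cent yt_c28_sym yt_c28_cnt yt_c28_ge

theorem yt_c28_ord : orderOf (Net.toPerm 324 z_g495) = 4 :=
  orderOf_net z_hn z_hk z_g495_ok (by decide) (ps := [2]) (by set_option linter.unusedSimpArgs false in simp [Nat.primeFactorsList_ofNat]) (by decide +kernel)

theorem z_le508 : grp 324 yt_c29_K ≤ grp 324 y_E0 :=
  grp_le_of_memB z_hn z_hk y_E0_ok yt_c29_K_ok (ws := [nat_lit 0x1f191c15070a050212, nat_lit 0x392f29191912070a010511, nat_lit 0x353c251f19261208021202, nat_lit 0x33353c2f26281f1c150707010f01, nat_lit 0x3c291f191912070c]) (by decide +kernel)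

theorem yt_c29_le : grp 324 yt_c29_K ≤ (grp 324 y_E0) :=
  (z_le508.trans z_T111_s0.le)

theorem yt_c29_mem : Net.toPerm 324 z_g502 ∈ (grp 324 y_E0) :=
  yt_c29_le (mem_grp_of_memB z_hn z_hk yt_c29_K_ok z_g502_ok (w := (nat_lit 65793)) (by decide +kernel))

theorem yt_c29_sym : Sym 324 (grp 324 y_E0) [z_g502] yt_c29_K 0 :=
  Sym.of_lab z_hn z_hk (okE_cons.2 ⟨z_g502_ok, okE_nil _⟩) yt_c29_K_ok yt_c29_le (kT := 0) (by decide +kernel)

noncomputable def yt_c29_cnt_L : List ℕ := [1, 4, z_T111_s1_O, 0, 0, 2, 6, z_T111_s2_O, 0, 0, 3, 8, z_T111_s13_O, 0, 0, 5, 10, z_T111_s15_O, 0, 0, 7, 14, z_T111_s17_O, 0, 0, 8, 15, z_T111_s18_O, 0, 0, 9, 18, z_T111_s19_O, 1, 0]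

theorem yt_c29_cnt_P : Prob 324 9 (grp 324 y_E0) yt_c29_cnt_EG [z_g502] [z_g502] yt_c29_K yt_c29_cnt_L 0 0 :=
  Sym.prob z_hn z_hk yt_c29_sym yt_c29_cnt_EG_ok (grp_cons_le z_g39_z_T111 (grp_cons_le zg1_z_T111 (grp_cons_le zg3_z_T111 (grp_cons_le z_g43_z_T111 (grp_cons_le z_g42_z_T111 (grp_cons_le zg2_z_T111 (grp_cons_le z_g44_z_T111 (grp_cons_le z_g54_z_T111 (grp_cons_le z_g55_z_T111 (grp_cons_le z_g49_z_T111 (grp_cons_le z_g50_z_T111 (grp_cons_le z_g51_z_T111 (grp_cons_le z_g62_z_T111 (grp_cons_le z_g58_z_T111 (grp_cons_le z_g59_z_T111 (grp_cons_le z_g65_z_T111 (grp_cons_le z_g66_z_T111 (grp_cons_le z_g67_z_T111 (grp_cons_le z_g77_z_T111 (grp_cons_le z_g78_z_T111 (grp_cons_le z_g72_z_T111 (grp_cons_le z_g73_z_T111 (grp_cons_le z_g74_z_T111 (grp_cons_le z_g81_z_T111 (grp_cons_le z_g82_z_T111 (grp_cons_le z_g87_z_T111 (grp_cons_le zg0_z_T111 (grp_cons_le z_g91_z_T111 (grp_cons_le z_g28_z_T111 (grp_cons_le z_g88_z_T111 (grp_cons_le z_g126_z_T111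 (grp_cons_le z_g127_z_T111 (grp_cons_le z_g128_z_T111 (grp_cons_le z_g129_z_T111 (grp_cons_le z_g130_z_T111 (grp_cons_le z_g131_z_T111 (grp_cons_le z_g132_z_T111 (grp_cons_le z_g133_z_T111 (grp_cons_le z_g134_z_T111 (grp_cons_le z_g135_z_T111 (grp_cons_le z_g175_z_T111 (grp_cons_le z_g176_z_T111 (grp_cons_le z_g177_z_T111 (grp_cons_le z_g30_z_T111 (grp_cons_le z_g178_z_T111 (grp_cons_le z_g174_z_T111 (grp_nil_le _))))))))))))))))))))))))))))))))))))))))))))))) (Frames.cons z_T111_s1_F (Frames.cons z_T111_s2_F (Frames.cons z_T111_s13_F (Frames.cons z_T111_s15_F (Frames.cons z_T111_s17_F (Frames.cons z_T111_s18_F (Frames.cons z_T111_s19_F Frames.nil))))))) (okE_cons.2 ⟨z_g502_ok, okE_nil _⟩) _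

noncomputable def yt_c29_cnt_t : BT := (BT.fix (nat_lit 257) (BT.br (nat_lit 0) (nat_lit 28) [nat_lit 1, nat_lit 5] (BT.dead (nat_lit 89) (BT.frm (nat_lit 0) (nat_lit 68869) (nat_lit 66823) [nat_lit 0] (BT.pln (nat_lit 0) (nat_lit 2) (BT.and (nat_lit 0) (nat_lit 3) (BT.cnt (nat_lit 0))))) (BT.kid (nat_lit 28) (nat_lit 96) (BT.img (nat_lit 1) (nat_lit 0) (BT.frm (nat_lit 1) (nat_lit 0x19010d05) (nat_lit 0x19010d05) [nat_lit 0, nat_lit 1] (BT.pln (nat_lit 0) (nat_lit 3) (BT.and (nat_lit 4) (nat_lit 0) (BT.br (nat_lit 0) (nat_lit 89) [nat_lit 3] (BT.kid (nat_lit 89) (nat_lit 48) (BT.frm (nat_lit 2) (nat_lit 0x404119010d05) (nat_lit 0x404119010d05) [nat_lit 0, nat_lit 4, nat_lit 5] (BT.pln (nat_lit 0) (nat_lit 6) (BT.and (nat_lit 4) (nat_lit 0) (BT.br (nat_lit 0) (nat_lit 76) [nat_lit 5, nat_lit 7] (BT.kid (nat_lit 76) (nat_lit 6) (BT.frm (nat_lit 0) (nat_lit 68869) (nat_lit 68869) [nat_lit 9] (BT.pln (nat_lit 0) (nat_lit 3) (BT.and (nat_lit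 12) (nat_lit 0) (BT.pln (nat_lit 6) (nat_lit 4) (BT.and (nat_lit 14) (nat_lit 0) (BT.frm (nat_lit 3) (nat_lit 0x525b51404119010d05) (nat_lit 0x525b51404119010d05) [nat_lit 5, nat_lit 0, nat_lit 9, nat_lit 13, nat_lit 14] (BT.pln (nat_lit 0) (nat_lit 7) (BT.dif (nat_lit 4) (nat_lit 0) (BT.br (nat_lit 0) (nat_lit 39) [nat_lit 7] (BT.kid (nat_lit 39) (nat_lit 3) (BT.dif (nat_lit 22) (nat_lit 2) (BT.pln (nat_lit 4) (nat_lit 8) (BT.and (nat_lit 1) (nat_lit 0) (BT.pln (nat_lit 6) (nat_lit 5) (BT.dif (nat_lit 1) (nat_lit 0) (BT.pln (nat_lit 8) (nat_lit 6) (BT.dif (nat_lit 1) (nat_lit 0) (BT.img (nat_lit 1) (nat_lit 16) (BT.frm (nat_lit 4) (nat_lit 0x525b51404119010d05) (nat_lit 0x525b51404119010d05) [nat_lit 8, nat_lit 0, nat_lit 17, nat_lit 12, nat_lit 21, nat_lit 25, nat_lit 26] (BT.pln (nat_lit 0) (nat_lit 9) (BT.and (nat_lit 3) (nat_lit 0) (BT.img (nat_lit 1) (nat_lit 11) (BT.frm (nat_lit 5) (nat_lit 0x57525b51404119010d05) (nat_lit 0x57525b51404119010d05)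 [nat_lit 0, nat_lit 12, nat_lit 4, nat_lit 21, nat_lit 16, nat_lit 25, nat_lit 29, nat_lit 30] (BT.pln (nat_lit 0) (nat_lit 9) (BT.and (nat_lit 3) (nat_lit 0) (BT.br (nat_lit 0) (nat_lit 110) [nat_lit 9] (BT.kid (nat_lit 110) (nat_lit 1) (BT.one (nat_lit 6) (nat_lit 0x5a57525b51404119010d05) (nat_lit 0x5a57525b51404119010d05) [nat_lit 0, nat_lit 4, nat_lit 16, nat_lit 8, nat_lit 25, nat_lit 20, nat_lit 29, nat_lit 33, nat_lit 34]) BT.nil))))))))))))))))) BT.nil)))))))))) BT.nil))))) BT.nil)))))) BT.nil))))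

theorem yt_c29_cnt : Cnt 324 (grp 324 y_E0) [z_g502] [z_g502] 0 0 0 0 1728 :=
  BT.sound yt_c29_cnt_P Known.nil (t := yt_c29_cnt_t) (d := 0) (by decide +kernel)

theorem yt_c29_ge : 1728 ≤ Nat.card (grp 324 yt_c29_K) :=
  Ch.le_card_grp (k := 9) (L := (lab 324 9)) z_hn yt_c29_K_ok (c := (Ch.cons (nat_lit 28) [nat_lit 1] (Ch.cons (nat_lit 89) [nat_lit 3] (Ch.cons (nat_lit 76) [nat_lit 5] (Ch.cons (nat_lit 39) [nat_lit 7] (Ch.cons (nat_lit 110) [nat_lit 9] Ch.nil)))))) (by decide +kernel)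

theorem yt_c29_eq : (grp 324 y_E0) ⊓ Subgroup.centralizer {Net.toPerm 324 z_g502} = grp 324 yt_c29_K :=
  cent_eq yt_c29_sym yt_c29_cnt yt_c29_ge

theorem yt_c29_card : Nat.card ↥((grp 324 y_E0) ⊓ Subgroup.centralizer {Net.toPerm 324 z_g502}) = 1728 :=
  card_cent yt_c29_sym yt_c29_cnt yt_c29_ge

theorem yt_c29_ord : orderOf (Net.toPerm 324 z_g502) = 4 :=
  orderOf_net z_hn z_hk z_g502_ok (by decide) (ps := [2]) (by set_option linter.unusedSimpArgs false in simp [Nat.primeFactorsList_ofNat]) (by decide +kernel)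

theorem z_le516 : grp 324 yt_c30_K ≤ grp 324 y_E0 :=
  grp_le_of_memB z_hn z_hk y_E0_ok yt_c30_K_ok (ws := [nat_lit 0x3c27191b1b053c, nat_lit 0x382f25281f12070701010e, nat_lit 0x3b2f261f191912070c010d02, nat_lit 0x34352f29191b12070a030b, nat_lit 0x332b19191509021c02, nat_lit 0x372f291f191f0f120707030707]) (by decide +kernel)

theorem yt_c30_le : grp 324 yt_c30_K ≤ (grp 324 y_E0) :=
  (z_le516.trans z_T111_s0.le)

theorem yt_c30_mem : Net.toPerm 324 z_g509 ∈ (grp 324 y_E0) :=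
  yt_c30_le (mem_grp_of_memB z_hn z_hk yt_c30_K_ok z_g509_ok (w := (nat_lit 0x709010404)) (by decide +kernel))

theorem yt_c30_sym : Sym 324 (grp 324 y_E0) [z_g509] yt_c30_K 0 :=
  Sym.of_lab z_hn z_hk (okE_cons.2 ⟨z_g509_ok, okE_nil _⟩) yt_c30_K_ok yt_c30_le (kT := 0) (by decide +kernel)

theorem z_le518 : grp 324 z_V517 ≤ grp 324 z_V183 :=
  grp_le_of_memB z_hn z_hk z_V183_ok z_V517_ok (ws := [nat_lit 3, nat_lit 328449]) (by decide +kernel)

theorem z_T111_s74 : Stab 324 (grp 324 y_E0) [nat_lit 1, nat_lit 12, nat_lit 21, nat_lit 10, nat_lit 26, nat_lit 298, nat_lit 0] z_V517 4 :=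
  Stab.step (k := 9) (L := (lab 324 9)) z_hn z_T111_s16 z_V517_ok z_le518 (c := (Ch.cons (nat_lit 27) [nat_lit 1] (Ch.cons (nat_lit 209) [nat_lit 3] Ch.nil))) (by decide +kernel)

theorem z_T111_s75 : Stab 324 (grp 324 y_E0) [nat_lit 27, nat_lit 1, nat_lit 12, nat_lit 21, nat_lit 10, nat_lit 26, nat_lit 298, nat_lit 0] z_V519 2 :=
  Stab.step (k := 9) (L := (lab 324 9)) z_hn z_T111_s74 z_V519_ok (grp_mono (List.subset_append_right [z_g30] _)) (c := (Ch.cons (nat_lit 209) [nat_lit 1] Ch.nil)) (by decide +kernel)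

theorem z_T111_s76 : Stab 324 (grp 324 y_E0) [nat_lit 209, nat_lit 27, nat_lit 1, nat_lit 12, nat_lit 21, nat_lit 10, nat_lit 26, nat_lit 298, nat_lit 0] z_V520 1 :=
  Stab.step (k := 9) (L := (lab 324 9)) z_hn z_T111_s75 z_V520_ok (grp_mono (List.subset_append_right [z_g310] _)) (c := Ch.nil) (by decide +kernel)

noncomputable def z_T111_s76_O : ℕ := (nat_lit 0xfffffffffffffffff000000000000000000000000000000000000000000000000000000000000000000000000000000000ffffffffffffffffffffffffffffffff00000000000000000000000000000000f0000000000000000ffffffffffffffff0000000000000000ffffffffffffffff00000000000000000ffffffff00000000ffffffff00000000ffffffff00000000ffffffff00000000ffffffff000000000ffff0000ffff0000ffff0000ffff0000ffff0000ffff0000ffff0000ffff0000ffff0000ffff00000ff00ff00ff00ff00ff00ff00ff00ff00ff00ff00ff00ff00ff00ff00ff00ff00ff00ff00ff00ff000f0f0f0f0f0f0f0f0f0f0f0f0f0f0f0f0f0f0f0f0f0f0f0f0f0f0f0f0f0f0f0f0f0f0f0f0f0f0f0f0ccccccccccccccc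ccccccccccccccccccccccccccccccccccccccccccccccccccccccccccccccccccaaaaaaaaaaaaaaaaaaaaaaaaaaaaaaaaaaaaaaaaaaaaaaaaaaaaaaaaaaaaaaaaaaaaaaaaaaaaaaaaa000000000000000000000000000000000000000000000000000000000000000000000000000000001000000400000000000000000000000000000000000000000000000000000000000000000000000000000000000000000000000000000000000000000000000000000000000000000000000000004000000000000000000000000000000000000000000000000000000000000000000000000000000000000400000000000000000000000000000000000000000000000000000000000000000000000000000200000000000000000000000000000000000000000000000000000000000000000000000000000000001000000000000000000000000000000000000000000000000000000000000000000000000000000000002000000000000000000000000000000000000000000000000000000000000000000000000008000000000000000000000000000000000020000000000000000000000000000000000000000000000000000)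

theorem z_T111_s76_F : Frame 324 (grp 324 y_E0) 9 18 z_T111_s76_O 1 1 :=
  IsBase.frame z_T111_s76.isBase (by decide +kernel)

noncomputable def z_T111_s75_O : ℕ := (nat_lit 0x43162826f6588171141450bed82000000000000000040000000000000001040200000000003ddc1480881d79809061e8aa9ca2f4103ddfbe344718ffffdfbf71ff79dffea00000000000000000000000003448500008a37e8ceb62265141f3c7af45738fffdf7e08e008420001ddbffffbffc00000002000000c37c07316804260e01e3a70021ddb3df5f799b800201df7e77b20005dddefb04003fdfb0001ddc148a8a208871b7d27d736fa864124d56365c942647fb001b73e886ff811fdf000f9c03fe04ff01dd8000bcc3f417184607f40b8472f840b95e4625bfb45c2fc5bea07c2d8795ba4ea0f43c3c1e4f0f1d0414843f91e1495cc5d2719cc5712c3906db18e3e6e730e31a0f96b6e6665e76d1cc93333198ccc18c63a0d1ac613a98dd14c3cf2c459734e9cdead3a1294aaba91135dae9555d568b92aeaaaa952aaa14b6250000000000000000000000000000000000000000000000000000000000000000000000000000000001000000400000000000000000000000000000000000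000000000000000000000000000000000000000000000000000000000000000000000000000000000000000000000000000000000000000004000000000000000000000000000000000000000000000000000000000000000000000000000000000000400000000000000000000000000000000000000000000000000000000000000000000000000000200000000000000000000000000000000000000000000000000000000000000000000000000000000001000000000000000000000000000000000000000000000000000000000000000000000000000000000002000000000000000000000000000000000000000000000000000000000000000000000000008000000)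

theorem z_T111_s75_F : Frame 324 (grp 324 y_E0) 8 16 z_T111_s75_O 0 1 :=
  Stab.frame z_hn z_T111_s75 (by decide +kernel)

noncomputable def z_T111_s74_O : ℕ := (nat_lit 0x2124000800884912040027a48f080814000090c1104000000000000000104020000000000bdfebfc69c99f841f54192e9ebc5d0083053960051006b36e3bff7faf9dfee3d48c38b000000000000000000dda427bb6fb77a404c946581a00f576000008473e8f3d786f7f9b90800528008fffe8000003ddc1485501a41660b71b4c84a18c9552243f6e151914b3c07fb68b644606f6fda3c70ffe005e3600bd22ab402ddbb2ee23d5b695cda93be567a8e45c24a65b12e35f80113ff46ec096d344fe1f05d49e0a0d800098413b1f851df1c5dd438dfa892c299392611a2d4eab27ee5bc6a70f833f8c89998c73f19818c63a08ca6b6281a7ad2b1ae909ebc59714b32479f565a1ee8afc5a16c95ca302ae96b552a6bc55614b6250000000000000000000000000000000000000000000000000000000000000000000000000000000001000000400000000000000000000000000000000000000000000000000000000000000000000000000000000000000000000000000000000000000000000000000000000000000000000000000004000000000000000000000000000000000000000000000000000000000000000000000000000000000000400000000000000000000000000000000000000000000000000000000000000000000000000000200000000000000000000000000000000000000000000000000000000000000000000000000000000001000000000000000000000000000000000000000000000000000000000000000000000000000000000002)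

theorem z_T111_s74_F : Frame 324 (grp 324 y_E0) 7 14 z_T111_s74_O 0 1 :=
  Stab.frame z_hn z_T111_s74 (by decide +kernel)

noncomputable def yt_c30_cnt_L : List ℕ := [1, 4, z_T111_s1_O, 0, 0, 3, 8, z_T111_s13_O, 0, 0, 5, 10, z_T111_s15_O, 0, 0, 7, 14, z_T111_s74_O, 0, 0, 8, 16, z_T111_s75_O, 0, 0, 9, 18, z_T111_s76_O, 1, 0]

theorem yt_c30_cnt_P : Prob 324 9 (grp 324 y_E0) yt_c30_cnt_EG [z_g509] [z_g509] yt_c30_K yt_c30_cnt_L 0 0 :=
  Sym.prob z_hn z_hk yt_c30_sym yt_c30_cnt_EG_ok (grp_cons_le z_g39_z_T111 (grp_cons_le zg1_z_T111 (grp_cons_le zg3_z_T111 (grp_cons_le z_g43_z_T111 (grp_cons_le z_g42_z_T111 (grp_cons_le zg2_z_T111 (grp_cons_le z_g44_z_T111 (grp_cons_le z_g54_z_T111 (grp_cons_le z_g55_z_T111 (grp_cons_le z_g49_z_T111 (grp_cons_le z_g50_z_T111 (grp_cons_le z_g51_z_T111 (grp_cons_le z_g62_z_T111 (grp_cons_le z_g58_z_T111 (grp_cons_le z_g59_z_T111 (grp_cons_le z_g65_z_T111 (grp_cons_le z_g66_z_T111 (grp_cons_le z_g67_z_T111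 (grp_cons_le z_g77_z_T111 (grp_cons_le z_g78_z_T111 (grp_cons_le z_g72_z_T111 (grp_cons_le z_g73_z_T111 (grp_cons_le z_g74_z_T111 (grp_cons_le z_g81_z_T111 (grp_cons_le z_g82_z_T111 (grp_cons_le z_g87_z_T111 (grp_cons_le zg0_z_T111 (grp_cons_le z_g91_z_T111 (grp_cons_le z_g28_z_T111 (grp_cons_le z_g88_z_T111 (grp_cons_le z_g126_z_T111 (grp_cons_le z_g127_z_T111 (grp_cons_le z_g128_z_T111 (grp_cons_le z_g129_z_T111 (grp_cons_le z_g130_z_T111 (grp_cons_le z_g131_z_T111 (grp_cons_le z_g132_z_T111 (grp_cons_le z_g133_z_T111 (grp_cons_le z_g134_z_T111 (grp_cons_le z_g135_z_T111 (grp_cons_le z_g175_z_T111 (grp_cons_le z_g176_z_T111 (grp_cons_le z_g177_z_T111 (grp_cons_le z_g30_z_T111 (grp_cons_le z_g178_z_T111 (grp_cons_le z_g174_z_T111 (grp_cons_le z_g310_z_T111 (grp_nil_le _)))))))))))))))))))))))))))))))))))))))))))))))) (Frames.cons z_T111_s1_F (Frames.cons z_T111_s13_F (Frames.cons z_T111_s15_F (Frames.cons z_T111_s74_F (Frames.cons z_T111_s75_F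 (Frames.cons z_T111_s76_F Frames.nil)))))) (okE_cons.2 ⟨z_g509_ok, okE_nil _⟩) _

noncomputable def yt_c30_cnt_t : BT := (BT.fix (nat_lit 257) (BT.fix (nat_lit 1) (BT.dif (nat_lit 1) (nat_lit 0) (BT.br (nat_lit 0) (nat_lit 31) [nat_lit 1, nat_lit 3] (BT.kid (nat_lit 31) (nat_lit 32) (BT.frm (nat_lit 0) (nat_lit 328208) (nat_lit 328208) [nat_lit 0] (BT.pln (nat_lit 0) (nat_lit 2) (BT.and (nat_lit 5) (nat_lit 0) (BT.img (nat_lit 1) (nat_lit 3) (BT.dif (nat_lit 1) (nat_lit 0) (BT.br (nat_lit 0) (nat_lit 52) [nat_lit 5] (BT.kid (nat_lit 52) (nat_lit 16) (BT.frm (nat_lit 1) (nat_lit 0x3d4007050210) (nat_lit 0x3d4007050210) [nat_lit 0, nat_lit 2, nat_lit 6] (BT.pln (nat_lit 0) (nat_lit 6) (BT.and (nat_lit 6) (nat_lit 0) (BT.br (nat_lit 0) (nat_lit 41) [nat_lit 7, nat_lit 9] (BT.kid (nat_lit 41) (nat_lit 2) (BT.pln (nat_lit 9) (nat_lit 3) (BT.img (nat_lit 1) (nat_lit 0) (BT.and (nat_lit 10) (nat_lit 0) (BT.and (nat_lit 11) (nat_lit 16) (BT.dif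 (nat_lit 0) (nat_lit 8) (BT.dif (nat_lit 0) (nat_lit 11) (BT.frm (nat_lit 2) (nat_lit 0x51535b523d4007050210) (nat_lit 0x51535b523d4007050210) [nat_lit 6, nat_lit 0, nat_lit 10, nat_lit 12, nat_lit 16] (BT.pln (nat_lit 0) (nat_lit 5) (BT.dif (nat_lit 5) (nat_lit 0) (BT.img (nat_lit 1) (nat_lit 9) (BT.pln (nat_lit 13) (nat_lit 4) (BT.and (nat_lit 19) (nat_lit 0) (BT.dif (nat_lit 0) (nat_lit 2) (BT.pln (nat_lit 6) (nat_lit 9) (BT.and (nat_lit 1) (nat_lit 0) (BT.dif (nat_lit 16) (nat_lit 15) (BT.img (nat_lit 1) (nat_lit 6) (BT.dif (nat_lit 1) (nat_lit 0) (BT.dif (nat_lit 0) (nat_lit 10) (BT.and (nat_lit 7) (nat_lit 5) (BT.img (nat_lit 1) (nat_lit 0) (BT.and (nat_lit 2) (nat_lit 0) (BT.img (nat_lit 1) (nat_lit 0) (BT.and (nat_lit 8) (nat_lit 0) (BT.frm (nat_lit 3) (nat_lit 0x5651535b523d4007050210) (nat_lit 0x5651535b523d4007050210) [nat_lit 14, nat_lit 0, nat_lit 24, nat_lit 18, nat_lit 28, nat_lit 30, nat_lit 34] (BT.pln (nat_lit 0) (nat_lit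 8) (BT.dif (nat_lit 17) (nat_lit 0) (BT.br (nat_lit 0) (nat_lit 252) [nat_lit 11] (BT.kid (nat_lit 252) (nat_lit 1) (BT.pln (nat_lit 37) (nat_lit 1) (BT.dif (nat_lit 45) (nat_lit 0) (BT.dif (nat_lit 0) (nat_lit 38) (BT.pln (nat_lit 24) (nat_lit 8) (BT.and (nat_lit 1) (nat_lit 0) (BT.dif (nat_lit 0) (nat_lit 25) (BT.pln (nat_lit 27) (nat_lit 6) (BT.dif (nat_lit 1) (nat_lit 0) (BT.pln (nat_lit 11) (nat_lit 10) (BT.and (nat_lit 1) (nat_lit 0) (BT.pln (nat_lit 13) (nat_lit 7) (BT.dif (nat_lit 1) (nat_lit 0) (BT.frm (nat_lit 4) (nat_lit 0x575651535b523d4007050210) (nat_lit 0x575651535b523d4007050210) [nat_lit 12, nat_lit 30, nat_lit 16, nat_lit 40, nat_lit 34, nat_lit 44, nat_lit 46, nat_lit 50] (BT.pln (nat_lit 0) (nat_lit 10) (BT.dif (nat_lit 2) (nat_lit 0) (BT.dif (nat_lit 12) (nat_lit 56) (BT.dif (nat_lit 0) (nat_lit 43) (BT.and (nat_lit 0) (nat_lit 10) (BT.pln (nat_lit 39) (nat_lit 7) (BT.dif (nat_lit 1) (nat_lit 0) (BT.dif (nat_lit 0)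 (nat_lit 16) (BT.pln (nat_lit 8) (nat_lit 15) (BT.and (nat_lit 1) (nat_lit 0) (BT.dif (nat_lit 0) (nat_lit 9) (BT.dif (nat_lit 3) (nat_lit 15) (BT.dif (nat_lit 0) (nat_lit 14) (BT.and (nat_lit 0) (nat_lit 12) (BT.img (nat_lit 1) (nat_lit 0) (BT.and (nat_lit 4) (nat_lit 0) (BT.img (nat_lit 1) (nat_lit 0) (BT.and (nat_lit 15) (nat_lit 0) (BT.one (nat_lit 5) (nat_lit 0x5d575651535b523d4007050210) (nat_lit 0x5d575651535b523d4007050210) [nat_lit 0, nat_lit 31, nat_lit 49, nat_lit 35, nat_lit 59, nat_lit 53, nat_lit 63, nat_lit 65, nat_lit 69])))))))))))))))))))))))))))))))) BT.nil))))))))))))))))))))))))))))) BT.nil))))) BT.nil))))))) BT.nil)))))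

theorem yt_c30_cnt : Cnt 324 (grp 324 y_E0) [z_g509] [z_g509] 0 0 0 0 768 :=
  BT.sound yt_c30_cnt_P Known.nil (t := yt_c30_cnt_t) (d := 0) (by decide +kernel)

theorem yt_c30_ge : 768 ≤ Nat.card (grp 324 yt_c30_K) :=
  Ch.le_card_grp (k := 9) (L := (lab 324 9)) z_hn yt_c30_K_ok (c := (Ch.cons (nat_lit 31) [nat_lit 1, nat_lit 3] (Ch.cons (nat_lit 52) [nat_lit 5] (Ch.cons (nat_lit 41) [nat_lit 7, nat_lit 9] (Ch.cons (nat_lit 252) [nat_lit 11] Ch.nil))))) (by decide +kernel)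

theorem yt_c30_eq : (grp 324 y_E0) ⊓ Subgroup.centralizer {Net.toPerm 324 z_g509} = grp 324 yt_c30_K :=
  cent_eq yt_c30_sym yt_c30_cnt yt_c30_ge

theorem yt_c30_card : Nat.card ↥((grp 324 y_E0) ⊓ Subgroup.centralizer {Net.toPerm 324 z_g509}) = 768 :=
  card_cent yt_c30_sym yt_c30_cnt yt_c30_ge

theorem yt_c30_ord : orderOf (Net.toPerm 324 z_g509) = 4 :=
  orderOf_net z_hn z_hk z_g509_ok (by decide) (ps := [2]) (by set_option linter.unusedSimpArgs false in simp [Nat.primeFactorsList_ofNat]) (by decide +kernel)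

theorem z_le527 : grp 324 yt_c31_K ≤ grp 324 y_E0 :=
  grp_le_of_memB z_hn z_hk y_E0_ok yt_c31_K_ok (ws := [nat_lit 0x34352f271920080534, nat_lit 0x3325281f1a1f15080107, nat_lit 0x34352519201c0707030e, nat_lit 0x353c2f261f1a1f15070c0311, nat_lit 0x353c26281b1a1109030c]) (by decide +kernel)

theorem yt_c31_le : grp 324 yt_c31_K ≤ (grp 324 y_E0) :=
  (z_le527.trans z_T111_s0.le)

theorem yt_c31_mem : Net.toPerm 324 z_g521 ∈ (grp 324 y_E0) :=
  yt_c31_le (mem_grp_of_memB z_hn z_hk yt_c31_K_ok z_g521_ok (w := (nat_lit 65793)) (by decide +kernel))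

theorem yt_c31_sym : Sym 324 (grp 324 y_E0) [z_g521] yt_c31_K 0 :=
  Sym.of_lab z_hn z_hk (okE_cons.2 ⟨z_g521_ok, okE_nil _⟩) yt_c31_K_ok yt_c31_le (kT := 0) (by decide +kernel)

noncomputable def yt_c31_cnt_L : List ℕ := [1, 4, z_T111_s1_O, 0, 0, 2, 6, z_T111_s2_O, 0, 0, 3, 8, z_T111_s13_O, 0, 0, 5, 10, z_T111_s15_O, 0, 0, 7, 14, z_T111_s74_O, 0, 0, 8, 16, z_T111_s75_O, 0, 0, 9, 18, z_T111_s76_O, 1, 0]

theorem yt_c31_cnt_P : Prob 324 9 (grp 324 y_E0) yt_c31_cnt_EG [z_g521] [z_g521] yt_c31_K yt_c31_cnt_L 0 0 :=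
  Sym.prob z_hn z_hk yt_c31_sym yt_c31_cnt_EG_ok (grp_cons_le z_g39_z_T111 (grp_cons_le zg1_z_T111 (grp_cons_le zg3_z_T111 (grp_cons_le z_g43_z_T111 (grp_cons_le z_g42_z_T111 (grp_cons_le zg2_z_T111 (grp_cons_le z_g44_z_T111 (grp_cons_le z_g54_z_T111 (grp_cons_le z_g55_z_T111 (grp_cons_le z_g49_z_T111 (grp_cons_le z_g50_z_T111 (grp_cons_le z_g51_z_T111 (grp_cons_le z_g62_z_T111 (grp_cons_le z_g58_z_T111 (grp_cons_le z_g59_z_T111 (grp_cons_le z_g65_z_T111 (grp_cons_le z_g66_z_T111 (grp_cons_le z_g67_z_T111 (grp_cons_le z_g77_z_T111 (grp_cons_le z_g78_z_T111 (grp_cons_le z_g72_z_T111 (grp_cons_le z_g73_z_T111 (grp_cons_le z_g74_z_T111 (grp_cons_le z_g81_z_T111 (grp_cons_le z_g82_z_T111 (grp_cons_le z_g87_z_T111 (grp_cons_le zg0_z_T111 (grp_cons_le z_g91_z_T111 (grp_cons_le z_g28_z_T111 (grp_cons_le z_g88_z_T111 (grp_cons_le z_g126_z_T111 (grp_cons_le z_g127_z_T111 (grp_cons_le z_g128_z_T111 (grp_cons_le z_g129_z_T111 (grp_cons_le z_g130_z_T111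 (grp_cons_le z_g131_z_T111 (grp_cons_le z_g132_z_T111 (grp_cons_le z_g133_z_T111 (grp_cons_le z_g134_z_T111 (grp_cons_le z_g135_z_T111 (grp_cons_le z_g175_z_T111 (grp_cons_le z_g176_z_T111 (grp_cons_le z_g177_z_T111 (grp_cons_le z_g30_z_T111 (grp_cons_le z_g178_z_T111 (grp_cons_le z_g174_z_T111 (grp_cons_le z_g310_z_T111 (grp_nil_le _)))))))))))))))))))))))))))))))))))))))))))))))) (Frames.cons z_T111_s1_F (Frames.cons z_T111_s2_F (Frames.cons z_T111_s13_F (Frames.cons z_T111_s15_F (Frames.cons z_T111_s74_F (Frames.cons z_T111_s75_F (Frames.cons z_T111_s76_F Frames.nil))))))) (okE_cons.2 ⟨z_g521_ok, okE_nil _⟩) _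

noncomputable def yt_c31_cnt_t : BT := (BT.fix (nat_lit 257) (BT.br (nat_lit 0) (nat_lit 53) [nat_lit 1, nat_lit 3] (BT.dead (nat_lit 165) (BT.frm (nat_lit 0) (nat_lit 68101) (nat_lit 67891) [nat_lit 0] (BT.pln (nat_lit 0) (nat_lit 2) (BT.and (nat_lit 0) (nat_lit 3) (BT.cnt (nat_lit 0))))) (BT.kid (nat_lit 53) (nat_lit 32) (BT.img (nat_lit 1) (nat_lit 0) (BT.frm (nat_lit 1) (nat_lit 0x1b010a05) (nat_lit 0x1b010a05) [nat_lit 0, nat_lit 1] (BT.pln (nat_lit 0) (nat_lit 3) (BT.and (nat_lit 4) (nat_lit 0) (BT.br (nat_lit 0) (nat_lit 292) [nat_lit 3] (BT.kid (nat_lit 292) (nat_lit 16) (BT.frm (nat_lit 2) (nat_lit 0x421b010a05) (nat_lit 0x421b010a05) [nat_lit 0, nat_lit 4, nat_lit 5] (BT.pln (nat_lit 0) (nat_lit 6) (BT.and (nat_lit 4) (nat_lit 0) (BT.br (nat_lit 0) (nat_lit 299) [nat_lit 5, nat_lit 7] (BT.kid (nat_lit 299) (nat_lit 2) (BT.frm (nat_lit 0) (nat_lit 68101) (nat_lit 68101) [nat_lit 9] (BT.pln (nat_lit 0) (nat_lit 2) (BT.and (nat_lit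 12) (nat_lit 0) (BT.dif (nat_lit 0) (nat_lit 9) (BT.dif (nat_lit 0) (nat_lit 12) (BT.pln (nat_lit 8) (nat_lit 4) (BT.and (nat_lit 16) (nat_lit 0) (BT.frm (nat_lit 3) (nat_lit 0x5154421b010a05) (nat_lit 0x5154421b010a05) [nat_lit 7, nat_lit 0, nat_lit 11, nat_lit 15, nat_lit 16] (BT.pln (nat_lit 0) (nat_lit 5) (BT.dif (nat_lit 4) (nat_lit 0) (BT.img (nat_lit 1) (nat_lit 10) (BT.dif (nat_lit 9) (nat_lit 21) (BT.and (nat_lit 0) (nat_lit 6) (BT.dif (nat_lit 0) (nat_lit 2) (BT.img (nat_lit 1) (nat_lit 3) (BT.img (nat_lit 1) (nat_lit 0) (BT.dif (nat_lit 2) (nat_lit 0) (BT.pln (nat_lit 9) (nat_lit 6) (BT.dif (nat_lit 1) (nat_lit 0) (BT.dif (nat_lit 7) (nat_lit 13) (BT.dif (nat_lit 0) (nat_lit 20) (BT.dif (nat_lit 0) (nat_lit 6) (BT.dif (nat_lit 0) (nat_lit 13) (BT.dif (nat_lit 9) (nat_lit 5) (BT.img (nat_lit 1) (nat_lit 0) (BT.and (nat_lit 2) (nat_lit 0) (BT.img (nat_lit 1) (nat_lit 0) (BT.and (nat_lit 8) (nat_lit 0) (BT.frm (nat_lit 4) (nat_lit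 0x565154421b010a05) (nat_lit 0x565154421b010a05) [nat_lit 17, nat_lit 0, nat_lit 28, nat_lit 21, nat_lit 32, nat_lit 36, nat_lit 37] (BT.pln (nat_lit 0) (nat_lit 8) (BT.dif (nat_lit 20) (nat_lit 0) (BT.br (nat_lit 0) (nat_lit 273) [nat_lit 9] (BT.kid (nat_lit 273) (nat_lit 1) (BT.pln (nat_lit 31) (nat_lit 1) (BT.dif (nat_lit 46) (nat_lit 0) (BT.dif (nat_lit 0) (nat_lit 32) (BT.pln (nat_lit 27) (nat_lit 8) (BT.and (nat_lit 1) (nat_lit 0) (BT.dif (nat_lit 0) (nat_lit 28) (BT.dif (nat_lit 0) (nat_lit 20) (BT.pln (nat_lit 10) (nat_lit 10) (BT.and (nat_lit 1) (nat_lit 0) (BT.pln (nat_lit 12) (nat_lit 7) (BT.dif (nat_lit 1) (nat_lit 0) (BT.frm (nat_lit 5) (nat_lit 0x565154421b010a05) (nat_lit 0x565154421b010a05) [nat_lit 11, nat_lit 32, nat_lit 15, nat_lit 43, nat_lit 36, nat_lit 47, nat_lit 51, nat_lit 52] (BT.pln (nat_lit 0) (nat_lit 10) (BT.dif (nat_lit 2) (nat_lit 0) (BT.pln (nat_lit 45) (nat_lit 3) (BT.dif (nat_lit 12) (nat_lit 0) (BT.and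 (nat_lit 0) (nat_lit 30) (BT.dif (nat_lit 0) (nat_lit 40) (BT.pln (nat_lit 42) (nat_lit 7) (BT.dif (nat_lit 1) (nat_lit 0) (BT.dif (nat_lit 0) (nat_lit 16) (BT.pln (nat_lit 9) (nat_lit 15) (BT.and (nat_lit 1) (nat_lit 0) (BT.dif (nat_lit 0) (nat_lit 10) (BT.dif (nat_lit 3) (nat_lit 16) (BT.dif (nat_lit 0) (nat_lit 15) (BT.and (nat_lit 0) (nat_lit 13) (BT.pln (nat_lit 30) (nat_lit 12) (BT.and (nat_lit 21) (nat_lit 0) (BT.dif (nat_lit 0) (nat_lit 31) (BT.pln (nat_lit 18) (nat_lit 8) (BT.dif (nat_lit 1) (nat_lit 0) (BT.and (nat_lit 21) (nat_lit 19) (BT.img (nat_lit 1) (nat_lit 0) (BT.and (nat_lit 2) (nat_lit 0) (BT.img (nat_lit 1) (nat_lit 0) (BT.dif (nat_lit 9) (nat_lit 0) (BT.img (nat_lit 1) (nat_lit 0) (BT.dif (nat_lit 14) (nat_lit 0) (BT.img (nat_lit 1) (nat_lit 0) (BT.and (nat_lit 26) (nat_lit 0) (BT.one (nat_lit 6) (nat_lit 0x5d565154421b010a05) (nat_lit 0x5d565154421b010a05) [nat_lit 0, nat_lit 41, nat_lit 62, nat_lit 45, nat_lit 73,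 nat_lit 66, nat_lit 77, nat_lit 81, nat_lit 82])))))))))))))))))))))))))))))))))))))))))) BT.nil))))))))))))))))))))))))))))))))) BT.nil))))) BT.nil)))))) BT.nil))))

theorem yt_c31_cnt : Cnt 324 (grp 324 y_E0) [z_g521] [z_g521] 0 0 0 0 576 :=
  BT.sound yt_c31_cnt_P Known.nil (t := yt_c31_cnt_t) (d := 0) (by decide +kernel)

theorem yt_c31_ge : 576 ≤ Nat.card (grp 324 yt_c31_K) :=
  Ch.le_card_grp (k := 9) (L := (lab 324 9)) z_hn yt_c31_K_ok (c := (Ch.cons (nat_lit 53) [nat_lit 1] (Ch.cons (nat_lit 292) [nat_lit 3] (Ch.cons (nat_lit 299) [nat_lit 5, nat_lit 7] (Ch.cons (nat_lit 273) [nat_lit 9] Ch.nil))))) (by decide +kernel)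

theorem yt_c31_eq : (grp 324 y_E0) ⊓ Subgroup.centralizer {Net.toPerm 324 z_g521} = grp 324 yt_c31_K :=
  cent_eq yt_c31_sym yt_c31_cnt yt_c31_ge

theorem yt_c31_card : Nat.card ↥((grp 324 y_E0) ⊓ Subgroup.centralizer {Net.toPerm 324 z_g521}) = 576 :=
  card_cent yt_c31_sym yt_c31_cnt yt_c31_ge

theorem yt_c31_ord : orderOf (Net.toPerm 324 z_g521) = 4 :=
  orderOf_net z_hn z_hk z_g521_ok (by decide) (ps := [2]) (by set_option linter.unusedSimpArgs false in simp [Nat.primeFactorsList_ofNat]) (by decide +kernel)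

theorem z_le535 : grp 324 yt_c32_K ≤ grp 324 y_E0 :=
  grp_le_of_memB z_hn z_hk y_E0_ok yt_c32_K_ok (ws := [nat_lit 0x352f251d1f08010810, nat_lit 0x261b1a08030e, nat_lit 0x352f19201a12010a, nat_lit 0x3326012502, nat_lit 0x33352f281f1b07010125, nat_lit 0x33382528191c120226]) (by decide +kernel)

theorem yt_c32_le : grp 324 yt_c32_K ≤ (grp 324 y_E0) :=
  (z_le535.trans z_T111_s0.le)

theorem yt_c32_mem : Net.toPerm 324 z_g528 ∈ (grp 324 y_E0) :=
  yt_c32_le (mem_grp_of_memB z_hn z_hk yt_c32_K_ok z_g528_ok (w := (nat_lit 2309)) (by decide +kernel))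

theorem yt_c32_sym : Sym 324 (grp 324 y_E0) [z_g528] yt_c32_K 0 :=
  Sym.of_lab z_hn z_hk (okE_cons.2 ⟨z_g528_ok, okE_nil _⟩) yt_c32_K_ok yt_c32_le (kT := 0) (by decide +kernel)

theorem z_le537 : grp 324 z_V536 ≤ grp 324 z_V397 :=
  grp_le_of_memB z_hn z_hk z_V397_ok z_V536_ok (ws := [nat_lit 3, nat_lit 1]) (by decide +kernel)

theorem z_T111_s77 : Stab 324 (grp 324 y_E0) [nat_lit 226, nat_lit 20, nat_lit 69, nat_lit 1, nat_lit 9, nat_lit 2, nat_lit 0] z_V536 4 :=
  Stab.step (k := 9) (L := (lab 324 9)) z_hn z_T111_s55 z_V536_ok z_le537 (c := (Ch.cons (nat_lit 19) [nat_lit 1] (Ch.cons (nat_lit 279) [nat_lit 3] Ch.nil))) (by decide +kernel)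

theorem z_T111_s78 : Stab 324 (grp 324 y_E0) [nat_lit 19, nat_lit 226, nat_lit 20, nat_lit 69, nat_lit 1, nat_lit 9, nat_lit 2, nat_lit 0] z_V538 2 :=
  Stab.step (k := 9) (L := (lab 324 9)) z_hn z_T111_s77 z_V538_ok (grp_mono (List.subset_append_right [z_g393] _)) (c := (Ch.cons (nat_lit 279) [nat_lit 1] Ch.nil)) (by decide +kernel)

theorem z_T111_s79 : Stab 324 (grp 324 y_E0) [nat_lit 279, nat_lit 19, nat_lit 226, nat_lit 20, nat_lit 69, nat_lit 1, nat_lit 9, nat_lit 2, nat_lit 0] z_V539 1 :=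
  Stab.step (k := 9) (L := (lab 324 9)) z_hn z_T111_s78 z_V539_ok (grp_mono (List.subset_append_right [z_g135] _)) (c := Ch.nil) (by decide +kernel)

noncomputable def z_T111_s79_O : ℕ := (nat_lit 0xfffffffffffffffff000000000000000000000000000000000000000000000000000000000000000000000000000000000ffffffffffffffffffffffffffffffff00000000000000000000000000000000f0000000000000000ffffffffffffffff0000000000000000ffffffffffffffff00000000000000000ffffffff00000000ffffffff00000000ffffffff00000000ffffffff00000000ffffffff000000000ffff0000ffff0000ffff0000ffff0000ffff0000ffff0000ffff0000ffff0000ffff0000ffff00000ff00ff00ff00ff00ff00ff00ff00ff00ff00ff00ff00ff00ff00ff00ff00ff00ff00ff00ff00ff000f0f0f0f0f0f0f0f0f0f0f0f0f0f0f0f0f0f0f0f0f0f0f0f0f0f0f0f0f0f0f0f0f0f0f0f0f0f0f0f0cccccccccccccccccccccccccccccccccccccccccccccccccccccccccccccccccccccccccccccccccaaaaaaaaaaaaaaaaaaaaaaaaaaaaaaaaaaaaaaaaaaaaaaaaaaaaaaaaaaaaaaaaaaaaaaaaaaaaaaaaa00000000000000000000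0000000000000000000000000000000000000000000000000000000000001000000000000000000000000000000000000000000000000000000000000000000000000000000004000000000000000000000000000000000000000000000000000000000000000000000000000000200000000000000000000000000000000000000000000000000000000000000000000000000000000002000000000000000000000000000000000000000000000000000000000000000200000000000000000000000000000000000000000000000000000000000000000000000000000000000000000000100000000000000000000000000000400000000000000000000000000000000000000000000000000000000000000000000000000000000000000000000000000000000000000000000000000000000000080000000000000008000000000000000000000000000000000000000000000000000000000000000000000)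

theorem z_T111_s79_F : Frame 324 (grp 324 y_E0) 9 18 z_T111_s79_O 1 1 :=
  IsBase.frame z_T111_s79.isBase (by decide +kernel)

noncomputable def z_T111_s78_O : ℕ := (nat_lit 0x78e5567a12ac29d2ca80415900200000000000000004000000000000000104000000000000fe628b0011aa9802950862d200fbca48fdf7ee3989c2dff7b93ffefff9fbff60000000000000000000000000870829c5c502960d1473ac148ffeb9a1999c7a7deff5781000204009f5ffbff9dfc0000000c00000004dd1092dd135624310fb026855eabedff9ca700146887e57fc84009c7feb804203ff7e0003e628b0de2a892cef97eeffa00b1a028d9ca8802563d9f3ba4a07ef0047bc01fde043f9003fc01ff03e62000531a25c8267f79a45f377a92bdf382791a0358fc15d70780bc6783c9ec1e03c0bc3c3e170f3c008b01cc0f0fd6769a27c5d8e9bf2968aa333009ad945e1aae678333633398399e734b333319ccc325cc80d35c12e6c2e38b47639c930c8bec9c3432551ea71d3ad55caaf52aad415592accaaaad5aaaaa39920000000000000000000000000000000000000000000000000000000000000000000000000000000001000000000000000000000000000000000000000000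000000000000000000000000000000000000004000000000000000000000000000000000000000000000000000000000000000000000000000000200000000000000000000000000000000000000000000000000000000000000000000000000000000002000000000000000000000000000000000000000000000000000000000000000200000000000000000000000000000000000000000000000000000000000000000000000000000000000000000000100000000000000000000000000000400000000000000000000000000000000000000000000000000000000000000000000000000000000000000000000000000000000000000000000000000000000000080000)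

theorem z_T111_s78_F : Frame 324 (grp 324 y_E0) 8 16 z_T111_s78_O 0 1 :=
  Stab.frame z_hn z_T111_s78 (by decide +kernel)

noncomputable def z_T111_s77_O : ℕ := (nat_lit 0x118100501284818a0202001006a40800800028056114600000000000000104000000000000feffdf82e32cf8ccd3a2635f88c416d880be7e1000445b81e6383efff9df4efc5dca9a000000000000000000e05efb6309495c650c701cfb892332c3000007fa9a8f9f3b9ff5bff010031419dffe00000080228b0e4240ec26d421c24a5bde1998032f6eb4e9a95029246937536a60b1fd793021dbe0177a4007edd54890ffbf53be3b8328fbc373880d1ad303af6131b1b6a017ad1823b113d86ca619e1e0f41bb0fee2000b1ff503b52e03367f7158457997edc593515d1a49d509b26ae41c6870d2e4f1c5999e3034cce1cc803e2943893f1472b094e6957b0f4f787bd55136b681645e8b25836c52b6aa9ed135545aaaaa2cb9920000000000000000000000000000000000000000000000000000000000000000000000000000000001000000000000000000000000000000000000000000000000000000000000000000000000000000004000000000000000000000000000000000000000000000000000000000000000000000000000000200000000000000000000000000000000000000000000000000000000000000000000000000000000002000000000000000000000000000000000000000000000000000000000000000200000000000000000000000000000000000000000000000000000000000000000000000000000000000000000000100000000000000000000000000000400000000000000000000000000000000000000000000000000000000)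

theorem z_T111_s77_F : Frame 324 (grp 324 y_E0) 7 14 z_T111_s77_O 0 1 :=
  Stab.frame z_hn z_T111_s77 (by decide +kernel)

noncomputable def z_T111_s54_O : ℕ := (nat_lit 0x2000000000000000000000000000000000000000000000000000000000000000000000000000000000200000000000000000000000000000000000000000000000000000000000000000000000000000000080000000000000000000000000000000000000000000000000000000000000000000000000000000008000000000000000000000000000000000000000000000000000000000000000000000000000000002000000000000000000000000000000000000000000000000000000000000000000000000000000001000000040000000000000000040000000000000000000000000000000000000000000000000000000000000000000000000000000000000000000000000004000000000000000100000000000000000000000000000000000000000001000000000000000000000000000000000000004000000000000000000000000000000000000000000000200000000000000000000000000000000000000000000000800000000000000000000000000000000000000000000000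0000000000000000000000000000000000018000000000000000000000000000000000000000000000000000000000000000000000000000000004400000000000000000000000000000000000000000000000000000000000000000000000000000001100000000000000000000000000000000000000000000000000000000000000000000000000000000048000000000000000000000000000000000000000000000000000000000000000000000000007fc00001a9382141a5c91992e1000280a018000000001a9382141a5c91992e1000280a018000000000000000652805890582680680ac49018100706000000652805890582680680ac49018100706000000000000080447822e0210660504014c2008e0f810000080447822e0210660504014c2008e0f81000000000000000000000000000000000000000000000000000000000000000000000000000000000000000000001000000000000000000000000000000000000000000000000000000000000000000000000000000004000000000000000000000000000000000000000000000000000000000000000000000000000000200000000000000000000000000000000000000000000000000000000000000000000000000000000002000000000000000000000000000000000000000000000000000000000000000200000000000000000)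

theorem z_T111_s54_F : Frame 324 (grp 324 y_E0) 5 23 z_T111_s54_O 0 1 :=
  Stab.frame z_hn z_T111_s54 (by decide +kernel)

noncomputable def yt_c32_cnt_L : List ℕ := [1, 4, z_T111_s1_O, 0, 0, 3, 11, z_T111_s21_O, 0, 0, 4, 19, z_T111_s22_O, 0, 0, 5, 23, z_T111_s54_O, 0, 0, 6, 12, z_T111_s55_O, 0, 0, 7, 14, z_T111_s77_O, 0, 0, 8, 16, z_T111_s78_O, 0, 0, 9, 18, z_T111_s79_O, 1, 0]

theorem yt_c32_cnt_P : Prob 324 9 (grp 324 y_E0) yt_c32_cnt_EG [z_g528] [z_g528] yt_c32_K yt_c32_cnt_L 0 0 :=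
  Sym.prob z_hn z_hk yt_c32_sym yt_c32_cnt_EG_ok (grp_cons_le z_g39_z_T111 (grp_cons_le zg1_z_T111 (grp_cons_le zg3_z_T111 (grp_cons_le z_g43_z_T111 (grp_cons_le z_g42_z_T111 (grp_cons_le zg2_z_T111 (grp_cons_le z_g44_z_T111 (grp_cons_le z_g54_z_T111 (grp_cons_le z_g55_z_T111 (grp_cons_le z_g49_z_T111 (grp_cons_le z_g50_z_T111 (grp_cons_le z_g51_z_T111 (grp_cons_le z_g62_z_T111 (grp_cons_le z_g58_z_T111 (grp_cons_le z_g59_z_T111 (grp_cons_le z_g65_z_T111 (grp_cons_le z_g66_z_T111 (grp_cons_le z_g67_z_T111 (grp_cons_le z_g77_z_T111 (grp_cons_le z_g78_z_T111 (grp_cons_le z_g72_z_T111 (grp_cons_le z_g73_z_T111 (grp_cons_le z_g74_z_T111 (grp_cons_le z_g81_z_T111 (grp_cons_le z_g82_z_T111 (grp_cons_le z_g87_z_T111 (grp_cons_le zg0_z_T111 (grp_cons_le z_g91_z_T111 (grp_cons_le z_g28_z_T111 (grp_cons_le z_g88_z_T111 (grp_cons_le z_g391_z_T111 (grp_cons_le z_g392_z_T111 (grp_cons_le z_g135_z_T111 (grp_cons_le z_g393_z_T111 (grp_cons_le z_g394_z_T111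 (grp_nil_le _)))))))))))))))))))))))))))))))))))) (Frames.cons z_T111_s1_F (Frames.cons z_T111_s21_F (Frames.cons z_T111_s22_F (Frames.cons z_T111_s54_F (Frames.cons z_T111_s55_F (Frames.cons z_T111_s77_F (Frames.cons z_T111_s78_F (Frames.cons z_T111_s79_F Frames.nil)))))))) (okE_cons.2 ⟨z_g528_ok, okE_nil _⟩) _

noncomputable def yt_c32_cnt_t : BT := (BT.fix (nat_lit 1) (BT.br (nat_lit 0) (nat_lit 109) [nat_lit 1] (BT.kid (nat_lit 109) (nat_lit 48) (BT.frm (nat_lit 0) (nat_lit 69933) (nat_lit 69933) [nat_lit 0] (BT.pln (nat_lit 0) (nat_lit 3) (BT.and (nat_lit 3) (nat_lit 0) (BT.br (nat_lit 0) (nat_lit 130) [nat_lit 3] (BT.kid (nat_lit 130) (nat_lit 24) (BT.dif (nat_lit 2) (nat_lit 5) (BT.br (nat_lit 0) (nat_lit 120) [nat_lit 5] (BT.dead (nat_lit 301) (BT.frm (nat_lit 1) (nat_lit 0x150701112d) (nat_lit 0xf0701112d) [nat_lit 0, nat_lit 2, nat_lit 6] (BT.pln (nat_lit 0) (nat_lit 5) (BT.img (nat_lit 1) (nat_lit 2) (BT.and (nat_lit 1) (nat_lit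 0) (BT.cnt (nat_lit 0)))))) (BT.dead (nat_lit 164) (BT.frm (nat_lit 1) (nat_lit 0x150701112d) (nat_lit 0x701112d) [nat_lit 0, nat_lit 2, nat_lit 6] (BT.pln (nat_lit 0) (nat_lit 6) (BT.img (nat_lit 1) (nat_lit 2) (BT.and (nat_lit 1) (nat_lit 0) (BT.cnt (nat_lit 0)))))) (BT.kid (nat_lit 120) (nat_lit 12) (BT.pln (nat_lit 5) (nat_lit 2) (BT.and (nat_lit 8) (nat_lit 0) (BT.br (nat_lit 0) (nat_lit 171) [nat_lit 7] (BT.kid (nat_lit 171) (nat_lit 4) (BT.fix (nat_lit 257) (BT.dif (nat_lit 3) (nat_lit 0) (BT.frm (nat_lit 2) (nat_lit 0x1b150701112d) (nat_lit 0x1b150701112d) [nat_lit 2, nat_lit 5, nat_lit 7, nat_lit 11] (BT.pln (nat_lit 0) (nat_lit 8) (BT.and (nat_lit 3) (nat_lit 0) (BT.frm (nat_lit 3) (nat_lit 0x1b150701112d) (nat_lit 0x1b150701112d) [nat_lit 0, nat_lit 5, nat_lit 8, nat_lit 10, nat_lit 14] (BT.pln (nat_lit 0) (nat_lit 16) (BT.and (nat_lit 5) (nat_lit 0) (BT.br (nat_lit 0) (nat_lit 63) [nat_lit 9] (BT.kid (nat_lit 63) (nat_lit 2)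 (BT.pln (nat_lit 6) (nat_lit 6) (BT.pln (nat_lit 7) (nat_lit 7) (BT.and (nat_lit 10) (nat_lit 0) (BT.frm (nat_lit 4) (nat_lit 0x3f1b150701112d) (nat_lit 0x3f1b150701112d) [nat_lit 0, nat_lit 7, nat_lit 12, nat_lit 15, nat_lit 17, nat_lit 21] (BT.pln (nat_lit 0) (nat_lit 7) (BT.dif (nat_lit 4) (nat_lit 0) (BT.frm (nat_lit 5) (nat_lit 0x3f1b150701112d) (nat_lit 0x3f1b150701112d) [nat_lit 6, nat_lit 3, nat_lit 10, nat_lit 15, nat_lit 18, nat_lit 20, nat_lit 24] (BT.pln (nat_lit 0) (nat_lit 7) (BT.dif (nat_lit 2) (nat_lit 0) (BT.img (nat_lit 1) (nat_lit 9) (BT.frm (nat_lit 6) (nat_lit 0x433f1b150701112d) (nat_lit 0x433f1b150701112d) [nat_lit 0, nat_lit 10, nat_lit 7, nat_lit 14, nat_lit 19, nat_lit 22, nat_lit 24, nat_lit 28] (BT.pln (nat_lit 0) (nat_lit 10) (BT.and (nat_lit 3) (nat_lit 0) (BT.br (nat_lit 0) (nat_lit 217) [nat_lit 11] (BT.kid (nat_lit 217) (nat_lit 1) (BT.one (nat_lit 7) (nat_lit 0x433f1b150701112d) (nat_lit 0x433f1b150701112d)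 [nat_lit 0, nat_lit 4, nat_lit 14, nat_lit 11, nat_lit 18, nat_lit 23, nat_lit 26, nat_lit 28, nat_lit 32]) BT.nil))))))))))))))) BT.nil)))))))))) BT.nil)))) BT.nil))))) BT.nil))))) BT.nil)))

theorem yt_c32_cnt : Cnt 324 (grp 324 y_E0) [z_g528] [z_g528] 0 0 0 0 288 :=
  BT.sound yt_c32_cnt_P Known.nil (t := yt_c32_cnt_t) (d := 0) (by decide +kernel)

theorem yt_c32_ge : 288 ≤ Nat.card (grp 324 yt_c32_K) :=
  Ch.le_card_grp (k := 9) (L := (lab 324 9)) z_hn yt_c32_K_ok (c := (Ch.cons (nat_lit 109) [nat_lit 1] (Ch.cons (nat_lit 130) [nat_lit 3] (Ch.cons (nat_lit 120) [nat_lit 5] (Ch.cons (nat_lit 171) [nat_lit 7] (Ch.cons (nat_lit 63) [nat_lit 9] (Ch.cons (nat_lit 217) [nat_lit 11] Ch.nil))))))) (by decide +kernel)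

theorem yt_c32_eq : (grp 324 y_E0) ⊓ Subgroup.centralizer {Net.toPerm 324 z_g528} = grp 324 yt_c32_K :=
  cent_eq yt_c32_sym yt_c32_cnt yt_c32_ge

theorem yt_c32_card : Nat.card ↥((grp 324 y_E0) ⊓ Subgroup.centralizer {Net.toPerm 324 z_g528}) = 288 :=
  card_cent yt_c32_sym yt_c32_cnt yt_c32_ge

theorem yt_c32_ord : orderOf (Net.toPerm 324 z_g528) = 4 :=
  orderOf_net z_hn z_hk z_g528_ok (by decide) (ps := [2]) (by set_option linter.unusedSimpArgs false in simp [Nat.primeFactorsList_ofNat]) (by decide +kernel)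

theorem z_le547 : grp 324 yt_c33_K ≤ grp 324 y_E0 :=
  grp_le_of_memB z_hn z_hk y_E0_ok yt_c33_K_ok (ws := [nat_lit 0x3538281f1b1a110715010529, nat_lit 0x34352f1f19221a0f1207020701, nat_lit 0x33353c2f291f1d013802, nat_lit 0x3b291d150309, nat_lit 0x3c2f1f1b0f07070317, nat_lit 0x3b2f261f191c0f12070c050210]) (by decide +kernel)

theorem yt_c33_le : grp 324 yt_c33_K ≤ (grp 324 y_E0) :=
  (z_le547.trans z_T111_s0.le)

theorem yt_c33_mem : Net.toPerm 324 z_g540 ∈ (grp 324 y_E0) :=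
  yt_c33_le (mem_grp_of_memB z_hn z_hk yt_c33_K_ok z_g540_ok (w := (nat_lit 2311)) (by decide +kernel))

theorem yt_c33_sym : Sym 324 (grp 324 y_E0) [z_g540] yt_c33_K 0 :=
  Sym.of_lab z_hn z_hk (okE_cons.2 ⟨z_g540_ok, okE_nil _⟩) yt_c33_K_ok yt_c33_le (kT := 0) (by decide +kernel)

theorem z_le553 : grp 324 z_V552 ≤ grp 324 z_V198 :=
  grp_le_of_memB z_hn z_hk z_V198_ok z_V552_ok (ws := [nat_lit 0x2527180b1301, nat_lit 42, nat_lit 0x2e21171a110b120c, nat_lit 9511, nat_lit 0x2a171a110b120c, nat_lit 0x27211d0b120c03]) (by decide +kernel)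

theorem z_T111_s80 : Stab 324 (grp 324 y_E0) [nat_lit 14, nat_lit 2, nat_lit 0] z_V552 3888 :=
  Stab.step (k := 9) (L := (lab 324 9)) z_hn z_T111_s20 z_V552_ok z_le553 (c := (Ch.cons (nat_lit 18) [nat_lit 1] (Ch.cons (nat_lit 78) [nat_lit 3] (Ch.cons (nat_lit 24) [nat_lit 5] (Ch.cons (nat_lit 232) [nat_lit 7] (Ch.cons (nat_lit 30) [nat_lit 9] (Ch.cons (nat_lit 6) [nat_lit 11] Ch.nil))))))) (by decide +kernel)

theorem z_T111_s81 : Stab 324 (grp 324 y_E0) [nat_lit 18, nat_lit 14, nat_lit 2, nat_lit 0] z_V554 216 :=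
  Stab.step (k := 9) (L := (lab 324 9)) z_hn z_T111_s80 z_V554_ok (grp_mono (List.subset_append_right [z_g548] _)) (c := (Ch.cons (nat_lit 78) [nat_lit 1] (Ch.cons (nat_lit 24) [nat_lit 3] (Ch.cons (nat_lit 232) [nat_lit 5] (Ch.cons (nat_lit 30) [nat_lit 7] (Ch.cons (nat_lit 6) [nat_lit 9] Ch.nil)))))) (by decide +kernel)

theorem z_T111_s82 : Stab 324 (grp 324 y_E0) [nat_lit 78, nat_lit 18, nat_lit 14, nat_lit 2, nat_lit 0] z_V555 24 :=
  Stab.step (k := 9) (L := (lab 324 9)) z_hn z_T111_s81 z_V555_ok (grp_mono (List.subset_append_right [z_g34] _)) (c := (Ch.cons (nat_lit 24) [nat_lit 1] (Ch.cons (nat_lit 232) [nat_lit 3] (Ch.cons (nat_lit 30) [nat_lit 5] (Ch.cons (nat_lit 6) [nat_lit 7] Ch.nil))))) (by decide +kernel)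

theorem z_T111_s83 : Stab 324 (grp 324 y_E0) [nat_lit 24, nat_lit 78, nat_lit 18, nat_lit 14, nat_lit 2, nat_lit 0] z_V556 12 :=
  Stab.step (k := 9) (L := (lab 324 9)) z_hn z_T111_s82 z_V556_ok (grp_mono (List.subset_append_right [z_g549] _)) (c := (Ch.cons (nat_lit 232) [nat_lit 1] (Ch.cons (nat_lit 30) [nat_lit 3] (Ch.cons (nat_lit 6) [nat_lit 5] Ch.nil)))) (by decide +kernel)

theorem z_T111_s84 : Stab 324 (grp 324 y_E0) [nat_lit 232, nat_lit 24, nat_lit 78, nat_lit 18, nat_lit 14, nat_lit 2, nat_lit 0] z_V557 6 :=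
  Stab.step (k := 9) (L := (lab 324 9)) z_hn z_T111_s83 z_V557_ok (grp_mono (List.subset_append_right [z_g33] _)) (c := (Ch.cons (nat_lit 30) [nat_lit 1] (Ch.cons (nat_lit 6) [nat_lit 3] Ch.nil))) (by decide +kernel)

theorem z_T111_s85 : Stab 324 (grp 324 y_E0) [nat_lit 30, nat_lit 232, nat_lit 24, nat_lit 78, nat_lit 18, nat_lit 14, nat_lit 2, nat_lit 0] z_V558 3 :=
  Stab.step (k := 9) (L := (lab 324 9)) z_hn z_T111_s84 z_V558_ok (grp_mono (List.subset_append_right [z_g550] _)) (c := (Ch.cons (nat_lit 6) [nat_lit 1] Ch.nil)) (by decide +kernel)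

theorem z_T111_s86 : Stab 324 (grp 324 y_E0) [nat_lit 6, nat_lit 30, nat_lit 232, nat_lit 24, nat_lit 78, nat_lit 18, nat_lit 14, nat_lit 2, nat_lit 0] z_V559 1 :=
  Stab.step (k := 9) (L := (lab 324 9)) z_hn z_T111_s85 z_V559_ok (grp_mono (List.subset_append_right [z_g551] _)) (c := Ch.nil) (by decide +kernel)

theorem z_g548_z_T111 : Net.toPerm 324 z_g548 ∈ (grp 324 y_E0) :=
  z_T111_s80.le (toPerm_mem_grp (E := z_V552) (List.Mem.head _))

theorem z_g34_z_T111 : Net.toPerm 324 z_g34 ∈ (grp 324 y_E0) :=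
  z_T111_s80.le (toPerm_mem_grp (E := z_V552) (List.Mem.tail _ (List.Mem.head _)))

theorem z_g549_z_T111 : Net.toPerm 324 z_g549 ∈ (grp 324 y_E0) :=
  z_T111_s80.le (toPerm_mem_grp (E := z_V552) (List.Mem.tail _ (List.Mem.tail _ (List.Mem.head _))))

theorem z_g33_z_T111 : Net.toPerm 324 z_g33 ∈ (grp 324 y_E0) :=
  z_T111_s80.le (toPerm_mem_grp (E := z_V552) (List.Mem.tail _ (List.Mem.tail _ (List.Mem.tail _ (List.Mem.head _)))))

theorem z_g550_z_T111 : Net.toPerm 324 z_g550 ∈ (grp 324 y_E0) :=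
  z_T111_s80.le (toPerm_mem_grp (E := z_V552) (List.Mem.tail _ (List.Mem.tail _ (List.Mem.tail _ (List.Mem.tail _ (List.Mem.head _))))))

theorem z_g551_z_T111 : Net.toPerm 324 z_g551 ∈ (grp 324 y_E0) :=
  z_T111_s80.le (toPerm_mem_grp (E := z_V552) (List.Mem.tail _ (List.Mem.tail _ (List.Mem.tail _ (List.Mem.tail _ (List.Mem.tail _ (List.Mem.head _)))))))

noncomputable def z_T111_s86_O : ℕ := (nat_lit 0xfffffffffffffffff000000000000000000000000000000000000000000000000000000000000000000000000000000000ffffffffffffffffffffffffffffffff00000000000000000000000000000000f0000000000000000ffffffffffffffff0000000000000000ffffffffffffffff00000000000000000ffffffff00000000ffffffff00000000ffffffff00000000ffffffff00000000ffffffff000000000ffff0000ffff0000ffff0000ffff0000ffff0000ffff0000ffff0000ffff0000ffff0000ffff00000ff00ff00ff00ff00ff00ff00ff00ff00ff00ff00ff00ff00ff00ff00ff00ff00ff00ff00ff00ff000f0f0f0f0f0f0f0f0f0f0f0f0f0f0f0f0f0f0f0f0f0f0f0f0f0f0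f0f0f0f0f0f0f0f0f0f0f0f0f0f0cccccccccccccccccccccccccccccccccccccccccccccccccccccccccccccccccccccccccccccccccaaaaaaaaaaaaaaaaaaaaaaaaaaaaaaaaaaaaaaaaaaaaaaaaaaaaaaaaaaaaaaaaaaaaaaaaaaaaaaaaa000000000000000000000000000000000000000000000000000000000000000000000000000000001000000000000000000000000000000000000000000000000000000000000000000000000000000004000000000000000000000000000000000000000000000000000000000000000000000000000004000000000000000000000000000000000000000000000000000000000000000000000000000000040000000000000000000000000000000000000000000000000000000000000000040000000000000000000000000000000000000000000000000000000000000000000000000000000000000000000001000000000000000000000000000010000000000000000000000000000000000000000000000000000000000000000000000000000000000000000000000000000000000000000000000000000000000040000000000000000000000000000000000000000000000000000000000000000000000000000000000000040)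

theorem z_T111_s86_F : Frame 324 (grp 324 y_E0) 9 18 z_T111_s86_O 1 1 :=
  IsBase.frame z_T111_s86.isBase (by decide +kernel)

noncomputable def z_T111_s85_O : ℕ := (nat_lit 0xe054d2bfedf0a96d389fd2228f1b76b92eeff27751111d0dd00000000000414600016e081001098001ba02d00020b46900722aec960f40840084e3908ae6a82f20e776dffceeff3c600016e0810010980054ebdcbf124ff359de5bdf4284936f5c6eefffe024e8e2502fdfdfec01104839fffe0000000000000f8f1f7bf111580bede76cfeeb9dbf925d110001d534b48602e5f0011fff8097fac01f977ea0000000c5ccf2c86a5efaa79e794ded43a49716ee5d001deebe150e0e485f01d407817f53a017fc11ee80000cb60875952fd3a1b1cee894bbe8a97ea19e2ec141f86d783adb4f871b2563170e31956e1818138780b704be9e8c4b236293b32f02e3e8c5ab1f3a98d93a01d4496a9af6d94b252b2ccad5b59b096913530000000000000000000000000000000000000000000000000000000000000000000000000000000001000000000000000000000000000000000000000000000000000000000000000000000000000000004000000000000000000000000000000000000000000000000000000000000000000000000000004000000000000000000000000000000000000000000000000000000000000000000000000000000040000000000000000000000000000000000000000000000000000000000000000040000000000000000000000000000000000000000000000000000000000000000000000000000000000000000000001000000000000000000000000000010000000000000000000000000000000000000000000000000000000000000000000000000000000000000000000000000000000000000000000000000000000000040000000)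

theorem z_T111_s85_F : Frame 324 (grp 324 y_E0) 8 15 z_T111_s85_O 0 1 :=
  Stab.frame z_hn z_T111_s85 (by decide +kernel)

noncomputable def z_T111_s84_O : ℕ := (nat_lit 0x200000000000100800b0009af922ea622c30929a2ac3b32cc1084e32336477164598034da88001414400016e0814eeab2b04bf525468d0505d1ce4e87c14c7c432008ce7048990c482a665c30024defe9fcce016e0814e8090008f3a631751f0b9de26a25ce384d6d480088e7ffeca80a9b39fa4a2454cfeb14431ff7c000006a22b0fc4877a6425fbfc18d58e3c424597f39b9f9f15c34c10150049bce165e6043fc11b0037d1406a22b075e4e02f7808dfdc1a8357a0603b61ed4e3caee858b9c36d23464372579d48a3a9cce37a6a06a928018bb297673a45c15446d10669a0d6a3aae6d9728d7fc7d74a547098f70d8c190b52bcae699878b030000000000000000000000000000000000000000000000000000000000000000000000000000000001000000000000000000000000000000000000000000000000000000000000000000000000000000004000000000000000000000000000000000000000000000000000000000000000000000000000004000000000000000000000000000000000000000000000000000000000000000000000000000000040000000000000000000000000000000000000000000000000000000000000000040000000000000000000000000000000000000000000000000000000000000000000000000000000000000000000001000000000000000000000000000010000000000000000000000000000000000000000000000000000000000)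

theorem z_T111_s84_F : Frame 324 (grp 324 y_E0) 7 14 z_T111_s84_O 0 1 :=
  Stab.frame z_hn z_T111_s84 (by decide +kernel)

noncomputable def z_T111_s83_O : ℕ := (nat_lit 0x10000000000000000000000000000000000000000200000000006f8980093309ae8034220341212962943352c40084e3231ec461e6202072ca8808fe14400016e081480327fa28890511e4bd5fc9e4ce8ac2889a12a1084e314611b94115fcd8d106044041dcd7316e081400222b0dc4777f738e7e40fccfe5162c83be7a000002eb87334a0cd853a0743415118fc2ccf3800008132ffa0da44150dea49c3126484e5ee5e80a38a8bdcc831ccec128ff451a529bfd4892ebcc437c00803b7fad05e8678bfe165e0b823099ae5ed2d6446d6455396762a5cd91b19378f31c8ef7a2ae7127ae920280000000000000000000000000000000000000000000000000000000000000000000000000000000001000000000000000000000000000000000000000000000000000000000000000000000000000000004000000000000000000000000000000000000000000000000000000000000000000000000000004000000000000000000000000000000000000000000000000000000000000000000000000000000040000000000000000000000000000000000000000000000000000000000000000040000000000000000000000000000000000000000000000000000000000000000000000000000000000000000000001000000)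

theorem z_T111_s83_F : Frame 324 (grp 324 y_E0) 6 12 z_T111_s83_O 0 1 :=
  Stab.frame z_hn z_T111_s83 (by decide +kernel)

noncomputable def z_T111_s82_O : ℕ := (nat_lit 0x40000000000000001040200000000000000004000000000000000100020000000000912bab00931919901a6041d56de9662881e02e0084e3220f9000a218604042200ccc1d404016e08146e9054a228c0c00fe195be0a0020a9903901801080c254704fb551e79d9f98c8512684efb396a08007f90d4ad6d2ee3ee5e1fc02b820c903828de5600042189a92b8ffc6f87a33eb4002b1a8c3c61400146eb9fca6e425980861e82252c7ad97d27c01b19a0f7daa76643b4025c81fed99a62617642d66774146e8b030000000000000000000000000000000000000000000000000000000000000000000000000000000001000000000000000000000000000000000000000000000000000000000000000000000000000000004000000000000000000000000000000000000000000000000000000000000000000000000000004000000000000000000000000000000000000000000000000000000000000000000000000000000040000000000000000000000000000000000000000000000000000000000000000040000000000000000000)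

theorem z_T111_s82_F : Frame 324 (grp 324 y_E0) 5 10 z_T111_s82_O 0 1 :=
  Stab.frame z_hn z_T111_s82 (by decide +kernel)

noncomputable def z_T111_s81_O : ℕ := (nat_lit 0x800000000000000000000000000000000000000000000000000000000000000000000000000001100000000000000000000000000000000000000000000000000000000000000000000000000000000009000000000000000000000000000000000000000000000000000000000000000000000000000000020280000000000000000000000000000000000000000000000000000000000000000000000000000002030000000000000000000000000000000000000000000000000000000000000000000000000006e8000000000000000000000000000000000000000000000000000000000000000000000000000000001054a00000040000000000000001040200000000000000004000000000000000104020000000000800000000000000000000000103a2043450001efffff00000000000000000103a2043450001efffff0000000000000000000000000000000000000000000000000000000000000000000000000000000000000001000000000000000000000000000000000000000000000000000000000000000000000000000000004000000000000000000000000000000000000000000000000000000000000000000000000000004000000000000000000000000000000000000000000000000000000000000000000000000000000040000)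

theorem z_T111_s81_F : Frame 324 (grp 324 y_E0) 4 13 z_T111_s81_O 0 1 :=
  Stab.frame z_hn z_T111_s81 (by decide +kernel)

noncomputable def z_T111_s80_O : ℕ := (nat_lit 0x8000000000000000000000000000000000000000000000000000000000000000000000000000000090000000000000000000000000000000000000000000000000000000000000000000000000000000222b000000000000000000000000000000000000000000000000000000000000000000000000000001054a00000040000000000000001040200000000000000004000000000000000104020000000000ffc000000000000000000000103a2043450001efffff00000000000000000103a2043450001efffff0000000000000000000000000000000000000000000000000000000000000000000000000000000000000001000000000000000000000000000000000000000000000000000000000000000000000000000000004000000000000000000000000000000000000000000000000000000000000000000000000000004000)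

theorem z_T111_s80_F : Frame 324 (grp 324 y_E0) 3 9 z_T111_s80_O 0 1 :=
  Stab.frame z_hn z_T111_s80 (by decide +kernel)

noncomputable def yt_c33_cnt_L : List ℕ := [1, 4, z_T111_s1_O, 0, 0, 3, 9, z_T111_s80_O, 0, 0, 4, 13, z_T111_s81_O, 0, 0, 5, 10, z_T111_s82_O, 0, 0, 6, 12, z_T111_s83_O, 0, 0, 7, 14, z_T111_s84_O, 0, 0, 8, 15, z_T111_s85_O, 0, 0, 9, 18, z_T111_s86_O, 1, 0]

theorem yt_c33_cnt_P : Prob 324 9 (grp 324 y_E0) yt_c33_cnt_EG [z_g540] [z_g540] yt_c33_K yt_c33_cnt_L 0 0 :=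
  Sym.prob z_hn z_hk yt_c33_sym yt_c33_cnt_EG_ok (grp_cons_le z_g39_z_T111 (grp_cons_le zg1_z_T111 (grp_cons_le zg3_z_T111 (grp_cons_le z_g43_z_T111 (grp_cons_le z_g42_z_T111 (grp_cons_le zg2_z_T111 (grp_cons_le z_g44_z_T111 (grp_cons_le z_g54_z_T111 (grp_cons_le z_g55_z_T111 (grp_cons_le z_g49_z_T111 (grp_cons_le z_g50_z_T111 (grp_cons_le z_g51_z_T111 (grp_cons_le z_g62_z_T111 (grp_cons_le z_g58_z_T111 (grp_cons_le z_g59_z_T111 (grp_cons_le z_g65_z_T111 (grp_cons_le z_g66_z_T111 (grp_cons_le z_g67_z_T111 (grp_cons_le z_g77_z_T111 (grp_cons_le z_g78_z_T111 (grp_cons_le z_g72_z_T111 (grp_cons_le z_g73_z_T111 (grp_cons_le z_g74_z_T111 (grp_cons_le z_g81_z_T111 (grp_cons_le z_g82_z_T111 (grp_cons_le z_g87_z_T111 (grp_cons_le zg0_z_T111 (grp_cons_le z_g91_z_T111 (grp_cons_le z_g28_z_T111 (grp_cons_le z_g88_z_T111 (grp_cons_le z_g548_z_T111 (grp_cons_le z_g34_z_T111 (grp_cons_le z_g549_z_T111 (grp_cons_le z_g33_z_T111 (grp_cons_le z_g550_z_T111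 (grp_cons_le z_g551_z_T111 (grp_nil_le _))))))))))))))))))))))))))))))))))))) (Frames.cons z_T111_s1_F (Frames.cons z_T111_s80_F (Frames.cons z_T111_s81_F (Frames.cons z_T111_s82_F (Frames.cons z_T111_s83_F (Frames.cons z_T111_s84_F (Frames.cons z_T111_s85_F (Frames.cons z_T111_s86_F Frames.nil)))))))) (okE_cons.2 ⟨z_g540_ok, okE_nil _⟩) _

noncomputable def yt_c33_cnt_t : BT := (BT.fix (nat_lit 1) (BT.br (nat_lit 0) (nat_lit 47) [nat_lit 1] (BT.kid (nat_lit 47) (nat_lit 48) (BT.frm (nat_lit 0) (nat_lit 131842) (nat_lit 131842) [nat_lit 0] (BT.pln (nat_lit 0) (nat_lit 3) (BT.and (nat_lit 3) (nat_lit 0) (BT.br (nat_lit 0) (nat_lit 68) [nat_lit 3] (BT.kid (nat_lit 68) (nat_lit 24) (BT.pln (nat_lit 3) (nat_lit 2) (BT.and (nat_lit 6) (nat_lit 0) (BT.br (nat_lit 0) (nat_lit 93) [nat_lit 5] (BT.kid (nat_lit 93) (nat_lit 8) (BT.fix (nat_lit 257) (BT.and (nat_lit 3) (nat_lit 0) (BT.frm (nat_lit 1) (nat_lit 0x1c020302) (nat_lit 0x1c020302) [nat_lit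 2, nat_lit 5, nat_lit 9] (BT.pln (nat_lit 0) (nat_lit 4) (BT.and (nat_lit 2) (nat_lit 0) (BT.br (nat_lit 0) (nat_lit 188) [nat_lit 7] (BT.kid (nat_lit 188) (nat_lit 4) (BT.frm (nat_lit 2) (nat_lit 0x3d1c020302) (nat_lit 0x3d1c020302) [nat_lit 0, nat_lit 6, nat_lit 9, nat_lit 13] (BT.pln (nat_lit 0) (nat_lit 11) (BT.and (nat_lit 4) (nat_lit 0) (BT.br (nat_lit 0) (nat_lit 191) [nat_lit 9] (BT.kid (nat_lit 191) (nat_lit 2) (BT.pln (nat_lit 16) (nat_lit 1) (BT.pln (nat_lit 4) (nat_lit 5) (BT.and (nat_lit 11) (nat_lit 0) (BT.frm (nat_lit 3) (nat_lit 0x403d1c020302) (nat_lit 0x403d1c020302) [nat_lit 0, nat_lit 7, nat_lit 13, nat_lit 16, nat_lit 20] (BT.pln (nat_lit 0) (nat_lit 6) (BT.and (nat_lit 4) (nat_lit 0) (BT.frm (nat_lit 4) (nat_lit 0x41403d1c020302) (nat_lit 0x41403d1c020302) [nat_lit 6, nat_lit 3, nat_lit 10, nat_lit 16, nat_lit 19, nat_lit 23] (BT.pln (nat_lit 0) (nat_lit 6) (BT.dif (nat_lit 2) (nat_lit 0) (BT.img (nat_lit 1) (nat_lit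 9) (BT.frm (nat_lit 5) (nat_lit 0x4341403d1c020302) (nat_lit 0x4341403d1c020302) [nat_lit 0, nat_lit 10, nat_lit 7, nat_lit 14, nat_lit 20, nat_lit 23, nat_lit 27] (BT.pln (nat_lit 0) (nat_lit 7) (BT.dif (nat_lit 3) (nat_lit 0) (BT.br (nat_lit 0) (nat_lit 226) [nat_lit 11] (BT.kid (nat_lit 226) (nat_lit 1) (BT.dif (nat_lit 25) (nat_lit 24) (BT.frm (nat_lit 6) (nat_lit 0x4341403d1c020302) (nat_lit 0x4341403d1c020302) [nat_lit 1, nat_lit 5, nat_lit 15, nat_lit 12, nat_lit 19, nat_lit 25, nat_lit 28, nat_lit 32] (BT.pln (nat_lit 0) (nat_lit 8) (BT.dif (nat_lit 2) (nat_lit 0) (BT.one (nat_lit 7) (nat_lit 0x474341403d1c020302) (nat_lit 0x474341403d1c020302) [nat_lit 0, nat_lit 4, nat_lit 8, nat_lit 18, nat_lit 15, nat_lit 22, nat_lit 28, nat_lit 31, nat_lit 35]))))) BT.nil))))))))))))))) BT.nil))))) BT.nil))))))) BT.nil)))) BT.nil))))) BT.nil)))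

theorem yt_c33_cnt : Cnt 324 (grp 324 y_E0) [z_g540] [z_g540] 0 0 0 0 288 :=
  BT.sound yt_c33_cnt_P Known.nil (t := yt_c33_cnt_t) (d := 0) (by decide +kernel)

theorem yt_c33_ge : 288 ≤ Nat.card (grp 324 yt_c33_K) :=
  Ch.le_card_grp (k := 9) (L := (lab 324 9)) z_hn yt_c33_K_ok (c := (Ch.cons (nat_lit 47) [nat_lit 1] (Ch.cons (nat_lit 68) [nat_lit 3] (Ch.cons (nat_lit 93) [nat_lit 5] (Ch.cons (nat_lit 188) [nat_lit 7] (Ch.cons (nat_lit 191) [nat_lit 9] (Ch.cons (nat_lit 226) [nat_lit 11] Ch.nil))))))) (by decide +kernel)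

theorem yt_c33_eq : (grp 324 y_E0) ⊓ Subgroup.centralizer {Net.toPerm 324 z_g540} = grp 324 yt_c33_K :=
  cent_eq yt_c33_sym yt_c33_cnt yt_c33_ge

theorem yt_c33_card : Nat.card ↥((grp 324 y_E0) ⊓ Subgroup.centralizer {Net.toPerm 324 z_g540}) = 288 :=
  card_cent yt_c33_sym yt_c33_cnt yt_c33_ge

theorem yt_c33_ord : orderOf (Net.toPerm 324 z_g540) = 4 :=
  orderOf_net z_hn z_hk z_g540_ok (by decide) (ps := [2]) (by set_option linter.unusedSimpArgs false in simp [Nat.primeFactorsList_ofNat]) (by decide +kernel)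

theorem z_le566 : grp 324 yt_c34_K ≤ grp 324 y_E0 :=
  grp_le_of_memB z_hn z_hk y_E0_ok yt_c34_K_ok (ws := [nat_lit 0x3335251f191b1b07010827, nat_lit 0x3926281a1d0f070a0225, nat_lit 0x382f25281f1d1f15022e02, nat_lit 0x333828191c1202, nat_lit 0x35382f281d1f08010123, nat_lit 0x34352f28191c120231]) (by decide +kernel)

theorem yt_c34_le : grp 324 yt_c34_K ≤ (grp 324 y_E0) :=
  (z_le566.trans z_T111_s0.le)

theorem yt_c34_mem : Net.toPerm 324 z_g560 ∈ (grp 324 y_E0) :=
  yt_c34_le (toPerm_mem_grp (E := yt_c34_K) (List.Mem.tail _ (List.Mem.head _)))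

theorem yt_c34_sym : Sym 324 (grp 324 y_E0) [z_g560] yt_c34_K 0 :=
  Sym.of_lab z_hn z_hk (okE_cons.2 ⟨z_g560_ok, okE_nil _⟩) yt_c34_K_ok yt_c34_le (kT := 0) (by decide +kernel)

theorem z_le569 : grp 324 z_V568 ≤ grp 324 z_V398 :=
  grp_le_of_memB z_hn z_hk z_V398_ok z_V568_ok (ws := [nat_lit 259]) (by decide +kernel)

theorem z_T111_s87 : Stab 324 (grp 324 y_E0) [nat_lit 24, nat_lit 16, nat_lit 20, nat_lit 69, nat_lit 1, nat_lit 9, nat_lit 2, nat_lit 0] z_V568 2 :=
  Stab.step (k := 9) (L := (lab 324 9)) z_hn z_T111_s56 z_V568_ok z_le569 (c := (Ch.cons (nat_lit 307) [nat_lit 1] Ch.nil)) (by decide +kernel)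

theorem z_T111_s88 : Stab 324 (grp 324 y_E0) [nat_lit 307, nat_lit 24, nat_lit 16, nat_lit 20, nat_lit 69, nat_lit 1, nat_lit 9, nat_lit 2, nat_lit 0] z_V570 1 :=
  Stab.step (k := 9) (L := (lab 324 9)) z_hn z_T111_s87 z_V570_ok (grp_mono (List.subset_append_right [z_g567] _)) (c := Ch.nil) (by decide +kernel)

theorem z_g567_z_T111 : Net.toPerm 324 z_g567 ∈ (grp 324 y_E0) :=
  z_T111_s87.le (toPerm_mem_grp (E := z_V568) (List.Mem.head _))

noncomputable def z_T111_s88_O : ℕ := (nat_lit 0xfffffffffffffffff000000000000000000000000000000000000000000000000000000000000000000000000000000000ffffffffffffffffffffffffffffffff00000000000000000000000000000000f0000000000000000ffffffffffffffff0000000000000000ffffffffffffffff00000000000000000ffffffff00000000ffffffff00000000ffffffff00000000ffffffff00000000ffffffff000000000ffff0000ffff0000ffff0000ffff0000ffff0000ffff0000ffff0000ffff0000ffff0000ffff00000ff00ff00ff00ff00ff00ff00ff00ff00ff00ff00ff00ff0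0ff00ff00ff00ff00ff00ff00ff00ff000f0f0f0f0f0f0f0f0f0f0f0f0f0f0f0f0f0f0f0f0f0f0f0f0f0f0f0f0f0f0f0f0f0f0f0f0f0f0f0f0cccccccccccccccccccccccccccccccccccccccccccccccccccccccccccccccccccccccccccccccccaaaaaaaaaaaaaaaaaaaaaaaaaaaaaaaaaaaaaaaaaaaaaaaaaaaaaaaaaaaaaaaaaaaaaaaaaaaaaaaaa000000000000000000000000000000000000000000000000000000000000000000000000000000001000000000000000000000000000000000000000000000000000000000000000000000000000000004000000000000000000000000000000000000000000000000000000000000000000000000000000200000000000000000000000000000000000000000000000000000000000000000000000000000000002000000000000000000000000000000000000000000000000000000000000000200000000000000000000000000000000000000000000000000000000000000000000000000000000000000000000100000000000000000000000000000000000000000000000000000000000000000000000000000000010000000000000000000000000000000000000000000000000000000000000000000000000000001000000000080000000000000000000000000000000000000000000000000000000000000000000000000000)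

theorem z_T111_s88_F : Frame 324 (grp 324 y_E0) 9 18 z_T111_s88_O 1 1 :=
  IsBase.frame z_T111_s88.isBase (by decide +kernel)

noncomputable def z_T111_s87_O : ℕ := (nat_lit 0x97f3928010fcf8694e6a8000000000000000000000000000000000000000000000000000006eefdf8200c657fcf03059231945deff743ff6a81300febfbebfe7de7ff3760000000000000000000000000028086956e803038621043f3cff54efea89390f7df71401801800c09ffffbfdf4f8000000006ee00005d0cdcebaca2009681943dc8f2cc2e6bc1c3200200feff7fb000c815ffff800807ffdf0000000fdf862ae4e47155f54fdb1047fddd59240112831dfe400ebad8217ea080fff047fc906fc00ff80000fd806279632b9f1dc1144e057da72e541e94647e5c1fc07b135857817c1f60f4783c87c3c078786c0f078d74b843a3d1a1ff268615a3caedef0702633831d3cf0e3675665ab0594ca653167333c6666628cc60c7d247f3ef95308c4459147c4b9a6859d02deacaae5d8ab4dd5912565aad54a455aab2d5554a4a950000000000000000000000000000000000000000000000000000000000000000000000000000000001000000000000000000000000000000000000000000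000000000000000000000000000000000000004000000000000000000000000000000000000000000000000000000000000000000000000000000200000000000000000000000000000000000000000000000000000000000000000000000000000000002000000000000000000000000000000000000000000000000000000000000000200000000000000000000000000000000000000000000000000000000000000000000000000000000000000000000100000000000000000000000000000000000000000000000000000000000000000000000000000000010000000000000000000000000000000000000000000000000000000000000000000000000000001000000)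

theorem z_T111_s87_F : Frame 324 (grp 324 y_E0) 8 16 z_T111_s87_O 0 1 :=
  Stab.frame z_hn z_T111_s87 (by decide +kernel)

noncomputable def yt_c34_cnt_L : List ℕ := [1, 4, z_T111_s1_O, 0, 0, 4, 19, z_T111_s22_O, 0, 0, 6, 12, z_T111_s55_O, 0, 0, 7, 14, z_T111_s56_O, 0, 0, 8, 16, z_T111_s87_O, 0, 0, 9, 18, z_T111_s88_O, 1, 0]

theorem yt_c34_cnt_P : Prob 324 9 (grp 324 y_E0) yt_c34_cnt_EG [z_g560] [z_g560] yt_c34_K yt_c34_cnt_L 0 0 :=
  Sym.prob z_hn z_hk yt_c34_sym yt_c34_cnt_EG_ok (grp_cons_le z_g39_z_T111 (grp_cons_le zg1_z_T111 (grp_cons_le zg3_z_T111 (grp_cons_le z_g43_z_T111 (grp_cons_le z_g42_z_T111 (grp_cons_le zg2_z_T111 (grp_cons_le z_g44_z_T111 (grp_cons_le z_g54_z_T111 (grp_cons_le z_g55_z_T111 (grp_cons_le z_g49_z_T111 (grp_cons_le z_g50_z_T111 (grp_cons_le z_g51_z_T111 (grp_cons_le z_g62_z_T111 (grp_cons_le z_g58_z_T111 (grp_cons_le z_g59_z_T111 (grp_cons_le z_g65_z_T111 (grp_cons_le z_g66_z_T111 (grp_cons_le z_g67_z_T111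 (grp_cons_le z_g77_z_T111 (grp_cons_le z_g78_z_T111 (grp_cons_le z_g72_z_T111 (grp_cons_le z_g73_z_T111 (grp_cons_le z_g74_z_T111 (grp_cons_le z_g81_z_T111 (grp_cons_le z_g82_z_T111 (grp_cons_le z_g87_z_T111 (grp_cons_le zg0_z_T111 (grp_cons_le z_g91_z_T111 (grp_cons_le z_g28_z_T111 (grp_cons_le z_g88_z_T111 (grp_cons_le z_g391_z_T111 (grp_cons_le z_g392_z_T111 (grp_cons_le z_g135_z_T111 (grp_cons_le z_g393_z_T111 (grp_cons_le z_g394_z_T111 (grp_cons_le z_g567_z_T111 (grp_nil_le _))))))))))))))))))))))))))))))))))))) (Frames.cons z_T111_s1_F (Frames.cons z_T111_s22_F (Frames.cons z_T111_s55_F (Frames.cons z_T111_s56_F (Frames.cons z_T111_s87_F (Frames.cons z_T111_s88_F Frames.nil)))))) (okE_cons.2 ⟨z_g560_ok, okE_nil _⟩) _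

noncomputable def yt_c34_cnt_t : BT := (BT.fix (nat_lit 1) (BT.br (nat_lit 0) (nat_lit 130) [nat_lit 1] (BT.dead (nat_lit 139) (BT.frm (nat_lit 0) (nat_lit 67369) (nat_lit 515) [nat_lit 0] (BT.pln (nat_lit 0) (nat_lit 3) (BT.br (nat_lit 0) (nat_lit 254) [nat_lit 5] (BT.dead (nat_lit 221) (BT.dif (nat_lit 4) (nat_lit 3) (BT.br (nat_lit 0) (nat_lit 134) [nat_lit 0x7030302] (BT.dead (nat_lit 130) (BT.pln (nat_lit 4) (nat_lit 2) (BT.img (nat_lit 1) (nat_lit 3) (BT.frm (nat_lit 1) (nat_lit 0x19220f010729) (nat_lit 0x19231207070203) [nat_lit 2, nat_lit 0, nat_lit 4, nat_lit 7] (BT.pln (nat_lit 0) (nat_lit 12) (BT.and (nat_lit 3) (nat_lit 0) (BT.br (nat_lit 0) (nat_lit 267) [nat_lit 590595] (BT.dead (nat_lit 109) (BT.dif (nat_lit 7) (nat_lit 6) (BT.pln (nat_lit 4) (nat_lit 7) (BT.and (nat_lit 1) (nat_lit 0) (BT.dif (nat_lit 2) (nat_lit 1) (BT.frm (nat_lit 3) (nat_lit 0x402719220f010729) (nat_lit 0x411f19231207070203) [nat_lit 4, nat_lit 1, nat_lit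 0, nat_lit 10, nat_lit 8, nat_lit 12, nat_lit 15] (BT.pln (nat_lit 0) (nat_lit 9) (BT.img (nat_lit 1) (nat_lit 6) (BT.and (nat_lit 1) (nat_lit 0) (BT.cnt (nat_lit 0)))))))))) BT.nil))))))) BT.nil))) BT.nil)))) (BT.kid (nat_lit 130) (nat_lit 64) (BT.frm (nat_lit 0) (nat_lit 67369) (nat_lit 67369) [nat_lit 0] (BT.pln (nat_lit 0) (nat_lit 3) (BT.br (nat_lit 0) (nat_lit 254) [nat_lit 5] (BT.kid (nat_lit 254) (nat_lit 8) (BT.dif (nat_lit 4) (nat_lit 3) (BT.br (nat_lit 0) (nat_lit 134) [] (BT.dead (nat_lit 160) (BT.pln (nat_lit 4) (nat_lit 2) (BT.img (nat_lit 1) (nat_lit 3) (BT.frm (nat_lit 1) (nat_lit 0x19220f010729) (nat_lit 0x19201a0f010729) [nat_lit 2, nat_lit 0, nat_lit 4, nat_lit 7] (BT.pln (nat_lit 0) (nat_lit 12) (BT.and (nat_lit 3) (nat_lit 0) (BT.br (nat_lit 0) (nat_lit 267) [nat_lit 11] (BT.dead (nat_lit 161) (BT.pln (nat_lit 3) (nat_lit 7) (BT.and (nat_lit 6) (nat_lit 0) (BT.dif (nat_lit 0) (nat_lit 14) (BT.dif (nat_lit 10) (nat_lit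 9) (BT.and (nat_lit 0) (nat_lit 3) (BT.dif (nat_lit 1) (nat_lit 4) (BT.frm (nat_lit 2) (nat_lit 0x402719220f010729) (nat_lit 0x3d2019201a0f010729) [nat_lit 1, nat_lit 0, nat_lit 12, nat_lit 10, nat_lit 14, nat_lit 17] (BT.pln (nat_lit 0) (nat_lit 6) (BT.dif (nat_lit 5) (nat_lit 0) (BT.pln (nat_lit 2) (nat_lit 7) (BT.dif (nat_lit 1) (nat_lit 0) (BT.br (nat_lit 0) (nat_lit 233) [nat_lit 7] (BT.dead (nat_lit 83) (BT.frm (nat_lit 4) (nat_lit 0x43402719220f010729) (nat_lit 0x413d2019201a0f010729) [nat_lit 0, nat_lit 12, nat_lit 7, nat_lit 6, nat_lit 18, nat_lit 16, nat_lit 20, nat_lit 23] (BT.pln (nat_lit 0) (nat_lit 8) (BT.img (nat_lit 1) (nat_lit 2) (BT.and (nat_lit 1) (nat_lit 0) (BT.cnt (nat_lit 0)))))) BT.nil))))))))))))) BT.nil))))))) (BT.dead (nat_lit 139) (BT.pln (nat_lit 4) (nat_lit 2) (BT.img (nat_lit 1) (nat_lit 3) (BT.frm (nat_lit 1) (nat_lit 0x19220f010729) (nat_lit 0x19190f010729) [nat_lit 2, nat_lit 0, nat_lit 4, nat_lit 7] (BT.pln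 (nat_lit 0) (nat_lit 12) (BT.and (nat_lit 3) (nat_lit 0) (BT.br (nat_lit 0) (nat_lit 267) [nat_lit 9] (BT.dead (nat_lit 223) (BT.dif (nat_lit 7) (nat_lit 6) (BT.pln (nat_lit 4) (nat_lit 7) (BT.and (nat_lit 1) (nat_lit 0) (BT.dif (nat_lit 2) (nat_lit 1) (BT.frm (nat_lit 3) (nat_lit 0x402719220f010729) (nat_lit 0x41402d19190f010729) [nat_lit 4, nat_lit 1, nat_lit 0, nat_lit 10, nat_lit 8, nat_lit 12, nat_lit 15] (BT.pln (nat_lit 0) (nat_lit 9) (BT.img (nat_lit 1) (nat_lit 6) (BT.and (nat_lit 1) (nat_lit 0) (BT.cnt (nat_lit 0)))))))))) BT.nil))))))) (BT.kid (nat_lit 134) (nat_lit 8) (BT.pln (nat_lit 4) (nat_lit 2) (BT.img (nat_lit 1) (nat_lit 3) (BT.frm (nat_lit 1) (nat_lit 0x19220f010729) (nat_lit 0x19220f010729) [nat_lit 2, nat_lit 0, nat_lit 4, nat_lit 7] (BT.pln (nat_lit 0) (nat_lit 12) (BT.and (nat_lit 3) (nat_lit 0) (BT.br (nat_lit 0) (nat_lit 267) [nat_lit 7] (BT.kid (nat_lit 267) (nat_lit 4) (BT.pln (nat_lit 3) (nat_lit 7) (BT.and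 (nat_lit 6) (nat_lit 0) (BT.dif (nat_lit 0) (nat_lit 14) (BT.dif (nat_lit 10) (nat_lit 9) (BT.and (nat_lit 0) (nat_lit 3) (BT.dif (nat_lit 1) (nat_lit 4) (BT.frm (nat_lit 2) (nat_lit 0x402719220f010729) (nat_lit 0x402719220f010729) [nat_lit 1, nat_lit 0, nat_lit 12, nat_lit 10, nat_lit 14, nat_lit 17] (BT.pln (nat_lit 0) (nat_lit 6) (BT.dif (nat_lit 5) (nat_lit 0) (BT.pln (nat_lit 2) (nat_lit 7) (BT.dif (nat_lit 1) (nat_lit 0) (BT.br (nat_lit 0) (nat_lit 233) [nat_lit 9] (BT.kid (nat_lit 233) (nat_lit 2) (BT.dif (nat_lit 27) (nat_lit 4) (BT.pln (nat_lit 6) (nat_lit 11) (BT.and (nat_lit 1) (nat_lit 0) (BT.dif (nat_lit 0) (nat_lit 5) (BT.dif (nat_lit 0) (nat_lit 21) (BT.dif (nat_lit 0) (nat_lit 26) (BT.frm (nat_lit 4) (nat_lit 0x43402719220f010729) (nat_lit 0x43402719220f010729) [nat_lit 6, nat_lit 18, nat_lit 13, nat_lit 12, nat_lit 24, nat_lit 22, nat_lit 26, nat_lit 29] (BT.pln (nat_lit 0) (nat_lit 10) (BT.dif (nat_lit 2) (nat_lit 0)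 (BT.br (nat_lit 0) (nat_lit 29) [nat_lit 11] (BT.kid (nat_lit 29) (nat_lit 1) (BT.one (nat_lit 5) (nat_lit 0x4743402719220f010729) (nat_lit 0x4743402719220f010729) [nat_lit 0, nat_lit 10, nat_lit 22, nat_lit 17, nat_lit 16, nat_lit 28, nat_lit 26, nat_lit 30, nat_lit 33]) BT.nil))))))))))) BT.nil))))))))))))) BT.nil))))))) BT.nil))))) BT.nil)))) BT.nil))))

theorem yt_c34_cnt : Cnt 324 (grp 324 y_E0) [z_g560] [z_g560] 0 0 0 0 192 :=
  BT.sound yt_c34_cnt_P Known.nil (t := yt_c34_cnt_t) (d := 0) (by decide +kernel)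

theorem yt_c34_ge : 192 ≤ Nat.card (grp 324 yt_c34_K) :=
  Ch.le_card_grp (k := 9) (L := (lab 324 9)) z_hn yt_c34_K_ok (c := (Ch.cons (nat_lit 130) [nat_lit 1] (Ch.cons (nat_lit 254) [nat_lit 3, nat_lit 5] (Ch.cons (nat_lit 267) [nat_lit 7] (Ch.cons (nat_lit 233) [nat_lit 9] (Ch.cons (nat_lit 29) [nat_lit 11] Ch.nil)))))) (by decide +kernel)

theorem yt_c34_eq : (grp 324 y_E0) ⊓ Subgroup.centralizer {Net.toPerm 324 z_g560} = grp 324 yt_c34_K :=
  cent_eq yt_c34_sym yt_c34_cnt yt_c34_ge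

theorem yt_c34_card : Nat.card ↥((grp 324 y_E0) ⊓ Subgroup.centralizer {Net.toPerm 324 z_g560}) = 192 :=
  card_cent yt_c34_sym yt_c34_cnt yt_c34_ge

theorem yt_c34_ord : orderOf (Net.toPerm 324 z_g560) = 4 :=
  orderOf_net z_hn z_hk z_g560_ok (by decide) (ps := [2]) (by set_option linter.unusedSimpArgs false in simp [Nat.primeFactorsList_ofNat]) (by decide +kernel)

theorem z_le580 : grp 324 yt_c35_K ≤ grp 324 y_E0 :=
  grp_le_of_memB z_hn z_hk y_E0_ok yt_c35_K_ok (ws := [nat_lit 0x342f291f19221a15012101, nat_lit 0x333529191b120707010529, nat_lit 0x333925191912070515, nat_lit 0x352f19190218, nat_lit 0x333929191c0801012f, nat_lit 0x352519220f120707010109, nat_lit 0x382528191c012502, nat_lit 0x333b252819201a013b02]) (by decide +kernel)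

theorem yt_c35_le : grp 324 yt_c35_K ≤ (grp 324 y_E0) :=
  (z_le580.trans z_T111_s0.le)

theorem yt_c35_mem : Net.toPerm 324 z_g571 ∈ (grp 324 y_E0) :=
  yt_c35_le (mem_grp_of_memB z_hn z_hk yt_c35_K_ok z_g571_ok (w := (nat_lit 0xd0f090f0a070202)) (by decide +kernel))

theorem yt_c35_sym : Sym 324 (grp 324 y_E0) [z_g571] yt_c35_K 0 :=
  Sym.of_lab z_hn z_hk (okE_cons.2 ⟨z_g571_ok, okE_nil _⟩) yt_c35_K_ok yt_c35_le (kT := 0) (by decide +kernel)

theorem z_le584 : grp 324 z_V583 ≤ grp 324 z_V201 :=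
  grp_le_of_memB z_hn z_hk z_V201_ok z_V583_ok (ws := [nat_lit 0x11140b05, nat_lit 0xf150204]) (by decide +kernel)

theorem z_T111_s89 : Stab 324 (grp 324 y_E0) [nat_lit 112, nat_lit 3, nat_lit 1, nat_lit 9, nat_lit 2, nat_lit 0] z_V583 9 :=
  Stab.step (k := 9) (L := (lab 324 9)) z_hn z_T111_s23 z_V583_ok z_le584 (c := (Ch.cons (nat_lit 195) [nat_lit 1, nat_lit 3] Ch.nil)) (by decide +kernel)

theorem z_T111_s90 : Stab 324 (grp 324 y_E0) [nat_lit 195, nat_lit 112, nat_lit 3, nat_lit 1, nat_lit 9, nat_lit 2, nat_lit 0] z_V585 1 :=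
  Stab.step (k := 9) (L := (lab 324 9)) z_hn z_T111_s89 z_V585_ok (grp_mono (List.subset_append_right [z_g581, z_g582] _)) (c := Ch.nil) (by decide +kernel)

theorem z_g581_z_T111 : Net.toPerm 324 z_g581 ∈ (grp 324 y_E0) :=
  z_T111_s89.le (toPerm_mem_grp (E := z_V583) (List.Mem.head _))

theorem z_g582_z_T111 : Net.toPerm 324 z_g582 ∈ (grp 324 y_E0) :=
  z_T111_s89.le (toPerm_mem_grp (E := z_V583) (List.Mem.tail _ (List.Mem.head _)))

noncomputable def z_T111_s90_O : ℕ := (nat_lit 0xfffffffffffffffff000000000000000000000000000000000000000000000000000000000000000000000000000000000ffffffffffffffffffffffffffffffff00000000000000000000000000000000f0000000000000000ffffffffffffffff0000000000000000ffffffffffffffff00000000000000000ffffffff00000000ffffffff00000000ffffffff00000000ffffffff00000000ffffffff000000000ffff0000ffff0000ffff0000ffff0000ffff0000ffff0000ffff0000ffff0000ffff0000ffff00000ff00ff00ff00ff00ff00ff00ff00ff00ff00ff00ff00ff00ff00f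f00ff00ff00ff00ff00ff00ff000f0f0f0f0f0f0f0f0f0f0f0f0f0f0f0f0f0f0f0f0f0f0f0f0f0f0f0f0f0f0f0f0f0f0f0f0f0f0f0f0cccccccccccccccccccccccccccccccccccccccccccccccccccccccccccccccccccccccccccccccccaaaaaaaaaaaaaaaaaaaaaaaaaaaaaaaaaaaaaaaaaaaaaaaaaaaaaaaaaaaaaaaaaaaaaaaaaaaaaaaaa000000000000000000000000000000000000000000000000000000000000000000000000000000001000000000000000000000000000000000000000000000000000000000000000000000000000000004000000000000000000000000000000000000000000000000000000000000000000000000000000200000000000000000000000000000000000000000000000000000000000000000000000000000000002000000000000000000000000000000000000000000000000000000000000000000000000000000008000000000000000000000000000000000000000000000000000010000000000000000000000000000000000000000000000000000000000008000000000000000000000000000000000000000000000000)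

theorem z_T111_s90_F : Frame 324 (grp 324 y_E0) 7 16 z_T111_s90_O 1 1 :=
  IsBase.frame z_T111_s90.isBase (by decide +kernel)

noncomputable def z_T111_s89_O : ℕ := (nat_lit 0x883821010508010040000200000000000000000000000000000000000000000000000000000000000000000000000000000000080a00800000000121000040a0c11882a1000000001000000000003fdc0177c358f4f8c7fcdab7761090b4b89d1260f29fb38e9d9ffdd9bc542c9b6b3b00a000000000000030fcb7fea9e4270f6270c91dcb8b86ff3026072f35cf326e1a36676bef444c0808f5fe1000000038030e8c47032f2d306a513a7a6cc3edfc7bdffeff080048a12a6c88426b52b78fb0d41e0ec07880007830f573041a9f2fc1b9329808480d0960af59f0d1facbf085f40f752ec41502e8f131952bf97700265306e2284fd2eea988f0eb58799f3a5523c6667a799770d159dade8623a7213dca73d530a60f280154a0000000000000000000000000000000000000000000000000000000000000000000000000000000001000000000000000000000000000000000000000000000000000000000000000000000000000000004000000000000000000000000000000000000000000000000000000000000000000000000000000200000000000000000000000000000000000000000000000000000000000000000000000000000000002000000000000000000000000000000000000000000000000000000000000000000000000000000008000000000000000000000000000000000000000000000000000010000000000000000000000000000)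

theorem z_T111_s89_F : Frame 324 (grp 324 y_E0) 6 13 z_T111_s89_O 0 1 :=
  Stab.frame z_hn z_T111_s89 (by decide +kernel)

noncomputable def yt_c35_cnt_L : List ℕ := [1, 4, z_T111_s1_O, 0, 0, 2, 6, z_T111_s20_O, 0, 0, 4, 19, z_T111_s22_O, 0, 0, 5, 10, z_T111_s23_O, 0, 0, 6, 13, z_T111_s89_O, 0, 0, 7, 16, z_T111_s90_O, 1, 0]

theorem yt_c35_cnt_P : Prob 324 9 (grp 324 y_E0) yt_c35_cnt_EG [z_g571] [z_g571] yt_c35_K yt_c35_cnt_L 0 0 :=
  Sym.prob z_hn z_hk yt_c35_sym yt_c35_cnt_EG_ok (grp_cons_le z_g39_z_T111 (grp_cons_le zg1_z_T111 (grp_cons_le zg3_z_T111 (grp_cons_le z_g43_z_T111 (grp_cons_le z_g42_z_T111 (grp_cons_le zg2_z_T111 (grp_cons_le z_g44_z_T111 (grp_cons_le z_g54_z_T111 (grp_cons_le z_g55_z_T111 (grp_cons_le z_g49_z_T111 (grp_cons_le z_g50_z_T111 (grp_cons_le z_g51_z_T111 (grp_cons_le z_g62_z_T111 (grp_cons_le z_g58_z_T111 (grp_cons_le z_g59_z_T111 (grp_cons_le z_g65_z_T111 (grp_cons_le z_g66_z_T111 (grp_cons_le z_g67_z_T111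 (grp_cons_le z_g77_z_T111 (grp_cons_le z_g78_z_T111 (grp_cons_le z_g72_z_T111 (grp_cons_le z_g73_z_T111 (grp_cons_le z_g74_z_T111 (grp_cons_le z_g81_z_T111 (grp_cons_le z_g82_z_T111 (grp_cons_le z_g87_z_T111 (grp_cons_le zg0_z_T111 (grp_cons_le z_g91_z_T111 (grp_cons_le z_g28_z_T111 (grp_cons_le z_g88_z_T111 (grp_cons_le z_g581_z_T111 (grp_cons_le z_g582_z_T111 (grp_nil_le _))))))))))))))))))))))))))))))))) (Frames.cons z_T111_s1_F (Frames.cons z_T111_s20_F (Frames.cons z_T111_s22_F (Frames.cons z_T111_s23_F (Frames.cons z_T111_s89_F (Frames.cons z_T111_s90_F Frames.nil)))))) (okE_cons.2 ⟨z_g571_ok, okE_nil _⟩) _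

noncomputable def yt_c35_cnt_t : BT := (BT.fix (nat_lit 65793) (BT.fix (nat_lit 1) (BT.dif (nat_lit 1) (nat_lit 0) (BT.br (nat_lit 0) (nat_lit 64) [nat_lit 1, nat_lit 5] (BT.kid (nat_lit 64) (nat_lit 3888) (BT.img (nat_lit 1) (nat_lit 0) (BT.frm (nat_lit 1) (nat_lit 0x7010123) (nat_lit 0x7010123) [nat_lit 0, nat_lit 1] (BT.pln (nat_lit 0) (nat_lit 4) (BT.and (nat_lit 4) (nat_lit 0) (BT.br (nat_lit 0) (nat_lit 105) [nat_lit 3, nat_lit 5] (BT.kid (nat_lit 105) (nat_lit 648) (BT.frm (nat_lit 0) (nat_lit 65827) (nat_lit 65827) [nat_lit 5] (BT.pln (nat_lit 0) (nat_lit 2) (BT.dif (nat_lit 0) (nat_lit 9) (BT.br (nat_lit 0) (nat_lit 106) [nat_lit 7] (BT.dead (nat_lit 159) (BT.frm (nat_lit 2) (nat_lit 0x19191107010123) (nat_lit 0x191b1107010123) [nat_lit 0, nat_lit 4, nat_lit 8, nat_lit 9] (BT.pln (nat_lit 0) (nat_lit 11) (BT.and (nat_lit 0) (nat_lit 13) (BT.cnt (nat_lit 0))))) (BT.dead (nat_lit 153) (BT.frm (nat_lit 2) (nat_lit 0x19191107010123)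 (nat_lit 0x1a201107010123) [nat_lit 0, nat_lit 4, nat_lit 8, nat_lit 9] (BT.pln (nat_lit 0) (nat_lit 9) (BT.and (nat_lit 0) (nat_lit 13) (BT.cnt (nat_lit 0))))) (BT.dead (nat_lit 278) (BT.frm (nat_lit 2) (nat_lit 0x19191107010123) (nat_lit 0x1a1107010123) [nat_lit 0, nat_lit 4, nat_lit 8, nat_lit 9] (BT.pln (nat_lit 0) (nat_lit 10) (BT.and (nat_lit 0) (nat_lit 13) (BT.cnt (nat_lit 0))))) (BT.kid (nat_lit 106) (nat_lit 324) (BT.frm (nat_lit 2) (nat_lit 0x19191107010123) (nat_lit 0x19191107010123) [nat_lit 0, nat_lit 4, nat_lit 8, nat_lit 9] (BT.pln (nat_lit 0) (nat_lit 6) (BT.dif (nat_lit 3) (nat_lit 2) (BT.pln (nat_lit 2) (nat_lit 9) (BT.and (nat_lit 1) (nat_lit 0) (BT.pln (nat_lit 4) (nat_lit 10) (BT.and (nat_lit 7) (nat_lit 0) (BT.img (nat_lit 1) (nat_lit 0) (BT.dif (nat_lit 3) (nat_lit 0) (BT.frm (nat_lit 3) (nat_lit 0x19191107010123) (nat_lit 0x19191107010123) [nat_lit 0, nat_lit 9, nat_lit 13, nat_lit 17, nat_lit 18] (BT.pln (nat_lit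 0) (nat_lit 6) (BT.dif (nat_lit 9) (nat_lit 0) (BT.br (nat_lit 0) (nat_lit 28) [nat_lit 9, nat_lit 11, nat_lit 15] (BT.kid (nat_lit 28) (nat_lit 9) (BT.dif (nat_lit 28) (nat_lit 2) (BT.pln (nat_lit 4) (nat_lit 5) (BT.dif (nat_lit 1) (nat_lit 0) (BT.pln (nat_lit 6) (nat_lit 7) (BT.dif (nat_lit 1) (nat_lit 0) (BT.dif (nat_lit 0) (nat_lit 30) (BT.dif (nat_lit 0) (nat_lit 21) (BT.frm (nat_lit 4) (nat_lit 0x272f19191107010123) (nat_lit 0x272f19191107010123) [nat_lit 7, nat_lit 11, nat_lit 20, nat_lit 24, nat_lit 28, nat_lit 29] (BT.pln (nat_lit 0) (nat_lit 7) (BT.dif (nat_lit 2) (nat_lit 0) (BT.br (nat_lit 0) (nat_lit 133) [nat_lit 13, nat_lit 15] (BT.kid (nat_lit 133) (nat_lit 1) (BT.one (nat_lit 5) (nat_lit 0x3f272f19191107010123) (nat_lit 0x3f272f19191107010123) [nat_lit 0, nat_lit 11, nat_lit 15, nat_lit 24, nat_lit 28, nat_lit 32, nat_lit 33]) BT.nil)))))))))))) BT.nil)))))))))))))) BT.nil)))))))) BT.nil)))))) BT.nil)))))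

theorem yt_c35_cnt : Cnt 324 (grp 324 y_E0) [z_g571] [z_g571] 0 0 0 0 34992 :=
  BT.sound yt_c35_cnt_P Known.nil (t := yt_c35_cnt_t) (d := 0) (by decide +kernel)

theorem yt_c35_ge : 34992 ≤ Nat.card (grp 324 yt_c35_K) :=
  Ch.le_card_grp (k := 9) (L := (lab 324 9)) z_hn yt_c35_K_ok (c := (Ch.cons (nat_lit 64) [nat_lit 1] (Ch.cons (nat_lit 105) [nat_lit 3, nat_lit 5] (Ch.cons (nat_lit 106) [nat_lit 7] (Ch.cons (nat_lit 28) [nat_lit 9, nat_lit 11] (Ch.cons (nat_lit 133) [nat_lit 13, nat_lit 15] Ch.nil)))))) (by decide +kernel)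

theorem yt_c35_eq : (grp 324 y_E0) ⊓ Subgroup.centralizer {Net.toPerm 324 z_g571} = grp 324 yt_c35_K :=
  cent_eq yt_c35_sym yt_c35_cnt yt_c35_ge

theorem yt_c35_card : Nat.card ↥((grp 324 y_E0) ⊓ Subgroup.centralizer {Net.toPerm 324 z_g571}) = 34992 :=
  card_cent yt_c35_sym yt_c35_cnt yt_c35_ge

theorem yt_c35_ord : orderOf (Net.toPerm 324 z_g571) = 6 :=
  orderOf_net z_hn z_hk z_g571_ok (by decide) (ps := [2, 3]) (by set_option linter.unusedSimpArgs false in simp [Nat.primeFactorsList_ofNat]) (by decide +kernel)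

theorem z_le595 : grp 324 yt_c36_K ≤ grp 324 y_E0 :=
  grp_le_of_memB z_hn z_hk y_E0_ok yt_c36_K_ok (ws := [nat_lit 0x3338251f11070c022e, nat_lit 0x34392f271920110715010731, nat_lit 0x372f291a0f12070a010512, nat_lit 0x3826281f1a1f150707010516, nat_lit 0x34392f29012602, nat_lit 0x33353c2711011101, nat_lit 0x352f252819221a, nat_lit 0x251f1d]) (by decide +kernel)

theorem yt_c36_le : grp 324 yt_c36_K ≤ (grp 324 y_E0) :=
  (z_le595.trans z_T111_s0.le)

end Cfsg.Agent.H99.HB
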