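import Mathlib
import Cfsg.Agent.H99.FiH8b

/-!
# The classes of a subgroup of index four
-/

set_option autoImplicit false
set_option maxRecDepth 200000
set_option linter.style.longLine false

namespace Cfsg.Agent.H99.HB

open Cfsg.Agent.H43

theorem yt_c36_mem : Net.toPerm 324 z_g586 ∈ (grp 324 y_E0) :=
  yt_c36_le (mem_grp_of_memB z_hn z_hk yt_c36_K_ok z_g586_ok (w := (nat_lit 0xe1009070c080501)) (by decide +kernel))

theorem yt_c36_sym : Sym 324 (grp 324 y_E0) [z_g586] yt_c36_K 0 :=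
  Sym.of_lab z_hn z_hk (okE_cons.2 ⟨z_g586_ok, okE_nil _⟩) yt_c36_K_ok yt_c36_le (kT := 0) (by decide +kernel)

noncomputable def yt_c36_cnt_L : List ℕ := [1, 4, z_T111_s1_O, 0, 0, 2, 6, z_T111_s20_O, 0, 0, 4, 10, z_T111_s58_O, 0, 0, 5, 12, z_T111_s59_O, 0, 0, 6, 15, z_T111_s60_O, 1, 0]

theorem yt_c36_cnt_P : Prob 324 9 (grp 324 y_E0) yt_c36_cnt_EG [z_g586] [z_g586] yt_c36_K yt_c36_cnt_L 0 0 :=
  Sym.prob z_hn z_hk yt_c36_sym yt_c36_cnt_EG_ok (grp_cons_le z_g39_z_T111 (grp_cons_le zg1_z_T111 (grp_cons_le zg3_z_T111 (grp_cons_le z_g43_z_T111 (grp_cons_le z_g42_z_T111 (grp_cons_le zg2_z_T111 (grp_cons_le z_g44_z_T111 (grp_cons_le z_g54_z_T111 (grp_cons_le z_g55_z_T111 (grp_cons_le z_g49_z_T111 (grp_cons_le z_g50_z_T111 (grp_cons_le z_g51_z_T111 (grp_cons_le z_g62_z_T111 (grp_cons_le z_g58_z_T111 (grp_cons_le z_g59_z_T111 (grp_cons_le z_g65_z_T111 (grp_cons_le z_g66_z_T111 (grp_cons_le z_g67_z_T111 (grp_cons_le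 z_g77_z_T111 (grp_cons_le z_g78_z_T111 (grp_cons_le z_g72_z_T111 (grp_cons_le z_g73_z_T111 (grp_cons_le z_g74_z_T111 (grp_cons_le z_g81_z_T111 (grp_cons_le z_g82_z_T111 (grp_cons_le z_g87_z_T111 (grp_cons_le zg0_z_T111 (grp_cons_le z_g91_z_T111 (grp_cons_le z_g28_z_T111 (grp_cons_le z_g88_z_T111 (grp_cons_le z_g424_z_T111 (grp_cons_le z_g425_z_T111 (grp_cons_le z_g426_z_T111 (grp_cons_le z_g427_z_T111 (grp_nil_le _))))))))))))))))))))))))))))))))))) (Frames.cons z_T111_s1_F (Frames.cons z_T111_s20_F (Frames.cons z_T111_s58_F (Frames.cons z_T111_s59_F (Frames.cons z_T111_s60_F Frames.nil))))) (okE_cons.2 ⟨z_g586_ok, okE_nil _⟩) _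

noncomputable def yt_c36_cnt_t : BT := (BT.fix (nat_lit 1) (BT.frm (nat_lit 0) (nat_lit 295) (nat_lit 295) [nat_lit 0] (BT.pln (nat_lit 0) (nat_lit 3) (BT.br (nat_lit 0) (nat_lit 290) [nat_lit 1] (BT.dead (nat_lit 304) (BT.frm (nat_lit 1) (nat_lit 590119) (nat_lit 295) [nat_lit 0, nat_lit 3] (BT.pln (nat_lit 0) (nat_lit 4) (BT.and (nat_lit 3) (nat_lit 0) (BT.br (nat_lit 0) (nat_lit 304) [nat_lit 0xf0b070a0301] (BT.dead (nat_lit 290) (BT.pln (nat_lit 6) (nat_lit 1) (BT.fix (nat_lit 257) (BT.dif (nat_lit 1) (nat_lit 0) (BT.br (nat_lit 0) (nat_lit 282) [nat_lit 0xf090c07090c, nat_lit 0xa0b070d] (BT.dead (nat_lit 91) (BT.frm (nat_lit 2) (nat_lit 0x19290f090127) (nat_lit 0x212e0f120127) [nat_lit 0, nat_lit 4, nat_lit 8, nat_lit 11] (BT.pln (nat_lit 0) (nat_lit 4) (BT.and (nat_lit 0) (nat_lit 4) (BT.cnt (nat_lit 0))))) (BT.dead (nat_lit 282) (BT.frm (nat_lit 2) (nat_lit 0x19290f090127) (nat_lit 0x1b3c0f120127)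 [nat_lit 0, nat_lit 4, nat_lit 8, nat_lit 11] (BT.pln (nat_lit 0) (nat_lit 4) (BT.and (nat_lit 0) (nat_lit 4) (BT.cnt (nat_lit 0))))) BT.nil)))))) (BT.dead (nat_lit 270) (BT.pln (nat_lit 6) (nat_lit 1) (BT.fix (nat_lit 257) (BT.dif (nat_lit 1) (nat_lit 0) (BT.br (nat_lit 0) (nat_lit 282) [nat_lit 0x10070e, nat_lit 0xe0f0a070c08] (BT.dead (nat_lit 282) (BT.frm (nat_lit 2) (nat_lit 0x19290f090127) (nat_lit 0x230f0127) [nat_lit 0, nat_lit 4, nat_lit 8, nat_lit 11] (BT.pln (nat_lit 0) (nat_lit 4) (BT.img (nat_lit 1) (nat_lit 2) (BT.img (nat_lit 1) (nat_lit 0) (BT.and (nat_lit 2) (nat_lit 0) (BT.cnt (nat_lit 0))))))) (BT.dead (nat_lit 91) (BT.frm (nat_lit 2) (nat_lit 0x19290f090127) (nat_lit 0x2d0f0127) [nat_lit 0, nat_lit 4, nat_lit 8, nat_lit 11] (BT.pln (nat_lit 0) (nat_lit 4) (BT.img (nat_lit 1) (nat_lit 2) (BT.and (nat_lit 1) (nat_lit 0) (BT.cnt (nat_lit 0)))))) BT.nil)))))) (BT.dead (nat_lit 269) (BT.pln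 (nat_lit 6) (nat_lit 1) (BT.fix (nat_lit 257) (BT.dif (nat_lit 1) (nat_lit 0) (BT.br (nat_lit 0) (nat_lit 282) [nat_lit 1799, nat_lit 0x10090c07090e] (BT.dead (nat_lit 91) (BT.frm (nat_lit 2) (nat_lit 0x19290f090127) (nat_lit 0x19300127) [nat_lit 0, nat_lit 4, nat_lit 8, nat_lit 11] (BT.pln (nat_lit 0) (nat_lit 4) (BT.and (nat_lit 0) (nat_lit 4) (BT.cnt (nat_lit 0))))) (BT.dead (nat_lit 282) (BT.frm (nat_lit 2) (nat_lit 0x19290f090127) (nat_lit 0x1a3c0127) [nat_lit 0, nat_lit 4, nat_lit 8, nat_lit 11] (BT.pln (nat_lit 0) (nat_lit 4) (BT.and (nat_lit 0) (nat_lit 4) (BT.cnt (nat_lit 0))))) BT.nil)))))) BT.nil))))))) (BT.kid (nat_lit 290) (nat_lit 13122) (BT.frm (nat_lit 1) (nat_lit 590119) (nat_lit 590119) [nat_lit 0, nat_lit 3] (BT.pln (nat_lit 0) (nat_lit 4) (BT.and (nat_lit 3) (nat_lit 0) (BT.br (nat_lit 0) (nat_lit 304) [nat_lit 3, nat_lit 5] (BT.kid (nat_lit 304) (nat_lit 2187) (BT.pln (nat_lit 6) (nat_lit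 1) (BT.fix (nat_lit 257) (BT.dif (nat_lit 1) (nat_lit 0) (BT.br (nat_lit 0) (nat_lit 282) [nat_lit 7, nat_lit 9] (BT.dead (nat_lit 91) (BT.frm (nat_lit 2) (nat_lit 0x19290f090127) (nat_lit 0x280f090127) [nat_lit 0, nat_lit 4, nat_lit 8, nat_lit 11] (BT.pln (nat_lit 0) (nat_lit 4) (BT.img (nat_lit 1) (nat_lit 2) (BT.img (nat_lit 1) (nat_lit 0) (BT.and (nat_lit 2) (nat_lit 0) (BT.cnt (nat_lit 0))))))) (BT.kid (nat_lit 282) (nat_lit 81) (BT.dif (nat_lit 14) (nat_lit 2) (BT.dif (nat_lit 0) (nat_lit 4) (BT.pln (nat_lit 12) (nat_lit 2) (BT.dif (nat_lit 1) (nat_lit 0) (BT.frm (nat_lit 2) (nat_lit 0x19290f090127) (nat_lit 0x19290f090127) [nat_lit 4, nat_lit 8, nat_lit 12, nat_lit 15] (BT.pln (nat_lit 0) (nat_lit 7) (BT.and (nat_lit 2) (nat_lit 0) (BT.pln (nat_lit 2) (nat_lit 4) (BT.dif (nat_lit 1) (nat_lit 0) (BT.pln (nat_lit 4) (nat_lit 5) (BT.dif (nat_lit 1) (nat_lit 0) (BT.br (nat_lit 0) (nat_lit 100) [nat_lit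 9, nat_lit 11] (BT.dead (nat_lit 126) (BT.frm (nat_lit 3) (nat_lit 0x3e403e19290f090127) (nat_lit 0x403e19290f090127) [nat_lit 0, nat_lit 12, nat_lit 16, nat_lit 20, nat_lit 23] (BT.pln (nat_lit 0) (nat_lit 5) (BT.and (nat_lit 0) (nat_lit 16) (BT.cnt (nat_lit 0))))) (BT.kid (nat_lit 100) (nat_lit 9) (BT.and (nat_lit 2) (nat_lit 4) (BT.pln (nat_lit 8) (nat_lit 6) (BT.and (nat_lit 1) (nat_lit 0) (BT.frm (nat_lit 3) (nat_lit 0x3e403e19290f090127) (nat_lit 0x3e403e19290f090127) [nat_lit 3, nat_lit 15, nat_lit 19, nat_lit 23, nat_lit 26] (BT.pln (nat_lit 0) (nat_lit 7) (BT.dif (nat_lit 2) (nat_lit 0) (BT.dif (nat_lit 0) (nat_lit 21) (BT.br (nat_lit 0) (nat_lit 199) [nat_lit 13, nat_lit 15] (BT.kid (nat_lit 199) (nat_lit 1) (BT.one (nat_lit 4) (nat_lit 0x41433e403e19290f090127) (nat_lit 0x41433e403e19290f090127) [nat_lit 0, nat_lit 8, nat_lit 20, nat_lit 24, nat_lit 28, nat_lit 31]) BT.nil))))))))) BT.nil))))))))))))))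 BT.nil)))))) BT.nil))))) BT.nil))))))

theorem yt_c36_cnt : Cnt 324 (grp 324 y_E0) [z_g586] [z_g586] 0 0 0 0 26244 :=
  BT.sound yt_c36_cnt_P Known.nil (t := yt_c36_cnt_t) (d := 0) (by decide +kernel)

theorem yt_c36_ge : 26244 ≤ Nat.card (grp 324 yt_c36_K) :=
  Ch.le_card_grp (k := 9) (L := (lab 324 9)) z_hn yt_c36_K_ok (c := (Ch.cons (nat_lit 290) [nat_lit 1] (Ch.cons (nat_lit 304) [nat_lit 3, nat_lit 5] (Ch.cons (nat_lit 282) [nat_lit 7] (Ch.cons (nat_lit 100) [nat_lit 9, nat_lit 11] (Ch.cons (nat_lit 199) [nat_lit 13, nat_lit 15] Ch.nil)))))) (by decide +kernel)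

theorem yt_c36_eq : (grp 324 y_E0) ⊓ Subgroup.centralizer {Net.toPerm 324 z_g586} = grp 324 yt_c36_K :=
  cent_eq yt_c36_sym yt_c36_cnt yt_c36_ge

theorem yt_c36_card : Nat.card ↥((grp 324 y_E0) ⊓ Subgroup.centralizer {Net.toPerm 324 z_g586}) = 26244 :=
  card_cent yt_c36_sym yt_c36_cnt yt_c36_ge

theorem yt_c36_ord : orderOf (Net.toPerm 324 z_g586) = 6 :=
  orderOf_net z_hn z_hk z_g586_ok (by decide) (ps := [2, 3]) (by set_option linter.unusedSimpArgs false in simp [Nat.primeFactorsList_ofNat]) (by decide +kernel)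

theorem z_le604 : grp 324 yt_c37_K ≤ grp 324 y_E0 :=
  grp_le_of_memB z_hn z_hk y_E0_ok yt_c37_K_ok (ws := [nat_lit 0x34392f26191b1b120715051b, nat_lit 0x3b2628191c012602, nat_lit 0x37281f19201c0f070a012d, nat_lit 0x342f191b1b110715010333, nat_lit 0x251d1f012502, nat_lit 0x34352619201a022501, nat_lit 0x390539]) (by decide +kernel)

theorem yt_c37_le : grp 324 yt_c37_K ≤ (grp 324 y_E0) :=
  (z_le604.trans z_T111_s0.le)

theorem yt_c37_mem : Net.toPerm 324 z_g596 ∈ (grp 324 y_E0) :=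
  yt_c37_le (mem_grp_of_memB z_hn z_hk yt_c37_K_ok z_g596_ok (w := (nat_lit 459266)) (by decide +kernel))

theorem yt_c37_sym : Sym 324 (grp 324 y_E0) [z_g596] yt_c37_K 0 :=
  Sym.of_lab z_hn z_hk (okE_cons.2 ⟨z_g596_ok, okE_nil _⟩) yt_c37_K_ok yt_c37_le (kT := 0) (by decide +kernel)

theorem z_le612 : grp 324 z_V611 ≤ grp 324 z_V552 :=
  grp_le_of_memB z_hn z_hk z_V552_ok z_V611_ok (ws := [nat_lit 0xc0905040101, nat_lit 0xb05030c020c, nat_lit 0x90704010105, nat_lit 0xc0905010c02, nat_lit 0xc07030b, nat_lit 0xc090705030c0401010c, nat_lit 0xc07030c0401010c, nat_lit 0xb090705030c040101]) (by decide +kernel)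

theorem z_T111_s91 : Stab 324 (grp 324 y_E0) [nat_lit 15, nat_lit 14, nat_lit 2, nat_lit 0] z_V611 1944 :=
  Stab.step (k := 9) (L := (lab 324 9)) z_hn z_T111_s80 z_V611_ok z_le612 (c := (Ch.cons (nat_lit 17) [nat_lit 1, nat_lit 3] (Ch.cons (nat_lit 27) [nat_lit 5, nat_lit 7] (Ch.cons (nat_lit 150) [nat_lit 9] (Ch.cons (nat_lit 108) [nat_lit 11, nat_lit 13, nat_lit 15] Ch.nil))))) (by decide +kernel)

theorem z_T111_s92 : Stab 324 (grp 324 y_E0) [nat_lit 17, nat_lit 15, nat_lit 14, nat_lit 2, nat_lit 0] z_V613 324 :=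
  Stab.step (k := 9) (L := (lab 324 9)) z_hn z_T111_s91 z_V613_ok (grp_mono (List.subset_append_right [z_g605, z_g606] _)) (c := (Ch.cons (nat_lit 27) [nat_lit 1, nat_lit 3] (Ch.cons (nat_lit 150) [nat_lit 5] (Ch.cons (nat_lit 108) [nat_lit 7, nat_lit 9, nat_lit 11] Ch.nil)))) (by decide +kernel)

theorem z_T111_s93 : Stab 324 (grp 324 y_E0) [nat_lit 27, nat_lit 17, nat_lit 15, nat_lit 14, nat_lit 2, nat_lit 0] z_V614 36 :=
  Stab.step (k := 9) (L := (lab 324 9)) z_hn z_T111_s92 z_V614_ok (grp_mono (List.subset_append_right [z_g607, z_g608] _)) (c := (Ch.cons (nat_lit 150) [nat_lit 1] (Ch.cons (nat_lit 108) [nat_lit 3, nat_lit 5, nat_lit 7] Ch.nil))) (by decide +kernel)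

theorem z_T111_s94 : Stab 324 (grp 324 y_E0) [nat_lit 150, nat_lit 27, nat_lit 17, nat_lit 15, nat_lit 14, nat_lit 2, nat_lit 0] z_V615 18 :=
  Stab.step (k := 9) (L := (lab 324 9)) z_hn z_T111_s93 z_V615_ok (grp_mono (List.subset_append_right [zg0] _)) (c := (Ch.cons (nat_lit 108) [nat_lit 1, nat_lit 3, nat_lit 5] Ch.nil)) (by decide +kernel)

theorem z_T111_s95 : Stab 324 (grp 324 y_E0) [nat_lit 108, nat_lit 150, nat_lit 27, nat_lit 17, nat_lit 15, nat_lit 14, nat_lit 2, nat_lit 0] z_V616 1 :=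
  Stab.step (k := 9) (L := (lab 324 9)) z_hn z_T111_s94 z_V616_ok (grp_mono (List.subset_append_right [z_g609, z_g610, z_g260] _)) (c := Ch.nil) (by decide +kernel)

theorem z_g605_z_T111 : Net.toPerm 324 z_g605 ∈ (grp 324 y_E0) :=
  z_T111_s91.le (toPerm_mem_grp (E := z_V611) (List.Mem.head _))

theorem z_g606_z_T111 : Net.toPerm 324 z_g606 ∈ (grp 324 y_E0) :=
  z_T111_s91.le (toPerm_mem_grp (E := z_V611) (List.Mem.tail _ (List.Mem.head _)))

theorem z_g607_z_T111 : Net.toPerm 324 z_g607 ∈ (grp 324 y_E0) :=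
  z_T111_s91.le (toPerm_mem_grp (E := z_V611) (List.Mem.tail _ (List.Mem.tail _ (List.Mem.head _))))

theorem z_g608_z_T111 : Net.toPerm 324 z_g608 ∈ (grp 324 y_E0) :=
  z_T111_s91.le (toPerm_mem_grp (E := z_V611) (List.Mem.tail _ (List.Mem.tail _ (List.Mem.tail _ (List.Mem.head _)))))

theorem z_g609_z_T111 : Net.toPerm 324 z_g609 ∈ (grp 324 y_E0) :=
  z_T111_s91.le (toPerm_mem_grp (E := z_V611) (List.Mem.tail _ (List.Mem.tail _ (List.Mem.tail _ (List.Mem.tail _ (List.Mem.tail _ (List.Mem.head _)))))))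

theorem z_g610_z_T111 : Net.toPerm 324 z_g610 ∈ (grp 324 y_E0) :=
  z_T111_s91.le (toPerm_mem_grp (E := z_V611) (List.Mem.tail _ (List.Mem.tail _ (List.Mem.tail _ (List.Mem.tail _ (List.Mem.tail _ (List.Mem.tail _ (List.Mem.head _))))))))

theorem z_g260_z_T111 : Net.toPerm 324 z_g260 ∈ (grp 324 y_E0) :=
  z_T111_s91.le (toPerm_mem_grp (E := z_V611) (List.Mem.tail _ (List.Mem.tail _ (List.Mem.tail _ (List.Mem.tail _ (List.Mem.tail _ (List.Mem.tail _ (List.Mem.tail _ (List.Mem.head _)))))))))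

noncomputable def z_T111_s95_O : ℕ := (nat_lit 0xfffffffffffffffff000000000000000000000000000000000000000000000000000000000000000000000000000000000ffffffffffffffffffffffffffffffff00000000000000000000000000000000f0000000000000000ffffffffffffffff0000000000000000ffffffffffffffff00000000000000000ffffffff00000000ffffffff00000000ffffffff00000000ffffffff00000000ffffffff000000000ffff0000ffff0000ffff0000ffff0000ffff0000ffff0000ffff0000ffff0000ffff0000ffff00000ff00ff00ff00ff00ff00ff00ff00ff00ff00ff00ff00ff00ff00ff00ff00ff00ff00ff00ff00ff000f0f0f0f0f0f0f0f0f0f0f0f0f0f0f0f0f0f0f0f0f0f0f0f0f0f0f0f0f0f0f0f0f0f0f0f0f0f0f0f0cccccccccccccccccccccccccccccccccccccccccccccccccccccccccccccccccccccccccccccccccaaaaaaaaaaaaaaaaaaaaaaaaaaaaaaaaaaaaaaaaaaaaaaaaaaaaaaaaaaaaaaaaaaaaaaaaaaaaaaaaa00000000000000000000000000000000000000000000000000000000000000000000000000000000100000000000000000000000000000000000000000000000000000000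0000000000000000000000004000000000000000000000000000000000000000000000000000000000000000000000000000004000000000000000000000000000000000000000000000000000000000000000000000000000000008000000000000000000000000000000000000000000000000000000000000000000000000000000020000000000000000000000000000000000000000000000000000000000000000000000000000008000000000000000000000000000000000000000000000000040000000000000000000000000000000000000000000000000000000000000000000000000000000000000000001000000000000000000000000000)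

theorem z_T111_s95_F : Frame 324 (grp 324 y_E0) 8 17 z_T111_s95_O 1 1 :=
  IsBase.frame z_T111_s95.isBase (by decide +kernel)

noncomputable def z_T111_s94_O : ℕ := (nat_lit 0x400000000000000010402000000000000000000000000000000001000000000000000000000000000000000000000000000000000000000000000000000000000000000040200000000007fd3ffa7fbb879d1fdef99dafb761290b41c070260f21fb3869d1fdcd99f2e3c8b29fb21b000000000013e0094f774dbd6350fe3334b29618b4bbd91260f2eb0cbb24e9ebf67cdcf4d6ca70a64b600000000121e095f4feabfd8d4f3c743415f74f9e07819980515f0ceab3dac495c647415a34bac0e8f4070800019989a97ba34fa7d97f97e5096fa3aa78b00000009ad7f216da7d97f93f5320684a4b8d91260f20011552000000000000000000000000000000000000000000000000000000000000000000000000000000001000000000000000000000000000000000000000000000000000000000000000000000000000000004000000000000000000000000000000000000000000000000000000000000000000000000000004000000000000000000000000000000000000000000000000000000000000000000000000000000008000000000000000000000000000000000000000000000000000000000000000000000000000000020000000000000000000000000000000000000000000000000000000000000000000000000000008000000000000000000000000000000000000000000000000040000000000000000000000000000000000000)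

theorem z_T111_s94_F : Frame 324 (grp 324 y_E0) 7 13 z_T111_s94_O 0 1 :=
  Stab.frame z_hn z_T111_s94 (by decide +kernel)

noncomputable def z_T111_s93_O : ℕ := (nat_lit 0x13fe0000000400000000000000010402000000000000000040000000000000001040200000000007fd201a9fb7b6dddffddffd3e7401690b038900000009fb7b6dddffddffd3e7401690b038900000000001e1a75f8cfab3d8e691ee4bc5db3cb8c76e10000075f8cfab3d8e691ee4bc5db3cb8c76e10000000019987a9b83141a5eb19baf9bea38ba61f070260f27a9b83141a5eb19baf9bea38ba61f070260f20011552000000000000000000000000000000000000000000000000000000000000000000000000000000001000000000000000000000000000000000000000000000000000000000000000000000000000000004000000000000000000000000000000000000000000000000000000000000000000000000000004000000000000000000000000000000000000000000000000000000000000000000000000000000008000000000000000000000000000000000000000000000000000000000000000000000000000000020000000000000000000000000000000000000000000000000000000000000000000000000000008000000)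

theorem z_T111_s93_F : Frame 324 (grp 324 y_E0) 6 11 z_T111_s93_O 0 1 :=
  Stab.frame z_hn z_T111_s93 (by decide +kernel)

noncomputable def z_T111_s92_O : ℕ := (nat_lit 0x13f0000000040000000000000001040200000000000000004000000000000000104020000000000ffc00fa9fb7b69ddffddffd3e7401690b038900000009fb7b69ddffddffd3e7401690b0389000000000130f075f8cfab3d8e691ee4bc5da38b8c76e10000075f8cfab3d8e691ee4bc5da38b8c76e1000000010cca7a9b83541a5eb19baf9bea38fa61f070260f27a9b83541a5eb19baf9bea38fa61f070260f28002aa8000000000000000000000000000000000000000000000000000000000000000000000000000000001000000000000000000000000000000000000000000000000000000000000000000000000000000004000000000000000000000000000000000000000000000000000000000000000000000000000004000000000000000000000000000000000000000000000000000000000000000000000000000000008000000000000000000000000000000000000000000000000000000000000000000000000000000020000)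

theorem z_T111_s92_F : Frame 324 (grp 324 y_E0) 5 10 z_T111_s92_O 0 1 :=
  Stab.frame z_hn z_T111_s92 (by decide +kernel)

noncomputable def yt_c37_cnt_L : List ℕ := [1, 4, z_T111_s1_O, 0, 0, 2, 6, z_T111_s20_O, 0, 0, 5, 10, z_T111_s92_O, 0, 0, 6, 11, z_T111_s93_O, 0, 0, 7, 13, z_T111_s94_O, 0, 0, 8, 17, z_T111_s95_O, 1, 0]

theorem yt_c37_cnt_P : Prob 324 9 (grp 324 y_E0) yt_c37_cnt_EG [z_g596] [z_g596] yt_c37_K yt_c37_cnt_L 0 0 :=
  Sym.prob z_hn z_hk yt_c37_sym yt_c37_cnt_EG_ok (grp_cons_le z_g39_z_T111 (grp_cons_le zg1_z_T111 (grp_cons_le zg3_z_T111 (grp_cons_le z_g43_z_T111 (grp_cons_le z_g42_z_T111 (grp_cons_le zg2_z_T111 (grp_cons_le z_g44_z_T111 (grp_cons_le z_g54_z_T111 (grp_cons_le z_g55_z_T111 (grp_cons_le z_g49_z_T111 (grp_cons_le z_g50_z_T111 (grp_cons_le z_g51_z_T111 (grp_cons_le z_g62_z_T111 (grp_cons_le z_g58_z_T111 (grp_cons_le z_g59_z_T111 (grp_cons_le z_g65_z_T111 (grp_cons_le z_g66_z_T111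 (grp_cons_le z_g67_z_T111 (grp_cons_le z_g77_z_T111 (grp_cons_le z_g78_z_T111 (grp_cons_le z_g72_z_T111 (grp_cons_le z_g73_z_T111 (grp_cons_le z_g74_z_T111 (grp_cons_le z_g81_z_T111 (grp_cons_le z_g82_z_T111 (grp_cons_le z_g87_z_T111 (grp_cons_le zg0_z_T111 (grp_cons_le z_g91_z_T111 (grp_cons_le z_g28_z_T111 (grp_cons_le z_g88_z_T111 (grp_cons_le z_g605_z_T111 (grp_cons_le z_g606_z_T111 (grp_cons_le z_g607_z_T111 (grp_cons_le z_g608_z_T111 (grp_cons_le z_g609_z_T111 (grp_cons_le z_g610_z_T111 (grp_cons_le z_g260_z_T111 (grp_cons_le z_g548_z_T111 (grp_cons_le z_g34_z_T111 (grp_cons_le z_g549_z_T111 (grp_cons_le z_g33_z_T111 (grp_cons_le z_g550_z_T111 (grp_cons_le z_g551_z_T111 (grp_nil_le _)))))))))))))))))))))))))))))))))))))))))))) (Frames.cons z_T111_s1_F (Frames.cons z_T111_s20_F (Frames.cons z_T111_s92_F (Frames.cons z_T111_s93_F (Frames.cons z_T111_s94_F (Frames.cons z_T111_s95_F Frames.nil)))))) (okE_cons.2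 ⟨z_g596_ok, okE_nil _⟩) _

noncomputable def yt_c37_cnt_t : BT := (BT.fix (nat_lit 65793) (BT.fix (nat_lit 1) (BT.dif (nat_lit 1) (nat_lit 0) (BT.br (nat_lit 0) (nat_lit 80) [nat_lit 1, nat_lit 3] (BT.kid (nat_lit 80) (nat_lit 972) (BT.frm (nat_lit 0) (nat_lit 67339) (nat_lit 67339) [nat_lit 0] (BT.pln (nat_lit 0) (nat_lit 2) (BT.and (nat_lit 3) (nat_lit 0) (BT.br (nat_lit 0) (nat_lit 318) [nat_lit 3, nat_lit 5] (BT.kid (nat_lit 318) (nat_lit 108) (BT.dif (nat_lit 7) (nat_lit 2) (BT.img (nat_lit 1) (nat_lit 5) (BT.frm (nat_lit 1) (nat_lit 0x701070b) (nat_lit 0x701070b) [nat_lit 0, nat_lit 6] (BT.pln (nat_lit 0) (nat_lit 4) (BT.and (nat_lit 3) (nat_lit 0) (BT.br (nat_lit 0) (nat_lit 88) [nat_lit 5] (BT.dead (nat_lit 123) (BT.img (nat_lit 1) (nat_lit 6) (BT.frm (nat_lit 2) (nat_lit 0x3f150701070b) (nat_lit 0x3e150701070b) [nat_lit 1, nat_lit 0, nat_lit 7, nat_lit 5, nat_lit 11] (BT.pln (nat_lit 0) (nat_lit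 5) (BT.and (nat_lit 0) (nat_lit 15) (BT.cnt (nat_lit 0)))))) (BT.kid (nat_lit 88) (nat_lit 36) (BT.dif (nat_lit 8) (nat_lit 13) (BT.img (nat_lit 1) (nat_lit 7) (BT.frm (nat_lit 2) (nat_lit 0x3f150701070b) (nat_lit 0x3f150701070b) [nat_lit 2, nat_lit 0, nat_lit 8, nat_lit 6, nat_lit 12] (BT.pln (nat_lit 0) (nat_lit 5) (BT.and (nat_lit 16) (nat_lit 0) (BT.frm (nat_lit 3) (nat_lit 0x41433f150701070b) (nat_lit 0x41433f150701070b) [nat_lit 0, nat_lit 5, nat_lit 3, nat_lit 11, nat_lit 9, nat_lit 15] (BT.pln (nat_lit 0) (nat_lit 8) (BT.and (nat_lit 6) (nat_lit 0) (BT.br (nat_lit 0) (nat_lit 152) [nat_lit 7] (BT.kid (nat_lit 152) (nat_lit 18) (BT.dif (nat_lit 2) (nat_lit 5) (BT.pln (nat_lit 7) (nat_lit 6) (BT.dif (nat_lit 1) (nat_lit 0) (BT.frm (nat_lit 4) (nat_lit 0x41433f150701070b) (nat_lit 0x41433f150701070b) [nat_lit 3, nat_lit 7, nat_lit 12, nat_lit 10, nat_lit 18, nat_lit 16, nat_lit 22] (BT.pln (nat_lit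 0) (nat_lit 8) (BT.dif (nat_lit 2) (nat_lit 0) (BT.br (nat_lit 0) (nat_lit 18) [nat_lit 9, nat_lit 11, nat_lit 13] (BT.kid (nat_lit 18) (nat_lit 1) (BT.one (nat_lit 5) (nat_lit 0x454941433f150701070b) (nat_lit 0x454941433f150701070b) [nat_lit 0, nat_lit 7, nat_lit 11, nat_lit 16, nat_lit 14, nat_lit 22, nat_lit 20, nat_lit 26]) BT.nil)))))))) BT.nil)))))))))) BT.nil)))))))) BT.nil))))) BT.nil)))))

theorem yt_c37_cnt : Cnt 324 (grp 324 y_E0) [z_g596] [z_g596] 0 0 0 0 17496 :=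
  BT.sound yt_c37_cnt_P Known.nil (t := yt_c37_cnt_t) (d := 0) (by decide +kernel)

theorem yt_c37_ge : 17496 ≤ Nat.card (grp 324 yt_c37_K) :=
  Ch.le_card_grp (k := 9) (L := (lab 324 9)) z_hn yt_c37_K_ok (c := (Ch.cons (nat_lit 80) [nat_lit 1] (Ch.cons (nat_lit 318) [nat_lit 3] (Ch.cons (nat_lit 88) [nat_lit 5] (Ch.cons (nat_lit 152) [nat_lit 7] (Ch.cons (nat_lit 18) [nat_lit 9, nat_lit 11, nat_lit 13] Ch.nil)))))) (by decide +kernel)

theorem yt_c37_eq : (grp 324 y_E0) ⊓ Subgroup.centralizer {Net.toPerm 324 z_g596} = grp 324 yt_c37_K :=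
  cent_eq yt_c37_sym yt_c37_cnt yt_c37_ge

theorem yt_c37_card : Nat.card ↥((grp 324 y_E0) ⊓ Subgroup.centralizer {Net.toPerm 324 z_g596}) = 17496 :=
  card_cent yt_c37_sym yt_c37_cnt yt_c37_ge

theorem yt_c37_ord : orderOf (Net.toPerm 324 z_g596) = 6 :=
  orderOf_net z_hn z_hk z_g596_ok (by decide) (ps := [2, 3]) (by set_option linter.unusedSimpArgs false in simp [Nat.primeFactorsList_ofNat]) (by decide +kernel)

theorem z_le627 : grp 324 yt_c38_K ≤ grp 324 y_E0 :=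
  grp_le_of_memB z_hn z_hk y_E0_ok yt_c38_K_ok (ws := [nat_lit 0x38281d0f120901031d, nat_lit 0x34271c0715010539, nat_lit 0x35271a250f0715021202, nat_lit 0x3926191c012502, nat_lit 0x3b2819201a, nat_lit 0x3b2f251f191b1b013c02, nat_lit 0x382628191c012602, nat_lit 0x33353c2619201a, nat_lit 0x3335271d1f]) (by decide +kernel)

theorem yt_c38_le : grp 324 yt_c38_K ≤ (grp 324 y_E0) :=
  (z_le627.trans z_T111_s0.le)

theorem yt_c38_mem : Net.toPerm 324 z_g617 ∈ (grp 324 y_E0) :=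
  yt_c38_le (mem_grp_of_memB z_hn z_hk yt_c38_K_ok z_g617_ok (w := (nat_lit 0x100b0d09030501)) (by decide +kernel))

theorem yt_c38_sym : Sym 324 (grp 324 y_E0) [z_g617] yt_c38_K 0 :=
  Sym.of_lab z_hn z_hk (okE_cons.2 ⟨z_g617_ok, okE_nil _⟩) yt_c38_K_ok yt_c38_le (kT := 0) (by decide +kernel)

noncomputable def yt_c38_cnt_L : List ℕ := [1, 4, z_T111_s1_O, 0, 0, 2, 6, z_T111_s20_O, 0, 0, 4, 10, z_T111_s58_O, 0, 0, 5, 12, z_T111_s59_O, 0, 0, 6, 15, z_T111_s60_O, 1, 0]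

theorem yt_c38_cnt_P : Prob 324 9 (grp 324 y_E0) yt_c38_cnt_EG [z_g617] [z_g617] yt_c38_K yt_c38_cnt_L 0 0 :=
  Sym.prob z_hn z_hk yt_c38_sym yt_c38_cnt_EG_ok (grp_cons_le z_g39_z_T111 (grp_cons_le zg1_z_T111 (grp_cons_le zg3_z_T111 (grp_cons_le z_g43_z_T111 (grp_cons_le z_g42_z_T111 (grp_cons_le zg2_z_T111 (grp_cons_le z_g44_z_T111 (grp_cons_le z_g54_z_T111 (grp_cons_le z_g55_z_T111 (grp_cons_le z_g49_z_T111 (grp_cons_le z_g50_z_T111 (grp_cons_le z_g51_z_T111 (grp_cons_le z_g62_z_T111 (grp_cons_le z_g58_z_T111 (grp_cons_le z_g59_z_T111 (grp_cons_le z_g65_z_T111 (grp_cons_le z_g66_z_T111 (grp_cons_le z_g67_z_T111 (grp_cons_le z_g77_z_T111 (grp_cons_le z_g78_z_T111 (grp_cons_le z_g72_z_T111 (grp_cons_le z_g73_z_T111 (grp_cons_le z_g74_z_T111 (grp_cons_le z_g81_z_T111 (grp_cons_le z_g82_z_T111 (grp_cons_le z_g87_z_T111 (grp_cons_le zg0_z_T111 (grp_cons_le z_g91_z_T111 (grp_cons_le z_g28_z_T111 (grp_cons_le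 z_g88_z_T111 (grp_cons_le z_g424_z_T111 (grp_cons_le z_g425_z_T111 (grp_cons_le z_g426_z_T111 (grp_cons_le z_g427_z_T111 (grp_nil_le _))))))))))))))))))))))))))))))))))) (Frames.cons z_T111_s1_F (Frames.cons z_T111_s20_F (Frames.cons z_T111_s58_F (Frames.cons z_T111_s59_F (Frames.cons z_T111_s60_F Frames.nil))))) (okE_cons.2 ⟨z_g617_ok, okE_nil _⟩) _

noncomputable def yt_c38_cnt_t : BT := (BT.fix (nat_lit 1) (BT.frm (nat_lit 0) (nat_lit 295) (nat_lit 295) [nat_lit 0] (BT.pln (nat_lit 0) (nat_lit 3) (BT.br (nat_lit 0) (nat_lit 290) [nat_lit 1, nat_lit 3] (BT.dead (nat_lit 304) (BT.frm (nat_lit 1) (nat_lit 590119) (nat_lit 295) [nat_lit 0, nat_lit 3] (BT.pln (nat_lit 0) (nat_lit 4) (BT.and (nat_lit 3) (nat_lit 0) (BT.br (nat_lit 0) (nat_lit 304) [nat_lit 0x10120d01] (BT.dead (nat_lit 270) (BT.pln (nat_lit 6) (nat_lit 1) (BT.fix (nat_lit 257) (BT.dif (nat_lit 1) (nat_lit 0) (BT.br (nat_lit 0) (nat_lit 282)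 [nat_lit 0x10120c0e070a, nat_lit 0xf120b09] (BT.dead (nat_lit 312) (BT.frm (nat_lit 2) (nat_lit 0x19290f090127) (nat_lit 0x1a260f0127) [nat_lit 0, nat_lit 4, nat_lit 8, nat_lit 11] (BT.pln (nat_lit 0) (nat_lit 4) (BT.img (nat_lit 1) (nat_lit 2) (BT.img (nat_lit 1) (nat_lit 0) (BT.img (nat_lit 1) (nat_lit 0) (BT.img (nat_lit 1) (nat_lit 0) (BT.and (nat_lit 4) (nat_lit 0) (BT.cnt (nat_lit 0))))))))) (BT.dead (nat_lit 135) (BT.frm (nat_lit 2) (nat_lit 0x19290f090127) (nat_lit 0x191b0f0127) [nat_lit 0, nat_lit 4, nat_lit 8, nat_lit 11] (BT.pln (nat_lit 0) (nat_lit 5) (BT.and (nat_lit 0) (nat_lit 4) (BT.cnt (nat_lit 0))))) (BT.dead (nat_lit 91) (BT.frm (nat_lit 2) (nat_lit 0x19290f090127) (nat_lit 0x2d0f0127) [nat_lit 0, nat_lit 4, nat_lit 8, nat_lit 11] (BT.pln (nat_lit 0) (nat_lit 4) (BT.img (nat_lit 1) (nat_lit 2) (BT.img (nat_lit 1) (nat_lit 0) (BT.and (nat_lit 2) (nat_lit 0) (BT.cnt (nat_lit 0))))))) (BT.dead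 (nat_lit 129) (BT.frm (nat_lit 2) (nat_lit 0x19290f090127) (nat_lit 0x1d0f0127) [nat_lit 0, nat_lit 4, nat_lit 8, nat_lit 11] (BT.pln (nat_lit 0) (nat_lit 4) (BT.img (nat_lit 1) (nat_lit 2) (BT.and (nat_lit 1) (nat_lit 0) (BT.cnt (nat_lit 0)))))) (BT.dead (nat_lit 282) (BT.frm (nat_lit 2) (nat_lit 0x19290f090127) (nat_lit 0x230f0127) [nat_lit 0, nat_lit 4, nat_lit 8, nat_lit 11] (BT.pln (nat_lit 0) (nat_lit 4) (BT.img (nat_lit 1) (nat_lit 2) (BT.and (nat_lit 1) (nat_lit 0) (BT.cnt (nat_lit 0)))))) (BT.dead (nat_lit 140) (BT.frm (nat_lit 2) (nat_lit 0x19290f090127) (nat_lit 0x190f0127) [nat_lit 0, nat_lit 4, nat_lit 8, nat_lit 11] (BT.pln (nat_lit 0) (nat_lit 5) (BT.and (nat_lit 0) (nat_lit 4) (BT.cnt (nat_lit 0))))) BT.nil)))))))))) (BT.dead (nat_lit 290) (BT.pln (nat_lit 6) (nat_lit 1) (BT.fix (nat_lit 257) (BT.dif (nat_lit 1) (nat_lit 0) (BT.br (nat_lit 0) (nat_lit 282) [nat_lit 986633, nat_lit 724232,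 nat_lit 985863] (BT.dead (nat_lit 140) (BT.frm (nat_lit 2) (nat_lit 0x19290f090127) (nat_lit 0x19220f120127) [nat_lit 0, nat_lit 4, nat_lit 8, nat_lit 11] (BT.pln (nat_lit 0) (nat_lit 4) (BT.and (nat_lit 0) (nat_lit 4) (BT.cnt (nat_lit 0))))) (BT.dead (nat_lit 91) (BT.frm (nat_lit 2) (nat_lit 0x19290f090127) (nat_lit 0x212e0f120127) [nat_lit 0, nat_lit 4, nat_lit 8, nat_lit 11] (BT.pln (nat_lit 0) (nat_lit 4) (BT.and (nat_lit 0) (nat_lit 4) (BT.cnt (nat_lit 0))))) (BT.dead (nat_lit 282) (BT.frm (nat_lit 2) (nat_lit 0x19290f090127) (nat_lit 0x1b3c0f120127) [nat_lit 0, nat_lit 4, nat_lit 8, nat_lit 11] (BT.pln (nat_lit 0) (nat_lit 4) (BT.and (nat_lit 0) (nat_lit 4) (BT.cnt (nat_lit 0))))) (BT.dead (nat_lit 135) (BT.frm (nat_lit 2) (nat_lit 0x19290f090127) (nat_lit 0x250f120127) [nat_lit 0, nat_lit 4, nat_lit 8, nat_lit 11] (BT.pln (nat_lit 0) (nat_lit 4) (BT.and (nat_lit 0) (nat_lit 4) (BT.cnt (nat_lit 0)))))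 (BT.dead (nat_lit 312) (BT.frm (nat_lit 2) (nat_lit 0x19290f090127) (nat_lit 0x1d0f120127) [nat_lit 0, nat_lit 4, nat_lit 8, nat_lit 11] (BT.pln (nat_lit 0) (nat_lit 4) (BT.and (nat_lit 0) (nat_lit 4) (BT.cnt (nat_lit 0))))) (BT.dead (nat_lit 129) (BT.frm (nat_lit 2) (nat_lit 0x19290f090127) (nat_lit 0x1a0f120127) [nat_lit 0, nat_lit 4, nat_lit 8, nat_lit 11] (BT.pln (nat_lit 0) (nat_lit 4) (BT.and (nat_lit 0) (nat_lit 4) (BT.cnt (nat_lit 0))))) BT.nil)))))))))) (BT.dead (nat_lit 269) (BT.pln (nat_lit 6) (nat_lit 1) (BT.fix (nat_lit 257) (BT.dif (nat_lit 1) (nat_lit 0) (BT.br (nat_lit 0) (nat_lit 282) [nat_lit 0xf0c070a, nat_lit 987656] (BT.dead (nat_lit 140) (BT.frm (nat_lit 2) (nat_lit 0x19290f090127) (nat_lit 0x19330127) [nat_lit 0, nat_lit 4, nat_lit 8, nat_lit 11] (BT.pln (nat_lit 0) (nat_lit 4) (BT.and (nat_lit 0) (nat_lit 4) (BT.cnt (nat_lit 0))))) (BT.dead (nat_lit 91) (BT.frm (nat_lit 2) (nat_lit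 0x19290f090127) (nat_lit 0x19300127) [nat_lit 0, nat_lit 4, nat_lit 8, nat_lit 11] (BT.pln (nat_lit 0) (nat_lit 4) (BT.and (nat_lit 0) (nat_lit 4) (BT.cnt (nat_lit 0))))) (BT.dead (nat_lit 282) (BT.frm (nat_lit 2) (nat_lit 0x19290f090127) (nat_lit 0x1a3c0127) [nat_lit 0, nat_lit 4, nat_lit 8, nat_lit 11] (BT.pln (nat_lit 0) (nat_lit 4) (BT.and (nat_lit 0) (nat_lit 4) (BT.cnt (nat_lit 0))))) (BT.dead (nat_lit 135) (BT.frm (nat_lit 2) (nat_lit 0x19290f090127) (nat_lit 0x210127) [nat_lit 0, nat_lit 4, nat_lit 8, nat_lit 11] (BT.pln (nat_lit 0) (nat_lit 4) (BT.and (nat_lit 0) (nat_lit 4) (BT.cnt (nat_lit 0))))) (BT.dead (nat_lit 312) (BT.frm (nat_lit 2) (nat_lit 0x19290f090127) (nat_lit 0x290127) [nat_lit 0, nat_lit 4, nat_lit 8, nat_lit 11] (BT.pln (nat_lit 0) (nat_lit 4) (BT.and (nat_lit 0) (nat_lit 4) (BT.cnt (nat_lit 0))))) (BT.dead (nat_lit 129) (BT.frm (nat_lit 2) (nat_lit 0x19290f090127) (nat_lit 0x300127)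 [nat_lit 0, nat_lit 4, nat_lit 8, nat_lit 11] (BT.pln (nat_lit 0) (nat_lit 4) (BT.and (nat_lit 0) (nat_lit 4) (BT.cnt (nat_lit 0))))) BT.nil)))))))))) BT.nil))))))) (BT.kid (nat_lit 290) (nat_lit 4374) (BT.frm (nat_lit 1) (nat_lit 590119) (nat_lit 590119) [nat_lit 0, nat_lit 3] (BT.pln (nat_lit 0) (nat_lit 4) (BT.and (nat_lit 3) (nat_lit 0) (BT.br (nat_lit 0) (nat_lit 304) [nat_lit 3, nat_lit 5] (BT.kid (nat_lit 304) (nat_lit 729) (BT.pln (nat_lit 6) (nat_lit 1) (BT.fix (nat_lit 257) (BT.dif (nat_lit 1) (nat_lit 0) (BT.br (nat_lit 0) (nat_lit 282) [nat_lit 7, nat_lit 9] (BT.dead (nat_lit 135) (BT.frm (nat_lit 2) (nat_lit 0x19290f090127) (nat_lit 0x1a2e0f090127) [nat_lit 0, nat_lit 4, nat_lit 8, nat_lit 11] (BT.pln (nat_lit 0) (nat_lit 4) (BT.img (nat_lit 1) (nat_lit 2) (BT.img (nat_lit 1) (nat_lit 0) (BT.img (nat_lit 1) (nat_lit 0) (BT.img (nat_lit 1) (nat_lit 0) (BT.and (nat_lit 4) (nat_lit 0) (BT.cnt (nat_lit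 0))))))))) (BT.dead (nat_lit 312) (BT.frm (nat_lit 2) (nat_lit 0x19290f090127) (nat_lit 0x19330f090127) [nat_lit 0, nat_lit 4, nat_lit 8, nat_lit 11] (BT.pln (nat_lit 0) (nat_lit 4) (BT.img (nat_lit 1) (nat_lit 2) (BT.img (nat_lit 1) (nat_lit 0) (BT.and (nat_lit 2) (nat_lit 0) (BT.cnt (nat_lit 0))))))) (BT.dead (nat_lit 129) (BT.frm (nat_lit 2) (nat_lit 0x19290f090127) (nat_lit 0x212b0f090127) [nat_lit 0, nat_lit 4, nat_lit 8, nat_lit 11] (BT.pln (nat_lit 0) (nat_lit 6) (BT.img (nat_lit 1) (nat_lit 2) (BT.and (nat_lit 1) (nat_lit 0) (BT.cnt (nat_lit 0)))))) (BT.dead (nat_lit 91) (BT.frm (nat_lit 2) (nat_lit 0x19290f090127) (nat_lit 0x280f090127) [nat_lit 0, nat_lit 4, nat_lit 8, nat_lit 11] (BT.pln (nat_lit 0) (nat_lit 4) (BT.img (nat_lit 1) (nat_lit 2) (BT.and (nat_lit 1) (nat_lit 0) (BT.cnt (nat_lit 0)))))) (BT.dead (nat_lit 140) (BT.frm (nat_lit 2) (nat_lit 0x19290f090127) (nat_lit 0xf090127) [nat_lit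 0, nat_lit 4, nat_lit 8, nat_lit 11] (BT.pln (nat_lit 0) (nat_lit 4) (BT.img (nat_lit 1) (nat_lit 2) (BT.img (nat_lit 1) (nat_lit 0) (BT.and (nat_lit 2) (nat_lit 0) (BT.cnt (nat_lit 0))))))) (BT.kid (nat_lit 282) (nat_lit 81) (BT.dif (nat_lit 14) (nat_lit 2) (BT.dif (nat_lit 0) (nat_lit 4) (BT.pln (nat_lit 12) (nat_lit 2) (BT.dif (nat_lit 1) (nat_lit 0) (BT.frm (nat_lit 2) (nat_lit 0x19290f090127) (nat_lit 0x19290f090127) [nat_lit 4, nat_lit 8, nat_lit 12, nat_lit 15] (BT.pln (nat_lit 0) (nat_lit 7) (BT.and (nat_lit 2) (nat_lit 0) (BT.pln (nat_lit 2) (nat_lit 4) (BT.dif (nat_lit 1) (nat_lit 0) (BT.pln (nat_lit 4) (nat_lit 5) (BT.dif (nat_lit 1) (nat_lit 0) (BT.br (nat_lit 0) (nat_lit 100) [nat_lit 11, nat_lit 13] (BT.dead (nat_lit 126) (BT.frm (nat_lit 3) (nat_lit 0x3e403e19290f090127) (nat_lit 0x403e19290f090127) [nat_lit 0, nat_lit 12, nat_lit 16, nat_lit 20, nat_lit 23] (BT.pln (nat_lit 0) (nat_lit 5)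 (BT.and (nat_lit 0) (nat_lit 16) (BT.cnt (nat_lit 0))))) (BT.kid (nat_lit 100) (nat_lit 9) (BT.and (nat_lit 2) (nat_lit 4) (BT.pln (nat_lit 8) (nat_lit 6) (BT.and (nat_lit 1) (nat_lit 0) (BT.frm (nat_lit 3) (nat_lit 0x3e403e19290f090127) (nat_lit 0x3e403e19290f090127) [nat_lit 3, nat_lit 15, nat_lit 19, nat_lit 23, nat_lit 26] (BT.pln (nat_lit 0) (nat_lit 7) (BT.dif (nat_lit 2) (nat_lit 0) (BT.dif (nat_lit 0) (nat_lit 21) (BT.br (nat_lit 0) (nat_lit 199) [nat_lit 15, nat_lit 17] (BT.kid (nat_lit 199) (nat_lit 1) (BT.one (nat_lit 4) (nat_lit 0x41433e403e19290f090127) (nat_lit 0x41433e403e19290f090127) [nat_lit 0, nat_lit 8, nat_lit 20, nat_lit 24, nat_lit 28, nat_lit 31]) BT.nil))))))))) BT.nil)))))))))))))) BT.nil)))))))))) BT.nil))))) BT.nil))))))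

theorem yt_c38_cnt : Cnt 324 (grp 324 y_E0) [z_g617] [z_g617] 0 0 0 0 8748 :=
  BT.sound yt_c38_cnt_P Known.nil (t := yt_c38_cnt_t) (d := 0) (by decide +kernel)

theorem yt_c38_ge : 8748 ≤ Nat.card (grp 324 yt_c38_K) :=
  Ch.le_card_grp (k := 9) (L := (lab 324 9)) z_hn yt_c38_K_ok (c := (Ch.cons (nat_lit 290) [nat_lit 1] (Ch.cons (nat_lit 304) [nat_lit 3, nat_lit 5] (Ch.cons (nat_lit 282) [nat_lit 7, nat_lit 9] (Ch.cons (nat_lit 100) [nat_lit 11, nat_lit 13] (Ch.cons (nat_lit 199) [nat_lit 15, nat_lit 17] Ch.nil)))))) (by decide +kernel)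

theorem yt_c38_eq : (grp 324 y_E0) ⊓ Subgroup.centralizer {Net.toPerm 324 z_g617} = grp 324 yt_c38_K :=
  cent_eq yt_c38_sym yt_c38_cnt yt_c38_ge

theorem yt_c38_card : Nat.card ↥((grp 324 y_E0) ⊓ Subgroup.centralizer {Net.toPerm 324 z_g617}) = 8748 :=
  card_cent yt_c38_sym yt_c38_cnt yt_c38_ge

theorem yt_c38_ord : orderOf (Net.toPerm 324 z_g617) = 6 :=
  orderOf_net z_hn z_hk z_g617_ok (by decide) (ps := [2, 3]) (by set_option linter.unusedSimpArgs false in simp [Nat.primeFactorsList_ofNat]) (by decide +kernel)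

theorem z_le637 : grp 324 yt_c39_K ≤ grp 324 y_E0 :=
  grp_le_of_memB z_hn z_hk y_E0_ok yt_c39_K_ok (ws := [nat_lit 0x353c191b050207, nat_lit 0x382f25191b1b1109022501, nat_lit 0x353c2f2719221a012602, nat_lit 0x392f26281f191b1b012602, nat_lit 0x341f1d12021202, nat_lit 0x3339252819201c013802, nat_lit 0x352b19221a012502, nat_lit 0x3435271d1f013b02]) (by decide +kernel)

theorem yt_c39_le : grp 324 yt_c39_K ≤ (grp 324 y_E0) :=
  (z_le637.trans z_T111_s0.le)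

theorem yt_c39_mem : Net.toPerm 324 z_g628 ∈ (grp 324 y_E0) :=
  yt_c39_le (mem_grp_of_memB z_hn z_hk yt_c39_K_ok z_g628_ok (w := (nat_lit 0xf0507010101)) (by decide +kernel))

theorem yt_c39_sym : Sym 324 (grp 324 y_E0) [z_g628] yt_c39_K 0 :=
  Sym.of_lab z_hn z_hk (okE_cons.2 ⟨z_g628_ok, okE_nil _⟩) yt_c39_K_ok yt_c39_le (kT := 0) (by decide +kernel)

theorem z_le641 : grp 324 z_V640 ≤ grp 324 z_V428 :=
  grp_le_of_memB z_hn z_hk z_V428_ok z_V640_ok (ws := [nat_lit 0x507020402, nat_lit 0x501030204]) (by decide +kernel)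

theorem z_T111_s96 : Stab 324 (grp 324 y_E0) [nat_lit 252, nat_lit 70, nat_lit 9, nat_lit 2, nat_lit 0] z_V640 9 :=
  Stab.step (k := 9) (L := (lab 324 9)) z_hn z_T111_s58 z_V640_ok z_le641 (c := (Ch.cons (nat_lit 187) [nat_lit 1, nat_lit 3] Ch.nil)) (by decide +kernel)

theorem z_T111_s97 : Stab 324 (grp 324 y_E0) [nat_lit 187, nat_lit 252, nat_lit 70, nat_lit 9, nat_lit 2, nat_lit 0] z_V642 1 :=
  Stab.step (k := 9) (L := (lab 324 9)) z_hn z_T111_s96 z_V642_ok (grp_mono (List.subset_append_right [z_g638, z_g639] _)) (c := Ch.nil) (by decide +kernel)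

theorem z_g638_z_T111 : Net.toPerm 324 z_g638 ∈ (grp 324 y_E0) :=
  z_T111_s96.le (toPerm_mem_grp (E := z_V640) (List.Mem.head _))

theorem z_g639_z_T111 : Net.toPerm 324 z_g639 ∈ (grp 324 y_E0) :=
  z_T111_s96.le (toPerm_mem_grp (E := z_V640) (List.Mem.tail _ (List.Mem.head _)))

noncomputable def z_T111_s97_O : ℕ := (nat_lit 0xfffffffffffffffff000000000000000000000000000000000000000000000000000000000000000000000000000000000ffffffffffffffffffffffffffffffff00000000000000000000000000000000f0000000000000000ffffffffffffffff0000000000000000ffffffffffffffff00000000000000000ffffffff00000000ffffffff00000000ffffffff00000000ffffffff00000000ffffffff000000000ffff0000ffff0000ffff0000ffff0000ffff0000ffff0000ffff0000ffff0000ffff0000ffff00000ff00ff00ff00ff00ff00ff00ff00ff00ff00ff00ff00ff00ff00ff00ff00ff00ff00ff00ff00ff000f0f0f0f0f0f0f0f0f0f0f0f0f0f0f0f0f0f0f0f0f0f0f0f0f0f0f0f0f0f0f0f0f0f0f0f0f0f0f0f0ccccccccccccccccc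ccccccccccccccccccccccccccccccccccccccccccccccccccccccccccccccccaaaaaaaaaaaaaaaaaaaaaaaaaaaaaaaaaaaaaaaaaaaaaaaaaaaaaaaaaaaaaaaaaaaaaaaaaaaaaaaaa000000000000000000000000000000000000000000000000000000000000000000000000000000001000000000000000000000000000000000000000000000000000000000000000000000000000000004000000000000000000000000000000000000000000000000000000000000000000000000000000200000000000000000000000000000000000000000000000000000000000000000400000000000000000000000000000000001000000000000000000000000000000000000000000000000000000000000000000000000000000000000000000000000080000000000000000000000000000000000000000000000)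

theorem z_T111_s97_F : Frame 324 (grp 324 y_E0) 6 15 z_T111_s97_O 1 1 :=
  IsBase.frame z_T111_s97.isBase (by decide +kernel)

noncomputable def z_T111_s96_O : ℕ := (nat_lit 0x40000000000002a2147070000c000000000000000000000000000000000000000000000000000000000000000000000000000000000c068800000040000000000102a2147030000cc0688802288015f7b69b5f9c4fdd267501210b0b8991e66fa9fb08ecd9dedd93c7d36b37f6b000000000000000030fe3ff77ce477b730bc83e6dc0186c770e66fa1317f274633457d32f480c8090b7bf0cc040000000306a8c39c55242bec3cacbd92bfe437970ffe77e84b01128afba0af92beea489039f0eb0038880000308ee086efb4c198361c2c2fe9ebbc3283c0188711b49910b9e69cde2f7d1171421cc74bfaf700220308ceb4d1a9c59a068d05b787a5b28acd9a64f283c80966bb0970e9da5b7cf25a9d2ad56627a7fe0820000000000000000000000000000000000000000000000000000000000000000000000000000000001000000000000000000000000000000000000000000000000000000000000000000000000000000004000000000000000000000000000000000000000000000000000000000000000000000000000000200000000000000000000000000000000000000000000000000000000000000000400000000000000000000000000000000001000000000000000000000000000000000000000000000000000000000000000)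

theorem z_T111_s96_F : Frame 324 (grp 324 y_E0) 5 12 z_T111_s96_O 0 1 :=
  Stab.frame z_hn z_T111_s96 (by decide +kernel)

noncomputable def yt_c39_cnt_L : List ℕ := [1, 4, z_T111_s1_O, 0, 0, 2, 6, z_T111_s20_O, 0, 0, 4, 10, z_T111_s58_O, 0, 0, 5, 12, z_T111_s96_O, 0, 0, 6, 15, z_T111_s97_O, 1, 0]

theorem yt_c39_cnt_P : Prob 324 9 (grp 324 y_E0) yt_c39_cnt_EG [z_g628] [z_g628] yt_c39_K yt_c39_cnt_L 0 0 :=
  Sym.prob z_hn z_hk yt_c39_sym yt_c39_cnt_EG_ok (grp_cons_le z_g39_z_T111 (grp_cons_le zg1_z_T111 (grp_cons_le zg3_z_T111 (grp_cons_le z_g43_z_T111 (grp_cons_le z_g42_z_T111 (grp_cons_le zg2_z_T111 (grp_cons_le z_g44_z_T111 (grp_cons_le z_g54_z_T111 (grp_cons_le z_g55_z_T111 (grp_cons_le z_g49_z_T111 (grp_cons_le z_g50_z_T111 (grp_cons_le z_g51_z_T111 (grp_cons_le z_g62_z_T111 (grp_cons_le z_g58_z_T111 (grp_cons_le z_g59_z_T111 (grp_cons_le z_g65_z_T111 (grp_cons_le z_g66_z_T111 (grp_cons_le z_g67_z_T111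 (grp_cons_le z_g77_z_T111 (grp_cons_le z_g78_z_T111 (grp_cons_le z_g72_z_T111 (grp_cons_le z_g73_z_T111 (grp_cons_le z_g74_z_T111 (grp_cons_le z_g81_z_T111 (grp_cons_le z_g82_z_T111 (grp_cons_le z_g87_z_T111 (grp_cons_le zg0_z_T111 (grp_cons_le z_g91_z_T111 (grp_cons_le z_g28_z_T111 (grp_cons_le z_g88_z_T111 (grp_cons_le z_g424_z_T111 (grp_cons_le z_g425_z_T111 (grp_cons_le z_g426_z_T111 (grp_cons_le z_g427_z_T111 (grp_cons_le z_g638_z_T111 (grp_cons_le z_g639_z_T111 (grp_nil_le _))))))))))))))))))))))))))))))))))))) (Frames.cons z_T111_s1_F (Frames.cons z_T111_s20_F (Frames.cons z_T111_s58_F (Frames.cons z_T111_s96_F (Frames.cons z_T111_s97_F Frames.nil))))) (okE_cons.2 ⟨z_g628_ok, okE_nil _⟩) _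

noncomputable def yt_c39_cnt_t : BT := (BT.fix (nat_lit 1) (BT.frm (nat_lit 0) (nat_lit 66869) (nat_lit 66869) [nat_lit 0] (BT.pln (nat_lit 0) (nat_lit 3) (BT.br (nat_lit 0) (nat_lit 35) [nat_lit 1] (BT.dead (nat_lit 224) (BT.frm (nat_lit 1) (nat_lit 0x8010535) (nat_lit 0x70c010535) [nat_lit 0, nat_lit 3] (BT.pln (nat_lit 0) (nat_lit 4) (BT.and (nat_lit 3) (nat_lit 0) (BT.br (nat_lit 0) (nat_lit 93) [nat_lit 0xf0a0b060202, nat_lit 0xd0a05080302] (BT.dead (nat_lit 35) (BT.pln (nat_lit 6) (nat_lit 1) (BT.fix (nat_lit 257) (BT.dif (nat_lit 1) (nat_lit 0) (BT.br (nat_lit 0) (nat_lit 25) [nat_lit 3079, nat_lit 0x100607] (BT.dead (nat_lit 11) (BT.frm (nat_lit 2) (nat_lit 0x1a230f1208010535) (nat_lit 0x1b210f12070c010535) [nat_lit 0, nat_lit 4, nat_lit 8, nat_lit 11] (BT.pln (nat_lit 0) (nat_lit 4) (BT.and (nat_lit 3) (nat_lit 0) (BT.pln (nat_lit 2) (nat_lit 8) (BT.dif (nat_lit 1) (nat_lit 0) (BT.pln (nat_lit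 4) (nat_lit 9) (BT.dif (nat_lit 1) (nat_lit 0) (BT.br (nat_lit 0) (nat_lit 89) [nat_lit 985350, nat_lit 0xa0b0507] (BT.dead (nat_lit 76) (BT.frm (nat_lit 3) (nat_lit 0x3d401a230f1208010535) (nat_lit 0x3f3d1b210f12070c010535) [nat_lit 0, nat_lit 8, nat_lit 12, nat_lit 16, nat_lit 19] (BT.pln (nat_lit 0) (nat_lit 5) (BT.img (nat_lit 1) (nat_lit 2) (BT.img (nat_lit 1) (nat_lit 0) (BT.and (nat_lit 2) (nat_lit 0) (BT.cnt (nat_lit 0))))))) (BT.dead (nat_lit 32) (BT.frm (nat_lit 3) (nat_lit 0x3d401a230f1208010535) (nat_lit 0x3f431b210f12070c010535) [nat_lit 0, nat_lit 8, nat_lit 12, nat_lit 16, nat_lit 19] (BT.pln (nat_lit 0) (nat_lit 5) (BT.img (nat_lit 1) (nat_lit 2) (BT.and (nat_lit 1) (nat_lit 0) (BT.cnt (nat_lit 0)))))) BT.nil)))))))))) (BT.dead (nat_lit 217) (BT.frm (nat_lit 2) (nat_lit 0x1a230f1208010535) (nat_lit 0x19340f12070c010535) [nat_lit 0, nat_lit 4, nat_lit 8, nat_lit 11] (BT.pln (nat_lit 0) (nat_lit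 4) (BT.img (nat_lit 1) (nat_lit 2) (BT.img (nat_lit 1) (nat_lit 0) (BT.img (nat_lit 1) (nat_lit 0) (BT.img (nat_lit 1) (nat_lit 0) (BT.and (nat_lit 4) (nat_lit 0) (BT.cnt (nat_lit 0))))))))) (BT.dead (nat_lit 95) (BT.frm (nat_lit 2) (nat_lit 0x1a230f1208010535) (nat_lit 0x1b1a0f12070c010535) [nat_lit 0, nat_lit 4, nat_lit 8, nat_lit 11] (BT.pln (nat_lit 0) (nat_lit 4) (BT.img (nat_lit 1) (nat_lit 2) (BT.img (nat_lit 1) (nat_lit 0) (BT.and (nat_lit 2) (nat_lit 0) (BT.cnt (nat_lit 0))))))) (BT.dead (nat_lit 29) (BT.frm (nat_lit 2) (nat_lit 0x1a230f1208010535) (nat_lit 0x212b0f12070c010535) [nat_lit 0, nat_lit 4, nat_lit 8, nat_lit 11] (BT.pln (nat_lit 0) (nat_lit 4) (BT.img (nat_lit 1) (nat_lit 2) (BT.img (nat_lit 1) (nat_lit 0) (BT.and (nat_lit 2) (nat_lit 0) (BT.cnt (nat_lit 0))))))) (BT.dead (nat_lit 25) (BT.frm (nat_lit 2) (nat_lit 0x1a230f1208010535) (nat_lit 0x19190f12070c010535) [nat_lit 0, nat_lit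 4, nat_lit 8, nat_lit 11] (BT.pln (nat_lit 0) (nat_lit 4) (BT.img (nat_lit 1) (nat_lit 2) (BT.and (nat_lit 1) (nat_lit 0) (BT.cnt (nat_lit 0)))))) (BT.dead (nat_lit 31) (BT.frm (nat_lit 2) (nat_lit 0x1a230f1208010535) (nat_lit 0x192f0f12070c010535) [nat_lit 0, nat_lit 4, nat_lit 8, nat_lit 11] (BT.pln (nat_lit 0) (nat_lit 6) (BT.img (nat_lit 1) (nat_lit 2) (BT.and (nat_lit 1) (nat_lit 0) (BT.cnt (nat_lit 0)))))) BT.nil)))))))))) BT.nil))))) (BT.kid (nat_lit 35) (nat_lit 1458) (BT.frm (nat_lit 1) (nat_lit 0x8010535) (nat_lit 0x8010535) [nat_lit 0, nat_lit 3] (BT.pln (nat_lit 0) (nat_lit 4) (BT.and (nat_lit 3) (nat_lit 0) (BT.br (nat_lit 0) (nat_lit 93) [nat_lit 3] (BT.dead (nat_lit 97) (BT.pln (nat_lit 6) (nat_lit 1) (BT.fix (nat_lit 257) (BT.dif (nat_lit 1) (nat_lit 0) (BT.br (nat_lit 0) (nat_lit 25) [nat_lit 2311, nat_lit 0xe0c0607] (BT.dead (nat_lit 95) (BT.frm (nat_lit 2) (nat_lit 0x1a230f1208010535)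 (nat_lit 0x19230f08010535) [nat_lit 0, nat_lit 4, nat_lit 8, nat_lit 11] (BT.pln (nat_lit 0) (nat_lit 4) (BT.and (nat_lit 3) (nat_lit 0) (BT.pln (nat_lit 2) (nat_lit 8) (BT.dif (nat_lit 1) (nat_lit 0) (BT.pln (nat_lit 4) (nat_lit 9) (BT.dif (nat_lit 1) (nat_lit 0) (BT.br (nat_lit 0) (nat_lit 89) [nat_lit 3847, nat_lit 0x100a0607] (BT.dead (nat_lit 26) (BT.frm (nat_lit 3) (nat_lit 0x3d401a230f1208010535) (nat_lit 0x3d3f19230f08010535) [nat_lit 0, nat_lit 8, nat_lit 12, nat_lit 16, nat_lit 19] (BT.pln (nat_lit 0) (nat_lit 5) (BT.img (nat_lit 1) (nat_lit 2) (BT.img (nat_lit 1) (nat_lit 0) (BT.img (nat_lit 1) (nat_lit 0) (BT.img (nat_lit 1) (nat_lit 0) (BT.img (nat_lit 1) (nat_lit 0) (BT.and (nat_lit 5) (nat_lit 0) (BT.cnt (nat_lit 0)))))))))) (BT.dead (nat_lit 11) (BT.frm (nat_lit 3) (nat_lit 0x3d401a230f1208010535) (nat_lit 0x3d4119230f08010535) [nat_lit 0, nat_lit 8, nat_lit 12, nat_lit 16, nat_lit 19] (BT.pln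 (nat_lit 0) (nat_lit 5) (BT.img (nat_lit 1) (nat_lit 2) (BT.img (nat_lit 1) (nat_lit 0) (BT.and (nat_lit 2) (nat_lit 0) (BT.cnt (nat_lit 0))))))) BT.nil)))))))))) (BT.dead (nat_lit 25) (BT.frm (nat_lit 2) (nat_lit 0x1a230f1208010535) (nat_lit 0x191b1a0f08010535) [nat_lit 0, nat_lit 4, nat_lit 8, nat_lit 11] (BT.pln (nat_lit 0) (nat_lit 4) (BT.img (nat_lit 1) (nat_lit 2) (BT.and (nat_lit 1) (nat_lit 0) (BT.cnt (nat_lit 0)))))) (BT.dead (nat_lit 11) (BT.frm (nat_lit 2) (nat_lit 0x1a230f1208010535) (nat_lit 0x1c370f08010535) [nat_lit 0, nat_lit 4, nat_lit 8, nat_lit 11] (BT.pln (nat_lit 0) (nat_lit 4) (BT.img (nat_lit 1) (nat_lit 2) (BT.and (nat_lit 1) (nat_lit 0) (BT.cnt (nat_lit 0)))))) (BT.dead (nat_lit 217) (BT.frm (nat_lit 2) (nat_lit 0x1a230f1208010535) (nat_lit 0x191e0f08010535) [nat_lit 0, nat_lit 4, nat_lit 8, nat_lit 11] (BT.pln (nat_lit 0) (nat_lit 6) (BT.img (nat_lit 1) (nat_lit 2) (BT.and (nat_lit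 1) (nat_lit 0) (BT.cnt (nat_lit 0)))))) (BT.dead (nat_lit 29) (BT.frm (nat_lit 2) (nat_lit 0x1a230f1208010535) (nat_lit 0x380f08010535) [nat_lit 0, nat_lit 4, nat_lit 8, nat_lit 11] (BT.pln (nat_lit 0) (nat_lit 4) (BT.img (nat_lit 1) (nat_lit 2) (BT.img (nat_lit 1) (nat_lit 0) (BT.and (nat_lit 2) (nat_lit 0) (BT.cnt (nat_lit 0))))))) (BT.dead (nat_lit 31) (BT.frm (nat_lit 2) (nat_lit 0x1a230f1208010535) (nat_lit 0x2b0f08010535) [nat_lit 0, nat_lit 4, nat_lit 8, nat_lit 11] (BT.pln (nat_lit 0) (nat_lit 4) (BT.img (nat_lit 1) (nat_lit 2) (BT.and (nat_lit 1) (nat_lit 0) (BT.cnt (nat_lit 0)))))) BT.nil)))))))))) (BT.dead (nat_lit 224) (BT.pln (nat_lit 6) (nat_lit 1) (BT.fix (nat_lit 257) (BT.dif (nat_lit 1) (nat_lit 0) (BT.br (nat_lit 0) (nat_lit 25) [nat_lit 0xd0f0c08, nat_lit 985607, nat_lit 6] (BT.dead (nat_lit 217) (BT.frm (nat_lit 2) (nat_lit 0x1a230f1208010535) (nat_lit 0x1a251108010535) [nat_lit 0, nat_lit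 4, nat_lit 8, nat_lit 11] (BT.pln (nat_lit 0) (nat_lit 4) (BT.img (nat_lit 1) (nat_lit 2) (BT.img (nat_lit 1) (nat_lit 0) (BT.img (nat_lit 1) (nat_lit 0) (BT.img (nat_lit 1) (nat_lit 0) (BT.and (nat_lit 4) (nat_lit 0) (BT.cnt (nat_lit 0))))))))) (BT.dead (nat_lit 25) (BT.frm (nat_lit 2) (nat_lit 0x1a230f1208010535) (nat_lit 0x1a2b1108010535) [nat_lit 0, nat_lit 4, nat_lit 8, nat_lit 11] (BT.pln (nat_lit 0) (nat_lit 4) (BT.img (nat_lit 1) (nat_lit 2) (BT.img (nat_lit 1) (nat_lit 0) (BT.and (nat_lit 2) (nat_lit 0) (BT.cnt (nat_lit 0))))))) (BT.dead (nat_lit 31) (BT.frm (nat_lit 2) (nat_lit 0x1a230f1208010535) (nat_lit 0x1c371108010535) [nat_lit 0, nat_lit 4, nat_lit 8, nat_lit 11] (BT.pln (nat_lit 0) (nat_lit 4) (BT.img (nat_lit 1) (nat_lit 2) (BT.and (nat_lit 1) (nat_lit 0) (BT.cnt (nat_lit 0)))))) (BT.dead (nat_lit 11) (BT.frm (nat_lit 2) (nat_lit 0x1a230f1208010535) (nat_lit 0x222d1108010535) [nat_lit 0,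 nat_lit 4, nat_lit 8, nat_lit 11] (BT.pln (nat_lit 0) (nat_lit 4) (BT.img (nat_lit 1) (nat_lit 2) (BT.and (nat_lit 1) (nat_lit 0) (BT.cnt (nat_lit 0)))))) (BT.dead (nat_lit 95) (BT.frm (nat_lit 2) (nat_lit 0x1a230f1208010535) (nat_lit 0x2d1108010535) [nat_lit 0, nat_lit 4, nat_lit 8, nat_lit 11] (BT.pln (nat_lit 0) (nat_lit 4) (BT.img (nat_lit 1) (nat_lit 2) (BT.img (nat_lit 1) (nat_lit 0) (BT.and (nat_lit 2) (nat_lit 0) (BT.cnt (nat_lit 0))))))) (BT.dead (nat_lit 29) (BT.frm (nat_lit 2) (nat_lit 0x1a230f1208010535) (nat_lit 0x351108010535) [nat_lit 0, nat_lit 4, nat_lit 8, nat_lit 11] (BT.pln (nat_lit 0) (nat_lit 4) (BT.img (nat_lit 1) (nat_lit 2) (BT.and (nat_lit 1) (nat_lit 0) (BT.cnt (nat_lit 0)))))) BT.nil)))))))))) (BT.kid (nat_lit 93) (nat_lit 729) (BT.pln (nat_lit 6) (nat_lit 1) (BT.fix (nat_lit 257) (BT.dif (nat_lit 1) (nat_lit 0) (BT.br (nat_lit 0) (nat_lit 25) [nat_lit 5, nat_lit 7, nat_lit 11]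 (BT.dead (nat_lit 11) (BT.frm (nat_lit 2) (nat_lit 0x1a230f1208010535) (nat_lit 0x1a260f1208010535) [nat_lit 0, nat_lit 4, nat_lit 8, nat_lit 11] (BT.pln (nat_lit 0) (nat_lit 4) (BT.img (nat_lit 1) (nat_lit 2) (BT.and (nat_lit 1) (nat_lit 0) (BT.cnt (nat_lit 0)))))) (BT.dead (nat_lit 29) (BT.frm (nat_lit 2) (nat_lit 0x1a230f1208010535) (nat_lit 0x1a1d0f1208010535) [nat_lit 0, nat_lit 4, nat_lit 8, nat_lit 11] (BT.pln (nat_lit 0) (nat_lit 6) (BT.img (nat_lit 1) (nat_lit 2) (BT.and (nat_lit 1) (nat_lit 0) (BT.cnt (nat_lit 0)))))) (BT.dead (nat_lit 95) (BT.frm (nat_lit 2) (nat_lit 0x1a230f1208010535) (nat_lit 0x1e0f1208010535) [nat_lit 0, nat_lit 4, nat_lit 8, nat_lit 11] (BT.pln (nat_lit 0) (nat_lit 4) (BT.img (nat_lit 1) (nat_lit 2) (BT.img (nat_lit 1) (nat_lit 0) (BT.img (nat_lit 1) (nat_lit 0) (BT.img (nat_lit 1) (nat_lit 0) (BT.and (nat_lit 4) (nat_lit 0) (BT.cnt (nat_lit 0))))))))) (BT.dead (nat_lit 217)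 (BT.frm (nat_lit 2) (nat_lit 0x1a230f1208010535) (nat_lit 0x290f1208010535) [nat_lit 0, nat_lit 4, nat_lit 8, nat_lit 11] (BT.pln (nat_lit 0) (nat_lit 4) (BT.img (nat_lit 1) (nat_lit 2) (BT.img (nat_lit 1) (nat_lit 0) (BT.and (nat_lit 2) (nat_lit 0) (BT.cnt (nat_lit 0))))))) (BT.dead (nat_lit 31) (BT.frm (nat_lit 2) (nat_lit 0x1a230f1208010535) (nat_lit 0x1b0f1208010535) [nat_lit 0, nat_lit 4, nat_lit 8, nat_lit 11] (BT.pln (nat_lit 0) (nat_lit 4) (BT.img (nat_lit 1) (nat_lit 2) (BT.and (nat_lit 1) (nat_lit 0) (BT.cnt (nat_lit 0)))))) (BT.kid (nat_lit 25) (nat_lit 81) (BT.frm (nat_lit 2) (nat_lit 0x1a230f1208010535) (nat_lit 0x1a230f1208010535) [nat_lit 0, nat_lit 4, nat_lit 8, nat_lit 11] (BT.pln (nat_lit 0) (nat_lit 4) (BT.and (nat_lit 3) (nat_lit 0) (BT.pln (nat_lit 2) (nat_lit 8) (BT.dif (nat_lit 1) (nat_lit 0) (BT.pln (nat_lit 4) (nat_lit 9) (BT.dif (nat_lit 1) (nat_lit 0) (BT.br (nat_lit 0) (nat_lit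 89) [nat_lit 9, nat_lit 11] (BT.dead (nat_lit 37) (BT.frm (nat_lit 3) (nat_lit 0x3d401a230f1208010535) (nat_lit 0x3f431a230f1208010535) [nat_lit 0, nat_lit 8, nat_lit 12, nat_lit 16, nat_lit 19] (BT.pln (nat_lit 0) (nat_lit 5) (BT.img (nat_lit 1) (nat_lit 2) (BT.and (nat_lit 1) (nat_lit 0) (BT.cnt (nat_lit 0)))))) (BT.kid (nat_lit 89) (nat_lit 9) (BT.dif (nat_lit 11) (nat_lit 6) (BT.dif (nat_lit 0) (nat_lit 11) (BT.dif (nat_lit 0) (nat_lit 6) (BT.pln (nat_lit 10) (nat_lit 5) (BT.and (nat_lit 1) (nat_lit 0) (BT.frm (nat_lit 3) (nat_lit 0x3d401a230f1208010535) (nat_lit 0x3d401a230f1208010535) [nat_lit 5, nat_lit 13, nat_lit 17, nat_lit 21, nat_lit 24] (BT.pln (nat_lit 0) (nat_lit 10) (BT.dif (nat_lit 2) (nat_lit 0) (BT.pln (nat_lit 2) (nat_lit 7) (BT.and (nat_lit 1) (nat_lit 0) (BT.br (nat_lit 0) (nat_lit 0) [nat_lit 13, nat_lit 15] (BT.kid (nat_lit 0) (nat_lit 1) (BT.one (nat_lit 4) (nat_lit 0x473d401a230f1208010535)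 (nat_lit 0x473d401a230f1208010535) [nat_lit 0, nat_lit 11, nat_lit 19, nat_lit 23, nat_lit 27, nat_lit 30]) BT.nil)))))))))))) BT.nil)))))))))) BT.nil)))))))))) BT.nil))))))) BT.nil))))))

theorem yt_c39_cnt : Cnt 324 (grp 324 y_E0) [z_g628] [z_g628] 0 0 0 0 8748 :=
  BT.sound yt_c39_cnt_P Known.nil (t := yt_c39_cnt_t) (d := 0) (by decide +kernel)

theorem yt_c39_ge : 8748 ≤ Nat.card (grp 324 yt_c39_K) :=
  Ch.le_card_grp (k := 9) (L := (lab 324 9)) z_hn yt_c39_K_ok (c := (Ch.cons (nat_lit 35) [nat_lit 1] (Ch.cons (nat_lit 93) [nat_lit 3] (Ch.cons (nat_lit 25) [nat_lit 5, nat_lit 7] (Ch.cons (nat_lit 89) [nat_lit 9, nat_lit 11] (Ch.cons (nat_lit 0) [nat_lit 13, nat_lit 15] Ch.nil)))))) (by decide +kernel)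

theorem yt_c39_eq : (grp 324 y_E0) ⊓ Subgroup.centralizer {Net.toPerm 324 z_g628} = grp 324 yt_c39_K :=
  cent_eq yt_c39_sym yt_c39_cnt yt_c39_ge

theorem yt_c39_card : Nat.card ↥((grp 324 y_E0) ⊓ Subgroup.centralizer {Net.toPerm 324 z_g628}) = 8748 :=
  card_cent yt_c39_sym yt_c39_cnt yt_c39_ge

theorem yt_c39_ord : orderOf (Net.toPerm 324 z_g628) = 6 :=
  orderOf_net z_hn z_hk z_g628_ok (by decide) (ps := [2, 3]) (by set_option linter.unusedSimpArgs false in simp [Nat.primeFactorsList_ofNat]) (by decide +kernel)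

theorem z_le651 : grp 324 yt_c40_K ≤ grp 324 y_E0 :=
  grp_le_of_memB z_hn z_hk y_E0_ok yt_c40_K_ok (ws := [nat_lit 0x392f261f1b0f08010731, nat_lit 0x353c2f291f19210f070a030f, nat_lit 0x332f29191c012602, nat_lit 0x352f261f191f11070c030d, nat_lit 0x3338281f191b1b0f010e, nat_lit 0x352f2b1f1d013b02, nat_lit 0x3b27191c012602]) (by decide +kernel)

theorem yt_c40_le : grp 324 yt_c40_K ≤ (grp 324 y_E0) :=
  (z_le651.trans z_T111_s0.le)

theorem yt_c40_mem : Net.toPerm 324 z_g643 ∈ (grp 324 y_E0) :=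
  yt_c40_le (mem_grp_of_memB z_hn z_hk yt_c40_K_ok z_g643_ok (w := (nat_lit 0x90e0703010301)) (by decide +kernel))

theorem yt_c40_sym : Sym 324 (grp 324 y_E0) [z_g643] yt_c40_K 0 :=
  Sym.of_lab z_hn z_hk (okE_cons.2 ⟨z_g643_ok, okE_nil _⟩) yt_c40_K_ok yt_c40_le (kT := 0) (by decide +kernel)

theorem z_le658 : grp 324 z_V657 ≤ grp 324 z_V552 :=
  grp_le_of_memB z_hn z_hk z_V552_ok z_V657_ok (ws := [nat_lit 786700, nat_lit 0xc09030c0101050c, nat_lit 0xb07030c010701, nat_lit 0xc05040c0101050c, nat_lit 0xb030c04, nat_lit 1796, nat_lit 721676]) (by decide +kernel)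

theorem z_T111_s98 : Stab 324 (grp 324 y_E0) [nat_lit 6, nat_lit 14, nat_lit 2, nat_lit 0] z_V657 648 :=
  Stab.step (k := 9) (L := (lab 324 9)) z_hn z_T111_s80 z_V657_ok z_le658 (c := (Ch.cons (nat_lit 12) [nat_lit 1] (Ch.cons (nat_lit 19) [nat_lit 3, nat_lit 5] (Ch.cons (nat_lit 26) [nat_lit 7] (Ch.cons (nat_lit 87) [nat_lit 9, nat_lit 11, nat_lit 13] Ch.nil))))) (by decide +kernel)

theorem z_T111_s99 : Stab 324 (grp 324 y_E0) [nat_lit 12, nat_lit 6, nat_lit 14, nat_lit 2, nat_lit 0] z_V659 324 :=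
  Stab.step (k := 9) (L := (lab 324 9)) z_hn z_T111_s98 z_V659_ok (grp_mono (List.subset_append_right [z_g652] _)) (c := (Ch.cons (nat_lit 19) [nat_lit 1, nat_lit 3] (Ch.cons (nat_lit 26) [nat_lit 5] (Ch.cons (nat_lit 87) [nat_lit 7, nat_lit 9, nat_lit 11] Ch.nil)))) (by decide +kernel)

theorem z_T111_s100 : Stab 324 (grp 324 y_E0) [nat_lit 19, nat_lit 12, nat_lit 6, nat_lit 14, nat_lit 2, nat_lit 0] z_V660 36 :=
  Stab.step (k := 9) (L := (lab 324 9)) z_hn z_T111_s99 z_V660_ok (grp_mono (List.subset_append_right [z_g653, z_g654] _)) (c := (Ch.cons (nat_lit 26) [nat_lit 1] (Ch.cons (nat_lit 87) [nat_lit 3, nat_lit 5, nat_lit 7] Ch.nil))) (by decide +kernel)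

theorem z_T111_s101 : Stab 324 (grp 324 y_E0) [nat_lit 26, nat_lit 19, nat_lit 12, nat_lit 6, nat_lit 14, nat_lit 2, nat_lit 0] z_V661 18 :=
  Stab.step (k := 9) (L := (lab 324 9)) z_hn z_T111_s100 z_V661_ok (grp_mono (List.subset_append_right [z_g655] _)) (c := (Ch.cons (nat_lit 87) [nat_lit 1, nat_lit 3, nat_lit 5] Ch.nil)) (by decide +kernel)

theorem z_T111_s102 : Stab 324 (grp 324 y_E0) [nat_lit 87, nat_lit 26, nat_lit 19, nat_lit 12, nat_lit 6, nat_lit 14, nat_lit 2, nat_lit 0] z_V662 1 :=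
  Stab.step (k := 9) (L := (lab 324 9)) z_hn z_T111_s101 z_V662_ok (grp_mono (List.subset_append_right [z_g656, z_g28, z_g493] _)) (c := Ch.nil) (by decide +kernel)

theorem z_g652_z_T111 : Net.toPerm 324 z_g652 ∈ (grp 324 y_E0) :=
  z_T111_s98.le (toPerm_mem_grp (E := z_V657) (List.Mem.head _))

theorem z_g653_z_T111 : Net.toPerm 324 z_g653 ∈ (grp 324 y_E0) :=
  z_T111_s98.le (toPerm_mem_grp (E := z_V657) (List.Mem.tail _ (List.Mem.head _)))

theorem z_g654_z_T111 : Net.toPerm 324 z_g654 ∈ (grp 324 y_E0) :=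
  z_T111_s98.le (toPerm_mem_grp (E := z_V657) (List.Mem.tail _ (List.Mem.tail _ (List.Mem.head _))))

theorem z_g655_z_T111 : Net.toPerm 324 z_g655 ∈ (grp 324 y_E0) :=
  z_T111_s98.le (toPerm_mem_grp (E := z_V657) (List.Mem.tail _ (List.Mem.tail _ (List.Mem.tail _ (List.Mem.head _)))))

theorem z_g656_z_T111 : Net.toPerm 324 z_g656 ∈ (grp 324 y_E0) :=
  z_T111_s98.le (toPerm_mem_grp (E := z_V657) (List.Mem.tail _ (List.Mem.tail _ (List.Mem.tail _ (List.Mem.tail _ (List.Mem.head _))))))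

theorem z_g493_z_T111 : Net.toPerm 324 z_g493 ∈ (grp 324 y_E0) :=
  z_T111_s98.le (toPerm_mem_grp (E := z_V657) (List.Mem.tail _ (List.Mem.tail _ (List.Mem.tail _ (List.Mem.tail _ (List.Mem.tail _ (List.Mem.tail _ (List.Mem.head _))))))))

noncomputable def z_T111_s102_O : ℕ := (nat_lit 0xfffffffffffffffff000000000000000000000000000000000000000000000000000000000000000000000000000000000ffffffffffffffffffffffffffffffff00000000000000000000000000000000f0000000000000000ffffffffffffffff0000000000000000ffffffffffffffff00000000000000000ffffffff00000000ffffffff00000000ffffffff00000000ffffffff00000000ffffffff000000000ffff0000ffff0000ffff0000ffff0000ffff0000ffff0000ffff0000ffff0000ffff0000ffff00000ff00ff00ff00ff00ff00ff00ff00ff00ff00ff00ff00ff00ff00ff00ff00ff00ff00ff00ff00ff000f0f0f0f0f0f0f0f0f0f0f0f0f0f0f0f0f0f0f0f0f0f0f0f0f0f0f0f0f0f0f0f0f0f0f0f0f0f0f0f0cccccccccccccccccccccccccccccccccccccccccccccccccccccccccc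cccccccccccccccccccccccaaaaaaaaaaaaaaaaaaaaaaaaaaaaaaaaaaaaaaaaaaaaaaaaaaaaaaaaaaaaaaaaaaaaaaaaaaaaaaaaa000000000000000000000000000000000000000000000000000000000000000000000000000000001000000000000000000000000000000000000000000000000000000000000000000000000000000004000000000000000000000000000000000000000000000000000000000000000000000000000004000000000000000000000000000000000000000000000000000000000000000000000000000000000040000000000000000000000000000000000000000000000000000000000000000000000000000001000000000000000000000000000000000000000000000000000000000000000000000000000000080000000000000000000000000000000000000000000000000000000000000000000000000000004000000000000000000000000000000000000000000000000000000000000000008000000000000000000000)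

theorem z_T111_s102_F : Frame 324 (grp 324 y_E0) 8 17 z_T111_s102_O 1 1 :=
  IsBase.frame z_T111_s102.isBase (by decide +kernel)

noncomputable def z_T111_s101_O : ℕ := (nat_lit 0x3e0000000000040000000000000001040200000000000000004000000000000000104020000000000817afba9fb3c6bdbfddd9fd3e7405e90b858e00000009fb3c6bdbfddd9fd3e7405e90b858e0000000017ac0075fcbf8b5dae6f1ee4bc59238b0a71e10000075fcbf8b5dae6f1ee4bc59238b0a71e10000021703a01a1fb39542f4bf95af2eeb0d3053a14cc06881a1fb39542f4bf95af2eeb0d3053a14cc0688194a318f894b200da6f87fb37d3a268ba435930260f2f894b200da6f87fb37d3a268ba435930260f21528a92000000000000000000000000000000000000000000000000000000000000000000000000000000001000000000000000000000000000000000000000000000000000000000000000000000000000000004000000000000000000000000000000000000000000000000000000000000000000000000000004000000000000000000000000000000000000000000000000000000000000000000000000000000000040000000000000000000000000000000000000000000000000000000000000000000000000000001000000000000000000000000000000000000000000000000000000000000000000000000000000080000000000000000000000000000000000000000000000000000000000000000000000000000004000000)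

theorem z_T111_s101_F : Frame 324 (grp 324 y_E0) 7 13 z_T111_s101_O 0 1 :=
  Stab.frame z_hn z_T111_s101 (by decide +kernel)

noncomputable def z_T111_s100_O : ℕ := (nat_lit 0x3afa000000040000000000000001040200000000000000004000000000000000104020000000000ff7001a9fb7b69ddffddffd3e7401690b038900000009fb7b69ddffddffd3e7401690b03890000000500ac1a75f8cfab3d8e691ee4bc5da38b8c76e10000075f8cfab3d8e691ee4bc5da38b8c76e100000270a3187a9b83141a5eb19baf9bea28ba41f070260f27a9b83141a5eb19baf9bea28ba41f070260f20e68a92000000000000000000000000000000000000000000000000000000000000000000000000000000001000000000000000000000000000000000000000000000000000000000000000000000000000000004000000000000000000000000000000000000000000000000000000000000000000000000000004000000000000000000000000000000000000000000000000000000000000000000000000000000000040000000000000000000000000000000000000000000000000000000000000000000000000000001000000000000000000000000000000000000000000000000000000000000000000000000000000080000)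

theorem z_T111_s100_F : Frame 324 (grp 324 y_E0) 6 11 z_T111_s100_O 0 1 :=
  Stab.frame z_hn z_T111_s100 (by decide +kernel)

noncomputable def z_T111_s99_O : ℕ := (nat_lit 0x3ae0000000040000000000000001040200000000000000004000000000000000104020000000000ffc01ba9fb7b69ddffddffd3e7401690b038900000009fb7b69ddffddffd3e7401690b0389000000000381b075f8cfab3d8e691ee4bc5da38b8c76e10000075f8cfab3d8e691ee4bc5da38b8c76e100000002298a7a9b83541a5eb19baf9bea38fa61f070260f27a9b83541a5eb19baf9bea38fa61f070260f28012528000000000000000000000000000000000000000000000000000000000000000000000000000000001000000000000000000000000000000000000000000000000000000000000000000000000000000004000000000000000000000000000000000000000000000000000000000000000000000000000004000000000000000000000000000000000000000000000000000000000000000000000000000000000040000000000000000000000000000000000000000000000000000000000000000000000000000001000)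

theorem z_T111_s99_F : Frame 324 (grp 324 y_E0) 5 10 z_T111_s99_O 0 1 :=
  Stab.frame z_hn z_T111_s99 (by decide +kernel)

noncomputable def yt_c40_cnt_L : List ℕ := [1, 4, z_T111_s1_O, 0, 0, 3, 9, z_T111_s80_O, 0, 0, 5, 10, z_T111_s99_O, 0, 0, 6, 11, z_T111_s100_O, 0, 0, 7, 13, z_T111_s101_O, 0, 0, 8, 17, z_T111_s102_O, 1, 0]

theorem yt_c40_cnt_P : Prob 324 9 (grp 324 y_E0) yt_c40_cnt_EG [z_g643] [z_g643] yt_c40_K yt_c40_cnt_L 0 0 :=
  Sym.prob z_hn z_hk yt_c40_sym yt_c40_cnt_EG_ok (grp_cons_le z_g39_z_T111 (grp_cons_le zg1_z_T111 (grp_cons_le zg3_z_T111 (grp_cons_le z_g43_z_T111 (grp_cons_le z_g42_z_T111 (grp_cons_le zg2_z_T111 (grp_cons_le z_g44_z_T111 (grp_cons_le z_g54_z_T111 (grp_cons_le z_g55_z_T111 (grp_cons_le z_g49_z_T111 (grp_cons_le z_g50_z_T111 (grp_cons_le z_g51_z_T111 (grp_cons_le z_g62_z_T111 (grp_cons_le z_g58_z_T111 (grp_cons_le z_g59_z_T111 (grp_cons_le z_g65_z_T111 (grp_cons_le z_g66_z_T111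 (grp_cons_le z_g67_z_T111 (grp_cons_le z_g77_z_T111 (grp_cons_le z_g78_z_T111 (grp_cons_le z_g72_z_T111 (grp_cons_le z_g73_z_T111 (grp_cons_le z_g74_z_T111 (grp_cons_le z_g81_z_T111 (grp_cons_le z_g82_z_T111 (grp_cons_le z_g87_z_T111 (grp_cons_le zg0_z_T111 (grp_cons_le z_g91_z_T111 (grp_cons_le z_g28_z_T111 (grp_cons_le z_g88_z_T111 (grp_cons_le z_g652_z_T111 (grp_cons_le z_g653_z_T111 (grp_cons_le z_g654_z_T111 (grp_cons_le z_g655_z_T111 (grp_cons_le z_g656_z_T111 (grp_cons_le z_g493_z_T111 (grp_cons_le z_g548_z_T111 (grp_cons_le z_g34_z_T111 (grp_cons_le z_g549_z_T111 (grp_cons_le z_g33_z_T111 (grp_cons_le z_g550_z_T111 (grp_cons_le z_g551_z_T111 (grp_nil_le _))))))))))))))))))))))))))))))))))))))))))) (Frames.cons z_T111_s1_F (Frames.cons z_T111_s80_F (Frames.cons z_T111_s99_F (Frames.cons z_T111_s100_F (Frames.cons z_T111_s101_F (Frames.cons z_T111_s102_F Frames.nil)))))) (okE_cons.2 ⟨z_g643_ok, okE_nil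 _⟩) _

noncomputable def yt_c40_cnt_t : BT := (BT.fix (nat_lit 65793) (BT.fix (nat_lit 1) (BT.dif (nat_lit 1) (nat_lit 0) (BT.br (nat_lit 0) (nat_lit 48) [nat_lit 1, nat_lit 3] (BT.kid (nat_lit 48) (nat_lit 324) (BT.frm (nat_lit 0) (nat_lit 67611) (nat_lit 67611) [nat_lit 0] (BT.pln (nat_lit 0) (nat_lit 2) (BT.and (nat_lit 3) (nat_lit 0) (BT.br (nat_lit 0) (nat_lit 310) [nat_lit 3, nat_lit 5] (BT.kid (nat_lit 310) (nat_lit 36) (BT.img (nat_lit 1) (nat_lit 4) (BT.frm (nat_lit 1) (nat_lit 0x1b070a01081b) (nat_lit 0x1b070a01081b) [nat_lit 1, nat_lit 0, nat_lit 5] (BT.pln (nat_lit 0) (nat_lit 7) (BT.and (nat_lit 5) (nat_lit 0) (BT.br (nat_lit 0) (nat_lit 290) [] (BT.dead (nat_lit 305) (BT.img (nat_lit 1) (nat_lit 5) (BT.frm (nat_lit 2) (nat_lit 0x4d531b070a01081b) (nat_lit 0x3d4d531b070a01081b) [nat_lit 1, nat_lit 0, nat_lit 6, nat_lit 5, nat_lit 10] (BT.pln (nat_lit 0) (nat_lit 5) (BT.and (nat_lit 0) (nat_lit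 14) (BT.cnt (nat_lit 0)))))) (BT.kid (nat_lit 290) (nat_lit 36) (BT.dif (nat_lit 7) (nat_lit 12) (BT.img (nat_lit 1) (nat_lit 6) (BT.frm (nat_lit 2) (nat_lit 0x4d531b070a01081b) (nat_lit 0x4d531b070a01081b) [nat_lit 2, nat_lit 0, nat_lit 7, nat_lit 6, nat_lit 11] (BT.pln (nat_lit 0) (nat_lit 5) (BT.dif (nat_lit 15) (nat_lit 0) (BT.frm (nat_lit 3) (nat_lit 0x3f414d531b070a01081b) (nat_lit 0x3f414d531b070a01081b) [nat_lit 0, nat_lit 5, nat_lit 3, nat_lit 10, nat_lit 9, nat_lit 14] (BT.pln (nat_lit 0) (nat_lit 8) (BT.and (nat_lit 6) (nat_lit 0) (BT.br (nat_lit 0) (nat_lit 306) [nat_lit 7] (BT.kid (nat_lit 306) (nat_lit 18) (BT.dif (nat_lit 24) (nat_lit 5) (BT.pln (nat_lit 7) (nat_lit 6) (BT.and (nat_lit 1) (nat_lit 0) (BT.pln (nat_lit 9) (nat_lit 7) (BT.dif (nat_lit 1) (nat_lit 0) (BT.dif (nat_lit 0) (nat_lit 26) (BT.frm (nat_lit 4) (nat_lit 0x433f414d531b070a01081b) (nat_lit 0x433f414d531b070a01081b) [nat_lit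 6, nat_lit 10, nat_lit 15, nat_lit 13, nat_lit 20, nat_lit 19, nat_lit 24] (BT.pln (nat_lit 0) (nat_lit 9) (BT.dif (nat_lit 2) (nat_lit 0) (BT.br (nat_lit 0) (nat_lit 54) [nat_lit 9, nat_lit 11, nat_lit 13] (BT.kid (nat_lit 54) (nat_lit 1) (BT.one (nat_lit 5) (nat_lit 0x4647433f414d531b070a01081b) (nat_lit 0x4647433f414d531b070a01081b) [nat_lit 0, nat_lit 10, nat_lit 14, nat_lit 19, nat_lit 17, nat_lit 24, nat_lit 23, nat_lit 28]) BT.nil))))))))))) BT.nil)))))))))) BT.nil))))))) BT.nil))))) BT.nil)))))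

theorem yt_c40_cnt : Cnt 324 (grp 324 y_E0) [z_g643] [z_g643] 0 0 0 0 5832 :=
  BT.sound yt_c40_cnt_P Known.nil (t := yt_c40_cnt_t) (d := 0) (by decide +kernel)

theorem yt_c40_ge : 5832 ≤ Nat.card (grp 324 yt_c40_K) :=
  Ch.le_card_grp (k := 9) (L := (lab 324 9)) z_hn yt_c40_K_ok (c := (Ch.cons (nat_lit 48) [nat_lit 1] (Ch.cons (nat_lit 310) [nat_lit 3, nat_lit 5] (Ch.cons (nat_lit 306) [nat_lit 7] (Ch.cons (nat_lit 54) [nat_lit 9, nat_lit 11, nat_lit 13] Ch.nil))))) (by decide +kernel)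

theorem yt_c40_eq : (grp 324 y_E0) ⊓ Subgroup.centralizer {Net.toPerm 324 z_g643} = grp 324 yt_c40_K :=
  cent_eq yt_c40_sym yt_c40_cnt yt_c40_ge

theorem yt_c40_card : Nat.card ↥((grp 324 y_E0) ⊓ Subgroup.centralizer {Net.toPerm 324 z_g643}) = 5832 :=
  card_cent yt_c40_sym yt_c40_cnt yt_c40_ge

theorem yt_c40_ord : orderOf (Net.toPerm 324 z_g643) = 6 :=
  orderOf_net z_hn z_hk z_g643_ok (by decide) (ps := [2, 3]) (by set_option linter.unusedSimpArgs false in simp [Nat.primeFactorsList_ofNat]) (by decide +kernel)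

theorem z_le671 : grp 324 yt_c41_K ≤ grp 324 y_E0 :=
  grp_le_of_memB z_hn z_hk y_E0_ok yt_c41_K_ok (ws := [nat_lit 0x3335271c08021c02, nat_lit 0x33353c2f271f1b1a11013802, nat_lit 0x372b19201a012502, nat_lit 0x35271f1a07070317, nat_lit 0x38281b1a013802, nat_lit 0x382519201c12021202, nat_lit 0x353c19201a012502]) (by decide +kernel)

theorem yt_c41_le : grp 324 yt_c41_K ≤ (grp 324 y_E0) :=
  (z_le671.trans z_T111_s0.le)

theorem yt_c41_mem : Net.toPerm 324 z_g663 ∈ (grp 324 y_E0) :=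
  yt_c41_le (mem_grp_of_memB z_hn z_hk yt_c41_K_ok z_g663_ok (w := (nat_lit 0xc0d0808030303)) (by decide +kernel))

theorem yt_c41_sym : Sym 324 (grp 324 y_E0) [z_g663] yt_c41_K 0 :=
  Sym.of_lab z_hn z_hk (okE_cons.2 ⟨z_g663_ok, okE_nil _⟩) yt_c41_K_ok yt_c41_le (kT := 0) (by decide +kernel)

theorem z_le679 : grp 324 z_V678 ≤ grp 324 z_V136 :=
  grp_le_of_memB z_hn z_hk z_V136_ok z_V678_ok (ws := [nat_lit 0x12090c060206, nat_lit 0x10110c070305010501, nat_lit 0x10120d0701, nat_lit 0x120d0a0b03050105, nat_lit 0xf12130a0c, nat_lit 0x121309]) (by decide +kernel)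

theorem z_T111_s103 : Stab 324 (grp 324 y_E0) [nat_lit 2, nat_lit 298, nat_lit 0] z_V678 3888 :=
  Stab.step (k := 9) (L := (lab 324 9)) z_hn z_T111_s2 z_V678_ok z_le679 (c := (Ch.cons (nat_lit 27) [nat_lit 1] (Ch.cons (nat_lit 191) [nat_lit 3] (Ch.cons (nat_lit 33) [nat_lit 5, nat_lit 7] (Ch.cons (nat_lit 168) [nat_lit 9, nat_lit 11] Ch.nil))))) (by decide +kernel)

theorem z_T111_s104 : Stab 324 (grp 324 y_E0) [nat_lit 27, nat_lit 2, nat_lit 298, nat_lit 0] z_V680 1944 :=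
  Stab.step (k := 9) (L := (lab 324 9)) z_hn z_T111_s103 z_V680_ok (grp_mono (List.subset_append_right [z_g672] _)) (c := (Ch.cons (nat_lit 191) [nat_lit 1] (Ch.cons (nat_lit 33) [nat_lit 3, nat_lit 5] (Ch.cons (nat_lit 168) [nat_lit 7, nat_lit 9] Ch.nil)))) (by decide +kernel)

theorem z_T111_s105 : Stab 324 (grp 324 y_E0) [nat_lit 191, nat_lit 27, nat_lit 2, nat_lit 298, nat_lit 0] z_V681 54 :=
  Stab.step (k := 9) (L := (lab 324 9)) z_hn z_T111_s104 z_V681_ok (grp_mono (List.subset_append_right [z_g673] _)) (c := (Ch.cons (nat_lit 33) [nat_lit 1, nat_lit 3] (Ch.cons (nat_lit 168) [nat_lit 5, nat_lit 7] Ch.nil))) (by decide +kernel)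

theorem z_T111_s106 : Stab 324 (grp 324 y_E0) [nat_lit 33, nat_lit 191, nat_lit 27, nat_lit 2, nat_lit 298, nat_lit 0] z_V682 9 :=
  Stab.step (k := 9) (L := (lab 324 9)) z_hn z_T111_s105 z_V682_ok (grp_mono (List.subset_append_right [z_g674, z_g675] _)) (c := (Ch.cons (nat_lit 168) [nat_lit 1, nat_lit 3] Ch.nil)) (by decide +kernel)

theorem z_T111_s107 : Stab 324 (grp 324 y_E0) [nat_lit 168, nat_lit 33, nat_lit 191, nat_lit 27, nat_lit 2, nat_lit 298, nat_lit 0] z_V683 1 :=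
  Stab.step (k := 9) (L := (lab 324 9)) z_hn z_T111_s106 z_V683_ok (grp_mono (List.subset_append_right [z_g676, z_g677] _)) (c := Ch.nil) (by decide +kernel)

theorem z_g672_z_T111 : Net.toPerm 324 z_g672 ∈ (grp 324 y_E0) :=
  z_T111_s103.le (toPerm_mem_grp (E := z_V678) (List.Mem.head _))

theorem z_g673_z_T111 : Net.toPerm 324 z_g673 ∈ (grp 324 y_E0) :=
  z_T111_s103.le (toPerm_mem_grp (E := z_V678) (List.Mem.tail _ (List.Mem.head _)))

theorem z_g674_z_T111 : Net.toPerm 324 z_g674 ∈ (grp 324 y_E0) :=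
  z_T111_s103.le (toPerm_mem_grp (E := z_V678) (List.Mem.tail _ (List.Mem.tail _ (List.Mem.head _))))

theorem z_g675_z_T111 : Net.toPerm 324 z_g675 ∈ (grp 324 y_E0) :=
  z_T111_s103.le (toPerm_mem_grp (E := z_V678) (List.Mem.tail _ (List.Mem.tail _ (List.Mem.tail _ (List.Mem.head _)))))

theorem z_g676_z_T111 : Net.toPerm 324 z_g676 ∈ (grp 324 y_E0) :=
  z_T111_s103.le (toPerm_mem_grp (E := z_V678) (List.Mem.tail _ (List.Mem.tail _ (List.Mem.tail _ (List.Mem.tail _ (List.Mem.head _))))))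

theorem z_g677_z_T111 : Net.toPerm 324 z_g677 ∈ (grp 324 y_E0) :=
  z_T111_s103.le (toPerm_mem_grp (E := z_V678) (List.Mem.tail _ (List.Mem.tail _ (List.Mem.tail _ (List.Mem.tail _ (List.Mem.tail _ (List.Mem.head _)))))))

noncomputable def z_T111_s107_O : ℕ := (nat_lit 0xfffffffffffffffff000000000000000000000000000000000000000000000000000000000000000000000000000000000ffffffffffffffffffffffffffffffff00000000000000000000000000000000f0000000000000000ffffffffffffffff0000000000000000ffffffffffffffff00000000000000000ffffffff00000000ffffffff00000000ffffffff00000000ffffffff00000000ffffffff000000000ffff0000ffff0000ffff0000ffff0000ffff0000ffff0000ffff0000ffff0000ffff0000ffff00000ff00ff00ff00ff00ff00ff00ff00ff00ff00ff00ff00ff00ff00ff00ff00ff00ff00ff00ff00ff000f0f0f0f0f0f0f0f0f0f0f0f0f0f0f0f0f0f0f0f0f0f0f0f0f0f0f0f0f0f0f0f0f0f0f0f0f0f0f0f0ccccccccccccccccccccccccccccccccccccccccccccccccccccccccccccccccccccccccccc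ccccccaaaaaaaaaaaaaaaaaaaaaaaaaaaaaaaaaaaaaaaaaaaaaaaaaaaaaaaaaaaaaaaaaaaaaaaaaaaaaaaaa000000000000000000000000000000000000000000000000000000000000000000000000000000001000000400000000000000000000000000000000000000000000000000000000000000000000000000000000000000000000000000000000000000000000000000000000000000000000000000000000004000000000000000000000000000000000000000000000000000000000000000000000000008000000000000000000000000000000000000000800000000000000000000000000000000000000000000000000000000000000000000000000000000000000000000000000000000000000000000000200000000000000000000000000000000000000000000001000000000000000000000000000000000000000000)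

theorem z_T111_s107_F : Frame 324 (grp 324 y_E0) 7 16 z_T111_s107_O 1 1 :=
  IsBase.frame z_T111_s107.isBase (by decide +kernel)

noncomputable def z_T111_s106_O : ℕ := (nat_lit 0x100104420001237900000000000000000000000000000000000000000000000000000000000000000000000000000000077000000400000000000010010442000123f9570022a8015f7b69b5f9c4fdd277621210b4b8981000f79fb08ecd9dedd93c7c35937b7f200012300000000030febff73cf477b730bc8144f84fa6c770000771317f2746b3c57db2e590c808087bf000f95000000306e6c3d8f4642bec3cac9591b810b79ef7467ce94b091283f3e0a7d2ac585ec439f0e18f00700200308a0382b5a0d198761d6eafcdf4d4ba02a30e3f21b4195829739e5bbe6e3517041cc7e4cf8e0002830981cfb81cacdafbdf63ddb4b702325421285218d883e332e4a9d5a76e6db90ecd2ad12a8c57fc2220000000000000000000000000000000000000000000000000000000000000000000000000000000001000000400000000000000000000000000000000000000000000000000000000000000000000000000000000000000000000000000000000000000000000000000000000000000000000000000000000004000000000000000000000000000000000000000000000000000000000000000000000000008000000000000000000000000000000000000000800000000000000000000000000000000000000000000000000000000000000000000000000000000000000000000000000000000000000000000000200000000)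

theorem z_T111_s106_F : Frame 324 (grp 324 y_E0) 6 13 z_T111_s106_O 0 1 :=
  Stab.frame z_hn z_T111_s106 (by decide +kernel)

noncomputable def z_T111_s105_O : ℕ := (nat_lit 0x12200110000004000000000000000000000001228000000000000000000000000000001001044200012179660000000000000000000100104420000017977000080000000000000000000103a2043050000ce66fb00000040000000000102a2043050000cc06997fffffa73d4308759ae5f4c28f483317e2a49ad71e1c84a7be99dcb90e3e55363177cb7291128019100222b07b5841262346f1c1abca6c9c40fd6ef1a01818c2bcf38a651a0b3d608dedaf5a5b65c71e1c0022ab0000000000000000000000000000000000000000000000000000000000000000000000000000000001000000400000000000000000000000000000000000000000000000000000000000000000000000000000000000000000000000000000000000000000000000000000000000000000000000000000000004000000000000000000000000000000000000000000000000000000000000000000000000008000000000000000000000000000000000000000800000000000000000000000000000000000000000000000)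

theorem z_T111_s105_F : Frame 324 (grp 324 y_E0) 5 10 z_T111_s105_O 0 1 :=
  Stab.frame z_hn z_T111_s105 (by decide +kernel)

noncomputable def z_T111_s104_O : ℕ := (nat_lit 0x400000000000000000000000000000000000000000000000000000000000000000000000000000000000000000000000000000000000000000008000000000000000000000000104020000000000000000000000000000000010402000000000000000000000000000000000000000000000000000000000000000000000000000000000000000000000222b0000000000000000000000000000000000000000000000000000000000000000000000000007fdd54a00000000000000000103200404500010bf8f70000000000000000000082003000000e4070800000000000000000000000000082003000000e4070800000000000000000103200404500010bf8f70000000000000000000000000000000000000000000000000000000000000000000000000000000000000001000000400000000000000000000000000000000000000000000000000000000000000000000000000000000000000000000000000000000000000000000000000000000000000000000000000000000004000000000000000000000000000000000000000000000000000000000000000000000000008000000)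

theorem z_T111_s104_F : Frame 324 (grp 324 y_E0) 4 11 z_T111_s104_O 0 1 :=
  Stab.frame z_hn z_T111_s104 (by decide +kernel)

noncomputable def z_T111_s103_O : ℕ := (nat_lit 0x8000000000000000000000000000000000000000000000400000000000000000000000000000080000000000000000000000000000104020000000000000000000000000000000010402000000000000000000000000000000000000000000000000000000000000000000000000000000000000000000000222b0000000000000000000000000000000000000000000000000000000000000000000000000007fdd54a00000000000000000103a2043450001efffff00000000000000000103a2043450001efffff0000000000000000000000000000000000000000000000000000000000000000000000000000000000000001000000400000000000000000000000000000000000000000000000000000000000000000000000000000000000000000000000000000000000000000000000000000000000000000000000000000000004)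

theorem z_T111_s103_F : Frame 324 (grp 324 y_E0) 3 9 z_T111_s103_O 0 1 :=
  Stab.frame z_hn z_T111_s103 (by decide +kernel)

noncomputable def yt_c41_cnt_L : List ℕ := [1, 4, z_T111_s1_O, 0, 0, 3, 9, z_T111_s103_O, 0, 0, 4, 11, z_T111_s104_O, 0, 0, 5, 10, z_T111_s105_O, 0, 0, 6, 13, z_T111_s106_O, 0, 0, 7, 16, z_T111_s107_O, 1, 0]

theorem yt_c41_cnt_P : Prob 324 9 (grp 324 y_E0) yt_c41_cnt_EG [z_g663] [z_g663] yt_c41_K yt_c41_cnt_L 0 0 :=
  Sym.prob z_hn z_hk yt_c41_sym yt_c41_cnt_EG_ok (grp_cons_le z_g39_z_T111 (grp_cons_le zg1_z_T111 (grp_cons_le zg3_z_T111 (grp_cons_le z_g43_z_T111 (grp_cons_le z_g42_z_T111 (grp_cons_le zg2_z_T111 (grp_cons_le z_g44_z_T111 (grp_cons_le z_g54_z_T111 (grp_cons_le z_g55_z_T111 (grp_cons_le z_g49_z_T111 (grp_cons_le z_g50_z_T111 (grp_cons_le z_g51_z_T111 (grp_cons_le z_g62_z_T111 (grp_cons_le z_g58_z_T111 (grp_cons_le z_g59_z_T111 (grp_cons_le z_g65_z_T111 (grp_cons_le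 z_g66_z_T111 (grp_cons_le z_g67_z_T111 (grp_cons_le z_g77_z_T111 (grp_cons_le z_g78_z_T111 (grp_cons_le z_g72_z_T111 (grp_cons_le z_g73_z_T111 (grp_cons_le z_g74_z_T111 (grp_cons_le z_g81_z_T111 (grp_cons_le z_g82_z_T111 (grp_cons_le z_g87_z_T111 (grp_cons_le zg0_z_T111 (grp_cons_le z_g91_z_T111 (grp_cons_le z_g28_z_T111 (grp_cons_le z_g88_z_T111 (grp_cons_le z_g126_z_T111 (grp_cons_le z_g127_z_T111 (grp_cons_le z_g128_z_T111 (grp_cons_le z_g129_z_T111 (grp_cons_le z_g130_z_T111 (grp_cons_le z_g131_z_T111 (grp_cons_le z_g132_z_T111 (grp_cons_le z_g133_z_T111 (grp_cons_le z_g134_z_T111 (grp_cons_le z_g135_z_T111 (grp_cons_le z_g672_z_T111 (grp_cons_le z_g673_z_T111 (grp_cons_le z_g674_z_T111 (grp_cons_le z_g675_z_T111 (grp_cons_le z_g676_z_T111 (grp_cons_le z_g677_z_T111 (grp_nil_le _))))))))))))))))))))))))))))))))))))))))))))))) (Frames.cons z_T111_s1_F (Frames.cons z_T111_s103_F (Frames.cons z_T111_s104_F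 (Frames.cons z_T111_s105_F (Frames.cons z_T111_s106_F (Frames.cons z_T111_s107_F Frames.nil)))))) (okE_cons.2 ⟨z_g663_ok, okE_nil _⟩) _

noncomputable def yt_c41_cnt_t : BT := (BT.fix (nat_lit 1) (BT.br (nat_lit 0) (nat_lit 8) [nat_lit 1] (BT.kid (nat_lit 8) (nat_lit 1944) (BT.frm (nat_lit 0) (nat_lit 780) (nat_lit 780) [nat_lit 0] (BT.pln (nat_lit 0) (nat_lit 3) (BT.br (nat_lit 0) (nat_lit 1) [nat_lit 3] (BT.dead (nat_lit 10) (BT.pln (nat_lit 2) (nat_lit 2) (BT.dif (nat_lit 5) (nat_lit 4) (BT.frm (nat_lit 1) (nat_lit 0x423d0a030c) (nat_lit 0x410a030c) [nat_lit 2, nat_lit 0, nat_lit 5] (BT.pln (nat_lit 0) (nat_lit 7) (BT.and (nat_lit 3) (nat_lit 0) (BT.br (nat_lit 0) (nat_lit 25) [nat_lit 526341] (BT.dead (nat_lit 19) (BT.pln (nat_lit 8) (nat_lit 1) (BT.fix (nat_lit 257) (BT.dif (nat_lit 1) (nat_lit 0) (BT.frm (nat_lit 2) (nat_lit 0x423d0a030c) (nat_lit 0x51410a030c) [nat_lit 3, nat_lit 9, nat_lit 7, nat_lit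 12] (BT.pln (nat_lit 0) (nat_lit 4) (BT.dif (nat_lit 2) (nat_lit 0) (BT.br (nat_lit 0) (nat_lit 74) [nat_lit 0xd0908030303, nat_lit 852739] (BT.dead (nat_lit 42) (BT.frm (nat_lit 3) (nat_lit 0x54423d0a030c) (nat_lit 0x53585351410a030c) [nat_lit 0, nat_lit 7, nat_lit 13, nat_lit 11, nat_lit 16] (BT.pln (nat_lit 0) (nat_lit 5) (BT.img (nat_lit 1) (nat_lit 2) (BT.img (nat_lit 1) (nat_lit 0) (BT.img (nat_lit 1) (nat_lit 0) (BT.img (nat_lit 1) (nat_lit 0) (BT.and (nat_lit 4) (nat_lit 0) (BT.cnt (nat_lit 0))))))))) (BT.dead (nat_lit 74) (BT.frm (nat_lit 3) (nat_lit 0x54423d0a030c) (nat_lit 0x53535551410a030c) [nat_lit 0, nat_lit 7, nat_lit 13, nat_lit 11, nat_lit 16] (BT.pln (nat_lit 0) (nat_lit 5) (BT.img (nat_lit 1) (nat_lit 2) (BT.and (nat_lit 1) (nat_lit 0) (BT.cnt (nat_lit 0)))))) BT.nil))))))))) BT.nil))))))) (BT.kid (nat_lit 1) (nat_lit 324) (BT.pln (nat_lit 2) (nat_lit 2) (BT.dif (nat_lit 5) (nat_lit 4)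 (BT.frm (nat_lit 1) (nat_lit 0x423d0a030c) (nat_lit 0x423d0a030c) [nat_lit 2, nat_lit 0, nat_lit 5] (BT.pln (nat_lit 0) (nat_lit 7) (BT.and (nat_lit 3) (nat_lit 0) (BT.br (nat_lit 0) (nat_lit 25) [nat_lit 5] (BT.kid (nat_lit 25) (nat_lit 162) (BT.pln (nat_lit 8) (nat_lit 1) (BT.fix (nat_lit 257) (BT.dif (nat_lit 1) (nat_lit 0) (BT.frm (nat_lit 2) (nat_lit 0x423d0a030c) (nat_lit 0x423d0a030c) [nat_lit 3, nat_lit 9, nat_lit 7, nat_lit 12] (BT.pln (nat_lit 0) (nat_lit 4) (BT.dif (nat_lit 2) (nat_lit 0) (BT.br (nat_lit 0) (nat_lit 74) [nat_lit 7, nat_lit 9] (BT.kid (nat_lit 74) (nat_lit 9) (BT.dif (nat_lit 20) (nat_lit 6) (BT.dif (nat_lit 0) (nat_lit 13) (BT.frm (nat_lit 3) (nat_lit 0x54423d0a030c) (nat_lit 0x54423d0a030c) [nat_lit 2, nat_lit 9, nat_lit 15, nat_lit 13, nat_lit 18] (BT.pln (nat_lit 0) (nat_lit 5) (BT.dif (nat_lit 2) (nat_lit 0) (BT.pln (nat_lit 2) (nat_lit 6) (BT.dif (nat_lit 1) (nat_lit 0) (BT.dif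 (nat_lit 0) (nat_lit 12) (BT.pln (nat_lit 5) (nat_lit 8) (BT.dif (nat_lit 13) (nat_lit 0) (BT.dif (nat_lit 0) (nat_lit 6) (BT.dif (nat_lit 0) (nat_lit 5) (BT.dif (nat_lit 0) (nat_lit 12) (BT.img (nat_lit 1) (nat_lit 0) (BT.and (nat_lit 18) (nat_lit 0) (BT.frm (nat_lit 4) (nat_lit 0x5554423d0a030c) (nat_lit 0x5554423d0a030c) [nat_lit 0, nat_lit 15, nat_lit 22, nat_lit 28, nat_lit 26, nat_lit 31] (BT.pln (nat_lit 0) (nat_lit 7) (BT.dif (nat_lit 9) (nat_lit 0) (BT.pln (nat_lit 2) (nat_lit 6) (BT.dif (nat_lit 1) (nat_lit 0) (BT.br (nat_lit 0) (nat_lit 56) [nat_lit 11, nat_lit 13] (BT.kid (nat_lit 56) (nat_lit 1) (BT.one (nat_lit 5) (nat_lit 0x595b5554423d0a030c) (nat_lit 0x595b5554423d0a030c) [nat_lit 0, nat_lit 6, nat_lit 21, nat_lit 28, nat_lit 34, nat_lit 32, nat_lit 37]) BT.nil)))))))))))))))))))))) BT.nil)))))))) BT.nil))))))) BT.nil))))) BT.nil)))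

theorem yt_c41_cnt : Cnt 324 (grp 324 y_E0) [z_g663] [z_g663] 0 0 0 0 3888 :=
  BT.sound yt_c41_cnt_P Known.nil (t := yt_c41_cnt_t) (d := 0) (by decide +kernel)

theorem yt_c41_ge : 3888 ≤ Nat.card (grp 324 yt_c41_K) :=
  Ch.le_card_grp (k := 9) (L := (lab 324 9)) z_hn yt_c41_K_ok (c := (Ch.cons (nat_lit 8) [nat_lit 1] (Ch.cons (nat_lit 1) [nat_lit 3] (Ch.cons (nat_lit 25) [nat_lit 5] (Ch.cons (nat_lit 74) [nat_lit 7, nat_lit 9] (Ch.cons (nat_lit 56) [nat_lit 11, nat_lit 13] Ch.nil)))))) (by decide +kernel)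

theorem yt_c41_eq : (grp 324 y_E0) ⊓ Subgroup.centralizer {Net.toPerm 324 z_g663} = grp 324 yt_c41_K :=
  cent_eq yt_c41_sym yt_c41_cnt yt_c41_ge

theorem yt_c41_card : Nat.card ↥((grp 324 y_E0) ⊓ Subgroup.centralizer {Net.toPerm 324 z_g663}) = 3888 :=
  card_cent yt_c41_sym yt_c41_cnt yt_c41_ge

theorem yt_c41_ord : orderOf (Net.toPerm 324 z_g663) = 6 :=
  orderOf_net z_hn z_hk z_g663_ok (by decide) (ps := [2, 3]) (by set_option linter.unusedSimpArgs false in simp [Nat.primeFactorsList_ofNat]) (by decide +kernel)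

theorem z_le693 : grp 324 yt_c42_K ≤ grp 324 y_E0 :=
  grp_le_of_memB z_hn z_hk y_E0_ok yt_c42_K_ok (ws := [nat_lit 0x33353c291f1b1a0f1208010101, nat_lit 0x333b25281f191f0f08010d05, nat_lit 0x392f271a11070a01052b, nat_lit 0x372f2b1f1b15070a01050b, nat_lit 0x3335281f19201c120707012305, nat_lit 0x3328192111070a010301, nat_lit 0x3925281f1d12021202, nat_lit 0x3435281d1f11011101]) (by decide +kernel)

theorem yt_c42_le : grp 324 yt_c42_K ≤ (grp 324 y_E0) :=
  (z_le693.trans z_T111_s0.le)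

theorem yt_c42_mem : Net.toPerm 324 z_g684 ∈ (grp 324 y_E0) :=
  yt_c42_le (mem_grp_of_memB z_hn z_hk yt_c42_K_ok z_g684_ok (w := (nat_lit 0xb100704010401)) (by decide +kernel))

theorem yt_c42_sym : Sym 324 (grp 324 y_E0) [z_g684] yt_c42_K 0 :=
  Sym.of_lab z_hn z_hk (okE_cons.2 ⟨z_g684_ok, okE_nil _⟩) yt_c42_K_ok yt_c42_le (kT := 0) (by decide +kernel)

noncomputable def yt_c42_cnt_L : List ℕ := [1, 4, z_T111_s1_O, 0, 0, 2, 6, z_T111_s20_O, 0, 0, 4, 19, z_T111_s22_O, 0, 0, 6, 11, z_T111_s24_O, 0, 0, 7, 13, z_T111_s25_O, 0, 0, 8, 17, z_T111_s26_O, 1, 0]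

theorem yt_c42_cnt_P : Prob 324 9 (grp 324 y_E0) yt_c42_cnt_EG [z_g684] [z_g684] yt_c42_K yt_c42_cnt_L 0 0 :=
  Sym.prob z_hn z_hk yt_c42_sym yt_c42_cnt_EG_ok (grp_cons_le z_g39_z_T111 (grp_cons_le zg1_z_T111 (grp_cons_le zg3_z_T111 (grp_cons_le z_g43_z_T111 (grp_cons_le z_g42_z_T111 (grp_cons_le zg2_z_T111 (grp_cons_le z_g44_z_T111 (grp_cons_le z_g54_z_T111 (grp_cons_le z_g55_z_T111 (grp_cons_le z_g49_z_T111 (grp_cons_le z_g50_z_T111 (grp_cons_le z_g51_z_T111 (grp_cons_le z_g62_z_T111 (grp_cons_le z_g58_z_T111 (grp_cons_le z_g59_z_T111 (grp_cons_le z_g65_z_T111 (grp_cons_le z_g66_z_T111 (grp_cons_le z_g67_z_T111 (grp_cons_le z_g77_z_T111 (grp_cons_le z_g78_z_T111 (grp_cons_le z_g72_z_T111 (grp_cons_le z_g73_z_T111 (grp_cons_le z_g74_z_T111 (grp_cons_le z_g81_z_T111 (grp_cons_le z_g82_z_T111 (grp_cons_le z_g87_z_T111 (grp_cons_le zg0_z_T111 (grp_cons_le z_g91_z_T111 (grp_cons_le z_g28_z_T111 (grp_cons_le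 z_g88_z_T111 (grp_nil_le _))))))))))))))))))))))))))))))) (Frames.cons z_T111_s1_F (Frames.cons z_T111_s20_F (Frames.cons z_T111_s22_F (Frames.cons z_T111_s24_F (Frames.cons z_T111_s25_F (Frames.cons z_T111_s26_F Frames.nil)))))) (okE_cons.2 ⟨z_g684_ok, okE_nil _⟩) _

noncomputable def yt_c42_cnt_t : BT := (BT.fix (nat_lit 65793) (BT.fix (nat_lit 1) (BT.dif (nat_lit 1) (nat_lit 0) (BT.br (nat_lit 0) (nat_lit 47) [nat_lit 1, nat_lit 3, nat_lit 5] (BT.kid (nat_lit 47) (nat_lit 432) (BT.img (nat_lit 1) (nat_lit 0) (BT.frm (nat_lit 1) (nat_lit 131842) (nat_lit 131842) [nat_lit 0, nat_lit 1] (BT.pln (nat_lit 0) (nat_lit 4) (BT.and (nat_lit 4) (nat_lit 0) (BT.br (nat_lit 0) (nat_lit 82) [nat_lit 3, nat_lit 5] (BT.kid (nat_lit 82) (nat_lit 72) (BT.frm (nat_lit 0) (nat_lit 131842) (nat_lit 131842) [nat_lit 5] (BT.pln (nat_lit 0) (nat_lit 2) (BT.dif (nat_lit 0) (nat_lit 9) (BT.br (nat_lit 0) (nat_lit 36) [nat_lit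 7] (BT.dead (nat_lit 176) (BT.frm (nat_lit 2) (nat_lit 0x19201a0f020302) (nat_lit 0x19221a0f020302) [nat_lit 0, nat_lit 4, nat_lit 8, nat_lit 9] (BT.pln (nat_lit 0) (nat_lit 10) (BT.and (nat_lit 0) (nat_lit 13) (BT.cnt (nat_lit 0))))) (BT.dead (nat_lit 49) (BT.frm (nat_lit 2) (nat_lit 0x19201a0f020302) (nat_lit 0x19201c0f020302) [nat_lit 0, nat_lit 4, nat_lit 8, nat_lit 9] (BT.pln (nat_lit 0) (nat_lit 10) (BT.and (nat_lit 0) (nat_lit 13) (BT.cnt (nat_lit 0))))) (BT.dead (nat_lit 181) (BT.frm (nat_lit 2) (nat_lit 0x19201a0f020302) (nat_lit 0x19220f020302) [nat_lit 0, nat_lit 4, nat_lit 8, nat_lit 9] (BT.pln (nat_lit 0) (nat_lit 7) (BT.and (nat_lit 0) (nat_lit 13) (BT.cnt (nat_lit 0))))) (BT.dead (nat_lit 180) (BT.frm (nat_lit 2) (nat_lit 0x19201a0f020302) (nat_lit 0x19200f020302) [nat_lit 0, nat_lit 4, nat_lit 8, nat_lit 9] (BT.pln (nat_lit 0) (nat_lit 7) (BT.and (nat_lit 0) (nat_lit 13) (BT.cnt (nat_lit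 0))))) (BT.dead (nat_lit 177) (BT.frm (nat_lit 2) (nat_lit 0x19201a0f020302) (nat_lit 0x19210f020302) [nat_lit 0, nat_lit 4, nat_lit 8, nat_lit 9] (BT.pln (nat_lit 0) (nat_lit 7) (BT.and (nat_lit 0) (nat_lit 13) (BT.cnt (nat_lit 0))))) (BT.dead (nat_lit 187) (BT.frm (nat_lit 2) (nat_lit 0x19201a0f020302) (nat_lit 0x1d1f0f020302) [nat_lit 0, nat_lit 4, nat_lit 8, nat_lit 9] (BT.pln (nat_lit 0) (nat_lit 9) (BT.and (nat_lit 0) (nat_lit 13) (BT.cnt (nat_lit 0))))) (BT.dead (nat_lit 182) (BT.frm (nat_lit 2) (nat_lit 0x19201a0f020302) (nat_lit 0x190f020302) [nat_lit 0, nat_lit 4, nat_lit 8, nat_lit 9] (BT.pln (nat_lit 0) (nat_lit 7) (BT.and (nat_lit 0) (nat_lit 13) (BT.cnt (nat_lit 0))))) (BT.kid (nat_lit 36) (nat_lit 36) (BT.dif (nat_lit 1) (nat_lit 0) (BT.frm (nat_lit 2) (nat_lit 0x19201a0f020302) (nat_lit 0x19201a0f020302) [nat_lit 1, nat_lit 5, nat_lit 9, nat_lit 10] (BT.pln (nat_lit 0) (nat_lit 7) (BT.and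 (nat_lit 2) (nat_lit 0) (BT.and (nat_lit 15) (nat_lit 1) (BT.pln (nat_lit 3) (nat_lit 9) (BT.and (nat_lit 8) (nat_lit 0) (BT.pln (nat_lit 5) (nat_lit 11) (BT.and (nat_lit 10) (nat_lit 0) (BT.img (nat_lit 1) (nat_lit 0) (BT.dif (nat_lit 3) (nat_lit 0) (BT.frm (nat_lit 3) (nat_lit 0x19201a0f020302) (nat_lit 0x19201a0f020302) [nat_lit 6, nat_lit 0, nat_lit 11, nat_lit 15, nat_lit 19, nat_lit 20] (BT.pln (nat_lit 0) (nat_lit 6) (BT.dif (nat_lit 9) (nat_lit 0) (BT.pln (nat_lit 2) (nat_lit 7) (BT.and (nat_lit 1) (nat_lit 0) (BT.br (nat_lit 0) (nat_lit 177) [nat_lit 9] (BT.kid (nat_lit 177) (nat_lit 18) (BT.pln (nat_lit 5) (nat_lit 8) (BT.and (nat_lit 5) (nat_lit 0) (BT.dif (nat_lit 0) (nat_lit 4) (BT.dif (nat_lit 0) (nat_lit 32) (BT.frm (nat_lit 4) (nat_lit 0x2f19201a0f020302) (nat_lit 0x2f19201a0f020302) [nat_lit 4, nat_lit 16, nat_lit 10, nat_lit 21, nat_lit 25, nat_lit 29, nat_lit 30] (BT.pln (nat_lit 0) (nat_lit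 7) (BT.dif (nat_lit 2) (nat_lit 0) (BT.br (nat_lit 0) (nat_lit 59) [nat_lit 11, nat_lit 13, nat_lit 15] (BT.kid (nat_lit 59) (nat_lit 1) (BT.one (nat_lit 5) (nat_lit 0x353c2f19201a0f020302) (nat_lit 0x353c2f19201a0f020302) [nat_lit 0, nat_lit 8, nat_lit 20, nat_lit 14, nat_lit 25, nat_lit 29, nat_lit 33, nat_lit 34]) BT.nil))))))))) BT.nil)))))))))))))))))) BT.nil)))))))))))) BT.nil)))))) BT.nil)))))

theorem yt_c42_cnt : Cnt 324 (grp 324 y_E0) [z_g684] [z_g684] 0 0 0 0 3888 :=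
  BT.sound yt_c42_cnt_P Known.nil (t := yt_c42_cnt_t) (d := 0) (by decide +kernel)

theorem yt_c42_ge : 3888 ≤ Nat.card (grp 324 yt_c42_K) :=
  Ch.le_card_grp (k := 9) (L := (lab 324 9)) z_hn yt_c42_K_ok (c := (Ch.cons (nat_lit 47) [nat_lit 1] (Ch.cons (nat_lit 82) [nat_lit 3, nat_lit 5] (Ch.cons (nat_lit 36) [nat_lit 7] (Ch.cons (nat_lit 177) [nat_lit 9] (Ch.cons (nat_lit 59) [nat_lit 11, nat_lit 13, nat_lit 15] Ch.nil)))))) (by decide +kernel)

theorem yt_c42_eq : (grp 324 y_E0) ⊓ Subgroup.centralizer {Net.toPerm 324 z_g684} = grp 324 yt_c42_K :=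
  cent_eq yt_c42_sym yt_c42_cnt yt_c42_ge

theorem yt_c42_card : Nat.card ↥((grp 324 y_E0) ⊓ Subgroup.centralizer {Net.toPerm 324 z_g684}) = 3888 :=
  card_cent yt_c42_sym yt_c42_cnt yt_c42_ge

theorem yt_c42_ord : orderOf (Net.toPerm 324 z_g684) = 6 :=
  orderOf_net z_hn z_hk z_g684_ok (by decide) (ps := [2, 3]) (by set_option linter.unusedSimpArgs false in simp [Nat.primeFactorsList_ofNat]) (by decide +kernel)

theorem z_le699 : grp 324 yt_c43_K ≤ grp 324 y_E0 :=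
  grp_le_of_memB z_hn z_hk y_E0_ok yt_c43_K_ok (ws := [nat_lit 0x3335271f1a1f1107070218, nat_lit 0x33352f26281f191c15013802, nat_lit 0x33291f19221a0f0707012305, nat_lit 0x351b1a012602, nat_lit 0x33382f26281f19200f120707010d05]) (by decide +kernel)

theorem yt_c43_le : grp 324 yt_c43_K ≤ (grp 324 y_E0) :=
  (z_le699.trans z_T111_s0.le)

theorem yt_c43_mem : Net.toPerm 324 z_g541 ∈ (grp 324 y_E0) :=
  yt_c43_le (mem_grp_of_memB z_hn z_hk yt_c43_K_ok z_g541_ok (w := (nat_lit 0x7090305050105010501)) (by decide +kernel))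

theorem yt_c43_sym : Sym 324 (grp 324 y_E0) [z_g541] yt_c43_K 0 :=
  Sym.of_lab z_hn z_hk (okE_cons.2 ⟨z_g541_ok, okE_nil _⟩) yt_c43_K_ok yt_c43_le (kT := 0) (by decide +kernel)

theorem z_le702 : grp 324 z_V701 ≤ grp 324 z_V554 :=
  grp_le_of_memB z_hn z_hk z_V554_ok z_V701_ok (ws := [nat_lit 0x7050302, nat_lit 0xa050109, nat_lit 1, nat_lit 590090]) (by decide +kernel)

theorem z_T111_s108 : Stab 324 (grp 324 y_E0) [nat_lit 6, nat_lit 18, nat_lit 14, nat_lit 2, nat_lit 0] z_V701 36 :=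
  Stab.step (k := 9) (L := (lab 324 9)) z_hn z_T111_s81 z_V701_ok z_le702 (c := (Ch.cons (nat_lit 19) [nat_lit 1] (Ch.cons (nat_lit 157) [nat_lit 3, nat_lit 5, nat_lit 7] Ch.nil))) (by decide +kernel)

theorem z_T111_s109 : Stab 324 (grp 324 y_E0) [nat_lit 19, nat_lit 6, nat_lit 18, nat_lit 14, nat_lit 2, nat_lit 0] z_V703 18 :=
  Stab.step (k := 9) (L := (lab 324 9)) z_hn z_T111_s108 z_V703_ok (grp_mono (List.subset_append_right [z_g700] _)) (c := (Ch.cons (nat_lit 157) [nat_lit 1, nat_lit 3, nat_lit 5] Ch.nil)) (by decide +kernel)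

theorem z_T111_s110 : Stab 324 (grp 324 y_E0) [nat_lit 157, nat_lit 19, nat_lit 6, nat_lit 18, nat_lit 14, nat_lit 2, nat_lit 0] z_V704 1 :=
  Stab.step (k := 9) (L := (lab 324 9)) z_hn z_T111_s109 z_V704_ok (grp_mono (List.subset_append_right [zg0, z_g34, z_g493] _)) (c := Ch.nil) (by decide +kernel)

theorem z_g700_z_T111 : Net.toPerm 324 z_g700 ∈ (grp 324 y_E0) :=
  z_T111_s108.le (toPerm_mem_grp (E := z_V701) (List.Mem.head _))

noncomputable def z_T111_s110_O : ℕ := (nat_lit 0xfffffffffffffffff000000000000000000000000000000000000000000000000000000000000000000000000000000000ffffffffffffffffffffffffffffffff00000000000000000000000000000000f0000000000000000ffffffffffffffff0000000000000000ffffffffffffffff00000000000000000ffffffff00000000ffffffff00000000ffffffff00000000ffffffff00000000ffffffff000000000ffff0000ffff0000ffff0000ffff0000ffff0000ffff0000ffff0000ffff0000ffff0000ffff00000ff00ff00ff00ff00ff00ff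00ff00ff00ff00ff00ff00ff00ff00ff00ff00ff00ff00ff00ff00ff000f0f0f0f0f0f0f0f0f0f0f0f0f0f0f0f0f0f0f0f0f0f0f0f0f0f0f0f0f0f0f0f0f0f0f0f0f0f0f0f0cccccccccccccccccccccccccccccccccccccccccccccccccccccccccccccccccccccccccccccccccaaaaaaaaaaaaaaaaaaaaaaaaaaaaaaaaaaaaaaaaaaaaaaaaaaaaaaaaaaaaaaaaaaaaaaaaaaaaaaaaa000000000000000000000000000000000000000000000000000000000000000000000000000000001000000000000000000000000000000000000000000000000000000000000000000000000000000004000000000000000000000000000000000000000000000000000000000000000000000000000004000000000000000000000000000000000000000000000000000000000000000000000000000000040000000000000000000000000000000000000000000000000000000000000000000000000000000000040000000000000000000000000000000000000000000000000000000000000000000000000000080000000000000000000000000000000000000000000002000000000000000000000000000000000000000)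

theorem z_T111_s110_F : Frame 324 (grp 324 y_E0) 7 16 z_T111_s110_O 1 1 :=
  IsBase.frame z_T111_s110.isBase (by decide +kernel)

noncomputable def z_T111_s108_O : ℕ := (nat_lit 0x3bfa000000040000000000000001040200000000000000004000000000000000104020000000000ffb801a9fb7b69ddffddffd3e7401690b038900000009fb7b69ddffddffd3e7401690b038900000004403c1a75f8cfab3d8e691ee4bc5da38b8c76e10000075f8cfab3d8e691ee4bc5da38b8c76e10000033233187a9b83141a5eb19baf9bea28ba41f070260f27a9b83141a5eb19baf9bea28ba41f070260f22a92a92000000000000000000000000000000000000000000000000000000000000000000000000000000001000000000000000000000000000000000000000000000000000000000000000000000000000000004000000000000000000000000000000000000000000000000000000000000000000000000000004000000000000000000000000000000000000000000000000000000000000000000000000000000040000000000000000000000000000000000000000000000000000000000000000000000000000000000040)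

theorem z_T111_s108_F : Frame 324 (grp 324 y_E0) 5 10 z_T111_s108_O 0 1 :=
  Stab.frame z_hn z_T111_s108 (by decide +kernel)

noncomputable def yt_c43_cnt_L : List ℕ := [1, 4, z_T111_s1_O, 0, 0, 5, 10, z_T111_s108_O, 0, 0, 7, 16, z_T111_s110_O, 1, 0]

theorem yt_c43_cnt_P : Prob 324 9 (grp 324 y_E0) yt_c43_cnt_EG [z_g541] [z_g541] yt_c43_K yt_c43_cnt_L 0 0 :=
  Sym.prob z_hn z_hk yt_c43_sym yt_c43_cnt_EG_ok (grp_cons_le z_g39_z_T111 (grp_cons_le zg1_z_T111 (grp_cons_le zg3_z_T111 (grp_cons_le z_g43_z_T111 (grp_cons_le z_g42_z_T111 (grp_cons_le zg2_z_T111 (grp_cons_le z_g44_z_T111 (grp_cons_le z_g54_z_T111 (grp_cons_le z_g55_z_T111 (grp_cons_le z_g49_z_T111 (grp_cons_le z_g50_z_T111 (grp_cons_le z_g51_z_T111 (grp_cons_le z_g62_z_T111 (grp_cons_le z_g58_z_T111 (grp_cons_le z_g59_z_T111 (grp_cons_le z_g65_z_T111 (grp_cons_le z_g66_z_T111 (grp_cons_le z_g67_z_T111 (grp_cons_le z_g77_z_T111 (grp_cons_le z_g78_z_T111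 (grp_cons_le z_g72_z_T111 (grp_cons_le z_g73_z_T111 (grp_cons_le z_g74_z_T111 (grp_cons_le z_g81_z_T111 (grp_cons_le z_g82_z_T111 (grp_cons_le z_g87_z_T111 (grp_cons_le zg0_z_T111 (grp_cons_le z_g91_z_T111 (grp_cons_le z_g28_z_T111 (grp_cons_le z_g88_z_T111 (grp_cons_le z_g34_z_T111 (grp_cons_le z_g549_z_T111 (grp_cons_le z_g33_z_T111 (grp_cons_le z_g550_z_T111 (grp_cons_le z_g551_z_T111 (grp_cons_le z_g548_z_T111 (grp_cons_le z_g493_z_T111 (grp_cons_le z_g700_z_T111 (grp_nil_le _))))))))))))))))))))))))))))))))))))))) (Frames.cons z_T111_s1_F (Frames.cons z_T111_s108_F (Frames.cons z_T111_s110_F Frames.nil))) (okE_cons.2 ⟨z_g541_ok, okE_nil _⟩) _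

noncomputable def yt_c43_cnt_t : BT := (BT.fix (nat_lit 257) (BT.fix (nat_lit 1) (BT.dif (nat_lit 1) (nat_lit 0) (BT.br (nat_lit 0) (nat_lit 36) [nat_lit 1, nat_lit 5] (BT.kid (nat_lit 36) (nat_lit 108) (BT.frm (nat_lit 0) (nat_lit 66847) (nat_lit 66847) [nat_lit 0] (BT.pln (nat_lit 0) (nat_lit 2) (BT.dif (nat_lit 0) (nat_lit 5) (BT.br (nat_lit 0) (nat_lit 194) [nat_lit 3, nat_lit 5] (BT.kid (nat_lit 194) (nat_lit 6) (BT.dif (nat_lit 10) (nat_lit 7) (BT.pln (nat_lit 4) (nat_lit 1) (BT.dif (nat_lit 1) (nat_lit 0) (BT.img (nat_lit 1) (nat_lit 3) (BT.img (nat_lit 1) (nat_lit 0) (BT.img (nat_lit 1) (nat_lit 9) (BT.frm (nat_lit 1) (nat_lit 0x3f4547473f4615071501051f) (nat_lit 0x3f4547473f4615071501051f) [nat_lit 1, nat_lit 2, nat_lit 6, nat_lit 0, nat_lit 10] (BT.pln (nat_lit 0) (nat_lit 6) (BT.dif (nat_lit 5) (nat_lit 0) (BT.pln (nat_lit 2) (nat_lit 5) (BT.dif (nat_lit 1) (nat_lit 0) (BT.dif (nat_lit 0) (nat_lit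 13) (BT.br (nat_lit 0) (nat_lit 80) [nat_lit 7, nat_lit 9] (BT.dead (nat_lit 88) (BT.img (nat_lit 1) (nat_lit 8) (BT.frm (nat_lit 2) (nat_lit 0x3d493f4547473f4615071501051f) (nat_lit 0x3d3f4547473f4615071501051f) [nat_lit 1, nat_lit 0, nat_lit 9, nat_lit 10, nat_lit 14, nat_lit 8, nat_lit 18] (BT.pln (nat_lit 0) (nat_lit 7) (BT.img (nat_lit 1) (nat_lit 3) (BT.and (nat_lit 1) (nat_lit 0) (BT.cnt (nat_lit 0))))))) (BT.dead (nat_lit 133) (BT.img (nat_lit 1) (nat_lit 8) (BT.frm (nat_lit 2) (nat_lit 0x3d493f4547473f4615071501051f) (nat_lit 0x353f4547473f4615071501051f) [nat_lit 1, nat_lit 0, nat_lit 9, nat_lit 10, nat_lit 14, nat_lit 8, nat_lit 18] (BT.pln (nat_lit 0) (nat_lit 7) (BT.and (nat_lit 0) (nat_lit 22) (BT.cnt (nat_lit 0)))))) (BT.kid (nat_lit 80) (nat_lit 1) (BT.img (nat_lit 1) (nat_lit 8) (BT.one (nat_lit 2) (nat_lit 0x3d493f4547473f4615071501051f) (nat_lit 0x3d493f4547473f4615071501051f) [nat_lit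 1, nat_lit 0, nat_lit 9, nat_lit 10, nat_lit 14, nat_lit 8, nat_lit 18])) BT.nil)))))))))))))))) BT.nil))))) BT.nil)))))

theorem yt_c43_cnt : Cnt 324 (grp 324 y_E0) [z_g541] [z_g541] 0 0 0 0 3888 :=
  BT.sound yt_c43_cnt_P Known.nil (t := yt_c43_cnt_t) (d := 0) (by decide +kernel)

theorem yt_c43_ge : 3888 ≤ Nat.card (grp 324 yt_c43_K) :=
  Ch.le_card_grp (k := 9) (L := (lab 324 9)) z_hn yt_c43_K_ok (c := (Ch.cons (nat_lit 36) [nat_lit 1] (Ch.cons (nat_lit 194) [nat_lit 3, nat_lit 5] (Ch.cons (nat_lit 80) [nat_lit 7, nat_lit 9] Ch.nil)))) (by decide +kernel)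

theorem yt_c43_eq : (grp 324 y_E0) ⊓ Subgroup.centralizer {Net.toPerm 324 z_g541} = grp 324 yt_c43_K :=
  cent_eq yt_c43_sym yt_c43_cnt yt_c43_ge

theorem yt_c43_card : Nat.card ↥((grp 324 y_E0) ⊓ Subgroup.centralizer {Net.toPerm 324 z_g541}) = 3888 :=
  card_cent yt_c43_sym yt_c43_cnt yt_c43_ge

theorem yt_c43_ord : orderOf (Net.toPerm 324 z_g541) = 6 :=
  orderOf_net z_hn z_hk z_g541_ok (by decide) (ps := [2, 3]) (by set_option linter.unusedSimpArgs false in simp [Nat.primeFactorsList_ofNat]) (by decide +kernel)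

theorem z_le712 : grp 324 yt_c44_K ≤ grp 324 y_E0 :=
  grp_le_of_memB z_hn z_hk y_E0_ok yt_c44_K_ok (ws := [nat_lit 0x34352528191b110715031c, nat_lit 0x33352f2b1c120801051e, nat_lit 0x353c2f252819221a12090311, nat_lit 0x382f29191c120225, nat_lit 0x3425012602, nat_lit 0x2819201c0f0715010722]) (by decide +kernel)

theorem yt_c44_le : grp 324 yt_c44_K ≤ (grp 324 y_E0) :=
  (z_le712.trans z_T111_s0.le)

theorem yt_c44_mem : Net.toPerm 324 z_g705 ∈ (grp 324 y_E0) :=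
  yt_c44_le (mem_grp_of_memB z_hn z_hk yt_c44_K_ok z_g705_ok (w := (nat_lit 0x90b0804010802)) (by decide +kernel))

theorem yt_c44_sym : Sym 324 (grp 324 y_E0) [z_g705] yt_c44_K 0 :=
  Sym.of_lab z_hn z_hk (okE_cons.2 ⟨z_g705_ok, okE_nil _⟩) yt_c44_K_ok yt_c44_le (kT := 0) (by decide +kernel)

noncomputable def yt_c44_cnt_L : List ℕ := [1, 4, z_T111_s1_O, 0, 0, 5, 10, z_T111_s99_O, 0, 0, 6, 11, z_T111_s100_O, 0, 0, 7, 13, z_T111_s101_O, 0, 0, 8, 17, z_T111_s102_O, 1, 0]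

theorem yt_c44_cnt_P : Prob 324 9 (grp 324 y_E0) yt_c44_cnt_EG [z_g705] [z_g705] yt_c44_K yt_c44_cnt_L 0 0 :=
  Sym.prob z_hn z_hk yt_c44_sym yt_c44_cnt_EG_ok (grp_cons_le z_g39_z_T111 (grp_cons_le zg1_z_T111 (grp_cons_le zg3_z_T111 (grp_cons_le z_g43_z_T111 (grp_cons_le z_g42_z_T111 (grp_cons_le zg2_z_T111 (grp_cons_le z_g44_z_T111 (grp_cons_le z_g54_z_T111 (grp_cons_le z_g55_z_T111 (grp_cons_le z_g49_z_T111 (grp_cons_le z_g50_z_T111 (grp_cons_le z_g51_z_T111 (grp_cons_le z_g62_z_T111 (grp_cons_le z_g58_z_T111 (grp_cons_le z_g59_z_T111 (grp_cons_le z_g65_z_T111 (grp_cons_le z_g66_z_T111 (grp_cons_le z_g67_z_T111 (grp_cons_le z_g77_z_T111 (grp_cons_le z_g78_z_T111 (grp_cons_le z_g72_z_T111 (grp_cons_le z_g73_z_T111 (grp_cons_le z_g74_z_T111 (grp_cons_le z_g81_z_T111 (grp_cons_le z_g82_z_T111 (grp_cons_le z_g87_z_T111 (grp_cons_le zg0_z_T111 (grp_cons_le z_g91_z_T111 (grp_cons_le z_g28_z_T111 (grp_cons_le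 z_g88_z_T111 (grp_cons_le z_g652_z_T111 (grp_cons_le z_g653_z_T111 (grp_cons_le z_g654_z_T111 (grp_cons_le z_g655_z_T111 (grp_cons_le z_g656_z_T111 (grp_cons_le z_g493_z_T111 (grp_cons_le z_g548_z_T111 (grp_cons_le z_g34_z_T111 (grp_cons_le z_g549_z_T111 (grp_cons_le z_g33_z_T111 (grp_cons_le z_g550_z_T111 (grp_cons_le z_g551_z_T111 (grp_nil_le _))))))))))))))))))))))))))))))))))))))))))) (Frames.cons z_T111_s1_F (Frames.cons z_T111_s99_F (Frames.cons z_T111_s100_F (Frames.cons z_T111_s101_F (Frames.cons z_T111_s102_F Frames.nil))))) (okE_cons.2 ⟨z_g705_ok, okE_nil _⟩) _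

noncomputable def yt_c44_cnt_t : BT := (BT.fix (nat_lit 65793) (BT.fix (nat_lit 1) (BT.dif (nat_lit 1) (nat_lit 0) (BT.br (nat_lit 0) (nat_lit 109) [nat_lit 1, nat_lit 3] (BT.kid (nat_lit 109) (nat_lit 216) (BT.frm (nat_lit 0) (nat_lit 69933) (nat_lit 69933) [nat_lit 0] (BT.pln (nat_lit 0) (nat_lit 2) (BT.dif (nat_lit 0) (nat_lit 5) (BT.fix (nat_lit 257) (BT.dif (nat_lit 1) (nat_lit 0) (BT.br (nat_lit 0) (nat_lit 221) [nat_lit 3] (BT.kid (nat_lit 221) (nat_lit 36) (BT.dif (nat_lit 4) (nat_lit 2) (BT.and (nat_lit 0) (nat_lit 10) (BT.img (nat_lit 1) (nat_lit 2) (BT.img (nat_lit 1) (nat_lit 0) (BT.img (nat_lit 1) (nat_lit 10) (BT.frm (nat_lit 1) (nat_lit 0x3d4d541b0801112d) (nat_lit 0x3d4d541b0801112d) [nat_lit 1, nat_lit 2, nat_lit 5, nat_lit 0, nat_lit 11] (BT.pln (nat_lit 0) (nat_lit 5) (BT.dif (nat_lit 5) (nat_lit 0) (BT.br (nat_lit 0) (nat_lit 161) [nat_lit 5, nat_lit 7] (BT.kid (nat_lit 161) (nat_lit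 6) (BT.dif (nat_lit 21) (nat_lit 2) (BT.pln (nat_lit 4) (nat_lit 6) (BT.and (nat_lit 1) (nat_lit 0) (BT.pln (nat_lit 6) (nat_lit 7) (BT.dif (nat_lit 1) (nat_lit 0) (BT.dif (nat_lit 0) (nat_lit 23) (BT.and (nat_lit 23) (nat_lit 19) (BT.frm (nat_lit 2) (nat_lit 0x3f3d4d541b0801112d) (nat_lit 0x3f3d4d541b0801112d) [nat_lit 7, nat_lit 12, nat_lit 13, nat_lit 16, nat_lit 11, nat_lit 22] (BT.pln (nat_lit 0) (nat_lit 8) (BT.and (nat_lit 2) (nat_lit 0) (BT.frm (nat_lit 3) (nat_lit 0x433f3d4d541b0801112d) (nat_lit 0x433f3d4d541b0801112d) [nat_lit 0, nat_lit 10, nat_lit 15, nat_lit 16, nat_lit 19, nat_lit 14, nat_lit 25] (BT.pln (nat_lit 0) (nat_lit 10) (BT.and (nat_lit 6) (nat_lit 0) (BT.br (nat_lit 0) (nat_lit 206) [nat_lit 9, nat_lit 11] (BT.dead (nat_lit 74) (BT.frm (nat_lit 4) (nat_lit 0x433f3d4d541b0801112d) (nat_lit 0x453948433f3d4d541b0801112d) [nat_lit 0, nat_lit 4, nat_lit 14, nat_lit 19, nat_lit 20, nat_lit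 23, nat_lit 18, nat_lit 29] (BT.pln (nat_lit 0) (nat_lit 8) (BT.img (nat_lit 1) (nat_lit 2) (BT.and (nat_lit 1) (nat_lit 0) (BT.cnt (nat_lit 0)))))) (BT.dead (nat_lit 149) (BT.frm (nat_lit 4) (nat_lit 0x433f3d4d541b0801112d) (nat_lit 0x4648433f3d4d541b0801112d) [nat_lit 0, nat_lit 4, nat_lit 14, nat_lit 19, nat_lit 20, nat_lit 23, nat_lit 18, nat_lit 29] (BT.pln (nat_lit 0) (nat_lit 8) (BT.and (nat_lit 0) (nat_lit 27) (BT.cnt (nat_lit 0))))) (BT.kid (nat_lit 206) (nat_lit 1) (BT.one (nat_lit 4) (nat_lit 0x433f3d4d541b0801112d) (nat_lit 0x433f3d4d541b0801112d) [nat_lit 0, nat_lit 4, nat_lit 14, nat_lit 19, nat_lit 20, nat_lit 23, nat_lit 18, nat_lit 29]) BT.nil))))))))))))))))) BT.nil)))))))))) BT.nil))))))) BT.nil)))))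

theorem yt_c44_cnt : Cnt 324 (grp 324 y_E0) [z_g705] [z_g705] 0 0 0 0 3888 :=
  BT.sound yt_c44_cnt_P Known.nil (t := yt_c44_cnt_t) (d := 0) (by decide +kernel)

theorem yt_c44_ge : 3888 ≤ Nat.card (grp 324 yt_c44_K) :=
  Ch.le_card_grp (k := 9) (L := (lab 324 9)) z_hn yt_c44_K_ok (c := (Ch.cons (nat_lit 109) [nat_lit 1] (Ch.cons (nat_lit 221) [nat_lit 3] (Ch.cons (nat_lit 161) [nat_lit 5, nat_lit 7] (Ch.cons (nat_lit 206) [nat_lit 9, nat_lit 11] Ch.nil))))) (by decide +kernel)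

theorem yt_c44_eq : (grp 324 y_E0) ⊓ Subgroup.centralizer {Net.toPerm 324 z_g705} = grp 324 yt_c44_K :=
  cent_eq yt_c44_sym yt_c44_cnt yt_c44_ge

theorem yt_c44_card : Nat.card ↥((grp 324 y_E0) ⊓ Subgroup.centralizer {Net.toPerm 324 z_g705}) = 3888 :=
  card_cent yt_c44_sym yt_c44_cnt yt_c44_ge

theorem yt_c44_ord : orderOf (Net.toPerm 324 z_g705) = 6 :=
  orderOf_net z_hn z_hk z_g705_ok (by decide) (ps := [2, 3]) (by set_option linter.unusedSimpArgs false in simp [Nat.primeFactorsList_ofNat]) (by decide +kernel)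

theorem z_le719 : grp 324 yt_c45_K ≤ grp 324 y_E0 :=
  grp_le_of_memB z_hn z_hk y_E0_ok yt_c45_K_ok (ws := [nat_lit 0x392f1f191f0f1209010115, nat_lit 0x2f26281d150707052f, nat_lit 0x3c2f261f191c0f07070112, nat_lit 0x280527, nat_lit 0x3335271f1d012602]) (by decide +kernel)

theorem yt_c45_le : grp 324 yt_c45_K ≤ (grp 324 y_E0) :=
  (z_le719.trans z_T111_s0.le)

theorem yt_c45_mem : Net.toPerm 324 z_g713 ∈ (grp 324 y_E0) :=
  yt_c45_le (mem_grp_of_memB z_hn z_hk yt_c45_K_ok z_g713_ok (w := (nat_lit 0x505010101)) (by decide +kernel))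

theorem yt_c45_sym : Sym 324 (grp 324 y_E0) [z_g713] yt_c45_K 0 :=
  Sym.of_lab z_hn z_hk (okE_cons.2 ⟨z_g713_ok, okE_nil _⟩) yt_c45_K_ok yt_c45_le (kT := 0) (by decide +kernel)

theorem z_le724 : grp 324 z_V723 ≤ grp 324 z_V554 :=
  grp_le_of_memB z_hn z_hk z_V554_ok z_V723_ok (ws := [nat_lit 0x907050302, nat_lit 591105, nat_lit 590090, nat_lit 0xa050209, nat_lit 2]) (by decide +kernel)

theorem z_T111_s111 : Stab 324 (grp 324 y_E0) [nat_lit 15, nat_lit 18, nat_lit 14, nat_lit 2, nat_lit 0] z_V723 108 :=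
  Stab.step (k := 9) (L := (lab 324 9)) z_hn z_T111_s81 z_V723_ok z_le724 (c := (Ch.cons (nat_lit 24) [nat_lit 1] (Ch.cons (nat_lit 17) [nat_lit 3] (Ch.cons (nat_lit 206) [nat_lit 5, nat_lit 7, nat_lit 9] Ch.nil)))) (by decide +kernel)

theorem z_T111_s112 : Stab 324 (grp 324 y_E0) [nat_lit 24, nat_lit 15, nat_lit 18, nat_lit 14, nat_lit 2, nat_lit 0] z_V725 54 :=
  Stab.step (k := 9) (L := (lab 324 9)) z_hn z_T111_s111 z_V725_ok (grp_mono (List.subset_append_right [z_g720] _)) (c := (Ch.cons (nat_lit 17) [nat_lit 1] (Ch.cons (nat_lit 206) [nat_lit 3, nat_lit 5, nat_lit 7] Ch.nil))) (by decide +kernel)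

theorem z_T111_s113 : Stab 324 (grp 324 y_E0) [nat_lit 17, nat_lit 24, nat_lit 15, nat_lit 18, nat_lit 14, nat_lit 2, nat_lit 0] z_V726 18 :=
  Stab.step (k := 9) (L := (lab 324 9)) z_hn z_T111_s112 z_V726_ok (grp_mono (List.subset_append_right [z_g721] _)) (c := (Ch.cons (nat_lit 206) [nat_lit 1, nat_lit 3, nat_lit 5] Ch.nil)) (by decide +kernel)

theorem z_T111_s114 : Stab 324 (grp 324 y_E0) [nat_lit 206, nat_lit 17, nat_lit 24, nat_lit 15, nat_lit 18, nat_lit 14, nat_lit 2, nat_lit 0] z_V727 1 :=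
  Stab.step (k := 9) (L := (lab 324 9)) z_hn z_T111_s113 z_V727_ok (grp_mono (List.subset_append_right [z_g493, z_g722, z_g91] _)) (c := Ch.nil) (by decide +kernel)

theorem z_g720_z_T111 : Net.toPerm 324 z_g720 ∈ (grp 324 y_E0) :=
  z_T111_s111.le (toPerm_mem_grp (E := z_V723) (List.Mem.head _))

theorem z_g721_z_T111 : Net.toPerm 324 z_g721 ∈ (grp 324 y_E0) :=
  z_T111_s111.le (toPerm_mem_grp (E := z_V723) (List.Mem.tail _ (List.Mem.head _)))

theorem z_g722_z_T111 : Net.toPerm 324 z_g722 ∈ (grp 324 y_E0) :=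
  z_T111_s111.le (toPerm_mem_grp (E := z_V723) (List.Mem.tail _ (List.Mem.tail _ (List.Mem.tail _ (List.Mem.head _)))))

noncomputable def z_T111_s114_O : ℕ := (nat_lit 0xfffffffffffffffff000000000000000000000000000000000000000000000000000000000000000000000000000000000ffffffffffffffffffffffffffffffff00000000000000000000000000000000f0000000000000000ffffffffffffffff0000000000000000ffffffffffffffff00000000000000000ffffffff00000000ffffffff00000000ffffffff00000000ffffffff00000000ffffffff000000000ffff0000ffff0000ffff0000ffff0000ffff0000ffff0000ffff0000ffff0000ffff0000ffff00000ff00ff00ff00ff00ff00ff00ff00ff00ff00ff00ff00ff00ff00ff00ff00ff00ff00ff00ff00ff000f0f0f0f0f0f0f0f0f0f0f0f0f0f0f0f0f0f0f0f0f0f0f0f0f0f0f0f0f0f0f0f0f0f0f0f0f0f0f0f0cccccccccccccccccccccccccccccccccccccccccccccccccccccccccccccccccccccccccccccccccaaaaaaaaaaaaaaaaaaaaaaaaaaaaaaaaaaaaaaaaaaaaaaaaaaaaaaaaaaaaaaaaaaaaaaaaaaaaaaaaa0000000000000000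00000000000000000000000000000000000000000000000000000000000000001000000000000000000000000000000000000000000000000000000000000000000000000000000004000000000000000000000000000000000000000000000000000000000000000000000000000004000000000000000000000000000000000000000000000000000000000000000000000000000000040000000000000000000000000000000000000000000000000000000000000000000000000000000008000000000000000000000000000000000000000000000000000000000000000000000000000001000000000000000000000000000000000000000000000000000000000000000000000000000000000020000000000000000000000000000000004000000000000000000000000000000000000000000000000000)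

theorem z_T111_s114_F : Frame 324 (grp 324 y_E0) 8 17 z_T111_s114_O 1 1 :=
  IsBase.frame z_T111_s114.isBase (by decide +kernel)

noncomputable def z_T111_s113_O : ℕ := (nat_lit 0x6e00000000000400000000000000010402000000000000000040000000000000001040200000000008193ffa9fb3c6bdbfddd9fd3e7405e90b858e00000009fb3c6bdbfddd9fd3e7405e90b858e00000000193e0075fcbf8b5dae6f1ee4bc59238b0a71e10000075fcbf8b5dae6f1ee4bc59238b0a71e10000041921e01a1fb39542f4bf95af2eeb0d3053a14cc06881a1fb39542f4bf95af2eeb0d3053a14cc06882981998f894b200da6f87fb37d3a268ba435930260f2f894b200da6f87fb37d3a268ba435930260f22511552000000000000000000000000000000000000000000000000000000000000000000000000000000001000000000000000000000000000000000000000000000000000000000000000000000000000000004000000000000000000000000000000000000000000000000000000000000000000000000000004000000000000000000000000000000000000000000000000000000000000000000000000000000040000000000000000000000000000000000000000000000000000000000000000000000000000000008000000000000000000000000000000000000000000000000000000000000000000000000000001000000000000000000000000000000000000000000000000000000000000000000000000000000000020000)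

theorem z_T111_s113_F : Frame 324 (grp 324 y_E0) 7 13 z_T111_s113_O 0 1 :=
  Stab.frame z_hn z_T111_s113 (by decide +kernel)

noncomputable def z_T111_s112_O : ℕ := (nat_lit 0x10000000000000000000000000000000000000000000000000000000000000000000000000000000000100000000000000000000000000000000000000000000000000000000000000000000000000000000080000000000000000000000000000000000000000000000000000000000000000000000000000680000000000000000000000000000000000000000000000000000000000000000000000000000000068000000000000000000000000000000000000000000000000000000000000000000000000000000001050000000000000000000000000000000000000000000000000000000000000000000000000000002028000000000000000000000000000000000000000000000000000000000000000000000000000000203000000000000000000000000000000000000000000000000000000000000000000000000000000004a0000004000000000000000104020000000000000000400000000000000010402000000000080000000000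0000000000000102a200304000000008000000000000000000102a200304000000008000000000000000000000000000000040010000cc06080000000000000000000000040010000cc060800000000000000000000000000100000000001026072000000000000000000010000000000102607200000000000000000000000000000000400000219905000000000000000000000000040000021990500000009530860885054170344000400100080000000953086088505417034400040010008000000000000000084308158a80e0c003401210a020100000000084308158a80e0c003401210a020100000000000000080841202240a08182084c880085264000000080841202240a08182084c8800852640000000000000000000000000000000000000000000000000000000000000000000000000000000000000000000001000000000000000000000000000000000000000000000000000000000000000000000000000000004000000000000000000000000000000000000000000000000000000000000000000000000000004000000000000000000000000000000000000000000000000000000000000000000000000000000040000000000000000000000000000000000000000000000000000000000000000000000000000000008000000000000000000000000000000000000000000000000000000000000000000000000000001000000)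

theorem z_T111_s112_F : Frame 324 (grp 324 y_E0) 6 23 z_T111_s112_O 0 1 :=
  Stab.frame z_hn z_T111_s112 (by decide +kernel)

noncomputable def yt_c45_cnt_L : List ℕ := [1, 4, z_T111_s1_O, 0, 0, 4, 13, z_T111_s81_O, 0, 0, 6, 23, z_T111_s112_O, 0, 0, 7, 13, z_T111_s113_O, 0, 0, 8, 17, z_T111_s114_O, 1, 0]

theorem yt_c45_cnt_P : Prob 324 9 (grp 324 y_E0) yt_c45_cnt_EG [z_g713] [z_g713] yt_c45_K yt_c45_cnt_L 0 0 :=
  Sym.prob z_hn z_hk yt_c45_sym yt_c45_cnt_EG_ok (grp_cons_le z_g39_z_T111 (grp_cons_le zg1_z_T111 (grp_cons_le zg3_z_T111 (grp_cons_le z_g43_z_T111 (grp_cons_le z_g42_z_T111 (grp_cons_le zg2_z_T111 (grp_cons_le z_g44_z_T111 (grp_cons_le z_g54_z_T111 (grp_cons_le z_g55_z_T111 (grp_cons_le z_g49_z_T111 (grp_cons_le z_g50_z_T111 (grp_cons_le z_g51_z_T111 (grp_cons_le z_g62_z_T111 (grp_cons_le z_g58_z_T111 (grp_cons_le z_g59_z_T111 (grp_cons_le z_g65_z_T111 (grp_cons_le z_g66_z_T111 (grp_cons_le z_g67_z_T111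 (grp_cons_le z_g77_z_T111 (grp_cons_le z_g78_z_T111 (grp_cons_le z_g72_z_T111 (grp_cons_le z_g73_z_T111 (grp_cons_le z_g74_z_T111 (grp_cons_le z_g81_z_T111 (grp_cons_le z_g82_z_T111 (grp_cons_le z_g87_z_T111 (grp_cons_le zg0_z_T111 (grp_cons_le z_g91_z_T111 (grp_cons_le z_g28_z_T111 (grp_cons_le z_g88_z_T111 (grp_cons_le z_g548_z_T111 (grp_cons_le z_g34_z_T111 (grp_cons_le z_g549_z_T111 (grp_cons_le z_g33_z_T111 (grp_cons_le z_g550_z_T111 (grp_cons_le z_g551_z_T111 (grp_cons_le z_g720_z_T111 (grp_cons_le z_g721_z_T111 (grp_cons_le z_g493_z_T111 (grp_cons_le z_g722_z_T111 (grp_nil_le _))))))))))))))))))))))))))))))))))))))))) (Frames.cons z_T111_s1_F (Frames.cons z_T111_s81_F (Frames.cons z_T111_s112_F (Frames.cons z_T111_s113_F (Frames.cons z_T111_s114_F Frames.nil))))) (okE_cons.2 ⟨z_g713_ok, okE_nil _⟩) _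

noncomputable def yt_c45_cnt_t : BT := (BT.fix (nat_lit 257) (BT.fix (nat_lit 1) (BT.dif (nat_lit 1) (nat_lit 0) (BT.br (nat_lit 0) (nat_lit 54) [nat_lit 1, nat_lit 3] (BT.kid (nat_lit 54) (nat_lit 108) (BT.frm (nat_lit 0) (nat_lit 277) (nat_lit 277) [nat_lit 0] (BT.pln (nat_lit 0) (nat_lit 2) (BT.dif (nat_lit 0) (nat_lit 5) (BT.br (nat_lit 0) (nat_lit 318) [nat_lit 3, nat_lit 5] (BT.kid (nat_lit 318) (nat_lit 6) (BT.dif (nat_lit 10) (nat_lit 7) (BT.img (nat_lit 1) (nat_lit 1) (BT.img (nat_lit 1) (nat_lit 0) (BT.img (nat_lit 1) (nat_lit 0) (BT.img (nat_lit 1) (nat_lit 8) (BT.frm (nat_lit 2) (nat_lit 0x49413d481b07070115) (nat_lit 0x49413d481b07070115) [nat_lit 1, nat_lit 2, nat_lit 3, nat_lit 5, nat_lit 0, nat_lit 9] (BT.pln (nat_lit 0) (nat_lit 6) (BT.and (nat_lit 6) (nat_lit 0) (BT.pln (nat_lit 11) (nat_lit 3) (BT.and (nat_lit 0) (nat_lit 15) (BT.frm (nat_lit 1) (nat_lit 0x3d481b07070115) (nat_lit 0x3d481b07070115)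 [nat_lit 8, nat_lit 10, nat_lit 5, nat_lit 14] (BT.pln (nat_lit 0) (nat_lit 9) (BT.and (nat_lit 2) (nat_lit 0) (BT.frm (nat_lit 3) (nat_lit 0x4b49413d481b07070115) (nat_lit 0x4b49413d481b07070115) [nat_lit 0, nat_lit 9, nat_lit 10, nat_lit 11, nat_lit 13, nat_lit 8, nat_lit 17] (BT.pln (nat_lit 0) (nat_lit 8) (BT.dif (nat_lit 7) (nat_lit 0) (BT.br (nat_lit 0) (nat_lit 28) [nat_lit 7, nat_lit 9] (BT.dead (nat_lit 44) (BT.frm (nat_lit 4) (nat_lit 0x4f374b49413d481b07070115) (nat_lit 0x4e4f374b49413d481b07070115) [nat_lit 0, nat_lit 4, nat_lit 13, nat_lit 14, nat_lit 15, nat_lit 17, nat_lit 12, nat_lit 21] (BT.pln (nat_lit 0) (nat_lit 9) (BT.img (nat_lit 1) (nat_lit 2) (BT.img (nat_lit 1) (nat_lit 0) (BT.img (nat_lit 1) (nat_lit 0) (BT.and (nat_lit 3) (nat_lit 0) (BT.cnt (nat_lit 0)))))))) (BT.dead (nat_lit 39) (BT.frm (nat_lit 4) (nat_lit 0x4f374b49413d481b07070115) (nat_lit 0x4d4f374b49413d481b07070115) [nat_lit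 0, nat_lit 4, nat_lit 13, nat_lit 14, nat_lit 15, nat_lit 17, nat_lit 12, nat_lit 21] (BT.pln (nat_lit 0) (nat_lit 8) (BT.and (nat_lit 0) (nat_lit 25) (BT.cnt (nat_lit 0))))) (BT.kid (nat_lit 28) (nat_lit 1) (BT.one (nat_lit 4) (nat_lit 0x4f374b49413d481b07070115) (nat_lit 0x4f374b49413d481b07070115) [nat_lit 0, nat_lit 4, nat_lit 13, nat_lit 14, nat_lit 15, nat_lit 17, nat_lit 12, nat_lit 21]) BT.nil)))))))))))))))))))) BT.nil))))) BT.nil)))))

theorem yt_c45_cnt : Cnt 324 (grp 324 y_E0) [z_g713] [z_g713] 0 0 0 0 3888 :=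
  BT.sound yt_c45_cnt_P Known.nil (t := yt_c45_cnt_t) (d := 0) (by decide +kernel)

theorem yt_c45_ge : 3888 ≤ Nat.card (grp 324 yt_c45_K) :=
  Ch.le_card_grp (k := 9) (L := (lab 324 9)) z_hn yt_c45_K_ok (c := (Ch.cons (nat_lit 54) [nat_lit 1] (Ch.cons (nat_lit 318) [nat_lit 3, nat_lit 5] (Ch.cons (nat_lit 28) [nat_lit 7, nat_lit 9] Ch.nil)))) (by decide +kernel)

theorem yt_c45_eq : (grp 324 y_E0) ⊓ Subgroup.centralizer {Net.toPerm 324 z_g713} = grp 324 yt_c45_K :=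
  cent_eq yt_c45_sym yt_c45_cnt yt_c45_ge

theorem yt_c45_card : Nat.card ↥((grp 324 y_E0) ⊓ Subgroup.centralizer {Net.toPerm 324 z_g713}) = 3888 :=
  card_cent yt_c45_sym yt_c45_cnt yt_c45_ge

theorem yt_c45_ord : orderOf (Net.toPerm 324 z_g713) = 6 :=
  orderOf_net z_hn z_hk z_g713_ok (by decide) (ps := [2, 3]) (by set_option linter.unusedSimpArgs false in simp [Nat.primeFactorsList_ofNat]) (by decide +kernel)

theorem z_le736 : grp 324 yt_c46_K ≤ grp 324 y_E0 :=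
  grp_le_of_memB z_hn z_hk y_E0_ok yt_c46_K_ok (ws := [nat_lit 0x352f281d11010d0d, nat_lit 0x3925191c0311, nat_lit 0x34392b1f191b1b012602, nat_lit 0x33353c2f271f191b1b013b02, nat_lit 0x3435191c013b02, nat_lit 0x33392f2719221a013b02, nat_lit 0x3926281d1f12021202, nat_lit 0x3b27191c012602]) (by decide +kernel)

theorem yt_c46_le : grp 324 yt_c46_K ≤ (grp 324 y_E0) :=
  (z_le736.trans z_T111_s0.le)

theorem yt_c46_mem : Net.toPerm 324 z_g728 ∈ (grp 324 y_E0) :=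
  yt_c46_le (mem_grp_of_memB z_hn z_hk yt_c46_K_ok z_g728_ok (w := (nat_lit 0x10090c060701)) (by decide +kernel))

theorem yt_c46_sym : Sym 324 (grp 324 y_E0) [z_g728] yt_c46_K 0 :=
  Sym.of_lab z_hn z_hk (okE_cons.2 ⟨z_g728_ok, okE_nil _⟩) yt_c46_K_ok yt_c46_le (kT := 0) (by decide +kernel)

noncomputable def yt_c46_cnt_L : List ℕ := [1, 4, z_T111_s1_O, 0, 0, 2, 6, z_T111_s20_O, 0, 0, 4, 19, z_T111_s22_O, 0, 0, 6, 11, z_T111_s24_O, 0, 0, 7, 13, z_T111_s25_O, 0, 0, 8, 17, z_T111_s26_O, 1, 0]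

theorem yt_c46_cnt_P : Prob 324 9 (grp 324 y_E0) yt_c46_cnt_EG [z_g728] [z_g728] yt_c46_K yt_c46_cnt_L 0 0 :=
  Sym.prob z_hn z_hk yt_c46_sym yt_c46_cnt_EG_ok (grp_cons_le z_g39_z_T111 (grp_cons_le zg1_z_T111 (grp_cons_le zg3_z_T111 (grp_cons_le z_g43_z_T111 (grp_cons_le z_g42_z_T111 (grp_cons_le zg2_z_T111 (grp_cons_le z_g44_z_T111 (grp_cons_le z_g54_z_T111 (grp_cons_le z_g55_z_T111 (grp_cons_le z_g49_z_T111 (grp_cons_le z_g50_z_T111 (grp_cons_le z_g51_z_T111 (grp_cons_le z_g62_z_T111 (grp_cons_le z_g58_z_T111 (grp_cons_le z_g59_z_T111 (grp_cons_le z_g65_z_T111 (grp_cons_le z_g66_z_T111 (grp_cons_le z_g67_z_T111 (grp_cons_le z_g77_z_T111 (grp_cons_le z_g78_z_T111 (grp_cons_le z_g72_z_T111 (grp_cons_le z_g73_z_T111 (grp_cons_le z_g74_z_T111 (grp_cons_le z_g81_z_T111 (grp_cons_le z_g82_z_T111 (grp_cons_le z_g87_z_T111 (grp_cons_le zg0_z_T111 (grp_cons_le z_g91_z_T111 (grp_cons_le z_g28_z_T111 (grp_cons_le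 z_g88_z_T111 (grp_nil_le _))))))))))))))))))))))))))))))) (Frames.cons z_T111_s1_F (Frames.cons z_T111_s20_F (Frames.cons z_T111_s22_F (Frames.cons z_T111_s24_F (Frames.cons z_T111_s25_F (Frames.cons z_T111_s26_F Frames.nil)))))) (okE_cons.2 ⟨z_g728_ok, okE_nil _⟩) _

noncomputable def yt_c46_cnt_t : BT := (BT.fix (nat_lit 1) (BT.frm (nat_lit 0) (nat_lit 295) (nat_lit 295) [nat_lit 0] (BT.pln (nat_lit 0) (nat_lit 3) (BT.br (nat_lit 0) (nat_lit 290) [nat_lit 1, nat_lit 3] (BT.dead (nat_lit 304) (BT.frm (nat_lit 1) (nat_lit 590119) (nat_lit 295) [nat_lit 0, nat_lit 3] (BT.pln (nat_lit 0) (nat_lit 4) (BT.and (nat_lit 3) (nat_lit 0) (BT.br (nat_lit 0) (nat_lit 304) [] (BT.dead (nat_lit 133) (BT.pln (nat_lit 6) (nat_lit 2) (BT.br (nat_lit 0) (nat_lit 48) [nat_lit 0xe0f0b0607, nat_lit 0xd0b0507] (BT.dead (nat_lit 86) (BT.frm (nat_lit 2) (nat_lit 0x1a1f0f090127) (nat_lit 0x191e150127) [nat_lit 0, nat_lit 2, nat_lit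 6, nat_lit 9] (BT.pln (nat_lit 0) (nat_lit 4) (BT.fix (nat_lit 257) (BT.and (nat_lit 1) (nat_lit 0) (BT.cnt (nat_lit 0)))))) (BT.dead (nat_lit 57) (BT.frm (nat_lit 2) (nat_lit 0x1a1f0f090127) (nat_lit 0x1a25150127) [nat_lit 0, nat_lit 2, nat_lit 6, nat_lit 9] (BT.pln (nat_lit 0) (nat_lit 5) (BT.fix (nat_lit 257) (BT.and (nat_lit 1) (nat_lit 0) (BT.cnt (nat_lit 0)))))) (BT.dead (nat_lit 48) (BT.frm (nat_lit 2) (nat_lit 0x1a1f0f090127) (nat_lit 0x19201c150127) [nat_lit 0, nat_lit 2, nat_lit 6, nat_lit 9] (BT.pln (nat_lit 0) (nat_lit 9) (BT.img (nat_lit 1) (nat_lit 2) (BT.and (nat_lit 1) (nat_lit 0) (BT.cnt (nat_lit 0)))))) BT.nil))))) (BT.dead (nat_lit 204) (BT.pln (nat_lit 6) (nat_lit 2) (BT.br (nat_lit 0) (nat_lit 48) [nat_lit 4104, nat_lit 0x10090c0608] (BT.dead (nat_lit 86) (BT.frm (nat_lit 2) (nat_lit 0x1a1f0f090127) (nat_lit 0x191c120127) [nat_lit 0, nat_lit 2, nat_lit 6, nat_lit 9] (BT.pln (nat_lit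 0) (nat_lit 5) (BT.fix (nat_lit 257) (BT.and (nat_lit 1) (nat_lit 0) (BT.cnt (nat_lit 0)))))) (BT.dead (nat_lit 57) (BT.frm (nat_lit 2) (nat_lit 0x1a1f0f090127) (nat_lit 0x1919120127) [nat_lit 0, nat_lit 2, nat_lit 6, nat_lit 9] (BT.pln (nat_lit 0) (nat_lit 4) (BT.fix (nat_lit 257) (BT.and (nat_lit 1) (nat_lit 0) (BT.cnt (nat_lit 0)))))) (BT.dead (nat_lit 48) (BT.frm (nat_lit 2) (nat_lit 0x1a1f0f090127) (nat_lit 0x191f120127) [nat_lit 0, nat_lit 2, nat_lit 6, nat_lit 9] (BT.pln (nat_lit 0) (nat_lit 9) (BT.img (nat_lit 1) (nat_lit 2) (BT.and (nat_lit 1) (nat_lit 0) (BT.cnt (nat_lit 0)))))) BT.nil))))) (BT.dead (nat_lit 305) (BT.pln (nat_lit 6) (nat_lit 2) (BT.br (nat_lit 0) (nat_lit 48) [nat_lit 0xe0b0608, nat_lit 854280] (BT.dead (nat_lit 86) (BT.frm (nat_lit 2) (nat_lit 0x1a1f0f090127) (nat_lit 0x1d1f110127) [nat_lit 0, nat_lit 2, nat_lit 6, nat_lit 9] (BT.pln (nat_lit 0) (nat_lit 4) (BT.fix (nat_lit 257)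 (BT.and (nat_lit 1) (nat_lit 0) (BT.cnt (nat_lit 0)))))) (BT.dead (nat_lit 48) (BT.frm (nat_lit 2) (nat_lit 0x1a1f0f090127) (nat_lit 0x191f110127) [nat_lit 0, nat_lit 2, nat_lit 6, nat_lit 9] (BT.pln (nat_lit 0) (nat_lit 5) (BT.fix (nat_lit 257) (BT.and (nat_lit 1) (nat_lit 0) (BT.cnt (nat_lit 0)))))) (BT.dead (nat_lit 57) (BT.frm (nat_lit 2) (nat_lit 0x1a1f0f090127) (nat_lit 0x1a110127) [nat_lit 0, nat_lit 2, nat_lit 6, nat_lit 9] (BT.pln (nat_lit 0) (nat_lit 9) (BT.img (nat_lit 1) (nat_lit 2) (BT.and (nat_lit 1) (nat_lit 0) (BT.cnt (nat_lit 0)))))) BT.nil))))) (BT.dead (nat_lit 269) (BT.pln (nat_lit 6) (nat_lit 2) (BT.br (nat_lit 0) (nat_lit 48) [nat_lit 787719, nat_lit 0xd100508] (BT.dead (nat_lit 57) (BT.frm (nat_lit 2) (nat_lit 0x1a1f0f090127) (nat_lit 0x191b0127) [nat_lit 0, nat_lit 2, nat_lit 6, nat_lit 9] (BT.pln (nat_lit 0) (nat_lit 5) (BT.fix (nat_lit 257) (BT.and (nat_lit 1) (nat_lit 0) (BT.cnt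 (nat_lit 0)))))) (BT.dead (nat_lit 48) (BT.frm (nat_lit 2) (nat_lit 0x1a1f0f090127) (nat_lit 0x191f0127) [nat_lit 0, nat_lit 2, nat_lit 6, nat_lit 9] (BT.pln (nat_lit 0) (nat_lit 4) (BT.fix (nat_lit 257) (BT.and (nat_lit 1) (nat_lit 0) (BT.cnt (nat_lit 0)))))) (BT.dead (nat_lit 86) (BT.frm (nat_lit 2) (nat_lit 0x1a1f0f090127) (nat_lit 0x1b1a0127) [nat_lit 0, nat_lit 2, nat_lit 6, nat_lit 9] (BT.pln (nat_lit 0) (nat_lit 9) (BT.img (nat_lit 1) (nat_lit 2) (BT.and (nat_lit 1) (nat_lit 0) (BT.cnt (nat_lit 0)))))) BT.nil))))) (BT.dead (nat_lit 290) (BT.pln (nat_lit 6) (nat_lit 2) (BT.br (nat_lit 0) (nat_lit 48) [nat_lit 855813, nat_lit 920072] (BT.dead (nat_lit 57) (BT.frm (nat_lit 2) (nat_lit 0x1a1f0f090127) (nat_lit 0x19190f120127) [nat_lit 0, nat_lit 2, nat_lit 6, nat_lit 9] (BT.pln (nat_lit 0) (nat_lit 4) (BT.fix (nat_lit 257) (BT.and (nat_lit 1) (nat_lit 0) (BT.cnt (nat_lit 0)))))) (BT.dead (nat_lit 48)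 (BT.frm (nat_lit 2) (nat_lit 0x1a1f0f090127) (nat_lit 0x1d0f120127) [nat_lit 0, nat_lit 2, nat_lit 6, nat_lit 9] (BT.pln (nat_lit 0) (nat_lit 5) (BT.fix (nat_lit 257) (BT.and (nat_lit 1) (nat_lit 0) (BT.cnt (nat_lit 0)))))) (BT.dead (nat_lit 86) (BT.frm (nat_lit 2) (nat_lit 0x1a1f0f090127) (nat_lit 0x19260f120127) [nat_lit 0, nat_lit 2, nat_lit 6, nat_lit 9] (BT.pln (nat_lit 0) (nat_lit 9) (BT.img (nat_lit 1) (nat_lit 2) (BT.and (nat_lit 1) (nat_lit 0) (BT.cnt (nat_lit 0)))))) BT.nil))))) (BT.dead (nat_lit 270) (BT.pln (nat_lit 6) (nat_lit 2) (BT.br (nat_lit 0) (nat_lit 48) [nat_lit 920583, nat_lit 3333] (BT.dead (nat_lit 86) (BT.frm (nat_lit 2) (nat_lit 0x1a1f0f090127) (nat_lit 0x19220f0127) [nat_lit 0, nat_lit 2, nat_lit 6, nat_lit 9] (BT.pln (nat_lit 0) (nat_lit 5) (BT.fix (nat_lit 257) (BT.and (nat_lit 1) (nat_lit 0) (BT.cnt (nat_lit 0)))))) (BT.dead (nat_lit 48) (BT.frm (nat_lit 2) (nat_lit 0x1a1f0f090127)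 (nat_lit 0x1d0f0127) [nat_lit 0, nat_lit 2, nat_lit 6, nat_lit 9] (BT.pln (nat_lit 0) (nat_lit 4) (BT.fix (nat_lit 257) (BT.and (nat_lit 1) (nat_lit 0) (BT.cnt (nat_lit 0)))))) (BT.dead (nat_lit 57) (BT.frm (nat_lit 2) (nat_lit 0x1a1f0f090127) (nat_lit 0x1a200f0127) [nat_lit 0, nat_lit 2, nat_lit 6, nat_lit 9] (BT.pln (nat_lit 0) (nat_lit 9) (BT.img (nat_lit 1) (nat_lit 2) (BT.and (nat_lit 1) (nat_lit 0) (BT.cnt (nat_lit 0)))))) BT.nil))))) BT.nil)))))))))) (BT.dead (nat_lit 269) (BT.frm (nat_lit 1) (nat_lit 590119) (nat_lit 459047) [nat_lit 0, nat_lit 3] (BT.pln (nat_lit 0) (nat_lit 4) (BT.and (nat_lit 3) (nat_lit 0) (BT.br (nat_lit 0) (nat_lit 304) [nat_lit 0xd100c070301] (BT.dead (nat_lit 310) (BT.pln (nat_lit 6) (nat_lit 2) (BT.br (nat_lit 0) (nat_lit 48) [nat_lit 856071, nat_lit 854278] (BT.dead (nat_lit 86) (BT.frm (nat_lit 2) (nat_lit 0x1a1f0f090127) (nat_lit 0x1919070127) [nat_lit 0, nat_lit 2, nat_lit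 6, nat_lit 9] (BT.pln (nat_lit 0) (nat_lit 7) (BT.and (nat_lit 3) (nat_lit 0) (BT.br (nat_lit 0) (nat_lit 90) [nat_lit 1544, nat_lit 0xe090b08] (BT.dead (nat_lit 55) (BT.img (nat_lit 1) (nat_lit 4) (BT.frm (nat_lit 3) (nat_lit 0x271f1a1f0f090127) (nat_lit 0x271f1919070127) [nat_lit 1, nat_lit 0, nat_lit 5, nat_lit 7, nat_lit 11, nat_lit 14] (BT.pln (nat_lit 0) (nat_lit 7) (BT.img (nat_lit 1) (nat_lit 3) (BT.and (nat_lit 1) (nat_lit 0) (BT.cnt (nat_lit 0))))))) BT.nil))))) (BT.dead (nat_lit 48) (BT.frm (nat_lit 2) (nat_lit 0x1a1f0f090127) (nat_lit 0x191b1b070127) [nat_lit 0, nat_lit 2, nat_lit 6, nat_lit 9] (BT.pln (nat_lit 0) (nat_lit 4) (BT.fix (nat_lit 257) (BT.and (nat_lit 1) (nat_lit 0) (BT.cnt (nat_lit 0)))))) (BT.dead (nat_lit 57) (BT.frm (nat_lit 2) (nat_lit 0x1a1f0f090127) (nat_lit 0x1923070127) [nat_lit 0, nat_lit 2, nat_lit 6, nat_lit 9] (BT.pln (nat_lit 0) (nat_lit 5) (BT.fix (nat_lit 257) (BT.and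 (nat_lit 1) (nat_lit 0) (BT.cnt (nat_lit 0)))))) BT.nil))))) (BT.dead (nat_lit 304) (BT.pln (nat_lit 6) (nat_lit 2) (BT.br (nat_lit 0) (nat_lit 48) [nat_lit 0xe100a08, nat_lit 0xe10090608] (BT.dead (nat_lit 86) (BT.frm (nat_lit 2) (nat_lit 0x1a1f0f090127) (nat_lit 0x19190f070127) [nat_lit 0, nat_lit 2, nat_lit 6, nat_lit 9] (BT.pln (nat_lit 0) (nat_lit 5) (BT.fix (nat_lit 257) (BT.and (nat_lit 1) (nat_lit 0) (BT.cnt (nat_lit 0)))))) (BT.dead (nat_lit 48) (BT.frm (nat_lit 2) (nat_lit 0x1a1f0f090127) (nat_lit 0x191e0f070127) [nat_lit 0, nat_lit 2, nat_lit 6, nat_lit 9] (BT.pln (nat_lit 0) (nat_lit 4) (BT.fix (nat_lit 257) (BT.and (nat_lit 1) (nat_lit 0) (BT.cnt (nat_lit 0)))))) (BT.dead (nat_lit 57) (BT.frm (nat_lit 2) (nat_lit 0x1a1f0f090127) (nat_lit 0x191c0f070127) [nat_lit 0, nat_lit 2, nat_lit 6, nat_lit 9] (BT.pln (nat_lit 0) (nat_lit 9) (BT.img (nat_lit 1) (nat_lit 2) (BT.and (nat_lit 1) (nat_lit 0)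 (BT.cnt (nat_lit 0)))))) BT.nil))))) (BT.dead (nat_lit 290) (BT.pln (nat_lit 6) (nat_lit 2) (BT.br (nat_lit 0) (nat_lit 48) [nat_lit 919047, nat_lit 592904] (BT.dead (nat_lit 86) (BT.frm (nat_lit 2) (nat_lit 0x1a1f0f090127) (nat_lit 0x191b11070127) [nat_lit 0, nat_lit 2, nat_lit 6, nat_lit 9] (BT.pln (nat_lit 0) (nat_lit 4) (BT.fix (nat_lit 257) (BT.and (nat_lit 1) (nat_lit 0) (BT.cnt (nat_lit 0)))))) (BT.dead (nat_lit 48) (BT.frm (nat_lit 2) (nat_lit 0x1a1f0f090127) (nat_lit 0x11070127) [nat_lit 0, nat_lit 2, nat_lit 6, nat_lit 9] (BT.pln (nat_lit 0) (nat_lit 5) (BT.fix (nat_lit 257) (BT.and (nat_lit 1) (nat_lit 0) (BT.cnt (nat_lit 0)))))) (BT.dead (nat_lit 57) (BT.frm (nat_lit 2) (nat_lit 0x1a1f0f090127) (nat_lit 0x1911070127) [nat_lit 0, nat_lit 2, nat_lit 6, nat_lit 9] (BT.pln (nat_lit 0) (nat_lit 9) (BT.img (nat_lit 1) (nat_lit 2) (BT.and (nat_lit 1) (nat_lit 0) (BT.cnt (nat_lit 0)))))) BT.nil)))))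 BT.nil))))))) (BT.kid (nat_lit 290) (nat_lit 1458) (BT.frm (nat_lit 1) (nat_lit 590119) (nat_lit 590119) [nat_lit 0, nat_lit 3] (BT.pln (nat_lit 0) (nat_lit 4) (BT.and (nat_lit 3) (nat_lit 0) (BT.br (nat_lit 0) (nat_lit 304) [nat_lit 3] (BT.dead (nat_lit 269) (BT.pln (nat_lit 6) (nat_lit 2) (BT.br (nat_lit 0) (nat_lit 48) [nat_lit 0xa0b0507, nat_lit 0xd090c05] (BT.dead (nat_lit 48) (BT.frm (nat_lit 2) (nat_lit 0x1a1f0f090127) (nat_lit 0x1a2011090127) [nat_lit 0, nat_lit 2, nat_lit 6, nat_lit 9] (BT.pln (nat_lit 0) (nat_lit 7) (BT.and (nat_lit 3) (nat_lit 0) (BT.br (nat_lit 0) (nat_lit 90) [nat_lit 921610, nat_lit 854540] (BT.dead (nat_lit 108) (BT.img (nat_lit 1) (nat_lit 4) (BT.frm (nat_lit 3) (nat_lit 0x271f1a1f0f090127) (nat_lit 0x1a2011090127) [nat_lit 1, nat_lit 0, nat_lit 5, nat_lit 7, nat_lit 11, nat_lit 14] (BT.pln (nat_lit 0) (nat_lit 6) (BT.img (nat_lit 1) (nat_lit 3) (BT.and (nat_lit 1) (nat_lit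 0) (BT.cnt (nat_lit 0))))))) BT.nil))))) (BT.dead (nat_lit 86) (BT.frm (nat_lit 2) (nat_lit 0x1a1f0f090127) (nat_lit 0x1b1a11090127) [nat_lit 0, nat_lit 2, nat_lit 6, nat_lit 9] (BT.pln (nat_lit 0) (nat_lit 4) (BT.fix (nat_lit 257) (BT.and (nat_lit 1) (nat_lit 0) (BT.cnt (nat_lit 0)))))) (BT.dead (nat_lit 57) (BT.frm (nat_lit 2) (nat_lit 0x1a1f0f090127) (nat_lit 0x191f11090127) [nat_lit 0, nat_lit 2, nat_lit 6, nat_lit 9] (BT.pln (nat_lit 0) (nat_lit 5) (BT.fix (nat_lit 257) (BT.and (nat_lit 1) (nat_lit 0) (BT.cnt (nat_lit 0)))))) BT.nil))))) (BT.dead (nat_lit 310) (BT.pln (nat_lit 6) (nat_lit 2) (BT.br (nat_lit 0) (nat_lit 48) [nat_lit 985863, nat_lit 3589] (BT.dead (nat_lit 57) (BT.frm (nat_lit 2) (nat_lit 0x1a1f0f090127) (nat_lit 0x191f090127) [nat_lit 0, nat_lit 2, nat_lit 6, nat_lit 9] (BT.pln (nat_lit 0) (nat_lit 4) (BT.fix (nat_lit 257) (BT.and (nat_lit 1) (nat_lit 0) (BT.cnt (nat_lit 0)))))) (BT.dead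 (nat_lit 48) (BT.frm (nat_lit 2) (nat_lit 0x1a1f0f090127) (nat_lit 0x1a25090127) [nat_lit 0, nat_lit 2, nat_lit 6, nat_lit 9] (BT.pln (nat_lit 0) (nat_lit 5) (BT.fix (nat_lit 257) (BT.and (nat_lit 1) (nat_lit 0) (BT.cnt (nat_lit 0)))))) (BT.dead (nat_lit 86) (BT.frm (nat_lit 2) (nat_lit 0x1a1f0f090127) (nat_lit 0x191c090127) [nat_lit 0, nat_lit 2, nat_lit 6, nat_lit 9] (BT.pln (nat_lit 0) (nat_lit 9) (BT.img (nat_lit 1) (nat_lit 2) (BT.and (nat_lit 1) (nat_lit 0) (BT.cnt (nat_lit 0)))))) BT.nil))))) (BT.kid (nat_lit 304) (nat_lit 729) (BT.pln (nat_lit 6) (nat_lit 2) (BT.br (nat_lit 0) (nat_lit 48) [nat_lit 5, nat_lit 7, nat_lit 11] (BT.dead (nat_lit 86) (BT.frm (nat_lit 2) (nat_lit 0x1a1f0f090127) (nat_lit 0x19260f090127) [nat_lit 0, nat_lit 2, nat_lit 6, nat_lit 9] (BT.pln (nat_lit 0) (nat_lit 5) (BT.fix (nat_lit 257) (BT.and (nat_lit 1) (nat_lit 0) (BT.cnt (nat_lit 0)))))) (BT.dead (nat_lit 57) (BT.frm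 (nat_lit 2) (nat_lit 0x1a1f0f090127) (nat_lit 0x1d0f090127) [nat_lit 0, nat_lit 2, nat_lit 6, nat_lit 9] (BT.pln (nat_lit 0) (nat_lit 4) (BT.fix (nat_lit 257) (BT.and (nat_lit 1) (nat_lit 0) (BT.cnt (nat_lit 0)))))) (BT.kid (nat_lit 48) (nat_lit 81) (BT.frm (nat_lit 2) (nat_lit 0x1a1f0f090127) (nat_lit 0x1a1f0f090127) [nat_lit 0, nat_lit 2, nat_lit 6, nat_lit 9] (BT.pln (nat_lit 0) (nat_lit 7) (BT.and (nat_lit 3) (nat_lit 0) (BT.br (nat_lit 0) (nat_lit 90) [nat_lit 9, nat_lit 11] (BT.kid (nat_lit 90) (nat_lit 9) (BT.pln (nat_lit 3) (nat_lit 6) (BT.img (nat_lit 1) (nat_lit 1) (BT.img (nat_lit 1) (nat_lit 6) (BT.frm (nat_lit 4) (nat_lit 0x271f1a1f0f090127) (nat_lit 0x271f1a1f0f090127) [nat_lit 1, nat_lit 3, nat_lit 0, nat_lit 7, nat_lit 9, nat_lit 13, nat_lit 16] (BT.pln (nat_lit 0) (nat_lit 7) (BT.dif (nat_lit 4) (nat_lit 0) (BT.br (nat_lit 0) (nat_lit 1) [nat_lit 13, nat_lit 15] (BT.dead (nat_lit 58) (BT.frm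 (nat_lit 5) (nat_lit 0x3335271f1a1f0f090127) (nat_lit 0x38271f1a1f0f090127) [nat_lit 0, nat_lit 5, nat_lit 7, nat_lit 4, nat_lit 11, nat_lit 13, nat_lit 17, nat_lit 20] (BT.pln (nat_lit 0) (nat_lit 8) (BT.img (nat_lit 1) (nat_lit 2) (BT.and (nat_lit 1) (nat_lit 0) (BT.cnt (nat_lit 0)))))) (BT.kid (nat_lit 1) (nat_lit 1) (BT.one (nat_lit 5) (nat_lit 0x3335271f1a1f0f090127) (nat_lit 0x3335271f1a1f0f090127) [nat_lit 0, nat_lit 5, nat_lit 7, nat_lit 4, nat_lit 11, nat_lit 13, nat_lit 17, nat_lit 20]) BT.nil))))))))) BT.nil))))) BT.nil))))) BT.nil))))))) BT.nil)))))))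

theorem yt_c46_cnt : Cnt 324 (grp 324 y_E0) [z_g728] [z_g728] 0 0 0 0 2916 :=
  BT.sound yt_c46_cnt_P Known.nil (t := yt_c46_cnt_t) (d := 0) (by decide +kernel)

theorem yt_c46_ge : 2916 ≤ Nat.card (grp 324 yt_c46_K) :=
  Ch.le_card_grp (k := 9) (L := (lab 324 9)) z_hn yt_c46_K_ok (c := (Ch.cons (nat_lit 290) [nat_lit 1] (Ch.cons (nat_lit 304) [nat_lit 3] (Ch.cons (nat_lit 48) [nat_lit 5, nat_lit 7] (Ch.cons (nat_lit 90) [nat_lit 9, nat_lit 11] (Ch.cons (nat_lit 1) [nat_lit 13, nat_lit 15] Ch.nil)))))) (by decide +kernel)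

theorem yt_c46_eq : (grp 324 y_E0) ⊓ Subgroup.centralizer {Net.toPerm 324 z_g728} = grp 324 yt_c46_K :=
  cent_eq yt_c46_sym yt_c46_cnt yt_c46_ge

theorem yt_c46_card : Nat.card ↥((grp 324 y_E0) ⊓ Subgroup.centralizer {Net.toPerm 324 z_g728}) = 2916 :=
  card_cent yt_c46_sym yt_c46_cnt yt_c46_ge

theorem yt_c46_ord : orderOf (Net.toPerm 324 z_g728) = 6 :=
  orderOf_net z_hn z_hk z_g728_ok (by decide) (ps := [2, 3]) (by set_option linter.unusedSimpArgs false in simp [Nat.primeFactorsList_ofNat]) (by decide +kernel)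

theorem z_le742 : grp 324 yt_c47_K ≤ grp 324 y_E0 :=
  grp_le_of_memB z_hn z_hk y_E0_ok yt_c47_K_ok (ws := [nat_lit 0x343926281a1e1207050225, nat_lit 0x33391f1d1f0f09050705, nat_lit 0x33353c2f25191b120715021501, nat_lit 0x342f26281f191e12012b05]) (by decide +kernel)

theorem yt_c47_le : grp 324 yt_c47_K ≤ (grp 324 y_E0) :=
  (z_le742.trans z_T111_s0.le)

theorem yt_c47_mem : Net.toPerm 324 z_g737 ∈ (grp 324 y_E0) :=
  yt_c47_le (mem_grp_of_memB z_hn z_hk yt_c47_K_ok z_g737_ok (w := (nat_lit 0x60703010401)) (by decide +kernel))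

theorem yt_c47_sym : Sym 324 (grp 324 y_E0) [z_g737] yt_c47_K 0 :=
  Sym.of_lab z_hn z_hk (okE_cons.2 ⟨z_g737_ok, okE_nil _⟩) yt_c47_K_ok yt_c47_le (kT := 0) (by decide +kernel)

noncomputable def yt_c47_cnt_L : List ℕ := [1, 4, z_T111_s1_O, 0, 0, 2, 9, z_T111_s41_O, 0, 0, 3, 15, z_T111_s42_O, 0, 0, 5, 12, z_T111_s44_O, 0, 0, 6, 15, z_T111_s45_O, 1, 0]

theorem yt_c47_cnt_P : Prob 324 9 (grp 324 y_E0) yt_c47_cnt_EG [z_g737] [z_g737] yt_c47_K yt_c47_cnt_L 0 0 :=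
  Sym.prob z_hn z_hk yt_c47_sym yt_c47_cnt_EG_ok (grp_cons_le z_g39_z_T111 (grp_cons_le zg1_z_T111 (grp_cons_le zg3_z_T111 (grp_cons_le z_g43_z_T111 (grp_cons_le z_g42_z_T111 (grp_cons_le zg2_z_T111 (grp_cons_le z_g44_z_T111 (grp_cons_le z_g54_z_T111 (grp_cons_le z_g55_z_T111 (grp_cons_le z_g49_z_T111 (grp_cons_le z_g50_z_T111 (grp_cons_le z_g51_z_T111 (grp_cons_le z_g62_z_T111 (grp_cons_le z_g58_z_T111 (grp_cons_le z_g59_z_T111 (grp_cons_le z_g65_z_T111 (grp_cons_le z_g66_z_T111 (grp_cons_le z_g67_z_T111 (grp_cons_le z_g77_z_T111 (grp_cons_le z_g78_z_T111 (grp_cons_le z_g72_z_T111 (grp_cons_le z_g73_z_T111 (grp_cons_le z_g74_z_T111 (grp_cons_le z_g81_z_T111 (grp_cons_le z_g82_z_T111 (grp_cons_le z_g87_z_T111 (grp_cons_le zg0_z_T111 (grp_cons_le z_g91_z_T111 (grp_cons_le z_g28_z_T111 (grp_cons_le z_g88_z_T111 (grp_cons_le z_g344_z_T111 (grp_cons_le z_g345_z_T111 (grp_cons_le z_g346_z_T111 (grp_cons_le z_g347_z_T111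 (grp_nil_le _))))))))))))))))))))))))))))))))))) (Frames.cons z_T111_s1_F (Frames.cons z_T111_s41_F (Frames.cons z_T111_s42_F (Frames.cons z_T111_s44_F (Frames.cons z_T111_s45_F Frames.nil))))) (okE_cons.2 ⟨z_g737_ok, okE_nil _⟩) _

noncomputable def yt_c47_cnt_t : BT := (BT.fix (nat_lit 65793) (BT.fix (nat_lit 1) (BT.dif (nat_lit 1) (nat_lit 0) (BT.br (nat_lit 0) (nat_lit 57) [nat_lit 1, nat_lit 3] (BT.kid (nat_lit 57) (nat_lit 72) (BT.img (nat_lit 1) (nat_lit 0) (BT.frm (nat_lit 1) (nat_lit 0x80a01070f) (nat_lit 0x80a01070f) [nat_lit 0, nat_lit 1] (BT.pln (nat_lit 0) (nat_lit 3) (BT.and (nat_lit 6) (nat_lit 0) (BT.br (nat_lit 0) (nat_lit 169) [nat_lit 3] (BT.kid (nat_lit 169) (nat_lit 24) (BT.frm (nat_lit 0) (nat_lit 67343) (nat_lit 67343) [nat_lit 5] (BT.pln (nat_lit 0) (nat_lit 3) (BT.img (nat_lit 1) (nat_lit 0) (BT.img (nat_lit 1) (nat_lit 0) (BT.br (nat_lit 0) (nat_lit 257) [nat_lit 5, nat_lit 7] (BT.kid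 (nat_lit 257) (nat_lit 3) (BT.pln (nat_lit 4) (nat_lit 2) (BT.frm (nat_lit 2) (nat_lit 0x3e3e3f080a01070f) (nat_lit 0x3e3e3f080a01070f) [nat_lit 6, nat_lit 10, nat_lit 11] (BT.pln (nat_lit 0) (nat_lit 7) (BT.and (nat_lit 2) (nat_lit 0) (BT.img (nat_lit 1) (nat_lit 9) (BT.frm (nat_lit 3) (nat_lit 0x42444040443e3e3f080a01070f) (nat_lit 0x42444040443e3e3f080a01070f) [nat_lit 5, nat_lit 0, nat_lit 10, nat_lit 14, nat_lit 15] (BT.pln (nat_lit 0) (nat_lit 5) (BT.and (nat_lit 3) (nat_lit 0) (BT.pln (nat_lit 2) (nat_lit 6) (BT.dif (nat_lit 1) (nat_lit 0) (BT.br (nat_lit 0) (nat_lit 48) [nat_lit 7] (BT.kid (nat_lit 48) (nat_lit 1) (BT.one (nat_lit 4) (nat_lit 0x4342444040443e3e3f080a01070f) (nat_lit 0x4342444040443e3e3f080a01070f) [nat_lit 0, nat_lit 11, nat_lit 6, nat_lit 16, nat_lit 20, nat_lit 21]) BT.nil)))))))))))) BT.nil)))))) BT.nil)))))) BT.nil)))))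

theorem yt_c47_cnt : Cnt 324 (grp 324 y_E0) [z_g737] [z_g737] 0 0 0 0 1728 :=
  BT.sound yt_c47_cnt_P Known.nil (t := yt_c47_cnt_t) (d := 0) (by decide +kernel)

theorem yt_c47_ge : 1728 ≤ Nat.card (grp 324 yt_c47_K) :=
  Ch.le_card_grp (k := 9) (L := (lab 324 9)) z_hn yt_c47_K_ok (c := (Ch.cons (nat_lit 57) [nat_lit 1] (Ch.cons (nat_lit 169) [nat_lit 3] (Ch.cons (nat_lit 257) [nat_lit 5] (Ch.cons (nat_lit 48) [nat_lit 7] Ch.nil))))) (by decide +kernel)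

theorem yt_c47_eq : (grp 324 y_E0) ⊓ Subgroup.centralizer {Net.toPerm 324 z_g737} = grp 324 yt_c47_K :=
  cent_eq yt_c47_sym yt_c47_cnt yt_c47_ge

theorem yt_c47_card : Nat.card ↥((grp 324 y_E0) ⊓ Subgroup.centralizer {Net.toPerm 324 z_g737}) = 1728 :=
  card_cent yt_c47_sym yt_c47_cnt yt_c47_ge

theorem yt_c47_ord : orderOf (Net.toPerm 324 z_g737) = 6 :=
  orderOf_net z_hn z_hk z_g737_ok (by decide) (ps := [2, 3]) (by set_option linter.unusedSimpArgs false in simp [Nat.primeFactorsList_ofNat]) (by decide +kernel)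

theorem z_le752 : grp 324 yt_c48_K ≤ grp 324 y_E0 :=
  grp_le_of_memB z_hn z_hk y_E0_ok yt_c48_K_ok (ws := [nat_lit 0x34392f25281f1a1e110903070c, nat_lit 0x33352719221a0f070c010517, nat_lit 0x33392511071501051b, nat_lit 0x333b2f1f1d052f, nat_lit 0x352919221a012602, nat_lit 0x353826191c013c02, nat_lit 0x352f291f1d022501, nat_lit 0x3c1d1f013802]) (by decide +kernel)

theorem yt_c48_le : grp 324 yt_c48_K ≤ (grp 324 y_E0) :=
  (z_le752.trans z_T111_s0.le)

theorem yt_c48_mem : Net.toPerm 324 z_g743 ∈ (grp 324 y_E0) :=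
  yt_c48_le (mem_grp_of_memB z_hn z_hk yt_c48_K_ok z_g743_ok (w := (nat_lit 0xe100a0503)) (by decide +kernel))

theorem yt_c48_sym : Sym 324 (grp 324 y_E0) [z_g743] yt_c48_K 0 :=
  Sym.of_lab z_hn z_hk (okE_cons.2 ⟨z_g743_ok, okE_nil _⟩) yt_c48_K_ok yt_c48_le (kT := 0) (by decide +kernel)

noncomputable def yt_c48_cnt_L : List ℕ := [1, 4, z_T111_s1_O, 0, 0, 3, 9, z_T111_s3_O, 0, 0, 4, 19, z_T111_s4_O, 0, 0, 6, 11, z_T111_s6_O, 0, 0, 7, 13, z_T111_s7_O, 0, 0, 8, 17, z_T111_s8_O, 1, 0]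

theorem yt_c48_cnt_P : Prob 324 9 (grp 324 y_E0) yt_c48_cnt_EG [z_g743] [z_g743] yt_c48_K yt_c48_cnt_L 0 0 :=
  Sym.prob z_hn z_hk yt_c48_sym yt_c48_cnt_EG_ok (grp_cons_le z_g39_z_T111 (grp_cons_le zg1_z_T111 (grp_cons_le zg3_z_T111 (grp_cons_le z_g43_z_T111 (grp_cons_le z_g42_z_T111 (grp_cons_le zg2_z_T111 (grp_cons_le z_g44_z_T111 (grp_cons_le z_g54_z_T111 (grp_cons_le z_g55_z_T111 (grp_cons_le z_g49_z_T111 (grp_cons_le z_g50_z_T111 (grp_cons_le z_g51_z_T111 (grp_cons_le z_g62_z_T111 (grp_cons_le z_g58_z_T111 (grp_cons_le z_g59_z_T111 (grp_cons_le z_g65_z_T111 (grp_cons_le z_g66_z_T111 (grp_cons_le z_g67_z_T111 (grp_cons_le z_g77_z_T111 (grp_cons_le z_g78_z_T111 (grp_cons_le z_g72_z_T111 (grp_cons_le z_g73_z_T111 (grp_cons_le z_g74_z_T111 (grp_cons_le z_g81_z_T111 (grp_cons_le z_g82_z_T111 (grp_cons_le z_g87_z_T111 (grp_cons_le zg0_z_T111 (grp_cons_le z_g91_z_T111 (grp_cons_le z_g28_z_T111 (grp_cons_le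 z_g88_z_T111 (grp_cons_le z_g126_z_T111 (grp_cons_le z_g127_z_T111 (grp_cons_le z_g128_z_T111 (grp_cons_le z_g129_z_T111 (grp_cons_le z_g130_z_T111 (grp_cons_le z_g131_z_T111 (grp_cons_le z_g132_z_T111 (grp_cons_le z_g133_z_T111 (grp_cons_le z_g134_z_T111 (grp_cons_le z_g135_z_T111 (grp_nil_le _))))))))))))))))))))))))))))))))))))))))) (Frames.cons z_T111_s1_F (Frames.cons z_T111_s3_F (Frames.cons z_T111_s4_F (Frames.cons z_T111_s6_F (Frames.cons z_T111_s7_F (Frames.cons z_T111_s8_F Frames.nil)))))) (okE_cons.2 ⟨z_g743_ok, okE_nil _⟩) _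

noncomputable def yt_c48_cnt_t : BT := (BT.fix (nat_lit 1) (BT.br (nat_lit 0) (nat_lit 125) [nat_lit 1] (BT.kid (nat_lit 125) (nat_lit 648) (BT.frm (nat_lit 0) (nat_lit 67353) (nat_lit 67353) [nat_lit 0] (BT.pln (nat_lit 0) (nat_lit 2) (BT.fix (nat_lit 65793) (BT.dif (nat_lit 1) (nat_lit 0) (BT.br (nat_lit 0) (nat_lit 210) [nat_lit 3, nat_lit 5] (BT.dead (nat_lit 60) (BT.dif (nat_lit 1) (nat_lit 0) (BT.img (nat_lit 1) (nat_lit 1) (BT.dif (nat_lit 1) (nat_lit 0) (BT.br (nat_lit 0) (nat_lit 60) [] (BT.dead (nat_lit 113) (BT.pln (nat_lit 8) (nat_lit 3) (BT.dif (nat_lit 11) (nat_lit 10) (BT.frm (nat_lit 1) (nat_lit 0x3d081f010719) (nat_lit 0x3d42081f010719) [nat_lit 6, nat_lit 0, nat_lit 11] (BT.pln (nat_lit 0) (nat_lit 5) (BT.dif (nat_lit 3) (nat_lit 0) (BT.br (nat_lit 0) (nat_lit 94) [nat_lit 920583] (BT.dead (nat_lit 163) (BT.frm (nat_lit 2) (nat_lit 0x3f3d081f010719) (nat_lit 0x3f413d42081f010719) [nat_lit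 6, nat_lit 10, nat_lit 4, nat_lit 15] (BT.pln (nat_lit 0) (nat_lit 8) (BT.and (nat_lit 14) (nat_lit 0) (BT.br (nat_lit 0) (nat_lit 126) [nat_lit 3340, nat_lit 0xe10090c] (BT.dead (nat_lit 126) (BT.frm (nat_lit 3) (nat_lit 0x463f3d081f010719) (nat_lit 0x4547433f413d42081f010719) [nat_lit 0, nat_lit 4, nat_lit 10, nat_lit 14, nat_lit 8, nat_lit 19] (BT.pln (nat_lit 0) (nat_lit 6) (BT.img (nat_lit 1) (nat_lit 2) (BT.and (nat_lit 1) (nat_lit 0) (BT.cnt (nat_lit 0)))))) BT.nil))))) BT.nil))))))) (BT.dead (nat_lit 201) (BT.pln (nat_lit 8) (nat_lit 3) (BT.dif (nat_lit 11) (nat_lit 10) (BT.frm (nat_lit 1) (nat_lit 0x3d081f010719) (nat_lit 0x3d42081f010719) [nat_lit 6, nat_lit 0, nat_lit 11] (BT.pln (nat_lit 0) (nat_lit 5) (BT.dif (nat_lit 3) (nat_lit 0) (BT.br (nat_lit 0) (nat_lit 94) [nat_lit 7] (BT.dead (nat_lit 163) (BT.frm (nat_lit 2) (nat_lit 0x3f3d081f010719) (nat_lit 0x423d42081f010719) [nat_lit 6, nat_lit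 10, nat_lit 4, nat_lit 15] (BT.pln (nat_lit 0) (nat_lit 8) (BT.and (nat_lit 14) (nat_lit 0) (BT.br (nat_lit 0) (nat_lit 126) [nat_lit 14, nat_lit 921610] (BT.dead (nat_lit 80) (BT.frm (nat_lit 3) (nat_lit 0x463f3d081f010719) (nat_lit 0x45423d42081f010719) [nat_lit 0, nat_lit 4, nat_lit 10, nat_lit 14, nat_lit 8, nat_lit 19] (BT.pln (nat_lit 0) (nat_lit 6) (BT.img (nat_lit 1) (nat_lit 2) (BT.and (nat_lit 1) (nat_lit 0) (BT.cnt (nat_lit 0)))))) BT.nil))))) BT.nil))))))) (BT.dead (nat_lit 321) (BT.dif (nat_lit 10) (nat_lit 9) (BT.frm (nat_lit 2) (nat_lit 0x3f3d081f010719) (nat_lit 0x3f423d42081f010719) [nat_lit 1, nat_lit 5, nat_lit 0, nat_lit 10] (BT.pln (nat_lit 0) (nat_lit 4) (BT.fix (nat_lit 257) (BT.and (nat_lit 1) (nat_lit 0) (BT.cnt (nat_lit 0))))))) (BT.dead (nat_lit 79) (BT.dif (nat_lit 10) (nat_lit 9) (BT.frm (nat_lit 2) (nat_lit 0x3f3d081f010719) (nat_lit 0x3f3d42081f010719) [nat_lit 1, nat_lit 5,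 nat_lit 0, nat_lit 10] (BT.pln (nat_lit 0) (nat_lit 4) (BT.fix (nat_lit 257) (BT.and (nat_lit 1) (nat_lit 0) (BT.cnt (nat_lit 0))))))) (BT.dead (nat_lit 210) (BT.dif (nat_lit 10) (nat_lit 9) (BT.frm (nat_lit 2) (nat_lit 0x3f3d081f010719) (nat_lit 0x413d42081f010719) [nat_lit 1, nat_lit 5, nat_lit 0, nat_lit 10] (BT.pln (nat_lit 0) (nat_lit 4) (BT.fix (nat_lit 257) (BT.and (nat_lit 1) (nat_lit 0) (BT.cnt (nat_lit 0))))))) (BT.dead (nat_lit 277) (BT.dif (nat_lit 10) (nat_lit 9) (BT.frm (nat_lit 2) (nat_lit 0x3f3d081f010719) (nat_lit 0x3d42081f010719) [nat_lit 1, nat_lit 5, nat_lit 0, nat_lit 10] (BT.pln (nat_lit 0) (nat_lit 4) (BT.fix (nat_lit 257) (BT.and (nat_lit 1) (nat_lit 0) (BT.cnt (nat_lit 0))))))) BT.nil)))))))))) (BT.dead (nat_lit 321) (BT.dif (nat_lit 1) (nat_lit 0) (BT.img (nat_lit 1) (nat_lit 1) (BT.dif (nat_lit 1) (nat_lit 0) (BT.br (nat_lit 0) (nat_lit 60) [nat_lit 3] (BT.dead (nat_lit 60) (BT.pln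 (nat_lit 8) (nat_lit 3) (BT.dif (nat_lit 11) (nat_lit 10) (BT.frm (nat_lit 1) (nat_lit 0x3d081f010719) (nat_lit 0x3d413d081f010719) [nat_lit 6, nat_lit 0, nat_lit 11] (BT.pln (nat_lit 0) (nat_lit 5) (BT.dif (nat_lit 3) (nat_lit 0) (BT.br (nat_lit 0) (nat_lit 94) [nat_lit 985863] (BT.dead (nat_lit 54) (BT.frm (nat_lit 2) (nat_lit 0x3f3d081f010719) (nat_lit 0x413d413d081f010719) [nat_lit 6, nat_lit 10, nat_lit 4, nat_lit 15] (BT.pln (nat_lit 0) (nat_lit 8) (BT.and (nat_lit 14) (nat_lit 0) (BT.br (nat_lit 0) (nat_lit 126) [nat_lit 921353, nat_lit 14] (BT.dead (nat_lit 80) (BT.frm (nat_lit 3) (nat_lit 0x463f3d081f010719) (nat_lit 0x47413d413d081f010719) [nat_lit 0, nat_lit 4, nat_lit 10, nat_lit 14, nat_lit 8, nat_lit 19] (BT.pln (nat_lit 0) (nat_lit 7) (BT.img (nat_lit 1) (nat_lit 2) (BT.and (nat_lit 1) (nat_lit 0) (BT.cnt (nat_lit 0)))))) BT.nil))))) BT.nil))))))) (BT.dead (nat_lit 210) (BT.dif (nat_lit 10)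 (nat_lit 9) (BT.frm (nat_lit 2) (nat_lit 0x3f3d081f010719) (nat_lit 0x423d413d081f010719) [nat_lit 1, nat_lit 5, nat_lit 0, nat_lit 10] (BT.pln (nat_lit 0) (nat_lit 4) (BT.fix (nat_lit 257) (BT.and (nat_lit 1) (nat_lit 0) (BT.cnt (nat_lit 0))))))) (BT.dead (nat_lit 79) (BT.dif (nat_lit 10) (nat_lit 9) (BT.frm (nat_lit 2) (nat_lit 0x3f3d081f010719) (nat_lit 0x3d413d081f010719) [nat_lit 1, nat_lit 5, nat_lit 0, nat_lit 10] (BT.pln (nat_lit 0) (nat_lit 4) (BT.fix (nat_lit 257) (BT.and (nat_lit 1) (nat_lit 0) (BT.cnt (nat_lit 0))))))) BT.nil))))))) (BT.kid (nat_lit 210) (nat_lit 324) (BT.dif (nat_lit 1) (nat_lit 0) (BT.img (nat_lit 1) (nat_lit 1) (BT.dif (nat_lit 1) (nat_lit 0) (BT.br (nat_lit 0) (nat_lit 60) [nat_lit 5] (BT.dead (nat_lit 321) (BT.dif (nat_lit 10) (nat_lit 9) (BT.frm (nat_lit 2) (nat_lit 0x3f3d081f010719) (nat_lit 0x3f423d081f010719) [nat_lit 1, nat_lit 5, nat_lit 0, nat_lit 10] (BT.pln (nat_lit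 0) (nat_lit 4) (BT.fix (nat_lit 257) (BT.and (nat_lit 1) (nat_lit 0) (BT.cnt (nat_lit 0))))))) (BT.dead (nat_lit 322) (BT.dif (nat_lit 10) (nat_lit 9) (BT.frm (nat_lit 2) (nat_lit 0x3f3d081f010719) (nat_lit 0x3d081f010719) [nat_lit 1, nat_lit 5, nat_lit 0, nat_lit 10] (BT.pln (nat_lit 0) (nat_lit 4) (BT.fix (nat_lit 257) (BT.and (nat_lit 1) (nat_lit 0) (BT.cnt (nat_lit 0))))))) (BT.kid (nat_lit 60) (nat_lit 162) (BT.pln (nat_lit 8) (nat_lit 3) (BT.dif (nat_lit 11) (nat_lit 10) (BT.frm (nat_lit 1) (nat_lit 0x3d081f010719) (nat_lit 0x3d081f010719) [nat_lit 6, nat_lit 0, nat_lit 11] (BT.pln (nat_lit 0) (nat_lit 5) (BT.dif (nat_lit 3) (nat_lit 0) (BT.br (nat_lit 0) (nat_lit 94) [nat_lit 7] (BT.kid (nat_lit 94) (nat_lit 81) (BT.frm (nat_lit 2) (nat_lit 0x3f3d081f010719) (nat_lit 0x3f3d081f010719) [nat_lit 6, nat_lit 10, nat_lit 4, nat_lit 15] (BT.pln (nat_lit 0) (nat_lit 8) (BT.and (nat_lit 14) (nat_lit 0) (BT.br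 (nat_lit 0) (nat_lit 126) [nat_lit 9, nat_lit 11] (BT.kid (nat_lit 126) (nat_lit 9) (BT.pln (nat_lit 3) (nat_lit 6) (BT.img (nat_lit 1) (nat_lit 1) (BT.frm (nat_lit 4) (nat_lit 0x49463f3d081f010719) (nat_lit 0x49463f3d081f010719) [nat_lit 0, nat_lit 2, nat_lit 6, nat_lit 12, nat_lit 16, nat_lit 10, nat_lit 21] (BT.pln (nat_lit 0) (nat_lit 8) (BT.dif (nat_lit 3) (nat_lit 0) (BT.br (nat_lit 0) (nat_lit 18) [nat_lit 13, nat_lit 15] (BT.dead (nat_lit 72) (BT.frm (nat_lit 5) (nat_lit 0x4e49463f3d081f010719) (nat_lit 0x4b4d4f49463f3d081f010719) [nat_lit 0, nat_lit 4, nat_lit 6, nat_lit 10, nat_lit 16, nat_lit 20, nat_lit 14, nat_lit 25] (BT.pln (nat_lit 0) (nat_lit 8) (BT.img (nat_lit 1) (nat_lit 2) (BT.img (nat_lit 1) (nat_lit 0) (BT.and (nat_lit 2) (nat_lit 0) (BT.cnt (nat_lit 0))))))) (BT.kid (nat_lit 18) (nat_lit 1) (BT.one (nat_lit 5) (nat_lit 0x4e49463f3d081f010719) (nat_lit 0x4e49463f3d081f010719) [nat_lit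 0, nat_lit 4, nat_lit 6, nat_lit 10, nat_lit 16, nat_lit 20, nat_lit 14, nat_lit 25]) BT.nil)))))))) BT.nil))))) BT.nil))))))) BT.nil))))))) BT.nil)))))))) BT.nil)))

theorem yt_c48_cnt : Cnt 324 (grp 324 y_E0) [z_g743] [z_g743] 0 0 0 0 1296 :=
  BT.sound yt_c48_cnt_P Known.nil (t := yt_c48_cnt_t) (d := 0) (by decide +kernel)

theorem yt_c48_ge : 1296 ≤ Nat.card (grp 324 yt_c48_K) :=
  Ch.le_card_grp (k := 9) (L := (lab 324 9)) z_hn yt_c48_K_ok (c := (Ch.cons (nat_lit 125) [nat_lit 1] (Ch.cons (nat_lit 210) [nat_lit 3] (Ch.cons (nat_lit 60) [nat_lit 5] (Ch.cons (nat_lit 94) [nat_lit 7] (Ch.cons (nat_lit 126) [nat_lit 9, nat_lit 11] (Ch.cons (nat_lit 18) [nat_lit 13, nat_lit 15] Ch.nil))))))) (by decide +kernel)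

theorem yt_c48_eq : (grp 324 y_E0) ⊓ Subgroup.centralizer {Net.toPerm 324 z_g743} = grp 324 yt_c48_K :=
  cent_eq yt_c48_sym yt_c48_cnt yt_c48_ge

theorem yt_c48_card : Nat.card ↥((grp 324 y_E0) ⊓ Subgroup.centralizer {Net.toPerm 324 z_g743}) = 1296 :=
  card_cent yt_c48_sym yt_c48_cnt yt_c48_ge

theorem yt_c48_ord : orderOf (Net.toPerm 324 z_g743) = 6 :=
  orderOf_net z_hn z_hk z_g743_ok (by decide) (ps := [2, 3]) (by set_option linter.unusedSimpArgs false in simp [Nat.primeFactorsList_ofNat]) (by decide +kernel)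

theorem z_le757 : grp 324 yt_c49_K ≤ grp 324 y_E0 :=
  grp_le_of_memB z_hn z_hk y_E0_ok yt_c49_K_ok (ws := [nat_lit 0x372b15031f, nat_lit 0x3525281f192108013b02, nat_lit 0x372f271b0f09022501, nat_lit 60, nat_lit 13365, nat_lit 13115]) (by decide +kernel)

theorem yt_c49_le : grp 324 yt_c49_K ≤ (grp 324 y_E0) :=
  (z_le757.trans z_T111_s0.le)

theorem yt_c49_mem : Net.toPerm 324 z_g753 ∈ (grp 324 y_E0) :=
  yt_c49_le (mem_grp_of_memB z_hn z_hk yt_c49_K_ok z_g753_ok (w := (nat_lit 0x70b060302)) (by decide +kernel))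

theorem yt_c49_sym : Sym 324 (grp 324 y_E0) [z_g753] yt_c49_K 0 :=
  Sym.of_lab z_hn z_hk (okE_cons.2 ⟨z_g753_ok, okE_nil _⟩) yt_c49_K_ok yt_c49_le (kT := 0) (by decide +kernel)

noncomputable def yt_c49_cnt_L : List ℕ := [1, 4, z_T111_s1_O, 0, 0, 4, 13, z_T111_s61_O, 0, 0, 6, 23, z_T111_s71_O, 0, 0, 7, 13, z_T111_s72_O, 0, 0, 8, 17, z_T111_s73_O, 1, 0]

theorem yt_c49_cnt_P : Prob 324 9 (grp 324 y_E0) yt_c49_cnt_EG [z_g753] [z_g753] yt_c49_K yt_c49_cnt_L 0 0 :=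
  Sym.prob z_hn z_hk yt_c49_sym yt_c49_cnt_EG_ok (grp_cons_le z_g39_z_T111 (grp_cons_le zg1_z_T111 (grp_cons_le zg3_z_T111 (grp_cons_le z_g43_z_T111 (grp_cons_le z_g42_z_T111 (grp_cons_le zg2_z_T111 (grp_cons_le z_g44_z_T111 (grp_cons_le z_g54_z_T111 (grp_cons_le z_g55_z_T111 (grp_cons_le z_g49_z_T111 (grp_cons_le z_g50_z_T111 (grp_cons_le z_g51_z_T111 (grp_cons_le z_g62_z_T111 (grp_cons_le z_g58_z_T111 (grp_cons_le z_g59_z_T111 (grp_cons_le z_g65_z_T111 (grp_cons_le z_g66_z_T111 (grp_cons_le z_g67_z_T111 (grp_cons_le z_g77_z_T111 (grp_cons_le z_g78_z_T111 (grp_cons_le z_g72_z_T111 (grp_cons_le z_g73_z_T111 (grp_cons_le z_g74_z_T111 (grp_cons_le z_g81_z_T111 (grp_cons_le z_g82_z_T111 (grp_cons_le z_g87_z_T111 (grp_cons_le zg0_z_T111 (grp_cons_le z_g91_z_T111 (grp_cons_le z_g28_z_T111 (grp_cons_le z_g88_z_T111 (grp_cons_le z_g174_z_T111 (grp_cons_le z_g175_z_T111 (grp_cons_le z_g176_z_T111 (grp_cons_le z_g177_z_T111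 (grp_cons_le z_g30_z_T111 (grp_cons_le z_g178_z_T111 (grp_cons_le z_g126_z_T111 (grp_cons_le z_g127_z_T111 (grp_cons_le z_g128_z_T111 (grp_cons_le z_g129_z_T111 (grp_cons_le z_g130_z_T111 (grp_cons_le z_g131_z_T111 (grp_cons_le z_g132_z_T111 (grp_cons_le z_g133_z_T111 (grp_cons_le z_g134_z_T111 (grp_cons_le z_g135_z_T111 (grp_cons_le z_g467_z_T111 (grp_cons_le z_g468_z_T111 (grp_cons_le z_g297_z_T111 (grp_cons_le z_g469_z_T111 (grp_cons_le z_g470_z_T111 (grp_cons_le z_g436_z_T111 (grp_cons_le z_g437_z_T111 (grp_cons_le z_g438_z_T111 (grp_cons_le z_g248_z_T111 (grp_cons_le z_g247_z_T111 (grp_nil_le _))))))))))))))))))))))))))))))))))))))))))))))))))))))))) (Frames.cons z_T111_s1_F (Frames.cons z_T111_s61_F (Frames.cons z_T111_s71_F (Frames.cons z_T111_s72_F (Frames.cons z_T111_s73_F Frames.nil))))) (okE_cons.2 ⟨z_g753_ok, okE_nil _⟩) _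

noncomputable def yt_c49_cnt_t : BT := (BT.fix (nat_lit 65793) (BT.fix (nat_lit 1) (BT.dif (nat_lit 1) (nat_lit 0) (BT.br (nat_lit 0) (nat_lit 11) [nat_lit 1] (BT.kid (nat_lit 11) (nat_lit 432) (BT.frm (nat_lit 0) (nat_lit 75010) (nat_lit 75010) [nat_lit 0] (BT.pln (nat_lit 0) (nat_lit 2) (BT.dif (nat_lit 0) (nat_lit 5) (BT.pln (nat_lit 2) (nat_lit 3) (BT.img (nat_lit 1) (nat_lit 0) (BT.dif (nat_lit 2) (nat_lit 0) (BT.br (nat_lit 0) (nat_lit 16) [nat_lit 3, nat_lit 5] (BT.kid (nat_lit 16) (nat_lit 54) (BT.dif (nat_lit 1) (nat_lit 0) (BT.and (nat_lit 6) (nat_lit 11) (BT.dif (nat_lit 0) (nat_lit 11) (BT.img (nat_lit 1) (nat_lit 10) (BT.dif (nat_lit 1) (nat_lit 0) (BT.frm (nat_lit 1) (nat_lit 0x3d494f1a012502) (nat_lit 0x3d494f1a012502) [nat_lit 5, nat_lit 0, nat_lit 1, nat_lit 12] (BT.pln (nat_lit 0) (nat_lit 9) (BT.and (nat_lit 6) (nat_lit 0) (BT.br (nat_lit 0) (nat_lit 14) [nat_lit 5] (BT.kid (nat_lit 14)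 (nat_lit 18) (BT.pln (nat_lit 15) (nat_lit 1) (BT.dif (nat_lit 23) (nat_lit 0) (BT.dif (nat_lit 0) (nat_lit 16) (BT.img (nat_lit 1) (nat_lit 12) (BT.img (nat_lit 1) (nat_lit 0) (BT.frm (nat_lit 2) (nat_lit 0x3d494f1a012502) (nat_lit 0x3d494f1a012502) [nat_lit 0, nat_lit 1, nat_lit 14, nat_lit 9, nat_lit 10, nat_lit 21] (BT.pln (nat_lit 0) (nat_lit 8) (BT.and (nat_lit 4) (nat_lit 0) (BT.frm (nat_lit 3) (nat_lit 0x5f3d494f1a012502) (nat_lit 0x5f3d494f1a012502) [nat_lit 8, nat_lit 3, nat_lit 4, nat_lit 17, nat_lit 12, nat_lit 13, nat_lit 24] (BT.pln (nat_lit 0) (nat_lit 9) (BT.dif (nat_lit 2) (nat_lit 0) (BT.br (nat_lit 0) (nat_lit 64) [nat_lit 7, nat_lit 9, nat_lit 11] (BT.kid (nat_lit 64) (nat_lit 1) (BT.one (nat_lit 4) (nat_lit 0x63665f3d494f1a012502) (nat_lit 0x63665f3d494f1a012502) [nat_lit 0, nat_lit 12, nat_lit 7, nat_lit 8, nat_lit 21, nat_lit 16, nat_lit 17, nat_lit 28]) BT.nil))))))))))))) BT.nil))))))))))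 BT.nil)))))))) BT.nil)))))

theorem yt_c49_cnt : Cnt 324 (grp 324 y_E0) [z_g753] [z_g753] 0 0 0 0 1296 :=
  BT.sound yt_c49_cnt_P Known.nil (t := yt_c49_cnt_t) (d := 0) (by decide +kernel)

theorem yt_c49_ge : 1296 ≤ Nat.card (grp 324 yt_c49_K) :=
  Ch.le_card_grp (k := 9) (L := (lab 324 9)) z_hn yt_c49_K_ok (c := (Ch.cons (nat_lit 11) [nat_lit 1] (Ch.cons (nat_lit 16) [nat_lit 3] (Ch.cons (nat_lit 14) [nat_lit 5] (Ch.cons (nat_lit 64) [nat_lit 7, nat_lit 9, nat_lit 11] Ch.nil))))) (by decide +kernel)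

theorem yt_c49_eq : (grp 324 y_E0) ⊓ Subgroup.centralizer {Net.toPerm 324 z_g753} = grp 324 yt_c49_K :=
  cent_eq yt_c49_sym yt_c49_cnt yt_c49_ge

theorem yt_c49_card : Nat.card ↥((grp 324 y_E0) ⊓ Subgroup.centralizer {Net.toPerm 324 z_g753}) = 1296 :=
  card_cent yt_c49_sym yt_c49_cnt yt_c49_ge

theorem yt_c49_ord : orderOf (Net.toPerm 324 z_g753) = 6 :=
  orderOf_net z_hn z_hk z_g753_ok (by decide) (ps := [2, 3]) (by set_option linter.unusedSimpArgs false in simp [Nat.primeFactorsList_ofNat]) (by decide +kernel)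

theorem z_le764 : grp 324 yt_c50_K ≤ grp 324 y_E0 :=
  grp_le_of_memB z_hn z_hk y_E0_ok yt_c50_K_ok (ws := [nat_lit 0x33392f271a1d120715021501, nat_lit 0x39291f1d1f0f12011101, nat_lit 0x3538281d1f, nat_lit 0x3c2f251a1f1108021c02, nat_lit 0x33392f2819221a013c02]) (by decide +kernel)

theorem yt_c50_le : grp 324 yt_c50_K ≤ (grp 324 y_E0) :=
  (z_le764.trans z_T111_s0.le)

theorem yt_c50_mem : Net.toPerm 324 z_g758 ∈ (grp 324 y_E0) :=
  yt_c50_le (mem_grp_of_memB z_hn z_hk yt_c50_K_ok z_g758_ok (w := (nat_lit 0xa05070303010301)) (by decide +kernel))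

theorem yt_c50_sym : Sym 324 (grp 324 y_E0) [z_g758] yt_c50_K 0 :=
  Sym.of_lab z_hn z_hk (okE_cons.2 ⟨z_g758_ok, okE_nil _⟩) yt_c50_K_ok yt_c50_le (kT := 0) (by decide +kernel)

theorem z_le767 : grp 324 z_V766 ≤ grp 324 z_V659 :=
  grp_le_of_memB z_hn z_hk z_V659_ok z_V766_ok (ws := [nat_lit 0x7090c0104, nat_lit 0x7090c02]) (by decide +kernel)

theorem z_T111_s115 : Stab 324 (grp 324 y_E0) [nat_lit 193, nat_lit 12, nat_lit 6, nat_lit 14, nat_lit 2, nat_lit 0] z_V766 9 :=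
  Stab.step (k := 9) (L := (lab 324 9)) z_hn z_T111_s99 z_V766_ok z_le767 (c := (Ch.cons (nat_lit 157) [nat_lit 1, nat_lit 3] Ch.nil)) (by decide +kernel)

theorem z_T111_s116 : Stab 324 (grp 324 y_E0) [nat_lit 157, nat_lit 193, nat_lit 12, nat_lit 6, nat_lit 14, nat_lit 2, nat_lit 0] z_V768 1 :=
  Stab.step (k := 9) (L := (lab 324 9)) z_hn z_T111_s115 z_V768_ok (grp_mono (List.subset_append_right [z_g765, z_g233] _)) (c := Ch.nil) (by decide +kernel)

theorem z_g765_z_T111 : Net.toPerm 324 z_g765 ∈ (grp 324 y_E0) :=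
  z_T111_s115.le (toPerm_mem_grp (E := z_V766) (List.Mem.head _))

noncomputable def z_T111_s116_O : ℕ := (nat_lit 0xfffffffffffffffff000000000000000000000000000000000000000000000000000000000000000000000000000000000ffffffffffffffffffffffffffffffff00000000000000000000000000000000f0000000000000000ffffffffffffffff0000000000000000ffffffffffffffff00000000000000000ffffffff00000000ffffffff00000000ffffffff00000000ffffffff00000000ffffffff000000000ffff0000ffff0000ffff0000ffff0000ffff0000ffff0000ffff0000ffff0000ffff0000ffff00000ff00ff00ff00ff00ff00ff00ff00ff00ff00ff00ff00ff00ff00ff00ff00ff00ff00ff00ff00ff000f0f0f0f0f0f0f0f0f0f0f0f0f0f0f0f0f0f0f0f0f0f0f0f0f0f0f0f0f0f0f0f0f0f0f0f0f0f0f0f0cccccccccccccccccccccccccccccccccccccccccccccccccccccccccccccccccccccccccccccccccaaaaaaaaaaaaaaaaaaaaaaaaaaaaaaaaaaaaaaaaaaaaaaaaaaaaaaaaaaaaaaaaaaaaaaaaaaaaaaaaa0000000000000000000000000000000000000000000000000000000000000000000000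00000000001000000000000000000000000000000000000000000000000000000000000000000000000000000004000000000000000000000000000000000000000000000000000000000000000000000000000004000000000000000000000000000000000000000000000000000000000000000000000000000000000040000000000000000000000000000000000000000000000000000000000000000000000000000001000000000000000000000000000000000002000000000000000000000000000000000000000000000000000000000000000000000000000000000000000002000000000000000000000000000000000000000)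

theorem z_T111_s116_F : Frame 324 (grp 324 y_E0) 7 16 z_T111_s116_O 1 1 :=
  IsBase.frame z_T111_s116.isBase (by decide +kernel)

noncomputable def z_T111_s115_O : ℕ := (nat_lit 0x1820430100012861400000000000000000000000000000000000000000000000000000000000000000000000000000000320000000000000000010220000440000c59e8d003afb015f7b69b5f9c4fdd277621210b4b8981000b29fb08e8d9dedd93c7d36b36b3f40000c59c00000000afebff73cf477b730bc81c6ec3b86c760000321317f2346b3c57db2f5a2c8084c7bf000028d003800a6e6c3d8f4642bec3cac9d90b811b79ffc063ae94b091283f3e0a7d3ac584e8019f0edd028c0002e0a8a0382b5a0d198761d6e2fcd84d4ba101f8b5f21b4195829739e5bae7e3413001cc7e2f3f3002298a981cfbc1cacdafbdf63d5b5b643325421d92718d883e332e4a9d5a66e4db94ead2acb48b098012528000000000000000000000000000000000000000000000000000000000000000000000000000000001000000000000000000000000000000000000000000000000000000000000000000000000000000004000000000000000000000000000000000000000000000000000000000000000000000000000004000000000000000000000000000000000000000000000000000000000000000000000000000000000040000000000000000000000000000000000000000000000000000000000000000000000000000001000000000000000000000000000000000002000000000000000000000000000000000000000000000000)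

theorem z_T111_s115_F : Frame 324 (grp 324 y_E0) 6 13 z_T111_s115_O 0 1 :=
  Stab.frame z_hn z_T111_s115 (by decide +kernel)

noncomputable def z_T111_s98_O : ℕ := (nat_lit 0x1000000000000000000000000000000000000000000000000000000000000000000000000000000000080000000000000000000000000000000000000000000000000000000000000000000000000000000900000000000000000000000000000000000000000000000000000000000000000000000000000000220000000000000000000000000000000000000000000000000000000000000000000000000000000050000000000000000000000000000000000000000000000000000000000000000000000000000002002000000000000000000000000000000000000000000000000000000000000000000000000000000009000000000000000000000000000000000000000000000000000000000000000000000000000000000a00000040000000000000001040200000000000000004000000000000000104020000000000ffc000080043000c021066010400040000209000000080043000c02106601040004000020900000000000000004048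222000000040001482008c068100000004048222000000040001482008c068100000000000015b086891d8c491c243401210b0000000000015b086891d8c491c243401210b0000000000000000006a0b01140252b0838a8848088001f060000006a0b01140252b0838a8848088001f060000000000000000000000000000000000000000000000000000000000000000000000000000000000000000000001000000000000000000000000000000000000000000000000000000000000000000000000000000004000000000000000000000000000000000000000000000000000000000000000000000000000004000000000000000000000000000000000000000000000000000000000000000000000000000000000040)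

theorem z_T111_s98_F : Frame 324 (grp 324 y_E0) 4 17 z_T111_s98_O 0 1 :=
  Stab.frame z_hn z_T111_s98 (by decide +kernel)

noncomputable def yt_c50_cnt_L : List ℕ := [1, 4, z_T111_s1_O, 0, 0, 4, 17, z_T111_s98_O, 0, 0, 6, 13, z_T111_s115_O, 0, 0, 7, 16, z_T111_s116_O, 1, 0]

theorem yt_c50_cnt_P : Prob 324 9 (grp 324 y_E0) yt_c50_cnt_EG [z_g758] [z_g758] yt_c50_K yt_c50_cnt_L 0 0 :=
  Sym.prob z_hn z_hk yt_c50_sym yt_c50_cnt_EG_ok (grp_cons_le z_g39_z_T111 (grp_cons_le zg1_z_T111 (grp_cons_le zg3_z_T111 (grp_cons_le z_g43_z_T111 (grp_cons_le z_g42_z_T111 (grp_cons_le zg2_z_T111 (grp_cons_le z_g44_z_T111 (grp_cons_le z_g54_z_T111 (grp_cons_le z_g55_z_T111 (grp_cons_le z_g49_z_T111 (grp_cons_le z_g50_z_T111 (grp_cons_le z_g51_z_T111 (grp_cons_le z_g62_z_T111 (grp_cons_le z_g58_z_T111 (grp_cons_le z_g59_z_T111 (grp_cons_le z_g65_z_T111 (grp_cons_le z_g66_z_T111 (grp_cons_le z_g67_z_T111 (grp_cons_le z_g77_z_T111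 (grp_cons_le z_g78_z_T111 (grp_cons_le z_g72_z_T111 (grp_cons_le z_g73_z_T111 (grp_cons_le z_g74_z_T111 (grp_cons_le z_g81_z_T111 (grp_cons_le z_g82_z_T111 (grp_cons_le z_g87_z_T111 (grp_cons_le zg0_z_T111 (grp_cons_le z_g91_z_T111 (grp_cons_le z_g28_z_T111 (grp_cons_le z_g88_z_T111 (grp_cons_le z_g548_z_T111 (grp_cons_le z_g34_z_T111 (grp_cons_le z_g549_z_T111 (grp_cons_le z_g33_z_T111 (grp_cons_le z_g550_z_T111 (grp_cons_le z_g551_z_T111 (grp_cons_le z_g653_z_T111 (grp_cons_le z_g654_z_T111 (grp_cons_le z_g655_z_T111 (grp_cons_le z_g656_z_T111 (grp_cons_le z_g493_z_T111 (grp_cons_le z_g652_z_T111 (grp_cons_le z_g765_z_T111 (grp_cons_le z_g233_z_T111 (grp_nil_le _))))))))))))))))))))))))))))))))))))))))))))) (Frames.cons z_T111_s1_F (Frames.cons z_T111_s98_F (Frames.cons z_T111_s115_F (Frames.cons z_T111_s116_F Frames.nil)))) (okE_cons.2 ⟨z_g758_ok, okE_nil _⟩) _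

noncomputable def yt_c50_cnt_t : BT := (BT.fix (nat_lit 65793) (BT.fix (nat_lit 1) (BT.dif (nat_lit 1) (nat_lit 0) (BT.br (nat_lit 0) (nat_lit 32) [nat_lit 1] (BT.kid (nat_lit 32) (nat_lit 108) (BT.frm (nat_lit 0) (nat_lit 137473) (nat_lit 137473) [nat_lit 0] (BT.pln (nat_lit 0) (nat_lit 2) (BT.fix (nat_lit 257) (BT.dif (nat_lit 1) (nat_lit 0) (BT.dif (nat_lit 0) (nat_lit 7) (BT.br (nat_lit 0) (nat_lit 74) [nat_lit 3] (BT.kid (nat_lit 74) (nat_lit 18) (BT.pln (nat_lit 5) (nat_lit 1) (BT.and (nat_lit 8) (nat_lit 0) (BT.br (nat_lit 0) (nat_lit 224) [nat_lit 5, nat_lit 7] (BT.kid (nat_lit 224) (nat_lit 3) (BT.dif (nat_lit 15) (nat_lit 2) (BT.img (nat_lit 1) (nat_lit 4) (BT.img (nat_lit 1) (nat_lit 11) (BT.frm (nat_lit 1) (nat_lit 0x48101b070a021901) (nat_lit 0x48101b070a021901) [nat_lit 1, nat_lit 6, nat_lit 0, nat_lit 12] (BT.pln (nat_lit 0) (nat_lit 7) (BT.and (nat_lit 4) (nat_lit 0) (BT.img (nat_lit 1)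 (nat_lit 4) (BT.frm (nat_lit 2) (nat_lit 0x4c4d5348101b070a021901) (nat_lit 0x4c4d5348101b070a021901) [nat_lit 7, nat_lit 0, nat_lit 5, nat_lit 10, nat_lit 4, nat_lit 16] (BT.pln (nat_lit 0) (nat_lit 6) (BT.dif (nat_lit 3) (nat_lit 0) (BT.pln (nat_lit 2) (nat_lit 7) (BT.dif (nat_lit 1) (nat_lit 0) (BT.br (nat_lit 0) (nat_lit 109) [nat_lit 9] (BT.dead (nat_lit 164) (BT.frm (nat_lit 3) (nat_lit 0x554c4d5348101b070a021901) (nat_lit 0x56584c4d5348101b070a021901) [nat_lit 0, nat_lit 13, nat_lit 6, nat_lit 11, nat_lit 16, nat_lit 10, nat_lit 22] (BT.pln (nat_lit 0) (nat_lit 7) (BT.img (nat_lit 1) (nat_lit 2) (BT.img (nat_lit 1) (nat_lit 0) (BT.img (nat_lit 1) (nat_lit 0) (BT.and (nat_lit 3) (nat_lit 0) (BT.cnt (nat_lit 0)))))))) (BT.dead (nat_lit 120) (BT.frm (nat_lit 3) (nat_lit 0x554c4d5348101b070a021901) (nat_lit 0x55574c4d5348101b070a021901) [nat_lit 0, nat_lit 13, nat_lit 6, nat_lit 11, nat_lit 16, nat_lit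 10, nat_lit 22] (BT.pln (nat_lit 0) (nat_lit 7) (BT.img (nat_lit 1) (nat_lit 2) (BT.and (nat_lit 1) (nat_lit 0) (BT.cnt (nat_lit 0)))))) (BT.kid (nat_lit 109) (nat_lit 1) (BT.one (nat_lit 3) (nat_lit 0x554c4d5348101b070a021901) (nat_lit 0x554c4d5348101b070a021901) [nat_lit 0, nat_lit 13, nat_lit 6, nat_lit 11, nat_lit 16, nat_lit 10, nat_lit 22]) BT.nil)))))))))))))))) BT.nil)))) BT.nil))))))) BT.nil)))))

theorem yt_c50_cnt : Cnt 324 (grp 324 y_E0) [z_g758] [z_g758] 0 0 0 0 1296 :=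
  BT.sound yt_c50_cnt_P Known.nil (t := yt_c50_cnt_t) (d := 0) (by decide +kernel)

theorem yt_c50_ge : 1296 ≤ Nat.card (grp 324 yt_c50_K) :=
  Ch.le_card_grp (k := 9) (L := (lab 324 9)) z_hn yt_c50_K_ok (c := (Ch.cons (nat_lit 32) [nat_lit 1] (Ch.cons (nat_lit 74) [nat_lit 3] (Ch.cons (nat_lit 224) [nat_lit 5, nat_lit 7] (Ch.cons (nat_lit 109) [nat_lit 9] Ch.nil))))) (by decide +kernel)

theorem yt_c50_eq : (grp 324 y_E0) ⊓ Subgroup.centralizer {Net.toPerm 324 z_g758} = grp 324 yt_c50_K :=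
  cent_eq yt_c50_sym yt_c50_cnt yt_c50_ge

theorem yt_c50_card : Nat.card ↥((grp 324 y_E0) ⊓ Subgroup.centralizer {Net.toPerm 324 z_g758}) = 1296 :=
  card_cent yt_c50_sym yt_c50_cnt yt_c50_ge

theorem yt_c50_ord : orderOf (Net.toPerm 324 z_g758) = 6 :=
  orderOf_net z_hn z_hk z_g758_ok (by decide) (ps := [2, 3]) (by set_option linter.unusedSimpArgs false in simp [Nat.primeFactorsList_ofNat]) (by decide +kernel)

theorem z_le775 : grp 324 yt_c51_K ≤ grp 324 y_E0 :=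
  grp_le_of_memB z_hn z_hk y_E0_ok yt_c51_K_ok (ws := [nat_lit 0x372f26281923150707010510, nat_lit 0x352f281f191c0f070a010526, nat_lit 0x3335251f191b110715050210, nat_lit 0x3335251f1a20120705, nat_lit 0x35382f291f191b1b1107010522]) (by decide +kernel)

theorem yt_c51_le : grp 324 yt_c51_K ≤ (grp 324 y_E0) :=
  (z_le775.trans z_T111_s0.le)

theorem yt_c51_mem : Net.toPerm 324 z_g769 ∈ (grp 324 y_E0) :=
  yt_c51_le (mem_grp_of_memB z_hn z_hk yt_c51_K_ok z_g769_ok (w := (nat_lit 0x70a0101)) (by decide +kernel))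

theorem yt_c51_sym : Sym 324 (grp 324 y_E0) [z_g769] yt_c51_K 0 :=
  Sym.of_lab z_hn z_hk (okE_cons.2 ⟨z_g769_ok, okE_nil _⟩) yt_c51_K_ok yt_c51_le (kT := 0) (by decide +kernel)

theorem z_le777 : grp 324 z_V776 ≤ grp 324 z_V640 :=
  grp_le_of_memB z_hn z_hk z_V640_ok z_V776_ok (ws := []) (by decide +kernel)

theorem z_T111_s117 : Stab 324 (grp 324 y_E0) [nat_lit 193, nat_lit 252, nat_lit 70, nat_lit 9, nat_lit 2, nat_lit 0] z_V776 1 :=
  Stab.step (k := 9) (L := (lab 324 9)) z_hn z_T111_s96 z_V776_ok z_le777 (c := Ch.nil) (by decide +kernel)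

noncomputable def z_T111_s117_O : ℕ := (nat_lit 0xfffffffffffffffff000000000000000000000000000000000000000000000000000000000000000000000000000000000ffffffffffffffffffffffffffffffff00000000000000000000000000000000f0000000000000000ffffffffffffffff0000000000000000ffffffffffffffff00000000000000000ffffffff00000000ffffffff00000000ffffffff00000000ffffffff00000000ffffffff000000000ffff0000ffff0000ffff0000ffff0000ffff0000ffff0000ffff0000ffff0000ffff0000ffff00000ff00ff00ff00ff00ff00ff00ff00ff00ff00ff00ff00ff00ff00ff00ff00ff00ff00ff00ff00ff000f0f0f0f0f0f0f0f0f0f0f0f0f0f0f0f0f0f0f0f0f0f0f0f0f0f0f0f0f0f0f0f0f0f0f0f0f0f0f0f0cccccccccccccccccccccccccccccccccccccccccccccccccccccccccccccccccccccccccccccccccaaaaaaaaaaaaaaaaaaaaaaaaaaaaaaaaaaaaaaaaaaaaaaaaaaaaaaaaaaaaaaaaaaaaaaaaaaaaaaaaa000000000000000000000000000000000000000000000000000000000000000000000000000000001000000000000000000000000000000000000000000000000000000000000000000000000000000004000000000000000000000000000000000000000000000000000000000000000000000000000000200000000000000000000000000000000000000000000000000000000000000000400000000000000000000000000000000001000000000000000000000000000000000000000000000000000000000000000000000000000000000000000000000002000000000000000000000000000000000000000000000000)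

theorem z_T111_s117_F : Frame 324 (grp 324 y_E0) 6 15 z_T111_s117_O 1 1 :=
  IsBase.frame z_T111_s117.isBase (by decide +kernel)

noncomputable def yt_c51_cnt_L : List ℕ := [1, 4, z_T111_s1_O, 0, 0, 2, 6, z_T111_s20_O, 0, 0, 4, 10, z_T111_s58_O, 0, 0, 6, 15, z_T111_s117_O, 1, 0]

theorem yt_c51_cnt_P : Prob 324 9 (grp 324 y_E0) yt_c51_cnt_EG [z_g769] [z_g769] yt_c51_K yt_c51_cnt_L 0 0 :=
  Sym.prob z_hn z_hk yt_c51_sym yt_c51_cnt_EG_ok (grp_cons_le z_g39_z_T111 (grp_cons_le zg1_z_T111 (grp_cons_le zg3_z_T111 (grp_cons_le z_g43_z_T111 (grp_cons_le z_g42_z_T111 (grp_cons_le zg2_z_T111 (grp_cons_le z_g44_z_T111 (grp_cons_le z_g54_z_T111 (grp_cons_le z_g55_z_T111 (grp_cons_le z_g49_z_T111 (grp_cons_le z_g50_z_T111 (grp_cons_le z_g51_z_T111 (grp_cons_le z_g62_z_T111 (grp_cons_le z_g58_z_T111 (grp_cons_le z_g59_z_T111 (grp_cons_le z_g65_z_T111 (grp_cons_le z_g66_z_T111 (grp_cons_le z_g67_z_T111 (grp_cons_le z_g77_z_T111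 (grp_cons_le z_g78_z_T111 (grp_cons_le z_g72_z_T111 (grp_cons_le z_g73_z_T111 (grp_cons_le z_g74_z_T111 (grp_cons_le z_g81_z_T111 (grp_cons_le z_g82_z_T111 (grp_cons_le z_g87_z_T111 (grp_cons_le zg0_z_T111 (grp_cons_le z_g91_z_T111 (grp_cons_le z_g28_z_T111 (grp_cons_le z_g88_z_T111 (grp_cons_le z_g638_z_T111 (grp_cons_le z_g639_z_T111 (grp_cons_le z_g424_z_T111 (grp_cons_le z_g425_z_T111 (grp_cons_le z_g426_z_T111 (grp_cons_le z_g427_z_T111 (grp_nil_le _))))))))))))))))))))))))))))))))))))) (Frames.cons z_T111_s1_F (Frames.cons z_T111_s20_F (Frames.cons z_T111_s58_F (Frames.cons z_T111_s117_F Frames.nil)))) (okE_cons.2 ⟨z_g769_ok, okE_nil _⟩) _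

noncomputable def yt_c51_cnt_t : BT := (BT.fix (nat_lit 1) (BT.frm (nat_lit 0) (nat_lit 273) (nat_lit 273) [nat_lit 0] (BT.pln (nat_lit 0) (nat_lit 3) (BT.br (nat_lit 0) (nat_lit 73) [nat_lit 1, nat_lit 3] (BT.kid (nat_lit 73) (nat_lit 162) (BT.frm (nat_lit 1) (nat_lit 273) (nat_lit 273) [nat_lit 0, nat_lit 3] (BT.pln (nat_lit 0) (nat_lit 4) (BT.and (nat_lit 3) (nat_lit 0) (BT.br (nat_lit 0) (nat_lit 75) [nat_lit 3] (BT.dead (nat_lit 248) (BT.pln (nat_lit 6) (nat_lit 1) (BT.fix (nat_lit 257) (BT.dif (nat_lit 1) (nat_lit 0) (BT.br (nat_lit 0) (nat_lit 133) [nat_lit 2054, nat_lit 6, nat_lit 1546] (BT.dead (nat_lit 133) (BT.frm (nat_lit 2) (nat_lit 0x280111) (nat_lit 0x25150111) [nat_lit 0, nat_lit 4, nat_lit 8, nat_lit 11] (BT.pln (nat_lit 0) (nat_lit 7) (BT.pln (nat_lit 1) (nat_lit 4) (BT.dif (nat_lit 1) (nat_lit 0) (BT.pln (nat_lit 3) (nat_lit 5) (BT.dif (nat_lit 1) (nat_lit 0) (BT.pln (nat_lit 5) (nat_lit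 6) (BT.dif (nat_lit 1) (nat_lit 0) (BT.and (nat_lit 1) (nat_lit 5) (BT.and (nat_lit 0) (nat_lit 4) (BT.dif (nat_lit 0) (nat_lit 8) (BT.pln (nat_lit 10) (nat_lit 8) (BT.dif (nat_lit 1) (nat_lit 0) (BT.img (nat_lit 1) (nat_lit 0) (BT.and (nat_lit 6) (nat_lit 0) (BT.img (nat_lit 1) (nat_lit 0) (BT.and (nat_lit 0) (nat_lit 13) (BT.cnt (nat_lit 0))))))))))))))))))) BT.nil))))) (BT.kid (nat_lit 75) (nat_lit 54) (BT.pln (nat_lit 6) (nat_lit 1) (BT.fix (nat_lit 257) (BT.dif (nat_lit 1) (nat_lit 0) (BT.br (nat_lit 0) (nat_lit 133) [nat_lit 5, nat_lit 7, nat_lit 9] (BT.kid (nat_lit 133) (nat_lit 1) (BT.img (nat_lit 1) (nat_lit 0) (BT.img (nat_lit 1) (nat_lit 0) (BT.one (nat_lit 3) (nat_lit 0x3e404247280111) (nat_lit 0x3e404247280111) [nat_lit 0, nat_lit 1, nat_lit 2, nat_lit 6, nat_lit 10, nat_lit 13]))) BT.nil))))) BT.nil)))))) BT.nil)))))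

theorem yt_c51_cnt : Cnt 324 (grp 324 y_E0) [z_g769] [z_g769] 0 0 0 0 1296 :=
  BT.sound yt_c51_cnt_P Known.nil (t := yt_c51_cnt_t) (d := 0) (by decide +kernel)

theorem yt_c51_ge : 1296 ≤ Nat.card (grp 324 yt_c51_K) :=
  Ch.le_card_grp (k := 9) (L := (lab 324 9)) z_hn yt_c51_K_ok (c := (Ch.cons (nat_lit 73) [nat_lit 1] (Ch.cons (nat_lit 75) [nat_lit 3] (Ch.cons (nat_lit 133) [nat_lit 5, nat_lit 7, nat_lit 9] Ch.nil)))) (by decide +kernel)

theorem yt_c51_eq : (grp 324 y_E0) ⊓ Subgroup.centralizer {Net.toPerm 324 z_g769} = grp 324 yt_c51_K :=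
  cent_eq yt_c51_sym yt_c51_cnt yt_c51_ge

theorem yt_c51_card : Nat.card ↥((grp 324 y_E0) ⊓ Subgroup.centralizer {Net.toPerm 324 z_g769}) = 1296 :=
  card_cent yt_c51_sym yt_c51_cnt yt_c51_ge

theorem yt_c51_ord : orderOf (Net.toPerm 324 z_g769) = 6 :=
  orderOf_net z_hn z_hk z_g769_ok (by decide) (ps := [2, 3]) (by set_option linter.unusedSimpArgs false in simp [Nat.primeFactorsList_ofNat]) (by decide +kernel)

theorem z_le784 : grp 324 yt_c52_K ≤ grp 324 y_E0 :=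
  grp_le_of_memB z_hn z_hk y_E0_ok yt_c52_K_ok (ws := [nat_lit 0x343526281f1a1f150903082e, nat_lit 0x3b271a20110707030707, nat_lit 0x33353c2f262819221a11011101, nat_lit 0x34281f191c070a03082e, nat_lit 0x34281b1a013802]) (by decide +kernel)

theorem yt_c52_le : grp 324 yt_c52_K ≤ (grp 324 y_E0) :=
  (z_le784.trans z_T111_s0.le)

theorem yt_c52_mem : Net.toPerm 324 z_g778 ∈ (grp 324 y_E0) :=
  yt_c52_le (mem_grp_of_memB z_hn z_hk yt_c52_K_ok z_g778_ok (w := (nat_lit 0xa030202)) (by decide +kernel))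

theorem yt_c52_sym : Sym 324 (grp 324 y_E0) [z_g778] yt_c52_K 0 :=
  Sym.of_lab z_hn z_hk (okE_cons.2 ⟨z_g778_ok, okE_nil _⟩) yt_c52_K_ok yt_c52_le (kT := 0) (by decide +kernel)

theorem z_le788 : grp 324 z_V787 ≤ grp 324 z_V659 :=
  grp_le_of_memB z_hn z_hk z_V659_ok z_V787_ok (ws := [nat_lit 0x7090203, nat_lit 0x8090103]) (by decide +kernel)

theorem z_T111_s118 : Stab 324 (grp 324 y_E0) [nat_lit 201, nat_lit 12, nat_lit 6, nat_lit 14, nat_lit 2, nat_lit 0] z_V787 9 :=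
  Stab.step (k := 9) (L := (lab 324 9)) z_hn z_T111_s99 z_V787_ok z_le788 (c := (Ch.cons (nat_lit 204) [nat_lit 1, nat_lit 3] Ch.nil)) (by decide +kernel)

theorem z_T111_s119 : Stab 324 (grp 324 y_E0) [nat_lit 204, nat_lit 201, nat_lit 12, nat_lit 6, nat_lit 14, nat_lit 2, nat_lit 0] z_V789 1 :=
  Stab.step (k := 9) (L := (lab 324 9)) z_hn z_T111_s118 z_V789_ok (grp_mono (List.subset_append_right [z_g785, z_g786] _)) (c := Ch.nil) (by decide +kernel)

theorem z_g785_z_T111 : Net.toPerm 324 z_g785 ∈ (grp 324 y_E0) :=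
  z_T111_s118.le (toPerm_mem_grp (E := z_V787) (List.Mem.head _))

theorem z_g786_z_T111 : Net.toPerm 324 z_g786 ∈ (grp 324 y_E0) :=
  z_T111_s118.le (toPerm_mem_grp (E := z_V787) (List.Mem.tail _ (List.Mem.head _)))

noncomputable def z_T111_s119_O : ℕ := (nat_lit 0xfffffffffffffffff000000000000000000000000000000000000000000000000000000000000000000000000000000000ffffffffffffffffffffffffffffffff00000000000000000000000000000000f0000000000000000ffffffffffffffff0000000000000000ffffffffffffffff00000000000000000ffffffff00000000ffffffff00000000ffffffff00000000ffffffff00000000ffffffff000000000ffff0000ffff0000ffff0000ffff0000ffff0000ffff0000ffff0000ffff0000ffff0000ffff00000ff00ff00ff00ff00ff00ff00ff00ff00ff00ff00ff00ff00ff00ff00ff00ff00ff00ff00ff00ff000f0f0f0f0f0f0f0f0f0f0f0f0f0f0f0f0f0f0f0f0f0f0f0f0f0f0f0f0f0f0f0f0f0f0f0f0f0f0f0f0ccccccccccccccccccccccccccccccccccccccccccccccccccccccccccccccccccccccccccccccccc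aaaaaaaaaaaaaaaaaaaaaaaaaaaaaaaaaaaaaaaaaaaaaaaaaaaaaaaaaaaaaaaaaaaaaaaaaaaaaaaaa000000000000000000000000000000000000000000000000000000000000000000000000000000001000000000000000000000000000000000000000000000000000000000000000000000000000000004000000000000000000000000000000000000000000000000000000000000000000000000000004000000000000000000000000000000000000000000000000000000000000000000000000000000000040000000000000000000000000000000000000000000000000000000000000000000000000000001000000000000000000000000000000000200000000000000000000000000000000000000000000000000000000000000000000000000000001000000000000000000000000000000000000000000000000000)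

theorem z_T111_s119_F : Frame 324 (grp 324 y_E0) 7 16 z_T111_s119_O 1 1 :=
  IsBase.frame z_T111_s119.isBase (by decide +kernel)

noncomputable def z_T111_s118_O : ℕ := (nat_lit 0x61000081010248000088090100000000000000000000000000000000000000000000000000000000000000000000000000000000000006000000000428050804802006802440008100104000000003afb01cf7b61a5edc87dd277720280b4be991260f29fb88f8d9fedf9bffe34936b3a01000000000000000af73fffbde5353732fc0154c28186f75026072777ff73e613657502cc84c80818effe100000003800ae2cc3126f2037ee19ac1c6e43e9f6bddffe7f8c2348108cf9a06c515a784e8150bc0ec07880002e0a07a8c78c14a270548d6e68200f406c4e59f8d911f34b1ed9d4f2ab019cfc5b496a352bf977002298ac7a3445d9e9b18af1a3d8370fb21d41c6667a6f8b01f53d5af84a09f365bd4bf4ca70a60f28012528000000000000000000000000000000000000000000000000000000000000000000000000000000001000000000000000000000000000000000000000000000000000000000000000000000000000000004000000000000000000000000000000000000000000000000000000000000000000000000000004000000000000000000000000000000000000000000000000000000000000000000000000000000000040000000000000000000000000000000000000000000000000000000000000000000000000000001000000000000000000000000000000000200000000000000000000000000000000000000000000000000)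

theorem z_T111_s118_F : Frame 324 (grp 324 y_E0) 6 13 z_T111_s118_O 0 1 :=
  Stab.frame z_hn z_T111_s118 (by decide +kernel)

noncomputable def yt_c52_cnt_L : List ℕ := [1, 4, z_T111_s1_O, 0, 0, 4, 17, z_T111_s98_O, 0, 0, 6, 13, z_T111_s118_O, 0, 0, 7, 16, z_T111_s119_O, 1, 0]

theorem yt_c52_cnt_P : Prob 324 9 (grp 324 y_E0) yt_c52_cnt_EG [z_g778] [z_g778] yt_c52_K yt_c52_cnt_L 0 0 :=
  Sym.prob z_hn z_hk yt_c52_sym yt_c52_cnt_EG_ok (grp_cons_le z_g39_z_T111 (grp_cons_le zg1_z_T111 (grp_cons_le zg3_z_T111 (grp_cons_le z_g43_z_T111 (grp_cons_le z_g42_z_T111 (grp_cons_le zg2_z_T111 (grp_cons_le z_g44_z_T111 (grp_cons_le z_g54_z_T111 (grp_cons_le z_g55_z_T111 (grp_cons_le z_g49_z_T111 (grp_cons_le z_g50_z_T111 (grp_cons_le z_g51_z_T111 (grp_cons_le z_g62_z_T111 (grp_cons_le z_g58_z_T111 (grp_cons_le z_g59_z_T111 (grp_cons_le z_g65_z_T111 (grp_cons_le z_g66_z_T111 (grp_cons_le z_g67_z_T111 (grp_cons_le z_g77_z_T111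 (grp_cons_le z_g78_z_T111 (grp_cons_le z_g72_z_T111 (grp_cons_le z_g73_z_T111 (grp_cons_le z_g74_z_T111 (grp_cons_le z_g81_z_T111 (grp_cons_le z_g82_z_T111 (grp_cons_le z_g87_z_T111 (grp_cons_le zg0_z_T111 (grp_cons_le z_g91_z_T111 (grp_cons_le z_g28_z_T111 (grp_cons_le z_g88_z_T111 (grp_cons_le z_g548_z_T111 (grp_cons_le z_g34_z_T111 (grp_cons_le z_g549_z_T111 (grp_cons_le z_g33_z_T111 (grp_cons_le z_g550_z_T111 (grp_cons_le z_g551_z_T111 (grp_cons_le z_g653_z_T111 (grp_cons_le z_g654_z_T111 (grp_cons_le z_g655_z_T111 (grp_cons_le z_g656_z_T111 (grp_cons_le z_g493_z_T111 (grp_cons_le z_g652_z_T111 (grp_cons_le z_g785_z_T111 (grp_cons_le z_g786_z_T111 (grp_nil_le _))))))))))))))))))))))))))))))))))))))))))))) (Frames.cons z_T111_s1_F (Frames.cons z_T111_s98_F (Frames.cons z_T111_s118_F (Frames.cons z_T111_s119_F Frames.nil)))) (okE_cons.2 ⟨z_g778_ok, okE_nil _⟩) _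

noncomputable def yt_c52_cnt_t : BT := (BT.fix (nat_lit 65793) (BT.fix (nat_lit 1) (BT.dif (nat_lit 1) (nat_lit 0) (BT.br (nat_lit 0) (nat_lit 83) [nat_lit 1, nat_lit 7] (BT.kid (nat_lit 83) (nat_lit 108) (BT.frm (nat_lit 0) (nat_lit 65840) (nat_lit 65840) [nat_lit 0] (BT.pln (nat_lit 0) (nat_lit 2) (BT.fix (nat_lit 257) (BT.dif (nat_lit 1) (nat_lit 0) (BT.dif (nat_lit 0) (nat_lit 7) (BT.br (nat_lit 0) (nat_lit 315) [nat_lit 3] (BT.kid (nat_lit 315) (nat_lit 18) (BT.dif (nat_lit 7) (nat_lit 4) (BT.pln (nat_lit 6) (nat_lit 3) (BT.dif (nat_lit 1) (nat_lit 0) (BT.dif (nat_lit 0) (nat_lit 9) (BT.br (nat_lit 0) (nat_lit 146) [nat_lit 5, nat_lit 7] (BT.kid (nat_lit 146) (nat_lit 3) (BT.img (nat_lit 1) (nat_lit 5) (BT.img (nat_lit 1) (nat_lit 12) (BT.frm (nat_lit 1) (nat_lit 0x47070c010130) (nat_lit 0x47070c010130) [nat_lit 1, nat_lit 7, nat_lit 0, nat_lit 13] (BT.pln (nat_lit 0) (nat_lit 7) (BT.img (nat_lit 1)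 (nat_lit 3) (BT.img (nat_lit 1) (nat_lit 0) (BT.frm (nat_lit 2) (nat_lit 0x4d4a47070c010130) (nat_lit 0x4d4a47070c010130) [nat_lit 6, nat_lit 0, nat_lit 5, nat_lit 11, nat_lit 4, nat_lit 17] (BT.pln (nat_lit 0) (nat_lit 7) (BT.dif (nat_lit 4) (nat_lit 0) (BT.pln (nat_lit 2) (nat_lit 6) (BT.dif (nat_lit 1) (nat_lit 0) (BT.br (nat_lit 0) (nat_lit 31) [nat_lit 9] (BT.dead (nat_lit 37) (BT.frm (nat_lit 3) (nat_lit 0x584d4a47070c010130) (nat_lit 0x56584d4a47070c010130) [nat_lit 0, nat_lit 12, nat_lit 6, nat_lit 11, nat_lit 17, nat_lit 10, nat_lit 23] (BT.pln (nat_lit 0) (nat_lit 8) (BT.img (nat_lit 1) (nat_lit 2) (BT.img (nat_lit 1) (nat_lit 0) (BT.img (nat_lit 1) (nat_lit 0) (BT.and (nat_lit 3) (nat_lit 0) (BT.cnt (nat_lit 0)))))))) (BT.dead (nat_lit 38) (BT.frm (nat_lit 3) (nat_lit 0x584d4a47070c010130) (nat_lit 0x554d4a47070c010130) [nat_lit 0, nat_lit 12, nat_lit 6, nat_lit 11, nat_lit 17, nat_lit 10, nat_lit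 23] (BT.pln (nat_lit 0) (nat_lit 7) (BT.img (nat_lit 1) (nat_lit 2) (BT.and (nat_lit 1) (nat_lit 0) (BT.cnt (nat_lit 0)))))) (BT.kid (nat_lit 31) (nat_lit 1) (BT.one (nat_lit 3) (nat_lit 0x584d4a47070c010130) (nat_lit 0x584d4a47070c010130) [nat_lit 0, nat_lit 12, nat_lit 6, nat_lit 11, nat_lit 17, nat_lit 10, nat_lit 23]) BT.nil))))))))))))))) BT.nil)))))) BT.nil))))))) BT.nil)))))

theorem yt_c52_cnt : Cnt 324 (grp 324 y_E0) [z_g778] [z_g778] 0 0 0 0 1296 :=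
  BT.sound yt_c52_cnt_P Known.nil (t := yt_c52_cnt_t) (d := 0) (by decide +kernel)

theorem yt_c52_ge : 1296 ≤ Nat.card (grp 324 yt_c52_K) :=
  Ch.le_card_grp (k := 9) (L := (lab 324 9)) z_hn yt_c52_K_ok (c := (Ch.cons (nat_lit 83) [nat_lit 1] (Ch.cons (nat_lit 315) [nat_lit 3] (Ch.cons (nat_lit 146) [nat_lit 5, nat_lit 7] (Ch.cons (nat_lit 31) [nat_lit 9] Ch.nil))))) (by decide +kernel)

theorem yt_c52_eq : (grp 324 y_E0) ⊓ Subgroup.centralizer {Net.toPerm 324 z_g778} = grp 324 yt_c52_K :=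
  cent_eq yt_c52_sym yt_c52_cnt yt_c52_ge

theorem yt_c52_card : Nat.card ↥((grp 324 y_E0) ⊓ Subgroup.centralizer {Net.toPerm 324 z_g778}) = 1296 :=
  card_cent yt_c52_sym yt_c52_cnt yt_c52_ge

theorem yt_c52_ord : orderOf (Net.toPerm 324 z_g778) = 6 :=
  orderOf_net z_hn z_hk z_g778_ok (by decide) (ps := [2, 3]) (by set_option linter.unusedSimpArgs false in simp [Nat.primeFactorsList_ofNat]) (by decide +kernel)

theorem z_le798 : grp 324 yt_c53_K ≤ grp 324 y_E0 :=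
  grp_le_of_memB z_hn z_hk y_E0_ok yt_c53_K_ok (ws := [nat_lit 0x352f2b192115070a013802, nat_lit 0x35382f25281f1907022d, nat_lit 0x333b2b19201c070a01070c, nat_lit 0x3328150715010a03, nat_lit 0x33382f2919221a0f12090123, nat_lit 0x3335271f1922120715010339, nat_lit 0x281f1a0f070a010522]) (by decide +kernel)

theorem yt_c53_le : grp 324 yt_c53_K ≤ (grp 324 y_E0) :=
  (z_le798.trans z_T111_s0.le)

theorem yt_c53_mem : Net.toPerm 324 z_g790 ∈ (grp 324 y_E0) :=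
  yt_c53_le (mem_grp_of_memB z_hn z_hk yt_c53_K_ok z_g790_ok (w := (nat_lit 0xe0703010402)) (by decide +kernel))

theorem yt_c53_sym : Sym 324 (grp 324 y_E0) [z_g790] yt_c53_K 0 :=
  Sym.of_lab z_hn z_hk (okE_cons.2 ⟨z_g790_ok, okE_nil _⟩) yt_c53_K_ok yt_c53_le (kT := 0) (by decide +kernel)

theorem z_le801 : grp 324 z_V800 ≤ grp 324 z_V556 :=
  grp_le_of_memB z_hn z_hk z_V556_ok z_V800_ok (ws := [nat_lit 6]) (by decide +kernel)

theorem z_T111_s120 : Stab 324 (grp 324 y_E0) [nat_lit 30, nat_lit 24, nat_lit 78, nat_lit 18, nat_lit 14, nat_lit 2, nat_lit 0] z_V800 3 :=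
  Stab.step (k := 9) (L := (lab 324 9)) z_hn z_T111_s83 z_V800_ok z_le801 (c := (Ch.cons (nat_lit 308) [nat_lit 1] Ch.nil)) (by decide +kernel)

theorem z_T111_s121 : Stab 324 (grp 324 y_E0) [nat_lit 308, nat_lit 30, nat_lit 24, nat_lit 78, nat_lit 18, nat_lit 14, nat_lit 2, nat_lit 0] z_V802 1 :=
  Stab.step (k := 9) (L := (lab 324 9)) z_hn z_T111_s120 z_V802_ok (grp_mono (List.subset_append_right [z_g799] _)) (c := Ch.nil) (by decide +kernel)

theorem z_g799_z_T111 : Net.toPerm 324 z_g799 ∈ (grp 324 y_E0) :=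
  z_T111_s120.le (toPerm_mem_grp (E := z_V800) (List.Mem.head _))

noncomputable def z_T111_s121_O : ℕ := (nat_lit 0xfffffffffffffffff000000000000000000000000000000000000000000000000000000000000000000000000000000000ffffffffffffffffffffffffffffffff00000000000000000000000000000000f0000000000000000ffffffffffffffff0000000000000000ffffffffffffffff00000000000000000ffffffff00000000ffffffff00000000ffffffff00000000ffffffff00000000ffffffff000000000ffff0000ffff0000ffff0000ffff0000ffff0000ffff0000ffff0000ffff0000ffff0000ffff00000ff00ff00ff00ff00ff00ff00ff00ff00ff00ff00ff00ff00ff00ff00ff00ff00ff00ff00ff00ff000f0f0f0f0f0f0f0f0f0f0f0f0f0f0f0f0f0f0f0f0f0f0f0f0f0f0f0f0f0f0f0f0f0f0f0f0f0f0f0f0cccccccccccccccccccccccccccccccccccccccccccccccccccccccccccccccccccccccccccccccccaaaaaaaaaaaaaaaaaaaaaaaaaaaaaaaaaaaaaaaaaaaaaaaaaaaaaaaaaaaaaaaaaaaaaaaaaaaaaaaaa0000000000000000000000000000000000000000000000000000000000000000000000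00000000001000000000000000000000000000000000000000000000000000000000000000000000000000000004000000000000000000000000000000000000000000000000000000000000000000000000000004000000000000000000000000000000000000000000000000000000000000000000000000000000040000000000000000000000000000000000000000000000000000000000000000040000000000000000000000000000000000000000000000000000000000000000000000000000000000000000000001000000000000000000000000000000000000000000000000000000000000000000000000000000040000000000100000000000000000000000000000000000000000000000000000000000000000000000000000)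

theorem z_T111_s121_F : Frame 324 (grp 324 y_E0) 8 17 z_T111_s121_O 1 1 :=
  IsBase.frame z_T111_s121.isBase (by decide +kernel)

noncomputable def z_T111_s120_O : ℕ := (nat_lit 0xe054d2bfedf0a96d389fd2328f1b76b92eeff27751111d0dd00000000000414600016e081001098001ba02d00020b46900722aed960f40840084e3908ae6a82f20e776dffceeff3c600016e0810010980054ebdcbf124ff359de5bdf5284936f5c6eefffe024e8e2502fdfdfec01104839fffe0000000000000f8f1f7bf111580bede76cffeb9dbf925d110001d534b48602e5f0011fff8097fac01f977ea0000000c5ccf2c86a5efaa79e7b4ded43a49716ee5d001deebe150e0e485f01d407817f53a017fc11ee80000cb60875952fd3a1b1cec8b4bbe8a97ea19e2ec141f86d783adb4f871b2563170e31956e1818138780b704be9e8c4b236293b1ad12e3e8c5ab1f3a98d93a01d4496a9af6d94b252b2ccad5b59b096913530000000000000000000000000000000000000000000000000000000000000000000000000000000001000000000000000000000000000000000000000000000000000000000000000000000000000000004000000000000000000000000000000000000000000000000000000000000000000000000000004000000000000000000000000000000000000000000000000000000000000000000000000000000040000000000000000000000000000000000000000000000000000000000000000040000000000000000000000000000000000000000000000000000000000000000000000000000000000000000000001000000000000000000000000000000000000000000000000000000000000000000000000000000040000000)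

theorem z_T111_s120_F : Frame 324 (grp 324 y_E0) 7 14 z_T111_s120_O 0 1 :=
  Stab.frame z_hn z_T111_s120 (by decide +kernel)

noncomputable def yt_c53_cnt_L : List ℕ := [1, 4, z_T111_s1_O, 0, 0, 4, 13, z_T111_s81_O, 0, 0, 5, 10, z_T111_s82_O, 0, 0, 6, 12, z_T111_s83_O, 0, 0, 7, 14, z_T111_s120_O, 0, 0, 8, 17, z_T111_s121_O, 1, 0]

theorem yt_c53_cnt_P : Prob 324 9 (grp 324 y_E0) yt_c53_cnt_EG [z_g790] [z_g790] yt_c53_K yt_c53_cnt_L 0 0 :=
  Sym.prob z_hn z_hk yt_c53_sym yt_c53_cnt_EG_ok (grp_cons_le z_g39_z_T111 (grp_cons_le zg1_z_T111 (grp_cons_le zg3_z_T111 (grp_cons_le z_g43_z_T111 (grp_cons_le z_g42_z_T111 (grp_cons_le zg2_z_T111 (grp_cons_le z_g44_z_T111 (grp_cons_le z_g54_z_T111 (grp_cons_le z_g55_z_T111 (grp_cons_le z_g49_z_T111 (grp_cons_le z_g50_z_T111 (grp_cons_le z_g51_z_T111 (grp_cons_le z_g62_z_T111 (grp_cons_le z_g58_z_T111 (grp_cons_le z_g59_z_T111 (grp_cons_le z_g65_z_T111 (grp_cons_le z_g66_z_T111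 (grp_cons_le z_g67_z_T111 (grp_cons_le z_g77_z_T111 (grp_cons_le z_g78_z_T111 (grp_cons_le z_g72_z_T111 (grp_cons_le z_g73_z_T111 (grp_cons_le z_g74_z_T111 (grp_cons_le z_g81_z_T111 (grp_cons_le z_g82_z_T111 (grp_cons_le z_g87_z_T111 (grp_cons_le zg0_z_T111 (grp_cons_le z_g91_z_T111 (grp_cons_le z_g28_z_T111 (grp_cons_le z_g88_z_T111 (grp_cons_le z_g548_z_T111 (grp_cons_le z_g34_z_T111 (grp_cons_le z_g549_z_T111 (grp_cons_le z_g33_z_T111 (grp_cons_le z_g550_z_T111 (grp_cons_le z_g551_z_T111 (grp_cons_le z_g799_z_T111 (grp_nil_le _)))))))))))))))))))))))))))))))))))))) (Frames.cons z_T111_s1_F (Frames.cons z_T111_s81_F (Frames.cons z_T111_s82_F (Frames.cons z_T111_s83_F (Frames.cons z_T111_s120_F (Frames.cons z_T111_s121_F Frames.nil)))))) (okE_cons.2 ⟨z_g790_ok, okE_nil _⟩) _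

noncomputable def yt_c53_cnt_t : BT := (BT.fix (nat_lit 65793) (BT.fix (nat_lit 1) (BT.dif (nat_lit 1) (nat_lit 0) (BT.br (nat_lit 0) (nat_lit 73) [nat_lit 1, nat_lit 3] (BT.kid (nat_lit 73) (nat_lit 144) (BT.br (nat_lit 2) (nat_lit 105) [nat_lit 3] (BT.kid (nat_lit 105) (nat_lit 48) (BT.dif (nat_lit 3) (nat_lit 0) (BT.br (nat_lit 0) (nat_lit 107) [nat_lit 5] (BT.kid (nat_lit 107) (nat_lit 24) (BT.frm (nat_lit 0) (nat_lit 549) (nat_lit 549) [nat_lit 3] (BT.pln (nat_lit 0) (nat_lit 2) (BT.img (nat_lit 1) (nat_lit 5) (BT.frm (nat_lit 1) (nat_lit 0x3d480f2207150225) (nat_lit 0x3d480f2207150225) [nat_lit 3, nat_lit 5, nat_lit 0, nat_lit 6] (BT.pln (nat_lit 0) (nat_lit 11) (BT.and (nat_lit 3) (nat_lit 0) (BT.br (nat_lit 0) (nat_lit 211) [nat_lit 7] (BT.kid (nat_lit 211) (nat_lit 12) (BT.pln (nat_lit 6) (nat_lit 1) (BT.dif (nat_lit 9) (nat_lit 8) (BT.frm (nat_lit 2) (nat_lit 0x40473d480f2207150225) (nat_lit 0x40473d480f2207150225)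 [nat_lit 0, nat_lit 9, nat_lit 11, nat_lit 6, nat_lit 12] (BT.pln (nat_lit 0) (nat_lit 6) (BT.and (nat_lit 3) (nat_lit 0) (BT.frm (nat_lit 3) (nat_lit 0x4140473d480f2207150225) (nat_lit 0x4140473d480f2207150225) [nat_lit 5, nat_lit 3, nat_lit 12, nat_lit 14, nat_lit 9, nat_lit 15] (BT.pln (nat_lit 0) (nat_lit 6) (BT.dif (nat_lit 2) (nat_lit 0) (BT.br (nat_lit 0) (nat_lit 202) [nat_lit 9, nat_lit 11] (BT.kid (nat_lit 202) (nat_lit 3) (BT.dif (nat_lit 25) (nat_lit 2) (BT.pln (nat_lit 4) (nat_lit 9) (BT.and (nat_lit 1) (nat_lit 0) (BT.pln (nat_lit 6) (nat_lit 8) (BT.and (nat_lit 1) (nat_lit 0) (BT.pln (nat_lit 8) (nat_lit 7) (BT.dif (nat_lit 1) (nat_lit 0) (BT.dif (nat_lit 0) (nat_lit 15) (BT.frm (nat_lit 4) (nat_lit 0x43454140473d480f2207150225) (nat_lit 0x43454140473d480f2207150225) [nat_lit 8, nat_lit 17, nat_lit 15, nat_lit 24, nat_lit 26, nat_lit 21, nat_lit 27] (BT.pln (nat_lit 0) (nat_lit 8) (BT.dif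 (nat_lit 2) (nat_lit 0) (BT.br (nat_lit 0) (nat_lit 25) [nat_lit 13] (BT.kid (nat_lit 25) (nat_lit 1) (BT.one (nat_lit 5) (nat_lit 0x43454140473d480f2207150225) (nat_lit 0x43454140473d480f2207150225) [nat_lit 0, nat_lit 12, nat_lit 21, nat_lit 19, nat_lit 28, nat_lit 30, nat_lit 25, nat_lit 31]) BT.nil))))))))))))) BT.nil)))))))))) BT.nil)))))))) BT.nil))) BT.nil)) BT.nil)))))

theorem yt_c53_cnt : Cnt 324 (grp 324 y_E0) [z_g790] [z_g790] 0 0 0 0 1296 :=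
  BT.sound yt_c53_cnt_P Known.nil (t := yt_c53_cnt_t) (d := 0) (by decide +kernel)

theorem yt_c53_ge : 1296 ≤ Nat.card (grp 324 yt_c53_K) :=
  Ch.le_card_grp (k := 9) (L := (lab 324 9)) z_hn yt_c53_K_ok (c := (Ch.cons (nat_lit 73) [nat_lit 1] (Ch.cons (nat_lit 105) [nat_lit 3] (Ch.cons (nat_lit 107) [nat_lit 5] (Ch.cons (nat_lit 211) [nat_lit 7] (Ch.cons (nat_lit 202) [nat_lit 9, nat_lit 11] (Ch.cons (nat_lit 25) [nat_lit 13] Ch.nil))))))) (by decide +kernel)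

theorem yt_c53_eq : (grp 324 y_E0) ⊓ Subgroup.centralizer {Net.toPerm 324 z_g790} = grp 324 yt_c53_K :=
  cent_eq yt_c53_sym yt_c53_cnt yt_c53_ge

theorem yt_c53_card : Nat.card ↥((grp 324 y_E0) ⊓ Subgroup.centralizer {Net.toPerm 324 z_g790}) = 1296 :=
  card_cent yt_c53_sym yt_c53_cnt yt_c53_ge

theorem yt_c53_ord : orderOf (Net.toPerm 324 z_g790) = 6 :=
  orderOf_net z_hn z_hk z_g790_ok (by decide) (ps := [2, 3]) (by set_option linter.unusedSimpArgs false in simp [Nat.primeFactorsList_ofNat]) (by decide +kernel)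

theorem z_le808 : grp 324 yt_c54_K ≤ grp 324 y_E0 :=
  grp_le_of_memB z_hn z_hk y_E0_ok yt_c54_K_ok (ws := [nat_lit 0x33352819221a052e, nat_lit 0x3525281f191b1b0f0707020701, nat_lit 0x353c2619201a120511, nat_lit 0x3319201c12021202, nat_lit 0x35382b19221a12021202]) (by decide +kernel)

theorem yt_c54_le : grp 324 yt_c54_K ≤ (grp 324 y_E0) :=
  (z_le808.trans z_T111_s0.le)

theorem yt_c54_mem : Net.toPerm 324 z_g803 ∈ (grp 324 y_E0) :=
  yt_c54_le (mem_grp_of_memB z_hn z_hk yt_c54_K_ok z_g803_ok (w := (nat_lit 0x90805030202)) (by decide +kernel))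

theorem yt_c54_sym : Sym 324 (grp 324 y_E0) [z_g803] yt_c54_K 0 :=
  Sym.of_lab z_hn z_hk (okE_cons.2 ⟨z_g803_ok, okE_nil _⟩) yt_c54_K_ok yt_c54_le (kT := 0) (by decide +kernel)

theorem z_le810 : grp 324 z_V809 ≤ grp 324 z_V640 :=
  grp_le_of_memB z_hn z_hk z_V640_ok z_V809_ok (ws := []) (by decide +kernel)

theorem z_T111_s122 : Stab 324 (grp 324 y_E0) [nat_lit 235, nat_lit 252, nat_lit 70, nat_lit 9, nat_lit 2, nat_lit 0] z_V809 1 :=
  Stab.step (k := 9) (L := (lab 324 9)) z_hn z_T111_s96 z_V809_ok z_le810 (c := Ch.nil) (by decide +kernel)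

noncomputable def z_T111_s122_O : ℕ := (nat_lit 0xfffffffffffffffff000000000000000000000000000000000000000000000000000000000000000000000000000000000ffffffffffffffffffffffffffffffff00000000000000000000000000000000f0000000000000000ffffffffffffffff0000000000000000ffffffffffffffff00000000000000000ffffffff00000000ffffffff00000000ffffffff00000000ffffffff00000000ffffffff000000000ffff0000ffff0000ffff0000ffff0000ffff0000ffff0000ffff0000ffff0000ffff0000ffff00000ff00ff00ff00ff00ff00ff00ff00ff00ff00ff00ff00ff00ff00ff00ff00ff00ff00ff00ff00ff000f0f0f0f0f0f0f0f0f0f0f0f0f0f0f0f0f0f0f0f0f0f0f0f0f0f0f0f0f0f0f0f0f0f0f0f0f0f0f0f0cccccccccccccccccccccccccccccccccccccccccccccccccccccccccccccccccccccccccccccccccaaaaaaaaaaaaaaaaaaaaaaaaaaaaaaaaaaaaaaaaaaaaaaaaaaaaaaaaaaaaaaaaaaaaaaaaaaaaaaaaa000000000000000000000000000000000000000000000000000000000000000000000000000000001000000000000000000000000000000000000000000000000000000000000000000000000000000004000000000000000000000000000000000000000000000000000000000000000000000000000000200000000000000000000000000000000000000000000000000000000000000000400000000000000000000000000000000001000000000000000000000000000000000000000000000000000000000000000000000000000000000000080000000000000000000000000000000000000000000000000000000000)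

theorem z_T111_s122_F : Frame 324 (grp 324 y_E0) 6 15 z_T111_s122_O 1 1 :=
  IsBase.frame z_T111_s122.isBase (by decide +kernel)

noncomputable def yt_c54_cnt_L : List ℕ := [1, 4, z_T111_s1_O, 0, 0, 3, 11, z_T111_s21_O, 0, 0, 4, 10, z_T111_s58_O, 0, 0, 5, 12, z_T111_s96_O, 0, 0, 6, 15, z_T111_s122_O, 1, 0]

theorem yt_c54_cnt_P : Prob 324 9 (grp 324 y_E0) yt_c54_cnt_EG [z_g803] [z_g803] yt_c54_K yt_c54_cnt_L 0 0 :=
  Sym.prob z_hn z_hk yt_c54_sym yt_c54_cnt_EG_ok (grp_cons_le z_g39_z_T111 (grp_cons_le zg1_z_T111 (grp_cons_le zg3_z_T111 (grp_cons_le z_g43_z_T111 (grp_cons_le z_g42_z_T111 (grp_cons_le zg2_z_T111 (grp_cons_le z_g44_z_T111 (grp_cons_le z_g54_z_T111 (grp_cons_le z_g55_z_T111 (grp_cons_le z_g49_z_T111 (grp_cons_le z_g50_z_T111 (grp_cons_le z_g51_z_T111 (grp_cons_le z_g62_z_T111 (grp_cons_le z_g58_z_T111 (grp_cons_le z_g59_z_T111 (grp_cons_le z_g65_z_T111 (grp_cons_le z_g66_z_T111 (grp_cons_le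 z_g67_z_T111 (grp_cons_le z_g77_z_T111 (grp_cons_le z_g78_z_T111 (grp_cons_le z_g72_z_T111 (grp_cons_le z_g73_z_T111 (grp_cons_le z_g74_z_T111 (grp_cons_le z_g81_z_T111 (grp_cons_le z_g82_z_T111 (grp_cons_le z_g87_z_T111 (grp_cons_le zg0_z_T111 (grp_cons_le z_g91_z_T111 (grp_cons_le z_g28_z_T111 (grp_cons_le z_g88_z_T111 (grp_cons_le z_g424_z_T111 (grp_cons_le z_g425_z_T111 (grp_cons_le z_g426_z_T111 (grp_cons_le z_g427_z_T111 (grp_cons_le z_g638_z_T111 (grp_cons_le z_g639_z_T111 (grp_nil_le _))))))))))))))))))))))))))))))))))))) (Frames.cons z_T111_s1_F (Frames.cons z_T111_s21_F (Frames.cons z_T111_s58_F (Frames.cons z_T111_s96_F (Frames.cons z_T111_s122_F Frames.nil))))) (okE_cons.2 ⟨z_g803_ok, okE_nil _⟩) _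

noncomputable def yt_c54_cnt_t : BT := (BT.fix (nat_lit 65793) (BT.fix (nat_lit 1) (BT.dif (nat_lit 1) (nat_lit 0) (BT.br (nat_lit 0) (nat_lit 118) [nat_lit 1, nat_lit 3] (BT.kid (nat_lit 118) (nat_lit 108) (BT.frm (nat_lit 0) (nat_lit 297) (nat_lit 297) [nat_lit 0] (BT.pln (nat_lit 0) (nat_lit 3) (BT.dif (nat_lit 0) (nat_lit 5) (BT.br (nat_lit 0) (nat_lit 276) [nat_lit 3] (BT.dead (nat_lit 59) (BT.img (nat_lit 1) (nat_lit 4) (BT.frm (nat_lit 1) (nat_lit 0x1507150129) (nat_lit 0x1107150129) [nat_lit 1, nat_lit 0, nat_lit 5] (BT.pln (nat_lit 0) (nat_lit 5) (BT.img (nat_lit 1) (nat_lit 3) (BT.img (nat_lit 1) (nat_lit 0) (BT.img (nat_lit 1) (nat_lit 0) (BT.and (nat_lit 3) (nat_lit 0) (BT.cnt (nat_lit 0))))))))) (BT.dead (nat_lit 102) (BT.img (nat_lit 1) (nat_lit 4) (BT.frm (nat_lit 1) (nat_lit 0x1507150129) (nat_lit 0x7150129) [nat_lit 1, nat_lit 0, nat_lit 5] (BT.pln (nat_lit 0) (nat_lit 5) (BT.img (nat_lit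 1) (nat_lit 3) (BT.and (nat_lit 1) (nat_lit 0) (BT.cnt (nat_lit 0))))))) (BT.kid (nat_lit 276) (nat_lit 54) (BT.pln (nat_lit 3) (nat_lit 1) (BT.and (nat_lit 6) (nat_lit 0) (BT.br (nat_lit 0) (nat_lit 161) [nat_lit 5] (BT.kid (nat_lit 161) (nat_lit 9) (BT.dif (nat_lit 1) (nat_lit 0) (BT.img (nat_lit 1) (nat_lit 8) (BT.frm (nat_lit 2) (nat_lit 0x19261507150129) (nat_lit 0x19261507150129) [nat_lit 2, nat_lit 5, nat_lit 0, nat_lit 9] (BT.pln (nat_lit 0) (nat_lit 9) (BT.dif (nat_lit 3) (nat_lit 0) (BT.br (nat_lit 0) (nat_lit 201) [nat_lit 7] (BT.kid (nat_lit 201) (nat_lit 3) (BT.dif (nat_lit 19) (nat_lit 8) (BT.pln (nat_lit 4) (nat_lit 7) (BT.and (nat_lit 1) (nat_lit 0) (BT.pln (nat_lit 6) (nat_lit 4) (BT.dif (nat_lit 1) (nat_lit 0) (BT.pln (nat_lit 8) (nat_lit 5) (BT.dif (nat_lit 1) (nat_lit 0) (BT.fix (nat_lit 257) (BT.dif (nat_lit 1) (nat_lit 0) (BT.frm (nat_lit 3) (nat_lit 0x4319261507150129) (nat_lit 0x4319261507150129)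 [nat_lit 9, nat_lit 15, nat_lit 18, nat_lit 13, nat_lit 22] (BT.pln (nat_lit 0) (nat_lit 9) (BT.dif (nat_lit 2) (nat_lit 0) (BT.br (nat_lit 0) (nat_lit 73) [nat_lit 9] (BT.dead (nat_lit 75) (BT.frm (nat_lit 4) (nat_lit 0x45484319261507150129) (nat_lit 0x46474319261507150129) [nat_lit 0, nat_lit 13, nat_lit 19, nat_lit 22, nat_lit 17, nat_lit 26] (BT.pln (nat_lit 0) (nat_lit 6) (BT.img (nat_lit 1) (nat_lit 2) (BT.img (nat_lit 1) (nat_lit 0) (BT.img (nat_lit 1) (nat_lit 0) (BT.and (nat_lit 3) (nat_lit 0) (BT.cnt (nat_lit 0)))))))) (BT.dead (nat_lit 85) (BT.frm (nat_lit 4) (nat_lit 0x45484319261507150129) (nat_lit 0x474319261507150129) [nat_lit 0, nat_lit 13, nat_lit 19, nat_lit 22, nat_lit 17, nat_lit 26] (BT.pln (nat_lit 0) (nat_lit 6) (BT.img (nat_lit 1) (nat_lit 2) (BT.and (nat_lit 1) (nat_lit 0) (BT.cnt (nat_lit 0)))))) (BT.kid (nat_lit 73) (nat_lit 1) (BT.one (nat_lit 4) (nat_lit 0x45484319261507150129)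 (nat_lit 0x45484319261507150129) [nat_lit 0, nat_lit 13, nat_lit 19, nat_lit 22, nat_lit 17, nat_lit 26]) BT.nil)))))))))))))))) BT.nil))))))) BT.nil)))) BT.nil))))))) BT.nil)))))

theorem yt_c54_cnt : Cnt 324 (grp 324 y_E0) [z_g803] [z_g803] 0 0 0 0 972 :=
  BT.sound yt_c54_cnt_P Known.nil (t := yt_c54_cnt_t) (d := 0) (by decide +kernel)

theorem yt_c54_ge : 972 ≤ Nat.card (grp 324 yt_c54_K) :=
  Ch.le_card_grp (k := 9) (L := (lab 324 9)) z_hn yt_c54_K_ok (c := (Ch.cons (nat_lit 118) [nat_lit 1] (Ch.cons (nat_lit 276) [nat_lit 3] (Ch.cons (nat_lit 161) [nat_lit 5] (Ch.cons (nat_lit 201) [nat_lit 7] (Ch.cons (nat_lit 73) [nat_lit 9] Ch.nil)))))) (by decide +kernel)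

theorem yt_c54_eq : (grp 324 y_E0) ⊓ Subgroup.centralizer {Net.toPerm 324 z_g803} = grp 324 yt_c54_K :=
  cent_eq yt_c54_sym yt_c54_cnt yt_c54_ge

theorem yt_c54_card : Nat.card ↥((grp 324 y_E0) ⊓ Subgroup.centralizer {Net.toPerm 324 z_g803}) = 972 :=
  card_cent yt_c54_sym yt_c54_cnt yt_c54_ge

theorem yt_c54_ord : orderOf (Net.toPerm 324 z_g803) = 6 :=
  orderOf_net z_hn z_hk z_g803_ok (by decide) (ps := [2, 3]) (by set_option linter.unusedSimpArgs false in simp [Nat.primeFactorsList_ofNat]) (by decide +kernel)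

theorem z_le817 : grp 324 yt_c55_K ≤ grp 324 y_E0 :=
  grp_le_of_memB z_hn z_hk y_E0_ok yt_c55_K_ok (ws := [nat_lit 0x352619211207150209, nat_lit 0x3338261f190f07010127, nat_lit 0x343925191c012602, nat_lit 0x333b2b1b0f1208012101, nat_lit 0x35262812021202]) (by decide +kernel)

theorem yt_c55_le : grp 324 yt_c55_K ≤ (grp 324 y_E0) :=
  (z_le817.trans z_T111_s0.le)

theorem yt_c55_mem : Net.toPerm 324 z_g811 ∈ (grp 324 y_E0) :=
  yt_c55_le (mem_grp_of_memB z_hn z_hk yt_c55_K_ok z_g811_ok (w := (nat_lit 0xa07010101)) (by decide +kernel))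

theorem yt_c55_sym : Sym 324 (grp 324 y_E0) [z_g811] yt_c55_K 0 :=
  Sym.of_lab z_hn z_hk (okE_cons.2 ⟨z_g811_ok, okE_nil _⟩) yt_c55_K_ok yt_c55_le (kT := 0) (by decide +kernel)

theorem z_le823 : grp 324 z_V822 ≤ grp 324 z_V198 :=
  grp_le_of_memB z_hn z_hk z_V198_ok z_V822_ok (ws := [nat_lit 0x262b211b0d04, nat_lit 0x252d180b120e0104, nat_lit 0x26211d0b120c, nat_lit 0x252a17110f]) (by decide +kernel)

theorem z_T111_s123 : Stab 324 (grp 324 y_E0) [nat_lit 314, nat_lit 2, nat_lit 0] z_V822 486 :=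
  Stab.step (k := 9) (L := (lab 324 9)) z_hn z_T111_s20 z_V822_ok z_le823 (c := (Ch.cons (nat_lit 67) [nat_lit 1] (Ch.cons (nat_lit 5) [nat_lit 3] (Ch.cons (nat_lit 320) [nat_lit 5, nat_lit 7] Ch.nil)))) (by decide +kernel)

theorem z_T111_s124 : Stab 324 (grp 324 y_E0) [nat_lit 67, nat_lit 314, nat_lit 2, nat_lit 0] z_V824 18 :=
  Stab.step (k := 9) (L := (lab 324 9)) z_hn z_T111_s123 z_V824_ok (grp_mono (List.subset_append_right [z_g818] _)) (c := (Ch.cons (nat_lit 5) [nat_lit 1] (Ch.cons (nat_lit 320) [nat_lit 3, nat_lit 5] Ch.nil))) (by decide +kernel)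

theorem z_T111_s125 : Stab 324 (grp 324 y_E0) [nat_lit 5, nat_lit 67, nat_lit 314, nat_lit 2, nat_lit 0] z_V825 9 :=
  Stab.step (k := 9) (L := (lab 324 9)) z_hn z_T111_s124 z_V825_ok (grp_mono (List.subset_append_right [z_g819] _)) (c := (Ch.cons (nat_lit 320) [nat_lit 1, nat_lit 3] Ch.nil)) (by decide +kernel)

theorem z_T111_s126 : Stab 324 (grp 324 y_E0) [nat_lit 320, nat_lit 5, nat_lit 67, nat_lit 314, nat_lit 2, nat_lit 0] z_V826 1 :=
  Stab.step (k := 9) (L := (lab 324 9)) z_hn z_T111_s125 z_V826_ok (grp_mono (List.subset_append_right [z_g820, z_g821] _)) (c := Ch.nil) (by decide +kernel)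

theorem z_g818_z_T111 : Net.toPerm 324 z_g818 ∈ (grp 324 y_E0) :=
  z_T111_s123.le (toPerm_mem_grp (E := z_V822) (List.Mem.head _))

theorem z_g819_z_T111 : Net.toPerm 324 z_g819 ∈ (grp 324 y_E0) :=
  z_T111_s123.le (toPerm_mem_grp (E := z_V822) (List.Mem.tail _ (List.Mem.head _)))

theorem z_g820_z_T111 : Net.toPerm 324 z_g820 ∈ (grp 324 y_E0) :=
  z_T111_s123.le (toPerm_mem_grp (E := z_V822) (List.Mem.tail _ (List.Mem.tail _ (List.Mem.head _))))

theorem z_g821_z_T111 : Net.toPerm 324 z_g821 ∈ (grp 324 y_E0) :=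
  z_T111_s123.le (toPerm_mem_grp (E := z_V822) (List.Mem.tail _ (List.Mem.tail _ (List.Mem.tail _ (List.Mem.head _)))))

noncomputable def z_T111_s126_O : ℕ := (nat_lit 0xfffffffffffffffff000000000000000000000000000000000000000000000000000000000000000000000000000000000ffffffffffffffffffffffffffffffff00000000000000000000000000000000f0000000000000000ffffffffffffffff0000000000000000ffffffffffffffff00000000000000000ffffffff00000000ffffffff00000000ffffffff00000000ffffffff00000000ffffffff000000000ffff0000ffff0000ffff0000ffff0000ffff0000ffff0000ffff0000ffff0000ffff0000ffff00000ff00ff00ff00ff00ff00ff00ff00ff00ff00ff00ff00ff00ff00ff00ff00ff00ff00ff00ff00ff000f0f0f0f0f0f0f0f0f0f0f0f0f0f0f0f0f0f0f0f0f0f0f0f0f0f0f0f0f0f0f0f0f0f0f0f0f0f0f0f0cccccccccccccccccccccccccccccccccccccccccccccccccccccccccccccccccccccccccccccccccaaaaaaaaaaaaaaaaaaaaaaaaaaaaaaaaaaaaaaaaaaaaaaaaaaaaaaaaaaaaaaaaaaaaaaaaaaaaaaaaa0000000000000000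00000000000000000000000000000000000000000000000000000000000000001000000000000000000000000000000000000000000000000000000000000000000000000000000004004000000000000000000000000000000000000000000000000000000000000000000000000000000000000000000000000000000000000000000000000000000000000000000000080000000000000000000000000000000000000000000000000000000000000000000000000000000000000000000000020100000000000000000000000000000000000000000000000000000000000000000000000000000000)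

theorem z_T111_s126_F : Frame 324 (grp 324 y_E0) 6 15 z_T111_s126_O 1 1 :=
  IsBase.frame z_T111_s126.isBase (by decide +kernel)

noncomputable def z_T111_s125_O : ℕ := (nat_lit 0x800008428001006050401052000000000000000000000000000000000000000000000000000000000000000000000000000000000402808810000080400842800100605040105240200881000008022a001db7b6995fdccf9d273721294b6b8991260f29ff08ecf9fedd9fd6e3483293b010000000000000090f63fff7ee4373752ac894c80c1aefff126072f35ff33461367712bcc85cd2c0a6f760000000000090e28c39e572823ea5dae5c7a57ebf4b7cffe7f080348d388f8880e117e394d8050bc8fc0788800009086a8c78f9c283838cd1271614f6004cf59f8d11973870799d474c307d8eb63e96ab92bf977002209067a34c1e171350a11b8bba307b49e4bc666fa8f2b0d3e2d59f02a9913f69cf1d49a51a60f27fe0880000000000000000000000000000000000000000000000000000000000000000000000000000000001000000000000000000000000000000000000000000000000000000000000000000000000000000004004000000000000000000000000000000000000000000000000000000000000000000000000000000000000000000000000000000000000000000000000000000000000000000000080000000000000000000000000000000000000000000000000000000000000000000000000000000000000000000000020)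

theorem z_T111_s125_F : Frame 324 (grp 324 y_E0) 5 12 z_T111_s125_O 0 1 :=
  Stab.frame z_hn z_T111_s125 (by decide +kernel)

noncomputable def z_T111_s124_O : ℕ := (nat_lit 0x8000084280010040104000520020000100000000000000000000000000040000000000000000008000000000000000020400010004008088000000804008428001006050401012402008810000080022a07f3cffcfcfcffffdfeb44109410b4de0000009db38ebbb7f5c9b7766c0db98b85b20000000002001015b38e7a37b44197676eaeb2bbe5ba80000807f7cff8fcd4fff78ad92f30b71624de00008000200100ca88fa9bc69a818c4585dbd0f9c22cdd9e0d919c79425b8c678df23d58664a33255fe677a80200106a0300f5a2f298e70ae5158f809ddabfe677a6a07789542d39ec74ae4110f8413dd2dd9e0d0022890000000000000000000000000000000000000000000000000000000000000000000000000000000001000000000000000000000000000000000000000000000000000000000000000000000000000000004004000000000000000000000000000000000000000000000000000000000000000000000000000000000000000000000000000000000000000000000000000000000000000000000080000000000000000)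

theorem z_T111_s124_F : Frame 324 (grp 324 y_E0) 4 10 z_T111_s124_O 0 1 :=
  Stab.frame z_hn z_T111_s124 (by decide +kernel)

noncomputable def z_T111_s123_O : ℕ := (nat_lit 0x200000000000000000000000000000000000000000000000000000000000000000000000000000000000000040000000000000000000000000000000000000000000000000000000000000000000000000000000000004000000000000000000000000000000000000000000000000000000000000000000000000000000000000000000000100000000000000000000000000000000000000000000000000000000000000000000000000000000000000000000000000000000000040000000000000000000000000000000000000000000000000000000000000000000000000000000000000000000000000008000000000000000000000000000000080000000800000008001002010000000000000000000000000000000000000000000000000000008008000000000008000000000040001002000000000000000000000000000000000000000000000000000000000000000000000000000000000000000000000000222b011100000010441002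000000000000000000000420860804000010040000000100000000000000000062000004000210000880000000004020000000003001000100002000000008000900000000000000000000000000000000000000004000000198050000000000000000000100000000001226172000000080000020a0210020100004c0008402000000000047000400006400040000000020d000000000000000004780040000600400010020002050000000004000222020000000000480008c028100000000000000000040000000000000001040200000000000000004000000000000000104020000000000ffdd54a04a0860816800095062c08200b0120000000019180181094ce908a010410900000040000000000000080b01910858a80a80104109800090400000062800004128210850aac08200a016020000000000000000000000000000000000000000000000000000000000000000000000000000000000000000000001000000000000000000000000000000000000000000000000000000000000000000000000000000004004000000000000000000000000000000000000000000000000000000000000000000000000000000)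

theorem z_T111_s123_F : Frame 324 (grp 324 y_E0) 3 20 z_T111_s123_O 0 1 :=
  Stab.frame z_hn z_T111_s123 (by decide +kernel)

noncomputable def yt_c55_cnt_L : List ℕ := [1, 4, z_T111_s1_O, 0, 0, 3, 20, z_T111_s123_O, 0, 0, 4, 10, z_T111_s124_O, 0, 0, 5, 12, z_T111_s125_O, 0, 0, 6, 15, z_T111_s126_O, 1, 0]

theorem yt_c55_cnt_P : Prob 324 9 (grp 324 y_E0) yt_c55_cnt_EG [z_g811] [z_g811] yt_c55_K yt_c55_cnt_L 0 0 :=
  Sym.prob z_hn z_hk yt_c55_sym yt_c55_cnt_EG_ok (grp_cons_le z_g39_z_T111 (grp_cons_le zg1_z_T111 (grp_cons_le zg3_z_T111 (grp_cons_le z_g43_z_T111 (grp_cons_le z_g42_z_T111 (grp_cons_le zg2_z_T111 (grp_cons_le z_g44_z_T111 (grp_cons_le z_g54_z_T111 (grp_cons_le z_g55_z_T111 (grp_cons_le z_g49_z_T111 (grp_cons_le z_g50_z_T111 (grp_cons_le z_g51_z_T111 (grp_cons_le z_g62_z_T111 (grp_cons_le z_g58_z_T111 (grp_cons_le z_g59_z_T111 (grp_cons_le z_g65_z_T111 (grp_cons_le z_g66_z_T111 (grp_cons_le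 z_g67_z_T111 (grp_cons_le z_g77_z_T111 (grp_cons_le z_g78_z_T111 (grp_cons_le z_g72_z_T111 (grp_cons_le z_g73_z_T111 (grp_cons_le z_g74_z_T111 (grp_cons_le z_g81_z_T111 (grp_cons_le z_g82_z_T111 (grp_cons_le z_g87_z_T111 (grp_cons_le zg0_z_T111 (grp_cons_le z_g91_z_T111 (grp_cons_le z_g28_z_T111 (grp_cons_le z_g88_z_T111 (grp_cons_le z_g818_z_T111 (grp_cons_le z_g819_z_T111 (grp_cons_le z_g820_z_T111 (grp_cons_le z_g821_z_T111 (grp_nil_le _))))))))))))))))))))))))))))))))))) (Frames.cons z_T111_s1_F (Frames.cons z_T111_s123_F (Frames.cons z_T111_s124_F (Frames.cons z_T111_s125_F (Frames.cons z_T111_s126_F Frames.nil))))) (okE_cons.2 ⟨z_g811_ok, okE_nil _⟩) _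

noncomputable def yt_c55_cnt_t : BT := (BT.fix (nat_lit 65793) (BT.fix (nat_lit 1) (BT.dif (nat_lit 1) (nat_lit 0) (BT.br (nat_lit 0) (nat_lit 138) [nat_lit 1] (BT.kid (nat_lit 138) (nat_lit 108) (BT.dif (nat_lit 1) (nat_lit 0) (BT.frm (nat_lit 0) (nat_lit 1337) (nat_lit 1337) [nat_lit 1] (BT.pln (nat_lit 0) (nat_lit 3) (BT.dif (nat_lit 2) (nat_lit 0) (BT.br (nat_lit 0) (nat_lit 218) [nat_lit 3] (BT.kid (nat_lit 218) (nat_lit 18) (BT.img (nat_lit 1) (nat_lit 5) (BT.frm (nat_lit 1) (nat_lit 0xf2f0539) (nat_lit 0xf2f0539) [nat_lit 1, nat_lit 0, nat_lit 6] (BT.pln (nat_lit 0) (nat_lit 6) (BT.and (nat_lit 9) (nat_lit 0) (BT.br (nat_lit 0) (nat_lit 235) [nat_lit 5] (BT.kid (nat_lit 235) (nat_lit 6) (BT.dif (nat_lit 7) (nat_lit 13) (BT.frm (nat_lit 2) (nat_lit 0x3e420f2f0539) (nat_lit 0x3e420f2f0539) [nat_lit 1, nat_lit 6, nat_lit 5, nat_lit 11] (BT.pln (nat_lit 0) (nat_lit 4) (BT.dif (nat_lit 2) (nat_lit 0)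 (BT.br (nat_lit 0) (nat_lit 316) [nat_lit 7] (BT.kid (nat_lit 316) (nat_lit 3) (BT.dif (nat_lit 21) (nat_lit 2) (BT.pln (nat_lit 4) (nat_lit 6) (BT.and (nat_lit 1) (nat_lit 0) (BT.pln (nat_lit 6) (nat_lit 5) (BT.dif (nat_lit 1) (nat_lit 0) (BT.pln (nat_lit 8) (nat_lit 7) (BT.and (nat_lit 1) (nat_lit 0) (BT.pln (nat_lit 10) (nat_lit 8) (BT.dif (nat_lit 1) (nat_lit 0) (BT.frm (nat_lit 3) (nat_lit 0x3f3e420f2f0539) (nat_lit 0x3f3e420f2f0539) [nat_lit 9, nat_lit 14, nat_lit 19, nat_lit 18, nat_lit 24] (BT.pln (nat_lit 0) (nat_lit 5) (BT.dif (nat_lit 2) (nat_lit 0) (BT.br (nat_lit 0) (nat_lit 246) [nat_lit 9] (BT.dead (nat_lit 249) (BT.frm (nat_lit 4) (nat_lit 0x443f3e420f2f0539) (nat_lit 0x433f3e420f2f0539) [nat_lit 0, nat_lit 13, nat_lit 18, nat_lit 23, nat_lit 22, nat_lit 28] (BT.pln (nat_lit 0) (nat_lit 6) (BT.img (nat_lit 1) (nat_lit 2) (BT.img (nat_lit 1) (nat_lit 0) (BT.img (nat_lit 1) (nat_lit 0) (BT.and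 (nat_lit 3) (nat_lit 0) (BT.cnt (nat_lit 0)))))))) (BT.dead (nat_lit 151) (BT.frm (nat_lit 4) (nat_lit 0x443f3e420f2f0539) (nat_lit 0x3f3e420f2f0539) [nat_lit 0, nat_lit 13, nat_lit 18, nat_lit 23, nat_lit 22, nat_lit 28] (BT.pln (nat_lit 0) (nat_lit 6) (BT.img (nat_lit 1) (nat_lit 2) (BT.img (nat_lit 1) (nat_lit 0) (BT.img (nat_lit 1) (nat_lit 0) (BT.img (nat_lit 1) (nat_lit 0) (BT.img (nat_lit 1) (nat_lit 0) (BT.and (nat_lit 5) (nat_lit 0) (BT.cnt (nat_lit 0)))))))))) (BT.kid (nat_lit 246) (nat_lit 1) (BT.one (nat_lit 4) (nat_lit 0x443f3e420f2f0539) (nat_lit 0x443f3e420f2f0539) [nat_lit 0, nat_lit 13, nat_lit 18, nat_lit 23, nat_lit 22, nat_lit 28]) BT.nil)))))))))))))))) BT.nil)))))) BT.nil)))))) BT.nil)))))) BT.nil)))))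

theorem yt_c55_cnt : Cnt 324 (grp 324 y_E0) [z_g811] [z_g811] 0 0 0 0 972 :=
  BT.sound yt_c55_cnt_P Known.nil (t := yt_c55_cnt_t) (d := 0) (by decide +kernel)

theorem yt_c55_ge : 972 ≤ Nat.card (grp 324 yt_c55_K) :=
  Ch.le_card_grp (k := 9) (L := (lab 324 9)) z_hn yt_c55_K_ok (c := (Ch.cons (nat_lit 138) [nat_lit 1] (Ch.cons (nat_lit 218) [nat_lit 3] (Ch.cons (nat_lit 235) [nat_lit 5] (Ch.cons (nat_lit 316) [nat_lit 7] (Ch.cons (nat_lit 246) [nat_lit 9] Ch.nil)))))) (by decide +kernel)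

theorem yt_c55_eq : (grp 324 y_E0) ⊓ Subgroup.centralizer {Net.toPerm 324 z_g811} = grp 324 yt_c55_K :=
  cent_eq yt_c55_sym yt_c55_cnt yt_c55_ge

theorem yt_c55_card : Nat.card ↥((grp 324 y_E0) ⊓ Subgroup.centralizer {Net.toPerm 324 z_g811}) = 972 :=
  card_cent yt_c55_sym yt_c55_cnt yt_c55_ge

theorem yt_c55_ord : orderOf (Net.toPerm 324 z_g811) = 6 :=
  orderOf_net z_hn z_hk z_g811_ok (by decide) (ps := [2, 3]) (by set_option linter.unusedSimpArgs false in simp [Nat.primeFactorsList_ofNat]) (by decide +kernel)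

theorem z_le833 : grp 324 yt_c56_K ≤ grp 324 y_E0 :=
  grp_le_of_memB z_hn z_hk y_E0_ok yt_c56_K_ok (ws := [nat_lit 0x372f281a1e0f07021d, nat_lit 0x342f2b192212070701031d, nat_lit 0x3525281f1d0f12020f, nat_lit 0x342719201a013b02, nat_lit 0x39252812021202]) (by decide +kernel)

theorem yt_c56_le : grp 324 yt_c56_K ≤ (grp 324 y_E0) :=
  (z_le833.trans z_T111_s0.le)

theorem yt_c56_mem : Net.toPerm 324 z_g827 ∈ (grp 324 y_E0) :=
  yt_c56_le (mem_grp_of_memB z_hn z_hk yt_c56_K_ok z_g827_ok (w := (nat_lit 0x70603010601)) (by decide +kernel))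

theorem yt_c56_sym : Sym 324 (grp 324 y_E0) [z_g827] yt_c56_K 0 :=
  Sym.of_lab z_hn z_hk (okE_cons.2 ⟨z_g827_ok, okE_nil _⟩) yt_c56_K_ok yt_c56_le (kT := 0) (by decide +kernel)

noncomputable def yt_c56_cnt_L : List ℕ := [1, 4, z_T111_s1_O, 0, 0, 3, 11, z_T111_s21_O, 0, 0, 4, 10, z_T111_s58_O, 0, 0, 5, 12, z_T111_s96_O, 0, 0, 6, 15, z_T111_s97_O, 1, 0]

theorem yt_c56_cnt_P : Prob 324 9 (grp 324 y_E0) yt_c56_cnt_EG [z_g827] [z_g827] yt_c56_K yt_c56_cnt_L 0 0 :=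
  Sym.prob z_hn z_hk yt_c56_sym yt_c56_cnt_EG_ok (grp_cons_le z_g39_z_T111 (grp_cons_le zg1_z_T111 (grp_cons_le zg3_z_T111 (grp_cons_le z_g43_z_T111 (grp_cons_le z_g42_z_T111 (grp_cons_le zg2_z_T111 (grp_cons_le z_g44_z_T111 (grp_cons_le z_g54_z_T111 (grp_cons_le z_g55_z_T111 (grp_cons_le z_g49_z_T111 (grp_cons_le z_g50_z_T111 (grp_cons_le z_g51_z_T111 (grp_cons_le z_g62_z_T111 (grp_cons_le z_g58_z_T111 (grp_cons_le z_g59_z_T111 (grp_cons_le z_g65_z_T111 (grp_cons_le z_g66_z_T111 (grp_cons_le z_g67_z_T111 (grp_cons_le z_g77_z_T111 (grp_cons_le z_g78_z_T111 (grp_cons_le z_g72_z_T111 (grp_cons_le z_g73_z_T111 (grp_cons_le z_g74_z_T111 (grp_cons_le z_g81_z_T111 (grp_cons_le z_g82_z_T111 (grp_cons_le z_g87_z_T111 (grp_cons_le zg0_z_T111 (grp_cons_le z_g91_z_T111 (grp_cons_le z_g28_z_T111 (grp_cons_le z_g88_z_T111 (grp_cons_le z_g424_z_T111 (grp_cons_le z_g425_z_T111 (grp_cons_le z_g426_z_T111 (grp_cons_le z_g427_z_T111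 (grp_cons_le z_g638_z_T111 (grp_cons_le z_g639_z_T111 (grp_nil_le _))))))))))))))))))))))))))))))))))))) (Frames.cons z_T111_s1_F (Frames.cons z_T111_s21_F (Frames.cons z_T111_s58_F (Frames.cons z_T111_s96_F (Frames.cons z_T111_s97_F Frames.nil))))) (okE_cons.2 ⟨z_g827_ok, okE_nil _⟩) _

noncomputable def yt_c56_cnt_t : BT := (BT.fix (nat_lit 65793) (BT.fix (nat_lit 1) (BT.dif (nat_lit 1) (nat_lit 0) (BT.br (nat_lit 0) (nat_lit 71) [nat_lit 1, nat_lit 5] (BT.kid (nat_lit 71) (nat_lit 108) (BT.frm (nat_lit 0) (nat_lit 67587) (nat_lit 67587) [nat_lit 0] (BT.pln (nat_lit 0) (nat_lit 3) (BT.dif (nat_lit 0) (nat_lit 5) (BT.br (nat_lit 0) (nat_lit 306) [nat_lit 3] (BT.dead (nat_lit 87) (BT.img (nat_lit 1) (nat_lit 4) (BT.frm (nat_lit 1) (nat_lit 0x715010803) (nat_lit 0xf0715010803) [nat_lit 1, nat_lit 0, nat_lit 5] (BT.pln (nat_lit 0) (nat_lit 5) (BT.img (nat_lit 1) (nat_lit 3) (BT.img (nat_lit 1) (nat_lit 0)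 (BT.img (nat_lit 1) (nat_lit 0) (BT.and (nat_lit 3) (nat_lit 0) (BT.cnt (nat_lit 0))))))))) (BT.dead (nat_lit 66) (BT.img (nat_lit 1) (nat_lit 4) (BT.frm (nat_lit 1) (nat_lit 0x715010803) (nat_lit 0x150715010803) [nat_lit 1, nat_lit 0, nat_lit 5] (BT.pln (nat_lit 0) (nat_lit 5) (BT.img (nat_lit 1) (nat_lit 3) (BT.and (nat_lit 1) (nat_lit 0) (BT.cnt (nat_lit 0))))))) (BT.kid (nat_lit 306) (nat_lit 54) (BT.pln (nat_lit 3) (nat_lit 1) (BT.and (nat_lit 6) (nat_lit 0) (BT.br (nat_lit 0) (nat_lit 124) [nat_lit 5] (BT.kid (nat_lit 124) (nat_lit 9) (BT.dif (nat_lit 1) (nat_lit 0) (BT.img (nat_lit 1) (nat_lit 8) (BT.frm (nat_lit 2) (nat_lit 0x212e0715010803) (nat_lit 0x212e0715010803) [nat_lit 2, nat_lit 5, nat_lit 0, nat_lit 9] (BT.pln (nat_lit 0) (nat_lit 9) (BT.dif (nat_lit 3) (nat_lit 0) (BT.br (nat_lit 0) (nat_lit 154) [nat_lit 7] (BT.kid (nat_lit 154) (nat_lit 3) (BT.dif (nat_lit 8) (nat_lit 16) (BT.pln (nat_lit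 4) (nat_lit 4) (BT.dif (nat_lit 1) (nat_lit 0) (BT.pln (nat_lit 6) (nat_lit 8) (BT.dif (nat_lit 1) (nat_lit 0) (BT.fix (nat_lit 257) (BT.dif (nat_lit 1) (nat_lit 0) (BT.frm (nat_lit 3) (nat_lit 0x3d44212e0715010803) (nat_lit 0x3d44212e0715010803) [nat_lit 7, nat_lit 13, nat_lit 16, nat_lit 11, nat_lit 20] (BT.pln (nat_lit 0) (nat_lit 5) (BT.dif (nat_lit 2) (nat_lit 0) (BT.br (nat_lit 0) (nat_lit 137) [nat_lit 9] (BT.dead (nat_lit 231) (BT.frm (nat_lit 4) (nat_lit 0x45483d44212e0715010803) (nat_lit 0x46473d44212e0715010803) [nat_lit 0, nat_lit 11, nat_lit 17, nat_lit 20, nat_lit 15, nat_lit 24] (BT.pln (nat_lit 0) (nat_lit 6) (BT.img (nat_lit 1) (nat_lit 2) (BT.and (nat_lit 1) (nat_lit 0) (BT.cnt (nat_lit 0)))))) (BT.dead (nat_lit 105) (BT.frm (nat_lit 4) (nat_lit 0x45483d44212e0715010803) (nat_lit 0x3d44212e0715010803) [nat_lit 0, nat_lit 11, nat_lit 17, nat_lit 20, nat_lit 15, nat_lit 24] (BT.pln (nat_lit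 0) (nat_lit 6) (BT.img (nat_lit 1) (nat_lit 2) (BT.img (nat_lit 1) (nat_lit 0) (BT.img (nat_lit 1) (nat_lit 0) (BT.and (nat_lit 3) (nat_lit 0) (BT.cnt (nat_lit 0)))))))) (BT.kid (nat_lit 137) (nat_lit 1) (BT.one (nat_lit 4) (nat_lit 0x45483d44212e0715010803) (nat_lit 0x45483d44212e0715010803) [nat_lit 0, nat_lit 11, nat_lit 17, nat_lit 20, nat_lit 15, nat_lit 24]) BT.nil)))))))))))))) BT.nil))))))) BT.nil)))) BT.nil))))))) BT.nil)))))

theorem yt_c56_cnt : Cnt 324 (grp 324 y_E0) [z_g827] [z_g827] 0 0 0 0 972 :=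
  BT.sound yt_c56_cnt_P Known.nil (t := yt_c56_cnt_t) (d := 0) (by decide +kernel)

theorem yt_c56_ge : 972 ≤ Nat.card (grp 324 yt_c56_K) :=
  Ch.le_card_grp (k := 9) (L := (lab 324 9)) z_hn yt_c56_K_ok (c := (Ch.cons (nat_lit 71) [nat_lit 1] (Ch.cons (nat_lit 306) [nat_lit 3] (Ch.cons (nat_lit 124) [nat_lit 5] (Ch.cons (nat_lit 154) [nat_lit 7] (Ch.cons (nat_lit 137) [nat_lit 9] Ch.nil)))))) (by decide +kernel)

theorem yt_c56_eq : (grp 324 y_E0) ⊓ Subgroup.centralizer {Net.toPerm 324 z_g827} = grp 324 yt_c56_K :=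
  cent_eq yt_c56_sym yt_c56_cnt yt_c56_ge

theorem yt_c56_card : Nat.card ↥((grp 324 y_E0) ⊓ Subgroup.centralizer {Net.toPerm 324 z_g827}) = 972 :=
  card_cent yt_c56_sym yt_c56_cnt yt_c56_ge

theorem yt_c56_ord : orderOf (Net.toPerm 324 z_g827) = 6 :=
  orderOf_net z_hn z_hk z_g827_ok (by decide) (ps := [2, 3]) (by set_option linter.unusedSimpArgs false in simp [Nat.primeFactorsList_ofNat]) (by decide +kernel)

theorem z_le840 : grp 324 yt_c57_K ≤ grp 324 y_E0 :=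
  grp_le_of_memB z_hn z_hk y_E0_ok yt_c57_K_ok (ws := [nat_lit 0x34352f2b19221a013b02, nat_lit 0x3325281f0801011d, nat_lit 0x3725013802, nat_lit 0x372f03, nat_lit 0x33382619201c013c02]) (by decide +kernel)

theorem yt_c57_le : grp 324 yt_c57_K ≤ (grp 324 y_E0) :=
  (z_le840.trans z_T111_s0.le)

theorem yt_c57_mem : Net.toPerm 324 z_g834 ∈ (grp 324 y_E0) :=
  yt_c57_le (mem_grp_of_memB z_hn z_hk yt_c57_K_ok z_g834_ok (w := (nat_lit 0xa07060202)) (by decide +kernel))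

theorem yt_c57_sym : Sym 324 (grp 324 y_E0) [z_g834] yt_c57_K 0 :=
  Sym.of_lab z_hn z_hk (okE_cons.2 ⟨z_g834_ok, okE_nil _⟩) yt_c57_K_ok yt_c57_le (kT := 0) (by decide +kernel)

noncomputable def yt_c57_cnt_L : List ℕ := [1, 4, z_T111_s1_O, 0, 0, 3, 20, z_T111_s123_O, 0, 0, 4, 10, z_T111_s124_O, 0, 0, 5, 12, z_T111_s125_O, 0, 0, 6, 15, z_T111_s126_O, 1, 0]

theorem yt_c57_cnt_P : Prob 324 9 (grp 324 y_E0) yt_c57_cnt_EG [z_g834] [z_g834] yt_c57_K yt_c57_cnt_L 0 0 :=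
  Sym.prob z_hn z_hk yt_c57_sym yt_c57_cnt_EG_ok (grp_cons_le z_g39_z_T111 (grp_cons_le zg1_z_T111 (grp_cons_le zg3_z_T111 (grp_cons_le z_g43_z_T111 (grp_cons_le z_g42_z_T111 (grp_cons_le zg2_z_T111 (grp_cons_le z_g44_z_T111 (grp_cons_le z_g54_z_T111 (grp_cons_le z_g55_z_T111 (grp_cons_le z_g49_z_T111 (grp_cons_le z_g50_z_T111 (grp_cons_le z_g51_z_T111 (grp_cons_le z_g62_z_T111 (grp_cons_le z_g58_z_T111 (grp_cons_le z_g59_z_T111 (grp_cons_le z_g65_z_T111 (grp_cons_le z_g66_z_T111 (grp_cons_le z_g67_z_T111 (grp_cons_le z_g77_z_T111 (grp_cons_le z_g78_z_T111 (grp_cons_le z_g72_z_T111 (grp_cons_le z_g73_z_T111 (grp_cons_le z_g74_z_T111 (grp_cons_le z_g81_z_T111 (grp_cons_le z_g82_z_T111 (grp_cons_le z_g87_z_T111 (grp_cons_le zg0_z_T111 (grp_cons_le z_g91_z_T111 (grp_cons_le z_g28_z_T111 (grp_cons_le z_g88_z_T111 (grp_cons_le z_g818_z_T111 (grp_cons_le z_g819_z_T111 (grp_cons_le z_g820_z_T111 (grp_cons_le z_g821_z_T111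 (grp_nil_le _))))))))))))))))))))))))))))))))))) (Frames.cons z_T111_s1_F (Frames.cons z_T111_s123_F (Frames.cons z_T111_s124_F (Frames.cons z_T111_s125_F (Frames.cons z_T111_s126_F Frames.nil))))) (okE_cons.2 ⟨z_g834_ok, okE_nil _⟩) _

noncomputable def yt_c57_cnt_t : BT := (BT.fix (nat_lit 65793) (BT.fix (nat_lit 1) (BT.dif (nat_lit 1) (nat_lit 0) (BT.br (nat_lit 0) (nat_lit 124) [nat_lit 1, nat_lit 3] (BT.kid (nat_lit 124) (nat_lit 108) (BT.dif (nat_lit 1) (nat_lit 0) (BT.frm (nat_lit 0) (nat_lit 65813) (nat_lit 65813) [nat_lit 1] (BT.pln (nat_lit 0) (nat_lit 3) (BT.dif (nat_lit 2) (nat_lit 0) (BT.br (nat_lit 0) (nat_lit 134) [nat_lit 3] (BT.kid (nat_lit 134) (nat_lit 18) (BT.img (nat_lit 1) (nat_lit 5) (BT.frm (nat_lit 1) (nat_lit 0xf1109010115) (nat_lit 0xf1109010115) [nat_lit 1, nat_lit 0, nat_lit 6] (BT.pln (nat_lit 0) (nat_lit 6) (BT.and (nat_lit 9) (nat_lit 0) (BT.br (nat_lit 0) (nat_lit 217) [nat_lit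 5] (BT.kid (nat_lit 217) (nat_lit 6) (BT.dif (nat_lit 7) (nat_lit 13) (BT.frm (nat_lit 2) (nat_lit 0x3d3d410f1109010115) (nat_lit 0x3d3d410f1109010115) [nat_lit 1, nat_lit 6, nat_lit 5, nat_lit 11] (BT.pln (nat_lit 0) (nat_lit 4) (BT.dif (nat_lit 2) (nat_lit 0) (BT.br (nat_lit 0) (nat_lit 169) [nat_lit 7] (BT.kid (nat_lit 169) (nat_lit 3) (BT.dif (nat_lit 21) (nat_lit 2) (BT.pln (nat_lit 4) (nat_lit 6) (BT.and (nat_lit 1) (nat_lit 0) (BT.pln (nat_lit 6) (nat_lit 5) (BT.dif (nat_lit 1) (nat_lit 0) (BT.pln (nat_lit 8) (nat_lit 7) (BT.and (nat_lit 1) (nat_lit 0) (BT.pln (nat_lit 10) (nat_lit 8) (BT.dif (nat_lit 1) (nat_lit 0) (BT.frm (nat_lit 3) (nat_lit 0x3d3d410f1109010115) (nat_lit 0x3d3d410f1109010115) [nat_lit 9, nat_lit 14, nat_lit 19, nat_lit 18, nat_lit 24] (BT.pln (nat_lit 0) (nat_lit 5) (BT.dif (nat_lit 2) (nat_lit 0) (BT.br (nat_lit 0) (nat_lit 32) [nat_lit 9] (BT.dead (nat_lit 96) (BT.frm (nat_lit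 4) (nat_lit 0x42443d3d410f1109010115) (nat_lit 0x42433d3d410f1109010115) [nat_lit 0, nat_lit 13, nat_lit 18, nat_lit 23, nat_lit 22, nat_lit 28] (BT.pln (nat_lit 0) (nat_lit 6) (BT.img (nat_lit 1) (nat_lit 2) (BT.img (nat_lit 1) (nat_lit 0) (BT.img (nat_lit 1) (nat_lit 0) (BT.and (nat_lit 3) (nat_lit 0) (BT.cnt (nat_lit 0)))))))) (BT.dead (nat_lit 34) (BT.frm (nat_lit 4) (nat_lit 0x42443d3d410f1109010115) (nat_lit 0x423d3d410f1109010115) [nat_lit 0, nat_lit 13, nat_lit 18, nat_lit 23, nat_lit 22, nat_lit 28] (BT.pln (nat_lit 0) (nat_lit 6) (BT.img (nat_lit 1) (nat_lit 2) (BT.and (nat_lit 1) (nat_lit 0) (BT.cnt (nat_lit 0)))))) (BT.kid (nat_lit 32) (nat_lit 1) (BT.one (nat_lit 4) (nat_lit 0x42443d3d410f1109010115) (nat_lit 0x42443d3d410f1109010115) [nat_lit 0, nat_lit 13, nat_lit 18, nat_lit 23, nat_lit 22, nat_lit 28]) BT.nil)))))))))))))))) BT.nil)))))) BT.nil)))))) BT.nil)))))) BT.nil)))))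

theorem yt_c57_cnt : Cnt 324 (grp 324 y_E0) [z_g834] [z_g834] 0 0 0 0 972 :=
  BT.sound yt_c57_cnt_P Known.nil (t := yt_c57_cnt_t) (d := 0) (by decide +kernel)

theorem yt_c57_ge : 972 ≤ Nat.card (grp 324 yt_c57_K) :=
  Ch.le_card_grp (k := 9) (L := (lab 324 9)) z_hn yt_c57_K_ok (c := (Ch.cons (nat_lit 124) [nat_lit 1] (Ch.cons (nat_lit 134) [nat_lit 3] (Ch.cons (nat_lit 217) [nat_lit 5] (Ch.cons (nat_lit 169) [nat_lit 7] (Ch.cons (nat_lit 32) [nat_lit 9] Ch.nil)))))) (by decide +kernel)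

theorem yt_c57_eq : (grp 324 y_E0) ⊓ Subgroup.centralizer {Net.toPerm 324 z_g834} = grp 324 yt_c57_K :=
  cent_eq yt_c57_sym yt_c57_cnt yt_c57_ge

theorem yt_c57_card : Nat.card ↥((grp 324 y_E0) ⊓ Subgroup.centralizer {Net.toPerm 324 z_g834}) = 972 :=
  card_cent yt_c57_sym yt_c57_cnt yt_c57_ge

theorem yt_c57_ord : orderOf (Net.toPerm 324 z_g834) = 6 :=
  orderOf_net z_hn z_hk z_g834_ok (by decide) (ps := [2, 3]) (by set_option linter.unusedSimpArgs false in simp [Nat.primeFactorsList_ofNat]) (by decide +kernel)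

theorem z_le846 : grp 324 yt_c58_K ≤ grp 324 y_E0 :=
  grp_le_of_memB z_hn z_hk y_E0_ok yt_c58_K_ok (ws := [nat_lit 0x2f271a1f070a021901, nat_lit 0x33382f261f19260f1208010315, nat_lit 0x33382f1d1f052d, nat_lit 0x33353c2719201c12021202, nat_lit 0x343528022501]) (by decide +kernel)

theorem yt_c58_le : grp 324 yt_c58_K ≤ (grp 324 y_E0) :=
  (z_le846.trans z_T111_s0.le)

theorem yt_c58_mem : Net.toPerm 324 z_g841 ∈ (grp 324 y_E0) :=
  yt_c58_le (mem_grp_of_memB z_hn z_hk yt_c58_K_ok z_g841_ok (w := (nat_lit 0x9070505030202)) (by decide +kernel))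

theorem yt_c58_sym : Sym 324 (grp 324 y_E0) [z_g841] yt_c58_K 0 :=
  Sym.of_lab z_hn z_hk (okE_cons.2 ⟨z_g841_ok, okE_nil _⟩) yt_c58_K_ok yt_c58_le (kT := 0) (by decide +kernel)

noncomputable def yt_c58_cnt_L : List ℕ := [1, 4, z_T111_s1_O, 0, 0, 3, 11, z_T111_s21_O, 0, 0, 4, 10, z_T111_s58_O, 0, 0, 5, 12, z_T111_s96_O, 0, 0, 6, 15, z_T111_s97_O, 1, 0]

theorem yt_c58_cnt_P : Prob 324 9 (grp 324 y_E0) yt_c58_cnt_EG [z_g841] [z_g841] yt_c58_K yt_c58_cnt_L 0 0 :=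
  Sym.prob z_hn z_hk yt_c58_sym yt_c58_cnt_EG_ok (grp_cons_le z_g39_z_T111 (grp_cons_le zg1_z_T111 (grp_cons_le zg3_z_T111 (grp_cons_le z_g43_z_T111 (grp_cons_le z_g42_z_T111 (grp_cons_le zg2_z_T111 (grp_cons_le z_g44_z_T111 (grp_cons_le z_g54_z_T111 (grp_cons_le z_g55_z_T111 (grp_cons_le z_g49_z_T111 (grp_cons_le z_g50_z_T111 (grp_cons_le z_g51_z_T111 (grp_cons_le z_g62_z_T111 (grp_cons_le z_g58_z_T111 (grp_cons_le z_g59_z_T111 (grp_cons_le z_g65_z_T111 (grp_cons_le z_g66_z_T111 (grp_cons_le z_g67_z_T111 (grp_cons_le z_g77_z_T111 (grp_cons_le z_g78_z_T111 (grp_cons_le z_g72_z_T111 (grp_cons_le z_g73_z_T111 (grp_cons_le z_g74_z_T111 (grp_cons_le z_g81_z_T111 (grp_cons_le z_g82_z_T111 (grp_cons_le z_g87_z_T111 (grp_cons_le zg0_z_T111 (grp_cons_le z_g91_z_T111 (grp_cons_le z_g28_z_T111 (grp_cons_le z_g88_z_T111 (grp_cons_le z_g424_z_T111 (grp_cons_le z_g425_z_T111 (grp_cons_le z_g426_z_T111 (grp_cons_le z_g427_z_T111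 (grp_cons_le z_g638_z_T111 (grp_cons_le z_g639_z_T111 (grp_nil_le _))))))))))))))))))))))))))))))))))))) (Frames.cons z_T111_s1_F (Frames.cons z_T111_s21_F (Frames.cons z_T111_s58_F (Frames.cons z_T111_s96_F (Frames.cons z_T111_s97_F Frames.nil))))) (okE_cons.2 ⟨z_g841_ok, okE_nil _⟩) _

noncomputable def yt_c58_cnt_t : BT := (BT.fix (nat_lit 65793) (BT.fix (nat_lit 1) (BT.dif (nat_lit 1) (nat_lit 0) (BT.br (nat_lit 0) (nat_lit 136) [nat_lit 1, nat_lit 5] (BT.kid (nat_lit 136) (nat_lit 108) (BT.frm (nat_lit 0) (nat_lit 1332) (nat_lit 1332) [nat_lit 0] (BT.pln (nat_lit 0) (nat_lit 3) (BT.dif (nat_lit 0) (nat_lit 5) (BT.br (nat_lit 0) (nat_lit 295) [nat_lit 3] (BT.dead (nat_lit 168) (BT.img (nat_lit 1) (nat_lit 4) (BT.frm (nat_lit 1) (nat_lit 0x15080534) (nat_lit 0xf12080534) [nat_lit 1, nat_lit 0, nat_lit 5] (BT.pln (nat_lit 0) (nat_lit 5) (BT.img (nat_lit 1) (nat_lit 3) (BT.and (nat_lit 1) (nat_lit 0) (BT.cnt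 (nat_lit 0))))))) (BT.dead (nat_lit 126) (BT.img (nat_lit 1) (nat_lit 4) (BT.frm (nat_lit 1) (nat_lit 0x15080534) (nat_lit 0xf080534) [nat_lit 1, nat_lit 0, nat_lit 5] (BT.pln (nat_lit 0) (nat_lit 5) (BT.img (nat_lit 1) (nat_lit 3) (BT.img (nat_lit 1) (nat_lit 0) (BT.img (nat_lit 1) (nat_lit 0) (BT.and (nat_lit 3) (nat_lit 0) (BT.cnt (nat_lit 0))))))))) (BT.kid (nat_lit 295) (nat_lit 54) (BT.pln (nat_lit 3) (nat_lit 1) (BT.and (nat_lit 6) (nat_lit 0) (BT.br (nat_lit 0) (nat_lit 148) [nat_lit 5] (BT.kid (nat_lit 148) (nat_lit 9) (BT.dif (nat_lit 1) (nat_lit 0) (BT.img (nat_lit 1) (nat_lit 8) (BT.frm (nat_lit 2) (nat_lit 0x192715080534) (nat_lit 0x192715080534) [nat_lit 2, nat_lit 5, nat_lit 0, nat_lit 9] (BT.pln (nat_lit 0) (nat_lit 9) (BT.dif (nat_lit 3) (nat_lit 0) (BT.br (nat_lit 0) (nat_lit 234) [nat_lit 7] (BT.kid (nat_lit 234) (nat_lit 3) (BT.dif (nat_lit 8) (nat_lit 16) (BT.pln (nat_lit 4) (nat_lit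 4) (BT.dif (nat_lit 1) (nat_lit 0) (BT.pln (nat_lit 6) (nat_lit 8) (BT.dif (nat_lit 1) (nat_lit 0) (BT.fix (nat_lit 257) (BT.dif (nat_lit 1) (nat_lit 0) (BT.frm (nat_lit 3) (nat_lit 0x3d44192715080534) (nat_lit 0x3d44192715080534) [nat_lit 7, nat_lit 13, nat_lit 16, nat_lit 11, nat_lit 20] (BT.pln (nat_lit 0) (nat_lit 5) (BT.dif (nat_lit 2) (nat_lit 0) (BT.br (nat_lit 0) (nat_lit 212) [nat_lit 9] (BT.dead (nat_lit 134) (BT.frm (nat_lit 4) (nat_lit 0x453d44192715080534) (nat_lit 0x45483d44192715080534) [nat_lit 0, nat_lit 11, nat_lit 17, nat_lit 20, nat_lit 15, nat_lit 24] (BT.pln (nat_lit 0) (nat_lit 6) (BT.img (nat_lit 1) (nat_lit 2) (BT.and (nat_lit 1) (nat_lit 0) (BT.cnt (nat_lit 0)))))) (BT.dead (nat_lit 253) (BT.frm (nat_lit 4) (nat_lit 0x453d44192715080534) (nat_lit 0x463d44192715080534) [nat_lit 0, nat_lit 11, nat_lit 17, nat_lit 20, nat_lit 15, nat_lit 24] (BT.pln (nat_lit 0) (nat_lit 6) (BT.img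 (nat_lit 1) (nat_lit 2) (BT.img (nat_lit 1) (nat_lit 0) (BT.img (nat_lit 1) (nat_lit 0) (BT.and (nat_lit 3) (nat_lit 0) (BT.cnt (nat_lit 0)))))))) (BT.kid (nat_lit 212) (nat_lit 1) (BT.one (nat_lit 4) (nat_lit 0x453d44192715080534) (nat_lit 0x453d44192715080534) [nat_lit 0, nat_lit 11, nat_lit 17, nat_lit 20, nat_lit 15, nat_lit 24]) BT.nil)))))))))))))) BT.nil))))))) BT.nil)))) BT.nil))))))) BT.nil)))))

theorem yt_c58_cnt : Cnt 324 (grp 324 y_E0) [z_g841] [z_g841] 0 0 0 0 972 :=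
  BT.sound yt_c58_cnt_P Known.nil (t := yt_c58_cnt_t) (d := 0) (by decide +kernel)

theorem yt_c58_ge : 972 ≤ Nat.card (grp 324 yt_c58_K) :=
  Ch.le_card_grp (k := 9) (L := (lab 324 9)) z_hn yt_c58_K_ok (c := (Ch.cons (nat_lit 136) [nat_lit 1] (Ch.cons (nat_lit 295) [nat_lit 3] (Ch.cons (nat_lit 148) [nat_lit 5] (Ch.cons (nat_lit 234) [nat_lit 7] (Ch.cons (nat_lit 212) [nat_lit 9] Ch.nil)))))) (by decide +kernel)

theorem yt_c58_eq : (grp 324 y_E0) ⊓ Subgroup.centralizer {Net.toPerm 324 z_g841} = grp 324 yt_c58_K :=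
  cent_eq yt_c58_sym yt_c58_cnt yt_c58_ge

theorem yt_c58_card : Nat.card ↥((grp 324 y_E0) ⊓ Subgroup.centralizer {Net.toPerm 324 z_g841}) = 972 :=
  card_cent yt_c58_sym yt_c58_cnt yt_c58_ge

theorem yt_c58_ord : orderOf (Net.toPerm 324 z_g841) = 6 :=
  orderOf_net z_hn z_hk z_g841_ok (by decide) (ps := [2, 3]) (by set_option linter.unusedSimpArgs false in simp [Nat.primeFactorsList_ofNat]) (by decide +kernel)

theorem z_le853 : grp 324 yt_c59_K ≤ grp 324 y_E0 :=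
  grp_le_of_memB z_hn z_hk y_E0_ok yt_c59_K_ok (ws := [nat_lit 0x382f19201c110702, nat_lit 0x33382f26281f191e0f120707010d05, nat_lit 0x33352f271f1a1d0f1208050207, nat_lit 0x33271f1d1f11071501052b, nat_lit 0x392f2719221a012602]) (by decide +kernel)

theorem yt_c59_le : grp 324 yt_c59_K ≤ (grp 324 y_E0) :=
  (z_le853.trans z_T111_s0.le)

theorem yt_c59_mem : Net.toPerm 324 z_g847 ∈ (grp 324 y_E0) :=
  yt_c59_le (mem_grp_of_memB z_hn z_hk yt_c59_K_ok z_g847_ok (w := (nat_lit 0x603010301)) (by decide +kernel))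

theorem yt_c59_sym : Sym 324 (grp 324 y_E0) [z_g847] yt_c59_K 0 :=
  Sym.of_lab z_hn z_hk (okE_cons.2 ⟨z_g847_ok, okE_nil _⟩) yt_c59_K_ok yt_c59_le (kT := 0) (by decide +kernel)

theorem z_le855 : grp 324 z_V854 ≤ grp 324 z_V825 :=
  grp_le_of_memB z_hn z_hk z_V825_ok z_V854_ok (ws := []) (by decide +kernel)

theorem z_T111_s127 : Stab 324 (grp 324 y_E0) [nat_lit 184, nat_lit 5, nat_lit 67, nat_lit 314, nat_lit 2, nat_lit 0] z_V854 1 :=
  Stab.step (k := 9) (L := (lab 324 9)) z_hn z_T111_s125 z_V854_ok z_le855 (c := Ch.nil) (by decide +kernel)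

noncomputable def z_T111_s127_O : ℕ := (nat_lit 0xfffffffffffffffff000000000000000000000000000000000000000000000000000000000000000000000000000000000ffffffffffffffffffffffffffffffff00000000000000000000000000000000f0000000000000000ffffffffffffffff0000000000000000ffffffffffffffff00000000000000000ffffffff00000000ffffffff00000000ffffffff00000000ffffffff00000000ffffffff000000000ffff0000ffff0000ffff0000ffff0000ffff0000ffff0000ffff0000ffff0000ffff0000ffff00000ff00ff00ff00ff00ff00ff00ff00ff00ff00ff00ff00ff00ff00ff00ff00ff00ff00ff00ff00ff000f0f0f0f0f0f0f0f0f0f0f0f0f0f0f0f0f0f0f0f0f0f0f0f0f0f0f0f0f0f0f0f0f0f0f0f0f0f0f0f0cccccccccccccccccccccccccccccccccccccccccccccccccccccccccccccccccccccccccccccccccaaaaaaaaaaaaaaaaaaaaaaaaaaaaaaaaaaaaaaaaaaaaaaaaaaaaaaaaaaaaaaaaaaaaaaaaaaaaaaaaa000000000000000000000000000000000000000000000000000000000000000000000000000000001000000000000000000000000000000000000000000000000000000000000000000000000000000004004000000000000000000000000000000000000000000000000000000000000000000000000000000000000000000000000000000000000000000000000000000000000000000000080000000000000000000000000000000000000000000000000000000000000000000000000000000000000000000000020000000000000000000000000000000000010000000000000000000000000000000000000000000000)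

theorem z_T111_s127_F : Frame 324 (grp 324 y_E0) 6 15 z_T111_s127_O 1 1 :=
  IsBase.frame z_T111_s127.isBase (by decide +kernel)

noncomputable def yt_c59_cnt_L : List ℕ := [1, 4, z_T111_s1_O, 0, 0, 3, 20, z_T111_s123_O, 0, 0, 4, 10, z_T111_s124_O, 0, 0, 5, 12, z_T111_s125_O, 0, 0, 6, 15, z_T111_s127_O, 1, 0]

theorem yt_c59_cnt_P : Prob 324 9 (grp 324 y_E0) yt_c59_cnt_EG [z_g847] [z_g847] yt_c59_K yt_c59_cnt_L 0 0 :=
  Sym.prob z_hn z_hk yt_c59_sym yt_c59_cnt_EG_ok (grp_cons_le z_g39_z_T111 (grp_cons_le zg1_z_T111 (grp_cons_le zg3_z_T111 (grp_cons_le z_g43_z_T111 (grp_cons_le z_g42_z_T111 (grp_cons_le zg2_z_T111 (grp_cons_le z_g44_z_T111 (grp_cons_le z_g54_z_T111 (grp_cons_le z_g55_z_T111 (grp_cons_le z_g49_z_T111 (grp_cons_le z_g50_z_T111 (grp_cons_le z_g51_z_T111 (grp_cons_le z_g62_z_T111 (grp_cons_le z_g58_z_T111 (grp_cons_le z_g59_z_T111 (grp_cons_le z_g65_z_T111 (grp_cons_le z_g66_z_T111 (grp_cons_le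 z_g67_z_T111 (grp_cons_le z_g77_z_T111 (grp_cons_le z_g78_z_T111 (grp_cons_le z_g72_z_T111 (grp_cons_le z_g73_z_T111 (grp_cons_le z_g74_z_T111 (grp_cons_le z_g81_z_T111 (grp_cons_le z_g82_z_T111 (grp_cons_le z_g87_z_T111 (grp_cons_le zg0_z_T111 (grp_cons_le z_g91_z_T111 (grp_cons_le z_g28_z_T111 (grp_cons_le z_g88_z_T111 (grp_cons_le z_g818_z_T111 (grp_cons_le z_g819_z_T111 (grp_cons_le z_g820_z_T111 (grp_cons_le z_g821_z_T111 (grp_nil_le _))))))))))))))))))))))))))))))))))) (Frames.cons z_T111_s1_F (Frames.cons z_T111_s123_F (Frames.cons z_T111_s124_F (Frames.cons z_T111_s125_F (Frames.cons z_T111_s127_F Frames.nil))))) (okE_cons.2 ⟨z_g847_ok, okE_nil _⟩) _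

noncomputable def yt_c59_cnt_t : BT := (BT.fix (nat_lit 65793) (BT.fix (nat_lit 1) (BT.dif (nat_lit 1) (nat_lit 0) (BT.br (nat_lit 0) (nat_lit 36) [nat_lit 1, nat_lit 3] (BT.kid (nat_lit 36) (nat_lit 108) (BT.dif (nat_lit 1) (nat_lit 0) (BT.frm (nat_lit 0) (nat_lit 66847) (nat_lit 66847) [nat_lit 1] (BT.pln (nat_lit 0) (nat_lit 3) (BT.dif (nat_lit 2) (nat_lit 0) (BT.br (nat_lit 0) (nat_lit 86) [nat_lit 3] (BT.kid (nat_lit 86) (nat_lit 18) (BT.img (nat_lit 1) (nat_lit 5) (BT.frm (nat_lit 1) (nat_lit 0xf181101051f) (nat_lit 0xf181101051f) [nat_lit 1, nat_lit 0, nat_lit 6] (BT.pln (nat_lit 0) (nat_lit 6) (BT.and (nat_lit 9) (nat_lit 0) (BT.br (nat_lit 0) (nat_lit 111) [nat_lit 5] (BT.kid (nat_lit 111) (nat_lit 6) (BT.dif (nat_lit 7) (nat_lit 13) (BT.frm (nat_lit 2) (nat_lit 0x3d400f181101051f) (nat_lit 0x3d400f181101051f) [nat_lit 1, nat_lit 6, nat_lit 5, nat_lit 11] (BT.pln (nat_lit 0) (nat_lit 4) (BT.dif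 (nat_lit 2) (nat_lit 0) (BT.br (nat_lit 0) (nat_lit 178) [nat_lit 7] (BT.kid (nat_lit 178) (nat_lit 3) (BT.pln (nat_lit 3) (nat_lit 5) (BT.dif (nat_lit 3) (nat_lit 0) (BT.pln (nat_lit 5) (nat_lit 6) (BT.dif (nat_lit 1) (nat_lit 0) (BT.pln (nat_lit 7) (nat_lit 7) (BT.dif (nat_lit 1) (nat_lit 0) (BT.dif (nat_lit 0) (nat_lit 18) (BT.frm (nat_lit 3) (nat_lit 0x3d400f181101051f) (nat_lit 0x3d400f181101051f) [nat_lit 7, nat_lit 12, nat_lit 17, nat_lit 16, nat_lit 22] (BT.pln (nat_lit 0) (nat_lit 5) (BT.dif (nat_lit 2) (nat_lit 0) (BT.br (nat_lit 0) (nat_lit 33) [nat_lit 9] (BT.dead (nat_lit 42) (BT.frm (nat_lit 4) (nat_lit 0x42443d400f181101051f) (nat_lit 0x41443d400f181101051f) [nat_lit 0, nat_lit 11, nat_lit 16, nat_lit 21, nat_lit 20, nat_lit 26] (BT.pln (nat_lit 0) (nat_lit 6) (BT.img (nat_lit 1) (nat_lit 2) (BT.img (nat_lit 1) (nat_lit 0) (BT.img (nat_lit 1) (nat_lit 0) (BT.and (nat_lit 3) (nat_lit 0) (BT.cnt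 (nat_lit 0)))))))) (BT.dead (nat_lit 45) (BT.frm (nat_lit 4) (nat_lit 0x42443d400f181101051f) (nat_lit 0x413d400f181101051f) [nat_lit 0, nat_lit 11, nat_lit 16, nat_lit 21, nat_lit 20, nat_lit 26] (BT.pln (nat_lit 0) (nat_lit 6) (BT.img (nat_lit 1) (nat_lit 2) (BT.and (nat_lit 1) (nat_lit 0) (BT.cnt (nat_lit 0)))))) (BT.kid (nat_lit 33) (nat_lit 1) (BT.one (nat_lit 4) (nat_lit 0x42443d400f181101051f) (nat_lit 0x42443d400f181101051f) [nat_lit 0, nat_lit 11, nat_lit 16, nat_lit 21, nat_lit 20, nat_lit 26]) BT.nil)))))))))))))) BT.nil)))))) BT.nil)))))) BT.nil)))))) BT.nil)))))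

theorem yt_c59_cnt : Cnt 324 (grp 324 y_E0) [z_g847] [z_g847] 0 0 0 0 972 :=
  BT.sound yt_c59_cnt_P Known.nil (t := yt_c59_cnt_t) (d := 0) (by decide +kernel)

theorem yt_c59_ge : 972 ≤ Nat.card (grp 324 yt_c59_K) :=
  Ch.le_card_grp (k := 9) (L := (lab 324 9)) z_hn yt_c59_K_ok (c := (Ch.cons (nat_lit 36) [nat_lit 1] (Ch.cons (nat_lit 86) [nat_lit 3] (Ch.cons (nat_lit 111) [nat_lit 5] (Ch.cons (nat_lit 178) [nat_lit 7] (Ch.cons (nat_lit 33) [nat_lit 9] Ch.nil)))))) (by decide +kernel)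

theorem yt_c59_eq : (grp 324 y_E0) ⊓ Subgroup.centralizer {Net.toPerm 324 z_g847} = grp 324 yt_c59_K :=
  cent_eq yt_c59_sym yt_c59_cnt yt_c59_ge

theorem yt_c59_card : Nat.card ↥((grp 324 y_E0) ⊓ Subgroup.centralizer {Net.toPerm 324 z_g847}) = 972 :=
  card_cent yt_c59_sym yt_c59_cnt yt_c59_ge

theorem yt_c59_ord : orderOf (Net.toPerm 324 z_g847) = 6 :=
  orderOf_net z_hn z_hk z_g847_ok (by decide) (ps := [2, 3]) (by set_option linter.unusedSimpArgs false in simp [Nat.primeFactorsList_ofNat]) (by decide +kernel)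

theorem z_le861 : grp 324 yt_c60_K ≤ grp 324 y_E0 :=
  grp_le_of_memB z_hn z_hk y_E0_ok yt_c60_K_ok (ws := [nat_lit 0x33353c2f2b1f19201a0f0707030b, nat_lit 0x33382f26281f191c12070c020c, nat_lit 0x1f0520, nat_lit 0x333927191e09031c, nat_lit 0x280527, nat_lit 0x251d1f012502]) (by decide +kernel)

theorem yt_c60_le : grp 324 yt_c60_K ≤ (grp 324 y_E0) :=
  (z_le861.trans z_T111_s0.le)

theorem yt_c60_mem : Net.toPerm 324 z_g856 ∈ (grp 324 y_E0) :=
  yt_c60_le (mem_grp_of_memB z_hn z_hk yt_c60_K_ok z_g856_ok (w := (nat_lit 0xc04010402)) (by decide +kernel))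

theorem yt_c60_sym : Sym 324 (grp 324 y_E0) [z_g856] yt_c60_K 0 :=
  Sym.of_lab z_hn z_hk (okE_cons.2 ⟨z_g856_ok, okE_nil _⟩) yt_c60_K_ok yt_c60_le (kT := 0) (by decide +kernel)

theorem z_le865 : grp 324 z_V864 ≤ grp 324 z_V201 :=
  grp_le_of_memB z_hn z_hk z_V201_ok z_V864_ok (ws := [nat_lit 4103, nat_lit 987396, nat_lit 0x150b05, nat_lit 0x11180b0204]) (by decide +kernel)

theorem z_T111_s128 : Stab 324 (grp 324 y_E0) [nat_lit 217, nat_lit 3, nat_lit 1, nat_lit 9, nat_lit 2, nat_lit 0] z_V864 36 :=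
  Stab.step (k := 9) (L := (lab 324 9)) z_hn z_T111_s23 z_V864_ok z_le865 (c := (Ch.cons (nat_lit 298) [nat_lit 1] (Ch.cons (nat_lit 28) [nat_lit 3, nat_lit 5, nat_lit 7] Ch.nil))) (by decide +kernel)

theorem z_T111_s129 : Stab 324 (grp 324 y_E0) [nat_lit 298, nat_lit 217, nat_lit 3, nat_lit 1, nat_lit 9, nat_lit 2, nat_lit 0] z_V866 18 :=
  Stab.step (k := 9) (L := (lab 324 9)) z_hn z_T111_s128 z_V866_ok (grp_mono (List.subset_append_right [z_g862] _)) (c := (Ch.cons (nat_lit 28) [nat_lit 1, nat_lit 3, nat_lit 5] Ch.nil)) (by decide +kernel)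

theorem z_T111_s130 : Stab 324 (grp 324 y_E0) [nat_lit 28, nat_lit 298, nat_lit 217, nat_lit 3, nat_lit 1, nat_lit 9, nat_lit 2, nat_lit 0] z_V867 1 :=
  Stab.step (k := 9) (L := (lab 324 9)) z_hn z_T111_s129 z_V867_ok (grp_mono (List.subset_append_right [z_g609, z_g307, z_g863] _)) (c := Ch.nil) (by decide +kernel)

theorem z_g862_z_T111 : Net.toPerm 324 z_g862 ∈ (grp 324 y_E0) :=
  z_T111_s128.le (toPerm_mem_grp (E := z_V864) (List.Mem.head _))

theorem z_g307_z_T111 : Net.toPerm 324 z_g307 ∈ (grp 324 y_E0) :=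
  z_T111_s128.le (toPerm_mem_grp (E := z_V864) (List.Mem.tail _ (List.Mem.tail _ (List.Mem.head _))))

theorem z_g863_z_T111 : Net.toPerm 324 z_g863 ∈ (grp 324 y_E0) :=
  z_T111_s128.le (toPerm_mem_grp (E := z_V864) (List.Mem.tail _ (List.Mem.tail _ (List.Mem.tail _ (List.Mem.head _)))))

noncomputable def z_T111_s130_O : ℕ := (nat_lit 0xfffffffffffffffff000000000000000000000000000000000000000000000000000000000000000000000000000000000ffffffffffffffffffffffffffffffff00000000000000000000000000000000f0000000000000000ffffffffffffffff0000000000000000ffffffffffffffff00000000000000000ffffffff00000000ffffffff00000000ffffffff00000000ffffffff00000000ffffffff000000000ffff0000ffff0000ffff0000ffff0000ffff0000ffff0000ffff0000ffff0000ffff0000ffff00000ff00ff00ff00ff00ff00ff00ff00ff00ff00ff00ff00ff00ff00ff00ff00ff00ff00ff00ff00ff000f0f0f0f0f0f0f0f0f0f0f0f0f0f0f0f0f0f0f0f0f0f0f0f0f0f0f0f0f0f0f0f0f0f0f0f0f0f0f0f0ccccccccc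ccccccccccccccccccccccccccccccccccccccccccccccccccccccccccccccccccccccccaaaaaaaaaaaaaaaaaaaaaaaaaaaaaaaaaaaaaaaaaaaaaaaaaaaaaaaaaaaaaaaaaaaaaaaaaaaaaaaaa000000000000000000000000000000000000000000000000000000000000000000000000000000001000000000000000000000000000000000000000000000000000000000000000000000000000000004000000000000000000000000000000000000000000000000000000000000000000000000000000200000000000000000000000000000000000000000000000000000000000000000000000000000000002000000000000000000000000000000000000000000000000000000000000000000000000000000008000000000000000000000000002000000000000000000000000000000000000000000000000000000000000400000000000000000000000000000000000000000000000000000000000000000000000000000000000000000000000000000000000000000000000000000000000000000000000000010000000)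

theorem z_T111_s130_F : Frame 324 (grp 324 y_E0) 8 17 z_T111_s130_O 1 1 :=
  IsBase.frame z_T111_s130.isBase (by decide +kernel)

noncomputable def z_T111_s129_O : ℕ := (nat_lit 0x1040000000000000000004000000000000000104000000000000000000000000000000000000000000000000000000000000000000000000000000000020000000000ffffdf07fbb879d1fdef99dafb761290b41c070260f21fb3869d1fdcd99f2e3c8b29bb21b00000000803f00094f7749bd6350fe3334b29718b4bbd91260f2eb0cbb24e9ebf67cdcf4d6ca30a64b60000008030d8095f4feabfd8d4f3c743415e74f9e07819980515f0ceeb3dac495c647415a30bac0e8f40708800cc609a97ba34fa7d97f97e5096ea7a878b00000009ad7f216da7d97f93f5320780a6b8d91260f2002a950000000000000000000000000000000000000000000000000000000000000000000000000000000001000000000000000000000000000000000000000000000000000000000000000000000000000000004000000000000000000000000000000000000000000000000000000000000000000000000000000200000000000000000000000000000000000000000000000000000000000000000000000000000000002000000000000000000000000000000000000000000000000000000000000000000000000000000008000000000000000000000000002000000000000000000000000000000000000000000000000000000000000400000000000000000000000000000000000000000000000000000000000000000000000000)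

theorem z_T111_s129_F : Frame 324 (grp 324 y_E0) 7 13 z_T111_s129_O 0 1 :=
  Stab.frame z_hn z_T111_s129 (by decide +kernel)

noncomputable def z_T111_s128_O : ℕ := (nat_lit 0x3fd8000000040000000000000001040000000000000000004000000000000000104020000000000fff00709fb7b6dddffddffd3e7401790b038900000009fb7b69ddffddffd3e7401690b03890000000000f07075f8cfab3d8e691ee4bc5da3cb8c76e10000075f8cfeb3d8e691ee4bc5db3cb8c76e100000000cc607a9b83141a5eb19baf9bea28fa41f070260f27a9b83141a5eb19baf9bea38ba61f070260f2802a950000000000000000000000000000000000000000000000000000000000000000000000000000000001000000000000000000000000000000000000000000000000000000000000000000000000000000004000000000000000000000000000000000000000000000000000000000000000000000000000000200000000000000000000000000000000000000000000000000000000000000000000000000000000002000000000000000000000000000000000000000000000000000000000000000000000000000000008000000000000000000000000002000000000000000000000000000000000000000000000000000000)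

theorem z_T111_s128_F : Frame 324 (grp 324 y_E0) 6 11 z_T111_s128_O 0 1 :=
  Stab.frame z_hn z_T111_s128 (by decide +kernel)

noncomputable def yt_c60_cnt_L : List ℕ := [1, 4, z_T111_s1_O, 0, 0, 2, 6, z_T111_s20_O, 0, 0, 4, 19, z_T111_s22_O, 0, 0, 6, 11, z_T111_s128_O, 0, 0, 7, 13, z_T111_s129_O, 0, 0, 8, 17, z_T111_s130_O, 1, 0]

theorem yt_c60_cnt_P : Prob 324 9 (grp 324 y_E0) yt_c60_cnt_EG [z_g856] [z_g856] yt_c60_K yt_c60_cnt_L 0 0 :=
  Sym.prob z_hn z_hk yt_c60_sym yt_c60_cnt_EG_ok (grp_cons_le z_g39_z_T111 (grp_cons_le zg1_z_T111 (grp_cons_le zg3_z_T111 (grp_cons_le z_g43_z_T111 (grp_cons_le z_g42_z_T111 (grp_cons_le zg2_z_T111 (grp_cons_le z_g44_z_T111 (grp_cons_le z_g54_z_T111 (grp_cons_le z_g55_z_T111 (grp_cons_le z_g49_z_T111 (grp_cons_le z_g50_z_T111 (grp_cons_le z_g51_z_T111 (grp_cons_le z_g62_z_T111 (grp_cons_le z_g58_z_T111 (grp_cons_le z_g59_z_T111 (grp_cons_le z_g65_z_T111 (grp_cons_le z_g66_z_T111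 (grp_cons_le z_g67_z_T111 (grp_cons_le z_g77_z_T111 (grp_cons_le z_g78_z_T111 (grp_cons_le z_g72_z_T111 (grp_cons_le z_g73_z_T111 (grp_cons_le z_g74_z_T111 (grp_cons_le z_g81_z_T111 (grp_cons_le z_g82_z_T111 (grp_cons_le z_g87_z_T111 (grp_cons_le zg0_z_T111 (grp_cons_le z_g91_z_T111 (grp_cons_le z_g28_z_T111 (grp_cons_le z_g88_z_T111 (grp_cons_le z_g862_z_T111 (grp_cons_le z_g609_z_T111 (grp_cons_le z_g307_z_T111 (grp_cons_le z_g863_z_T111 (grp_nil_le _))))))))))))))))))))))))))))))))))) (Frames.cons z_T111_s1_F (Frames.cons z_T111_s20_F (Frames.cons z_T111_s22_F (Frames.cons z_T111_s128_F (Frames.cons z_T111_s129_F (Frames.cons z_T111_s130_F Frames.nil)))))) (okE_cons.2 ⟨z_g856_ok, okE_nil _⟩) _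

noncomputable def yt_c60_cnt_t : BT := (BT.fix (nat_lit 65793) (BT.fix (nat_lit 1) (BT.dif (nat_lit 1) (nat_lit 0) (BT.br (nat_lit 0) (nat_lit 54) [nat_lit 1, nat_lit 3] (BT.kid (nat_lit 54) (nat_lit 72) (BT.img (nat_lit 1) (nat_lit 0) (BT.frm (nat_lit 1) (nat_lit 524565) (nat_lit 524565) [nat_lit 0, nat_lit 1] (BT.pln (nat_lit 0) (nat_lit 4) (BT.and (nat_lit 4) (nat_lit 0) (BT.br (nat_lit 0) (nat_lit 111) [nat_lit 3] (BT.kid (nat_lit 111) (nat_lit 24) (BT.frm (nat_lit 0) (nat_lit 277) (nat_lit 277) [nat_lit 5] (BT.pln (nat_lit 0) (nat_lit 2) (BT.dif (nat_lit 0) (nat_lit 10) (BT.fix (nat_lit 257) (BT.dif (nat_lit 1) (nat_lit 0) (BT.br (nat_lit 0) (nat_lit 123) [nat_lit 5, nat_lit 7] (BT.dead (nat_lit 295) (BT.frm (nat_lit 2) (nat_lit 0x19210f080115) (nat_lit 0x19221a0f080115) [nat_lit 0, nat_lit 6, nat_lit 10, nat_lit 11] (BT.pln (nat_lit 0) (nat_lit 7) (BT.and (nat_lit 0) (nat_lit 15) (BT.cnt (nat_lit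 0))))) (BT.dead (nat_lit 283) (BT.frm (nat_lit 2) (nat_lit 0x19210f080115) (nat_lit 0x191f0f080115) [nat_lit 0, nat_lit 6, nat_lit 10, nat_lit 11] (BT.pln (nat_lit 0) (nat_lit 10) (BT.img (nat_lit 1) (nat_lit 2) (BT.and (nat_lit 1) (nat_lit 0) (BT.cnt (nat_lit 0)))))) (BT.dead (nat_lit 126) (BT.frm (nat_lit 2) (nat_lit 0x19210f080115) (nat_lit 0x191c0f080115) [nat_lit 0, nat_lit 6, nat_lit 10, nat_lit 11] (BT.pln (nat_lit 0) (nat_lit 7) (BT.and (nat_lit 0) (nat_lit 15) (BT.cnt (nat_lit 0))))) (BT.dead (nat_lit 136) (BT.frm (nat_lit 2) (nat_lit 0x19210f080115) (nat_lit 0x1d0f080115) [nat_lit 0, nat_lit 6, nat_lit 10, nat_lit 11] (BT.pln (nat_lit 0) (nat_lit 7) (BT.and (nat_lit 0) (nat_lit 15) (BT.cnt (nat_lit 0))))) (BT.dead (nat_lit 246) (BT.frm (nat_lit 2) (nat_lit 0x19210f080115) (nat_lit 0x1b0f080115) [nat_lit 0, nat_lit 6, nat_lit 10, nat_lit 11] (BT.pln (nat_lit 0) (nat_lit 10) (BT.and (nat_lit 0) (nat_lit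 15) (BT.cnt (nat_lit 0))))) (BT.kid (nat_lit 123) (nat_lit 12) (BT.dif (nat_lit 1) (nat_lit 0) (BT.img (nat_lit 1) (nat_lit 1) (BT.dif (nat_lit 1) (nat_lit 0) (BT.frm (nat_lit 2) (nat_lit 0x19210f080115) (nat_lit 0x19210f080115) [nat_lit 3, nat_lit 9, nat_lit 13, nat_lit 14] (BT.pln (nat_lit 0) (nat_lit 8) (BT.and (nat_lit 2) (nat_lit 0) (BT.and (nat_lit 19) (nat_lit 1) (BT.img (nat_lit 1) (nat_lit 5) (BT.frm (nat_lit 3) (nat_lit 0x251f19210f080115) (nat_lit 0x251f19210f080115) [nat_lit 1, nat_lit 0, nat_lit 8, nat_lit 14, nat_lit 18, nat_lit 19] (BT.pln (nat_lit 0) (nat_lit 8) (BT.and (nat_lit 4) (nat_lit 0) (BT.br (nat_lit 0) (nat_lit 295) [nat_lit 7] (BT.kid (nat_lit 295) (nat_lit 6) (BT.dif (nat_lit 29) (nat_lit 2) (BT.pln (nat_lit 4) (nat_lit 6) (BT.dif (nat_lit 1) (nat_lit 0) (BT.pln (nat_lit 6) (nat_lit 7) (BT.dif (nat_lit 1) (nat_lit 0) (BT.dif (nat_lit 0) (nat_lit 19) (BT.dif (nat_lit 0) (nat_lit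 32) (BT.dif (nat_lit 0) (nat_lit 23) (BT.frm (nat_lit 4) (nat_lit 0x3d251f19210f080115) (nat_lit 0x3d251f19210f080115) [nat_lit 8, nat_lit 13, nat_lit 12, nat_lit 20, nat_lit 26, nat_lit 30, nat_lit 31] (BT.pln (nat_lit 0) (nat_lit 8) (BT.dif (nat_lit 2) (nat_lit 0) (BT.br (nat_lit 0) (nat_lit 160) [nat_lit 9, nat_lit 11] (BT.dead (nat_lit 110) (BT.frm (nat_lit 5) (nat_lit 0x3f42433d251f19210f080115) (nat_lit 0x40423d251f19210f080115) [nat_lit 0, nat_lit 12, nat_lit 17, nat_lit 16, nat_lit 24, nat_lit 30, nat_lit 34, nat_lit 35] (BT.pln (nat_lit 0) (nat_lit 8) (BT.and (nat_lit 0) (nat_lit 39) (BT.cnt (nat_lit 0))))) (BT.kid (nat_lit 160) (nat_lit 1) (BT.one (nat_lit 5) (nat_lit 0x3f42433d251f19210f080115) (nat_lit 0x3f42433d251f19210f080115) [nat_lit 0, nat_lit 12, nat_lit 17, nat_lit 16, nat_lit 24, nat_lit 30, nat_lit 34, nat_lit 35]) BT.nil)))))))))))))) BT.nil))))))))))))) BT.nil)))))))))))) BT.nil))))))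 BT.nil)))))

theorem yt_c60_cnt : Cnt 324 (grp 324 y_E0) [z_g856] [z_g856] 0 0 0 0 864 :=
  BT.sound yt_c60_cnt_P Known.nil (t := yt_c60_cnt_t) (d := 0) (by decide +kernel)

theorem yt_c60_ge : 864 ≤ Nat.card (grp 324 yt_c60_K) :=
  Ch.le_card_grp (k := 9) (L := (lab 324 9)) z_hn yt_c60_K_ok (c := (Ch.cons (nat_lit 54) [nat_lit 1] (Ch.cons (nat_lit 111) [nat_lit 3] (Ch.cons (nat_lit 123) [nat_lit 5] (Ch.cons (nat_lit 295) [nat_lit 7] (Ch.cons (nat_lit 160) [nat_lit 9, nat_lit 11] Ch.nil)))))) (by decide +kernel)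

theorem yt_c60_eq : (grp 324 y_E0) ⊓ Subgroup.centralizer {Net.toPerm 324 z_g856} = grp 324 yt_c60_K :=
  cent_eq yt_c60_sym yt_c60_cnt yt_c60_ge

theorem yt_c60_card : Nat.card ↥((grp 324 y_E0) ⊓ Subgroup.centralizer {Net.toPerm 324 z_g856}) = 864 :=
  card_cent yt_c60_sym yt_c60_cnt yt_c60_ge

theorem yt_c60_ord : orderOf (Net.toPerm 324 z_g856) = 6 :=
  orderOf_net z_hn z_hk z_g856_ok (by decide) (ps := [2, 3]) (by set_option linter.unusedSimpArgs false in simp [Nat.primeFactorsList_ofNat]) (by decide +kernel)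

theorem z_le875 : grp 324 yt_c61_K ≤ grp 324 y_E0 :=
  grp_le_of_memB z_hn z_hk y_E0_ok yt_c61_K_ok (ws := [nat_lit 0x3335271f1a1e11071501031b, nat_lit 0x34392f25281f1a07010512, nat_lit 0x2f2b1b1a110126, nat_lit 0x33352f2519201c0f010e33, nat_lit 0x343526281f1d012502, nat_lit 0x39281b1a0f12071501070c, nat_lit 0x3525191c013b02]) (by decide +kernel)

theorem yt_c61_le : grp 324 yt_c61_K ≤ (grp 324 y_E0) :=
  (z_le875.trans z_T111_s0.le)

theorem yt_c61_mem : Net.toPerm 324 z_g868 ∈ (grp 324 y_E0) :=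
  yt_c61_le (mem_grp_of_memB z_hn z_hk yt_c61_K_ok z_g868_ok (w := (nat_lit 0xa0b070401)) (by decide +kernel))

theorem yt_c61_sym : Sym 324 (grp 324 y_E0) [z_g868] yt_c61_K 0 :=
  Sym.of_lab z_hn z_hk (okE_cons.2 ⟨z_g868_ok, okE_nil _⟩) yt_c61_K_ok yt_c61_le (kT := 0) (by decide +kernel)

theorem z_le879 : grp 324 z_V878 ≤ grp 324 z_V235 :=
  grp_le_of_memB z_hn z_hk z_V235_ok z_V878_ok (ws := [nat_lit 1538, nat_lit 0x5010502, nat_lit 257, nat_lit 0x5070203]) (by decide +kernel)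

theorem z_T111_s131 : Stab 324 (grp 324 y_E0) [nat_lit 22, nat_lit 16, nat_lit 1, nat_lit 9, nat_lit 2, nat_lit 0] z_V878 36 :=
  Stab.step (k := 9) (L := (lab 324 9)) z_hn z_T111_s29 z_V878_ok z_le879 (c := (Ch.cons (nat_lit 19) [nat_lit 1] (Ch.cons (nat_lit 107) [nat_lit 3, nat_lit 5, nat_lit 7] Ch.nil))) (by decide +kernel)

theorem z_T111_s132 : Stab 324 (grp 324 y_E0) [nat_lit 19, nat_lit 22, nat_lit 16, nat_lit 1, nat_lit 9, nat_lit 2, nat_lit 0] z_V880 18 :=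
  Stab.step (k := 9) (L := (lab 324 9)) z_hn z_T111_s131 z_V880_ok (grp_mono (List.subset_append_right [z_g876] _)) (c := (Ch.cons (nat_lit 107) [nat_lit 1, nat_lit 3, nat_lit 5] Ch.nil)) (by decide +kernel)

theorem z_T111_s133 : Stab 324 (grp 324 y_E0) [nat_lit 107, nat_lit 19, nat_lit 22, nat_lit 16, nat_lit 1, nat_lit 9, nat_lit 2, nat_lit 0] z_V881 1 :=
  Stab.step (k := 9) (L := (lab 324 9)) z_hn z_T111_s132 z_V881_ok (grp_mono (List.subset_append_right [z_g877, z_g656, z_g567] _)) (c := Ch.nil) (by decide +kernel)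

theorem z_g876_z_T111 : Net.toPerm 324 z_g876 ∈ (grp 324 y_E0) :=
  z_T111_s131.le (toPerm_mem_grp (E := z_V878) (List.Mem.head _))

theorem z_g877_z_T111 : Net.toPerm 324 z_g877 ∈ (grp 324 y_E0) :=
  z_T111_s131.le (toPerm_mem_grp (E := z_V878) (List.Mem.tail _ (List.Mem.head _)))

noncomputable def z_T111_s133_O : ℕ := (nat_lit 0xfffffffffffffffff000000000000000000000000000000000000000000000000000000000000000000000000000000000ffffffffffffffffffffffffffffffff00000000000000000000000000000000f0000000000000000ffffffffffffffff0000000000000000ffffffffffffffff00000000000000000ffffffff00000000ffffffff00000000ffffffff00000000ffffffff00000000ffffffff000000000ffff0000ffff0000ffff0000ffff0000ffff0000ffff0000ffff0000ffff0000ffff0000ffff00000ff00ff00ff00ff00ff00ff00ff00ff00ff00ff00ff00ff00ff00ff00ff00ff00ff00ff00ff00ff000f0f0f0f0f0f0f0f0f0f0f0f0f0f0f0f0f0f0f0f0f0f0f0f0f0f0f0f0f0f0f0f0f0f0f0f0f0f0f0f0cccccccccccccc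cccccccccccccccccccccccccccccccccccccccccccccccccccccccccccccccccccaaaaaaaaaaaaaaaaaaaaaaaaaaaaaaaaaaaaaaaaaaaaaaaaaaaaaaaaaaaaaaaaaaaaaaaaaaaaaaaaa000000000000000000000000000000000000000000000000000000000000000000000000000000001000000000000000000000000000000000000000000000000000000000000000000000000000000004000000000000000000000000000000000000000000000000000000000000000000000000000000200000000000000000000000000000000000000000000000000000000000000000000000000000000002000000000000000000000000000000000000000000000000000000000000000000000000000010000000000000000000000000000000000000000000000000000000000000000000000000000000400000000000000000000000000000000000000000000000000000000000000000000000000000000080000000000000000000000000000000000000000000000000000000000800000000000000000000000000)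

theorem z_T111_s133_F : Frame 324 (grp 324 y_E0) 8 17 z_T111_s133_O 1 1 :=
  IsBase.frame z_T111_s133.isBase (by decide +kernel)

noncomputable def z_T111_s132_O : ℕ := (nat_lit 0x7a0000000000040000000000000001040200000000000000004000000000000000104020000000000816fdf89fb3c6bdbfddd9fd3e7405e90b858e00000009fb3c6bdbfddd9fd3e7405e90b858e0000000016f80075fcbf8b5dae6f1ee4bc59238b0a71e10000075fcbf8b5dae6f1ee4bc59238b0a71e10000041685c01a1fb39542f4bf95af2eeb0d3053a14cc06881a1fb39542f4bf95af2eeb0d3053a14cc06883146530f894b200da6f87fb37d3a268ba435930260f2f894b200da6f87fb37d3a268ba435930260f229254a8000000000000000000000000000000000000000000000000000000000000000000000000000000001000000000000000000000000000000000000000000000000000000000000000000000000000000004000000000000000000000000000000000000000000000000000000000000000000000000000000200000000000000000000000000000000000000000000000000000000000000000000000000000000002000000000000000000000000000000000000000000000000000000000000000000000000000010000000000000000000000000000000000000000000000000000000000000000000000000000000400000000000000000000000000000000000000000000000000000000000000000000000000000000080000)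

theorem z_T111_s132_F : Frame 324 (grp 324 y_E0) 7 13 z_T111_s132_O 0 1 :=
  Stab.frame z_hn z_T111_s132 (by decide +kernel)

noncomputable def yt_c61_cnt_L : List ℕ := [1, 4, z_T111_s1_O, 0, 0, 3, 11, z_T111_s21_O, 0, 0, 4, 19, z_T111_s22_O, 0, 0, 7, 13, z_T111_s132_O, 0, 0, 8, 17, z_T111_s133_O, 1, 0]

theorem yt_c61_cnt_P : Prob 324 9 (grp 324 y_E0) yt_c61_cnt_EG [z_g868] [z_g868] yt_c61_K yt_c61_cnt_L 0 0 :=
  Sym.prob z_hn z_hk yt_c61_sym yt_c61_cnt_EG_ok (grp_cons_le z_g39_z_T111 (grp_cons_le zg1_z_T111 (grp_cons_le zg3_z_T111 (grp_cons_le z_g43_z_T111 (grp_cons_le z_g42_z_T111 (grp_cons_le zg2_z_T111 (grp_cons_le z_g44_z_T111 (grp_cons_le z_g54_z_T111 (grp_cons_le z_g55_z_T111 (grp_cons_le z_g49_z_T111 (grp_cons_le z_g50_z_T111 (grp_cons_le z_g51_z_T111 (grp_cons_le z_g62_z_T111 (grp_cons_le z_g58_z_T111 (grp_cons_le z_g59_z_T111 (grp_cons_le z_g65_z_T111 (grp_cons_le z_g66_z_T111 (grp_cons_le z_g67_z_T111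 (grp_cons_le z_g77_z_T111 (grp_cons_le z_g78_z_T111 (grp_cons_le z_g72_z_T111 (grp_cons_le z_g73_z_T111 (grp_cons_le z_g74_z_T111 (grp_cons_le z_g81_z_T111 (grp_cons_le z_g82_z_T111 (grp_cons_le z_g87_z_T111 (grp_cons_le zg0_z_T111 (grp_cons_le z_g91_z_T111 (grp_cons_le z_g28_z_T111 (grp_cons_le z_g88_z_T111 (grp_cons_le z_g876_z_T111 (grp_cons_le z_g877_z_T111 (grp_cons_le z_g656_z_T111 (grp_cons_le z_g567_z_T111 (grp_cons_le z_g231_z_T111 (grp_cons_le z_g232_z_T111 (grp_cons_le z_g233_z_T111 (grp_cons_le z_g234_z_T111 (grp_nil_le _))))))))))))))))))))))))))))))))))))))) (Frames.cons z_T111_s1_F (Frames.cons z_T111_s21_F (Frames.cons z_T111_s22_F (Frames.cons z_T111_s132_F (Frames.cons z_T111_s133_F Frames.nil))))) (okE_cons.2 ⟨z_g868_ok, okE_nil _⟩) _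

noncomputable def yt_c61_cnt_t : BT := (BT.fix (nat_lit 257) (BT.fix (nat_lit 1) (BT.dif (nat_lit 1) (nat_lit 0) (BT.br (nat_lit 0) (nat_lit 213) [nat_lit 1] (BT.kid (nat_lit 213) (nat_lit 324) (BT.frm (nat_lit 0) (nat_lit 295) (nat_lit 295) [nat_lit 0] (BT.pln (nat_lit 0) (nat_lit 3) (BT.dif (nat_lit 0) (nat_lit 5) (BT.br (nat_lit 0) (nat_lit 290) [nat_lit 3] (BT.dead (nat_lit 269) (BT.pln (nat_lit 3) (nat_lit 2) (BT.dif (nat_lit 7) (nat_lit 0) (BT.frm (nat_lit 1) (nat_lit 0xf120127) (nat_lit 295) [nat_lit 2, nat_lit 0, nat_lit 6] (BT.pln (nat_lit 0) (nat_lit 5) (BT.img (nat_lit 1) (nat_lit 4) (BT.and (nat_lit 1) (nat_lit 0) (BT.cnt (nat_lit 0)))))))) (BT.kid (nat_lit 290) (nat_lit 108) (BT.dif (nat_lit 6) (nat_lit 2) (BT.br (nat_lit 0) (nat_lit 117) [nat_lit 5, nat_lit 7] (BT.dead (nat_lit 66) (BT.pln (nat_lit 5) (nat_lit 2) (BT.dif (nat_lit 9) (nat_lit 0) (BT.frm (nat_lit 2) (nat_lit 0x190f120127) (nat_lit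 0x1c0f120127) [nat_lit 2, nat_lit 4, nat_lit 0, nat_lit 8] (BT.pln (nat_lit 0) (nat_lit 7) (BT.and (nat_lit 0) (nat_lit 12) (BT.cnt (nat_lit 0))))))) (BT.kid (nat_lit 117) (nat_lit 36) (BT.pln (nat_lit 5) (nat_lit 2) (BT.dif (nat_lit 9) (nat_lit 0) (BT.frm (nat_lit 2) (nat_lit 0x190f120127) (nat_lit 0x190f120127) [nat_lit 2, nat_lit 4, nat_lit 0, nat_lit 8] (BT.pln (nat_lit 0) (nat_lit 12) (BT.and (nat_lit 3) (nat_lit 0) (BT.br (nat_lit 0) (nat_lit 143) [nat_lit 7] (BT.kid (nat_lit 143) (nat_lit 18) (BT.dif (nat_lit 5) (nat_lit 14) (BT.pln (nat_lit 4) (nat_lit 7) (BT.and (nat_lit 1) (nat_lit 0) (BT.br (nat_lit 0) (nat_lit 306) [nat_lit 9, nat_lit 11] (BT.kid (nat_lit 306) (nat_lit 3) (BT.pln (nat_lit 7) (nat_lit 6) (BT.img (nat_lit 1) (nat_lit 1) (BT.frm (nat_lit 3) (nat_lit 0x190f120127) (nat_lit 0x190f120127) [nat_lit 0, nat_lit 2, nat_lit 6, nat_lit 12, nat_lit 14, nat_lit 10, nat_lit 18] (BT.pln (nat_lit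 0) (nat_lit 7) (BT.dif (nat_lit 3) (nat_lit 0) (BT.br (nat_lit 0) (nat_lit 18) [nat_lit 13] (BT.dead (nat_lit 58) (BT.frm (nat_lit 4) (nat_lit 0x42190f120127) (nat_lit 0x404143190f120127) [nat_lit 0, nat_lit 4, nat_lit 6, nat_lit 10, nat_lit 16, nat_lit 18, nat_lit 14, nat_lit 22] (BT.pln (nat_lit 0) (nat_lit 8) (BT.img (nat_lit 1) (nat_lit 2) (BT.img (nat_lit 1) (nat_lit 0) (BT.img (nat_lit 1) (nat_lit 0) (BT.img (nat_lit 1) (nat_lit 0) (BT.and (nat_lit 4) (nat_lit 0) (BT.cnt (nat_lit 0))))))))) (BT.dead (nat_lit 235) (BT.frm (nat_lit 4) (nat_lit 0x42190f120127) (nat_lit 0x3f43190f120127) [nat_lit 0, nat_lit 4, nat_lit 6, nat_lit 10, nat_lit 16, nat_lit 18, nat_lit 14, nat_lit 22] (BT.pln (nat_lit 0) (nat_lit 8) (BT.img (nat_lit 1) (nat_lit 2) (BT.img (nat_lit 1) (nat_lit 0) (BT.img (nat_lit 1) (nat_lit 0) (BT.img (nat_lit 1) (nat_lit 0) (BT.img (nat_lit 1) (nat_lit 0) (BT.and (nat_lit 5) (nat_lit 0) (BT.cnt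 (nat_lit 0)))))))))) (BT.dead (nat_lit 158) (BT.frm (nat_lit 4) (nat_lit 0x42190f120127) (nat_lit 0x4143190f120127) [nat_lit 0, nat_lit 4, nat_lit 6, nat_lit 10, nat_lit 16, nat_lit 18, nat_lit 14, nat_lit 22] (BT.pln (nat_lit 0) (nat_lit 8) (BT.img (nat_lit 1) (nat_lit 2) (BT.img (nat_lit 1) (nat_lit 0) (BT.and (nat_lit 2) (nat_lit 0) (BT.cnt (nat_lit 0))))))) (BT.dead (nat_lit 23) (BT.frm (nat_lit 4) (nat_lit 0x42190f120127) (nat_lit 0x3f42190f120127) [nat_lit 0, nat_lit 4, nat_lit 6, nat_lit 10, nat_lit 16, nat_lit 18, nat_lit 14, nat_lit 22] (BT.pln (nat_lit 0) (nat_lit 8) (BT.img (nat_lit 1) (nat_lit 2) (BT.img (nat_lit 1) (nat_lit 0) (BT.and (nat_lit 2) (nat_lit 0) (BT.cnt (nat_lit 0))))))) (BT.dead (nat_lit 19) (BT.frm (nat_lit 4) (nat_lit 0x42190f120127) (nat_lit 0x4042190f120127) [nat_lit 0, nat_lit 4, nat_lit 6, nat_lit 10, nat_lit 16, nat_lit 18, nat_lit 14, nat_lit 22] (BT.pln (nat_lit 0) (nat_lit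 8) (BT.img (nat_lit 1) (nat_lit 2) (BT.and (nat_lit 1) (nat_lit 0) (BT.cnt (nat_lit 0)))))) (BT.kid (nat_lit 18) (nat_lit 1) (BT.one (nat_lit 4) (nat_lit 0x42190f120127) (nat_lit 0x42190f120127) [nat_lit 0, nat_lit 4, nat_lit 6, nat_lit 10, nat_lit 16, nat_lit 18, nat_lit 14, nat_lit 22]) BT.nil)))))))))))) BT.nil))))) BT.nil))))))) BT.nil)))) BT.nil)))))) BT.nil)))))

theorem yt_c61_cnt : Cnt 324 (grp 324 y_E0) [z_g868] [z_g868] 0 0 0 0 648 :=
  BT.sound yt_c61_cnt_P Known.nil (t := yt_c61_cnt_t) (d := 0) (by decide +kernel)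

theorem yt_c61_ge : 648 ≤ Nat.card (grp 324 yt_c61_K) :=
  Ch.le_card_grp (k := 9) (L := (lab 324 9)) z_hn yt_c61_K_ok (c := (Ch.cons (nat_lit 213) [nat_lit 1] (Ch.cons (nat_lit 290) [nat_lit 3] (Ch.cons (nat_lit 117) [nat_lit 5] (Ch.cons (nat_lit 143) [nat_lit 7] (Ch.cons (nat_lit 306) [nat_lit 9, nat_lit 11] (Ch.cons (nat_lit 18) [nat_lit 13] Ch.nil))))))) (by decide +kernel)

theorem yt_c61_eq : (grp 324 y_E0) ⊓ Subgroup.centralizer {Net.toPerm 324 z_g868} = grp 324 yt_c61_K :=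
  cent_eq yt_c61_sym yt_c61_cnt yt_c61_ge

theorem yt_c61_card : Nat.card ↥((grp 324 y_E0) ⊓ Subgroup.centralizer {Net.toPerm 324 z_g868}) = 648 :=
  card_cent yt_c61_sym yt_c61_cnt yt_c61_ge

theorem yt_c61_ord : orderOf (Net.toPerm 324 z_g868) = 6 :=
  orderOf_net z_hn z_hk z_g868_ok (by decide) (ps := [2, 3]) (by set_option linter.unusedSimpArgs false in simp [Nat.primeFactorsList_ofNat]) (by decide +kernel)

theorem z_le889 : grp 324 yt_c62_K ≤ grp 324 y_E0 :=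
  grp_le_of_memB z_hn z_hk y_E0_ok yt_c62_K_ok (ws := [nat_lit 0x34352f29191b1b, nat_lit 0x33251d1f0f12013c02, nat_lit 0x35382b1f1b1a, nat_lit 0x382628191c, nat_lit 0x332f1f, nat_lit 0x3c252819201a]) (by decide +kernel)

theorem yt_c62_le : grp 324 yt_c62_K ≤ (grp 324 y_E0) :=
  (z_le889.trans z_T111_s0.le)

theorem yt_c62_mem : Net.toPerm 324 z_g882 ∈ (grp 324 y_E0) :=
  yt_c62_le (mem_grp_of_memB z_hn z_hk yt_c62_K_ok z_g882_ok (w := (nat_lit 0x7090503)) (by decide +kernel))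

theorem yt_c62_sym : Sym 324 (grp 324 y_E0) [z_g882] yt_c62_K 0 :=
  Sym.of_lab z_hn z_hk (okE_cons.2 ⟨z_g882_ok, okE_nil _⟩) yt_c62_K_ok yt_c62_le (kT := 0) (by decide +kernel)

theorem z_le892 : grp 324 z_V891 ≤ grp 324 z_V140 :=
  grp_le_of_memB z_hn z_hk z_V140_ok z_V891_ok (ws := [nat_lit 2563, nat_lit 658178]) (by decide +kernel)

theorem z_T111_s134 : Stab 324 (grp 324 y_E0) [nat_lit 70, nat_lit 13, nat_lit 27, nat_lit 84, nat_lit 298, nat_lit 0] z_V891 9 :=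
  Stab.step (k := 9) (L := (lab 324 9)) z_hn z_T111_s5 z_V891_ok z_le892 (c := (Ch.cons (nat_lit 254) [nat_lit 1, nat_lit 3] Ch.nil)) (by decide +kernel)

theorem z_T111_s135 : Stab 324 (grp 324 y_E0) [nat_lit 254, nat_lit 70, nat_lit 13, nat_lit 27, nat_lit 84, nat_lit 298, nat_lit 0] z_V893 1 :=
  Stab.step (k := 9) (L := (lab 324 9)) z_hn z_T111_s134 z_V893_ok (grp_mono (List.subset_append_right [z_g890, z_g888] _)) (c := Ch.nil) (by decide +kernel)

theorem z_g890_z_T111 : Net.toPerm 324 z_g890 ∈ (grp 324 y_E0) :=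
  z_T111_s134.le (toPerm_mem_grp (E := z_V891) (List.Mem.head _))

theorem z_g888_z_T111 : Net.toPerm 324 z_g888 ∈ (grp 324 y_E0) :=
  z_T111_s134.le (toPerm_mem_grp (E := z_V891) (List.Mem.tail _ (List.Mem.head _)))

noncomputable def z_T111_s135_O : ℕ := (nat_lit 0xfffffffffffffffff000000000000000000000000000000000000000000000000000000000000000000000000000000000ffffffffffffffffffffffffffffffff00000000000000000000000000000000f0000000000000000ffffffffffffffff0000000000000000ffffffffffffffff00000000000000000ffffffff00000000ffffffff00000000ffffffff00000000ffffffff00000000ffffffff000000000ffff0000ffff0000ffff0000ffff0000ffff0000ffff0000ffff0000ffff0000ffff0000ffff00000ff00ff00ff00ff00ff00ff00ff00ff00ff00ff00ff00ff00ff00ff00ff00ff00ff00ff00ff00ff000f0f0f0f0f0f0f0f0f0f0f0f0f0f0f0f0f0f0f0f0f0f0f0f0f0f0f0f0f0f0f0f0f0f0f0f0f0f0f0f0ccccccccccccccccccccccccccccccccccccccccccccccccccccccccccccccccccccccccccccccccc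aaaaaaaaaaaaaaaaaaaaaaaaaaaaaaaaaaaaaaaaaaaaaaaaaaaaaaaaaaaaaaaaaaaaaaaaaaaaaaaaa000000000000000000000000000000000000000000000000000000000000000000000000000000001000000400000000000000000000000000000000000000000000000000000000000000000000000000000000000000000000000000000000000000000000000000000000000001000000000000000000000000000000000000000000000000000000000000000000000000000000000000000000000008000000000000000000000000000000000000000000000000000000000000000000000000000000000002000000000000000000000000000000000000000000000000000000000000000000400000000000000000000000000000000004000000000000000000000000000000000000000000000000000000000000000)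

theorem z_T111_s135_F : Frame 324 (grp 324 y_E0) 7 16 z_T111_s135_O 1 1 :=
  IsBase.frame z_T111_s135.isBase (by decide +kernel)

noncomputable def z_T111_s134_O : ℕ := (nat_lit 0x102a21470700008000000000000000000000000000000000000000000000000000000000000000000000000000000004c068800000040000000000102a2047030000cc06880020aa015f7b69b5f9c4fdd267501210b0b8995e66fa9fb08ecd9dedd93c7d36b36f6b000000000000000014fe3ff73ce477b730bd83e6d80186c774e66fa1317f274633457d32e480c8090b7bf0cc040000000146a8c39855242bec3cbcb592ffe037974ffc77e84b01128afba0af93bee8489039f0eb0038800200148ee086afb4c198361c2cadedcbec328780380711b49910b9e69cde3f753071421cc74bfaf70000a148ceb4d1a9c59a068d159da6e2b58acd56627a83c80926bb0970e9db59dee25a9d2ad56627a7fc0890000000000000000000000000000000000000000000000000000000000000000000000000000000001000000400000000000000000000000000000000000000000000000000000000000000000000000000000000000000000000000000000000000000000000000000000000000001000000000000000000000000000000000000000000000000000000000000000000000000000000000000000000000008000000000000000000000000000000000000000000000000000000000000000000000000000000000002000000000000000000000000000000000000000000000000000000000000000000400000000000000000)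

theorem z_T111_s134_F : Frame 324 (grp 324 y_E0) 6 13 z_T111_s134_O 0 1 :=
  Stab.frame z_hn z_T111_s134 (by decide +kernel)

noncomputable def yt_c62_cnt_L : List ℕ := [1, 4, z_T111_s1_O, 0, 0, 3, 9, z_T111_s3_O, 0, 0, 5, 10, z_T111_s5_O, 0, 0, 6, 13, z_T111_s134_O, 0, 0, 7, 16, z_T111_s135_O, 1, 0]

theorem yt_c62_cnt_P : Prob 324 9 (grp 324 y_E0) yt_c62_cnt_EG [z_g882] [z_g882] yt_c62_K yt_c62_cnt_L 0 0 :=
  Sym.prob z_hn z_hk yt_c62_sym yt_c62_cnt_EG_ok (grp_cons_le z_g39_z_T111 (grp_cons_le zg1_z_T111 (grp_cons_le zg3_z_T111 (grp_cons_le z_g43_z_T111 (grp_cons_le z_g42_z_T111 (grp_cons_le zg2_z_T111 (grp_cons_le z_g44_z_T111 (grp_cons_le z_g54_z_T111 (grp_cons_le z_g55_z_T111 (grp_cons_le z_g49_z_T111 (grp_cons_le z_g50_z_T111 (grp_cons_le z_g51_z_T111 (grp_cons_le z_g62_z_T111 (grp_cons_le z_g58_z_T111 (grp_cons_le z_g59_z_T111 (grp_cons_le z_g65_z_T111 (grp_cons_le z_g66_z_T111 (grp_cons_le z_g67_z_T111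 (grp_cons_le z_g77_z_T111 (grp_cons_le z_g78_z_T111 (grp_cons_le z_g72_z_T111 (grp_cons_le z_g73_z_T111 (grp_cons_le z_g74_z_T111 (grp_cons_le z_g81_z_T111 (grp_cons_le z_g82_z_T111 (grp_cons_le z_g87_z_T111 (grp_cons_le zg0_z_T111 (grp_cons_le z_g91_z_T111 (grp_cons_le z_g28_z_T111 (grp_cons_le z_g88_z_T111 (grp_cons_le z_g126_z_T111 (grp_cons_le z_g127_z_T111 (grp_cons_le z_g128_z_T111 (grp_cons_le z_g129_z_T111 (grp_cons_le z_g130_z_T111 (grp_cons_le z_g131_z_T111 (grp_cons_le z_g132_z_T111 (grp_cons_le z_g133_z_T111 (grp_cons_le z_g134_z_T111 (grp_cons_le z_g135_z_T111 (grp_cons_le z_g890_z_T111 (grp_cons_le z_g888_z_T111 (grp_nil_le _))))))))))))))))))))))))))))))))))))))))))) (Frames.cons z_T111_s1_F (Frames.cons z_T111_s3_F (Frames.cons z_T111_s5_F (Frames.cons z_T111_s134_F (Frames.cons z_T111_s135_F Frames.nil))))) (okE_cons.2 ⟨z_g882_ok, okE_nil _⟩) _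

noncomputable def yt_c62_cnt_t : BT := (BT.fix (nat_lit 1) (BT.br (nat_lit 0) (nat_lit 27) [nat_lit 1] (BT.kid (nat_lit 27) (nat_lit 216) (BT.frm (nat_lit 0) (nat_lit 198702) (nat_lit 198702) [nat_lit 0] (BT.pln (nat_lit 0) (nat_lit 2) (BT.fix (nat_lit 257) (BT.dif (nat_lit 1) (nat_lit 0) (BT.fix (nat_lit 65793) (BT.dif (nat_lit 1) (nat_lit 0) (BT.br (nat_lit 0) (nat_lit 7) [nat_lit 3] (BT.kid (nat_lit 7) (nat_lit 36) (BT.dif (nat_lit 4) (nat_lit 5) (BT.dif (nat_lit 0) (nat_lit 9) (BT.img (nat_lit 1) (nat_lit 2) (BT.frm (nat_lit 1) (nat_lit 0x71f03082e) (nat_lit 0x71f03082e) [nat_lit 0, nat_lit 3, nat_lit 10] (BT.pln (nat_lit 0) (nat_lit 5) (BT.dif (nat_lit 3) (nat_lit 0) (BT.br (nat_lit 0) (nat_lit 69) [nat_lit 5] (BT.kid (nat_lit 69) (nat_lit 18) (BT.dif (nat_lit 9) (nat_lit 15) (BT.dif (nat_lit 0) (nat_lit 13) (BT.img (nat_lit 1) (nat_lit 6) (BT.frm (nat_lit 2) (nat_lit 0x3f42071f03082e) (nat_lit 0x3f42071f03082e)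 [nat_lit 3, nat_lit 0, nat_lit 7, nat_lit 10, nat_lit 17] (BT.pln (nat_lit 0) (nat_lit 5) (BT.dif (nat_lit 3) (nat_lit 0) (BT.br (nat_lit 0) (nat_lit 95) [nat_lit 7, nat_lit 9] (BT.kid (nat_lit 95) (nat_lit 3) (BT.dif (nat_lit 25) (nat_lit 2) (BT.pln (nat_lit 4) (nat_lit 6) (BT.and (nat_lit 1) (nat_lit 0) (BT.pln (nat_lit 6) (nat_lit 7) (BT.and (nat_lit 1) (nat_lit 0) (BT.frm (nat_lit 3) (nat_lit 0x4649453f42071f03082e) (nat_lit 0x4649453f42071f03082e) [nat_lit 5, nat_lit 12, nat_lit 9, nat_lit 16, nat_lit 19, nat_lit 26] (BT.pln (nat_lit 0) (nat_lit 10) (BT.and (nat_lit 2) (nat_lit 0) (BT.pln (nat_lit 2) (nat_lit 6) (BT.dif (nat_lit 1) (nat_lit 0) (BT.br (nat_lit 0) (nat_lit 73) [nat_lit 11] (BT.dead (nat_lit 75) (BT.frm (nat_lit 4) (nat_lit 0x524649453f42071f03082e) (nat_lit 0x51544649453f42071f03082e) [nat_lit 0, nat_lit 11, nat_lit 18, nat_lit 15, nat_lit 22, nat_lit 25, nat_lit 32] (BT.pln (nat_lit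 0) (nat_lit 8) (BT.img (nat_lit 1) (nat_lit 2) (BT.img (nat_lit 1) (nat_lit 0) (BT.img (nat_lit 1) (nat_lit 0) (BT.and (nat_lit 3) (nat_lit 0) (BT.cnt (nat_lit 0)))))))) (BT.dead (nat_lit 140) (BT.frm (nat_lit 4) (nat_lit 0x524649453f42071f03082e) (nat_lit 0x544649453f42071f03082e) [nat_lit 0, nat_lit 11, nat_lit 18, nat_lit 15, nat_lit 22, nat_lit 25, nat_lit 32] (BT.pln (nat_lit 0) (nat_lit 8) (BT.img (nat_lit 1) (nat_lit 2) (BT.and (nat_lit 1) (nat_lit 0) (BT.cnt (nat_lit 0)))))) (BT.kid (nat_lit 73) (nat_lit 1) (BT.one (nat_lit 4) (nat_lit 0x524649453f42071f03082e) (nat_lit 0x524649453f42071f03082e) [nat_lit 0, nat_lit 11, nat_lit 18, nat_lit 15, nat_lit 22, nat_lit 25, nat_lit 32]) BT.nil)))))))))))))) BT.nil)))))))) BT.nil)))))))) BT.nil)))))))) BT.nil)))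

theorem yt_c62_cnt : Cnt 324 (grp 324 y_E0) [z_g882] [z_g882] 0 0 0 0 648 :=
  BT.sound yt_c62_cnt_P Known.nil (t := yt_c62_cnt_t) (d := 0) (by decide +kernel)

theorem yt_c62_ge : 648 ≤ Nat.card (grp 324 yt_c62_K) :=
  Ch.le_card_grp (k := 9) (L := (lab 324 9)) z_hn yt_c62_K_ok (c := (Ch.cons (nat_lit 27) [nat_lit 1] (Ch.cons (nat_lit 7) [nat_lit 3] (Ch.cons (nat_lit 69) [nat_lit 5] (Ch.cons (nat_lit 95) [nat_lit 7, nat_lit 9] (Ch.cons (nat_lit 73) [nat_lit 11] Ch.nil)))))) (by decide +kernel)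

theorem yt_c62_eq : (grp 324 y_E0) ⊓ Subgroup.centralizer {Net.toPerm 324 z_g882} = grp 324 yt_c62_K :=
  cent_eq yt_c62_sym yt_c62_cnt yt_c62_ge

theorem yt_c62_card : Nat.card ↥((grp 324 y_E0) ⊓ Subgroup.centralizer {Net.toPerm 324 z_g882}) = 648 :=
  card_cent yt_c62_sym yt_c62_cnt yt_c62_ge

theorem yt_c62_ord : orderOf (Net.toPerm 324 z_g882) = 6 :=
  orderOf_net z_hn z_hk z_g882_ok (by decide) (ps := [2, 3]) (by set_option linter.unusedSimpArgs false in simp [Nat.primeFactorsList_ofNat]) (by decide +kernel)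

theorem z_le901 : grp 324 yt_c63_K ≤ grp 324 y_E0 :=
  grp_le_of_memB z_hn z_hk y_E0_ok yt_c63_K_ok (ws := [nat_lit 0x333b2f2b19190f120707022501, nat_lit 0x3335291f19221a1208022e02, nat_lit 0x34391f1b0f08022105, nat_lit 0x332f271923120905022d, nat_lit 0x3b2f2b191c012602, nat_lit 0x333b26281b1a11011101]) (by decide +kernel)

theorem yt_c63_le : grp 324 yt_c63_K ≤ (grp 324 y_E0) :=
  (z_le901.trans z_T111_s0.le)

theorem yt_c63_mem : Net.toPerm 324 z_g894 ∈ (grp 324 y_E0) :=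
  yt_c63_le (mem_grp_of_memB z_hn z_hk yt_c63_K_ok z_g894_ok (w := (nat_lit 0x90c070202)) (by decide +kernel))

theorem yt_c63_sym : Sym 324 (grp 324 y_E0) [z_g894] yt_c63_K 0 :=
  Sym.of_lab z_hn z_hk (okE_cons.2 ⟨z_g894_ok, okE_nil _⟩) yt_c63_K_ok yt_c63_le (kT := 0) (by decide +kernel)

theorem z_le903 : grp 324 z_V902 ≤ grp 324 z_V661 :=
  grp_le_of_memB z_hn z_hk z_V661_ok z_V902_ok (ws := [nat_lit 131845]) (by decide +kernel)

theorem z_T111_s136 : Stab 324 (grp 324 y_E0) [nat_lit 69, nat_lit 26, nat_lit 19, nat_lit 12, nat_lit 6, nat_lit 14, nat_lit 2, nat_lit 0] z_V902 2 :=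
  Stab.step (k := 9) (L := (lab 324 9)) z_hn z_T111_s101 z_V902_ok z_le903 (c := (Ch.cons (nat_lit 226) [nat_lit 1] Ch.nil)) (by decide +kernel)

theorem z_T111_s137 : Stab 324 (grp 324 y_E0) [nat_lit 226, nat_lit 69, nat_lit 26, nat_lit 19, nat_lit 12, nat_lit 6, nat_lit 14, nat_lit 2, nat_lit 0] z_V904 1 :=
  Stab.step (k := 9) (L := (lab 324 9)) z_hn z_T111_s136 z_V904_ok (grp_mono (List.subset_append_right [z_g567] _)) (c := Ch.nil) (by decide +kernel)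

noncomputable def z_T111_s137_O : ℕ := (nat_lit 0xfffffffffffffffff000000000000000000000000000000000000000000000000000000000000000000000000000000000ffffffffffffffffffffffffffffffff00000000000000000000000000000000f0000000000000000ffffffffffffffff0000000000000000ffffffffffffffff00000000000000000ffffffff00000000ffffffff00000000ffffffff00000000ffffffff00000000ffffffff000000000ffff0000ffff0000ffff0000ffff0000ffff0000ffff0000ffff0000ffff0000ffff0000ffff00000ff00ff00ff00ff00ff00ff00ff00ff00ff00ff00ff00ff00ff00ff00ff00ff00ff00ff00ff00ff000f0f0f0f0f0f0f0f0f0f0f0f0f0f0f0f0f0f0f0f0f0f0f0f0f0f0f0f0f0f0f0f0f0f0f0f0f0f0f0f0cccccccccccccccccccccccccccccccccccccccccccccccccccccccccccccccccccccccccccccccccaaaaaaaaaaaaaaaaaaaaaaaaaaaaaaaaaaaaaaaaaaaaaaaaaaaaaaaaaaaaaaaaaaaaaaaaaaaaaaaaa0000000000000000000000000000000000000000000000000000000000000000000000000000000010000000000000000000000000000000000000000000000000000000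00000000000000000000000004000000000000000000000000000000000000000000000000000000000000000000000000000004000000000000000000000000000000000000000000000000000000000000000000000000000000000040000000000000000000000000000000000000000000000000000000000000000000000000000001000000000000000000000000000000000000000000000000000000000000000000000000000000080000000000000000000000000000000000000000000000000000000000000000000000000000004000000000000000000000000000000000000000000000000000000000000000000000200000000000000000000000000000000000000000400000000000000000000000000000000000000000000000000000000)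

theorem z_T111_s137_F : Frame 324 (grp 324 y_E0) 9 18 z_T111_s137_O 1 1 :=
  IsBase.frame z_T111_s137.isBase (by decide +kernel)

noncomputable def yt_c63_cnt_L : List ℕ := [1, 4, z_T111_s1_O, 0, 0, 3, 9, z_T111_s80_O, 0, 0, 5, 10, z_T111_s99_O, 0, 0, 6, 11, z_T111_s100_O, 0, 0, 9, 18, z_T111_s137_O, 1, 0]

theorem yt_c63_cnt_P : Prob 324 9 (grp 324 y_E0) yt_c63_cnt_EG [z_g894] [z_g894] yt_c63_K yt_c63_cnt_L 0 0 :=
  Sym.prob z_hn z_hk yt_c63_sym yt_c63_cnt_EG_ok (grp_cons_le z_g39_z_T111 (grp_cons_le zg1_z_T111 (grp_cons_le zg3_z_T111 (grp_cons_le z_g43_z_T111 (grp_cons_le z_g42_z_T111 (grp_cons_le zg2_z_T111 (grp_cons_le z_g44_z_T111 (grp_cons_le z_g54_z_T111 (grp_cons_le z_g55_z_T111 (grp_cons_le z_g49_z_T111 (grp_cons_le z_g50_z_T111 (grp_cons_le z_g51_z_T111 (grp_cons_le z_g62_z_T111 (grp_cons_le z_g58_z_T111 (grp_cons_le z_g59_z_T111 (grp_cons_le z_g65_z_T111 (grp_cons_le z_g66_z_T111 (grp_cons_le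 z_g67_z_T111 (grp_cons_le z_g77_z_T111 (grp_cons_le z_g78_z_T111 (grp_cons_le z_g72_z_T111 (grp_cons_le z_g73_z_T111 (grp_cons_le z_g74_z_T111 (grp_cons_le z_g81_z_T111 (grp_cons_le z_g82_z_T111 (grp_cons_le z_g87_z_T111 (grp_cons_le zg0_z_T111 (grp_cons_le z_g91_z_T111 (grp_cons_le z_g28_z_T111 (grp_cons_le z_g88_z_T111 (grp_cons_le z_g652_z_T111 (grp_cons_le z_g653_z_T111 (grp_cons_le z_g654_z_T111 (grp_cons_le z_g655_z_T111 (grp_cons_le z_g656_z_T111 (grp_cons_le z_g493_z_T111 (grp_cons_le z_g548_z_T111 (grp_cons_le z_g34_z_T111 (grp_cons_le z_g549_z_T111 (grp_cons_le z_g33_z_T111 (grp_cons_le z_g550_z_T111 (grp_cons_le z_g551_z_T111 (grp_cons_le z_g567_z_T111 (grp_nil_le _)))))))))))))))))))))))))))))))))))))))))))) (Frames.cons z_T111_s1_F (Frames.cons z_T111_s80_F (Frames.cons z_T111_s99_F (Frames.cons z_T111_s100_F (Frames.cons z_T111_s137_F Frames.nil))))) (okE_cons.2 ⟨z_g894_ok, okE_nil _⟩) _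

noncomputable def yt_c63_cnt_t : BT := (BT.fix (nat_lit 65793) (BT.fix (nat_lit 1) (BT.dif (nat_lit 1) (nat_lit 0) (BT.br (nat_lit 0) (nat_lit 60) [nat_lit 1, nat_lit 3] (BT.kid (nat_lit 60) (nat_lit 54) (BT.frm (nat_lit 0) (nat_lit 67636) (nat_lit 67636) [nat_lit 0] (BT.pln (nat_lit 0) (nat_lit 2) (BT.and (nat_lit 5) (nat_lit 0) (BT.br (nat_lit 0) (nat_lit 123) [nat_lit 5] (BT.kid (nat_lit 123) (nat_lit 18) (BT.img (nat_lit 1) (nat_lit 4) (BT.frm (nat_lit 1) (nat_lit 0x12070a010834) (nat_lit 0x12070a010834) [nat_lit 1, nat_lit 0, nat_lit 5] (BT.pln (nat_lit 0) (nat_lit 7) (BT.and (nat_lit 5) (nat_lit 0) (BT.br (nat_lit 0) (nat_lit 246) [nat_lit 7] (BT.kid (nat_lit 246) (nat_lit 9) (BT.dif (nat_lit 7) (nat_lit 12) (BT.dif (nat_lit 0) (nat_lit 3) (BT.pln (nat_lit 5) (nat_lit 4) (BT.and (nat_lit 1) (nat_lit 0) (BT.img (nat_lit 1) (nat_lit 9) (BT.frm (nat_lit 2) (nat_lit 0x3d12070a010834) (nat_lit 0x3d12070a010834)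 [nat_lit 5, nat_lit 0, nat_lit 10, nat_lit 9, nat_lit 14] (BT.pln (nat_lit 0) (nat_lit 5) (BT.dif (nat_lit 3) (nat_lit 0) (BT.br (nat_lit 0) (nat_lit 126) [nat_lit 9, nat_lit 11] (BT.kid (nat_lit 126) (nat_lit 1) (BT.img (nat_lit 1) (nat_lit 0) (BT.img (nat_lit 1) (nat_lit 0) (BT.img (nat_lit 1) (nat_lit 0) (BT.frm (nat_lit 3) (nat_lit 0x40413d12070a010834) (nat_lit 0x40413d12070a010834) [nat_lit 3, nat_lit 12, nat_lit 7, nat_lit 17, nat_lit 16, nat_lit 21] (BT.pln (nat_lit 0) (nat_lit 8) (BT.and (nat_lit 21) (nat_lit 0) (BT.pln (nat_lit 2) (nat_lit 6) (BT.dif (nat_lit 1) (nat_lit 0) (BT.pln (nat_lit 4) (nat_lit 7) (BT.dif (nat_lit 1) (nat_lit 0) (BT.pln (nat_lit 6) (nat_lit 9) (BT.and (nat_lit 1) (nat_lit 0) (BT.and (nat_lit 28) (nat_lit 5) (BT.and (nat_lit 0) (nat_lit 4) (BT.dif (nat_lit 0) (nat_lit 9) (BT.img (nat_lit 1) (nat_lit 0) (BT.and (nat_lit 32) (nat_lit 0) (BT.img (nat_lit 1) (nat_lit 0) (BT.dif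 (nat_lit 6) (nat_lit 0) (BT.one (nat_lit 4) (nat_lit 0x554540413d12070a010834) (nat_lit 0x554540413d12070a010834) [nat_lit 16, nat_lit 18, nat_lit 0, nat_lit 19, nat_lit 28, nat_lit 23, nat_lit 33, nat_lit 32, nat_lit 37])))))))))))))))))))) BT.nil)))))))))) BT.nil)))))) BT.nil))))) BT.nil)))))

theorem yt_c63_cnt : Cnt 324 (grp 324 y_E0) [z_g894] [z_g894] 0 0 0 0 648 :=
  BT.sound yt_c63_cnt_P Known.nil (t := yt_c63_cnt_t) (d := 0) (by decide +kernel)

theorem yt_c63_ge : 648 ≤ Nat.card (grp 324 yt_c63_K) :=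
  Ch.le_card_grp (k := 9) (L := (lab 324 9)) z_hn yt_c63_K_ok (c := (Ch.cons (nat_lit 60) [nat_lit 1, nat_lit 3] (Ch.cons (nat_lit 123) [nat_lit 5] (Ch.cons (nat_lit 246) [nat_lit 7] (Ch.cons (nat_lit 126) [nat_lit 9, nat_lit 11] Ch.nil))))) (by decide +kernel)

theorem yt_c63_eq : (grp 324 y_E0) ⊓ Subgroup.centralizer {Net.toPerm 324 z_g894} = grp 324 yt_c63_K :=
  cent_eq yt_c63_sym yt_c63_cnt yt_c63_ge

theorem yt_c63_card : Nat.card ↥((grp 324 y_E0) ⊓ Subgroup.centralizer {Net.toPerm 324 z_g894}) = 648 :=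
  card_cent yt_c63_sym yt_c63_cnt yt_c63_ge

theorem yt_c63_ord : orderOf (Net.toPerm 324 z_g894) = 6 :=
  orderOf_net z_hn z_hk z_g894_ok (by decide) (ps := [2, 3]) (by set_option linter.unusedSimpArgs false in simp [Nat.primeFactorsList_ofNat]) (by decide +kernel)

theorem z_le912 : grp 324 yt_c64_K ≤ grp 324 y_E0 :=
  grp_le_of_memB z_hn z_hk y_E0_ok yt_c64_K_ok (ws := [nat_lit 0x39251f19221a0f1208010519, nat_lit 0x2f271f1d1f1508050225, nat_lit 0x353c191c0f090319, nat_lit 0x352f281f1922110703070c, nat_lit 0x372f19221a013c02, nat_lit 0x2f261f191b1b012602]) (by decide +kernel)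

theorem yt_c64_le : grp 324 yt_c64_K ≤ (grp 324 y_E0) :=
  (z_le912.trans z_T111_s0.le)

theorem yt_c64_mem : Net.toPerm 324 z_g905 ∈ (grp 324 y_E0) :=
  yt_c64_le (mem_grp_of_memB z_hn z_hk yt_c64_K_ok z_g905_ok (w := (nat_lit 328708)) (by decide +kernel))

theorem yt_c64_sym : Sym 324 (grp 324 y_E0) [z_g905] yt_c64_K 0 :=
  Sym.of_lab z_hn z_hk (okE_cons.2 ⟨z_g905_ok, okE_nil _⟩) yt_c64_K_ok yt_c64_le (kT := 0) (by decide +kernel)

theorem z_le917 : grp 324 z_V916 ≤ grp 324 z_V613 :=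
  grp_le_of_memB z_hn z_hk z_V613_ok z_V916_ok (ws := [nat_lit 2306, nat_lit 460035, nat_lit 0x70c050204, nat_lit 0x809050204]) (by decide +kernel)

theorem z_T111_s138 : Stab 324 (grp 324 y_E0) [nat_lit 22, nat_lit 17, nat_lit 15, nat_lit 14, nat_lit 2, nat_lit 0] z_V916 36 :=
  Stab.step (k := 9) (L := (lab 324 9)) z_hn z_T111_s92 z_V916_ok z_le917 (c := (Ch.cons (nat_lit 78) [nat_lit 1, nat_lit 3] (Ch.cons (nat_lit 25) [nat_lit 5] (Ch.cons (nat_lit 298) [nat_lit 7] Ch.nil)))) (by decide +kernel)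

theorem z_T111_s139 : Stab 324 (grp 324 y_E0) [nat_lit 78, nat_lit 22, nat_lit 17, nat_lit 15, nat_lit 14, nat_lit 2, nat_lit 0] z_V918 4 :=
  Stab.step (k := 9) (L := (lab 324 9)) z_hn z_T111_s138 z_V918_ok (grp_mono (List.subset_append_right [z_g913, z_g914] _)) (c := (Ch.cons (nat_lit 25) [nat_lit 1] (Ch.cons (nat_lit 298) [nat_lit 3] Ch.nil))) (by decide +kernel)

theorem z_T111_s140 : Stab 324 (grp 324 y_E0) [nat_lit 25, nat_lit 78, nat_lit 22, nat_lit 17, nat_lit 15, nat_lit 14, nat_lit 2, nat_lit 0] z_V919 2 :=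
  Stab.step (k := 9) (L := (lab 324 9)) z_hn z_T111_s139 z_V919_ok (grp_mono (List.subset_append_right [z_g915] _)) (c := (Ch.cons (nat_lit 298) [nat_lit 1] Ch.nil)) (by decide +kernel)

theorem z_T111_s141 : Stab 324 (grp 324 y_E0) [nat_lit 298, nat_lit 25, nat_lit 78, nat_lit 22, nat_lit 17, nat_lit 15, nat_lit 14, nat_lit 2, nat_lit 0] z_V920 1 :=
  Stab.step (k := 9) (L := (lab 324 9)) z_hn z_T111_s140 z_V920_ok (grp_mono (List.subset_append_right [z_g33] _)) (c := Ch.nil) (by decide +kernel)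

theorem z_g915_z_T111 : Net.toPerm 324 z_g915 ∈ (grp 324 y_E0) :=
  z_T111_s139.le (toPerm_mem_grp (E := z_V918) (List.Mem.head _))

theorem z_g913_z_T111 : Net.toPerm 324 z_g913 ∈ (grp 324 y_E0) :=
  z_T111_s138.le (toPerm_mem_grp (E := z_V916) (List.Mem.head _))

theorem z_g914_z_T111 : Net.toPerm 324 z_g914 ∈ (grp 324 y_E0) :=
  z_T111_s138.le (toPerm_mem_grp (E := z_V916) (List.Mem.tail _ (List.Mem.head _)))

noncomputable def z_T111_s141_O : ℕ := (nat_lit 0xfffffffffffffffff000000000000000000000000000000000000000000000000000000000000000000000000000000000ffffffffffffffffffffffffffffffff00000000000000000000000000000000f0000000000000000ffffffffffffffff0000000000000000ffffffffffffffff00000000000000000ffffffff00000000ffffffff00000000ffffffff00000000ffffffff00000000ffffffff000000000ffff0000ffff0000ffff0000ffff0000ffff0000ffff0000ffff0000ffff0000ffff0000ffff00000ff00ff00ff00ff00ff00ff00ff00ff00ff00ff00ff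00ff00ff00ff00ff00ff00ff00ff00ff00ff000f0f0f0f0f0f0f0f0f0f0f0f0f0f0f0f0f0f0f0f0f0f0f0f0f0f0f0f0f0f0f0f0f0f0f0f0f0f0f0f0cccccccccccccccccccccccccccccccccccccccccccccccccccccccccccccccccccccccccccccccccaaaaaaaaaaaaaaaaaaaaaaaaaaaaaaaaaaaaaaaaaaaaaaaaaaaaaaaaaaaaaaaaaaaaaaaaaaaaaaaaa000000000000000000000000000000000000000000000000000000000000000000000000000000001000000000000000000000000000000000000000000000000000000000000000000000000000000004000000000000000000000000000000000000000000000000000000000000000000000000000004000000000000000000000000000000000000000000000000000000000000000000000000000000008000000000000000000000000000000000000000000000000000000000000000000000000000000020000000000000000000000000000000000000000000000000000000000000000000000000000000400000000000000000000000000000000000000000000000000000000000000000040000000000000000000000000000000000000000000000000000000000000000000000000000000000000000000002000000000000400000000000000000000000000000000000000000000000000000000000000000000000000)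

theorem z_T111_s141_F : Frame 324 (grp 324 y_E0) 9 18 z_T111_s141_O 1 1 :=
  IsBase.frame z_T111_s141.isBase (by decide +kernel)

noncomputable def z_T111_s140_O : ℕ := (nat_lit 0x193287891b64440d0c7c016a080900000000000000000000000000000000000000000000005bd3ffaa6c13034c49bb972f20012058166fdeb9018c3ffff7ffff758fbffde8000000000000000000000000240c18742412a9b2c1828e14b3a2fffb9018c7a6ffdf8008a70400217effbbbeff000000005bd000071f9ea66d802b32273004685a614febe905cefd800007ffb526400207ffff84000ffff00000003ffae8ca55bc252c76375d0af091b004fff169a1283ffa207bcc8e9bd4013ff003be00ff00fe800003fc0a24d54cf05217e86937487e533c2f05fb78b8847c1f87c37801f03d13c0f43e1f0f0f0f0785a03c3a0bf2cc3da70b506b2ba5c50c19b6ce1f3f705a6635e66334579ce1ac31cce318cccccccc665183330d924020d43bd3531e7460ecf323ea8cd4d1f592ca9b556a2cf52b36a6baa92d4aaaaaaab554942aa8000000000000000000000000000000000000000000000000000000000000000000000000000000001000000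000000000000000000000000000000000000000000000000000000000000000000000000004000000000000000000000000000000000000000000000000000000000000000000000000000004000000000000000000000000000000000000000000000000000000000000000000000000000000008000000000000000000000000000000000000000000000000000000000000000000000000000000020000000000000000000000000000000000000000000000000000000000000000000000000000000400000000000000000000000000000000000000000000000000000000000000000040000000000000000000000000000000000000000000000000000000000000000000000000000000000000000000002000000)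

theorem z_T111_s140_F : Frame 324 (grp 324 y_E0) 8 16 z_T111_s140_O 0 1 :=
  Stab.frame z_hn z_T111_s140 (by decide +kernel)

noncomputable def z_T111_s138_O : ℕ := (nat_lit 0x13fe000000040000000000000001040200000000000000004000000000000000104020000000000fbd201a9fb7b69ddffddffd3e7401690b038900000009fb7b69ddffddffd3e7401690b038900000003001e1a75f8cfab3d8e691ee4bc5da38b8c76e10000075f8cfab3d8e691ee4bc5da38b8c76e1000000b819987a9b83141a5eb19baf9bea28ba41f070260f27a9b83141a5eb19baf9bea28ba41f070260f24951552000000000000000000000000000000000000000000000000000000000000000000000000000000001000000000000000000000000000000000000000000000000000000000000000000000000000000004000000000000000000000000000000000000000000000000000000000000000000000000000004000000000000000000000000000000000000000000000000000000000000000000000000000000008000000000000000000000000000000000000000000000000000000000000000000000000000000020000000000000000000000000000000000000000000000000000000000000000000000000000000400000)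

theorem z_T111_s138_F : Frame 324 (grp 324 y_E0) 6 11 z_T111_s138_O 0 1 :=
  Stab.frame z_hn z_T111_s138 (by decide +kernel)

noncomputable def yt_c64_cnt_L : List ℕ := [1, 4, z_T111_s1_O, 0, 0, 5, 10, z_T111_s92_O, 0, 0, 6, 11, z_T111_s138_O, 0, 0, 8, 16, z_T111_s140_O, 0, 0, 9, 18, z_T111_s141_O, 1, 0]

theorem yt_c64_cnt_P : Prob 324 9 (grp 324 y_E0) yt_c64_cnt_EG [z_g905] [z_g905] yt_c64_K yt_c64_cnt_L 0 0 :=
  Sym.prob z_hn z_hk yt_c64_sym yt_c64_cnt_EG_ok (grp_cons_le z_g39_z_T111 (grp_cons_le zg1_z_T111 (grp_cons_le zg3_z_T111 (grp_cons_le z_g43_z_T111 (grp_cons_le z_g42_z_T111 (grp_cons_le zg2_z_T111 (grp_cons_le z_g44_z_T111 (grp_cons_le z_g54_z_T111 (grp_cons_le z_g55_z_T111 (grp_cons_le z_g49_z_T111 (grp_cons_le z_g50_z_T111 (grp_cons_le z_g51_z_T111 (grp_cons_le z_g62_z_T111 (grp_cons_le z_g58_z_T111 (grp_cons_le z_g59_z_T111 (grp_cons_le z_g65_z_T111 (grp_cons_le z_g66_z_T111 (grp_cons_le z_g67_z_T111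 (grp_cons_le z_g77_z_T111 (grp_cons_le z_g78_z_T111 (grp_cons_le z_g72_z_T111 (grp_cons_le z_g73_z_T111 (grp_cons_le z_g74_z_T111 (grp_cons_le z_g81_z_T111 (grp_cons_le z_g82_z_T111 (grp_cons_le z_g87_z_T111 (grp_cons_le zg0_z_T111 (grp_cons_le z_g91_z_T111 (grp_cons_le z_g28_z_T111 (grp_cons_le z_g88_z_T111 (grp_cons_le z_g605_z_T111 (grp_cons_le z_g606_z_T111 (grp_cons_le z_g607_z_T111 (grp_cons_le z_g608_z_T111 (grp_cons_le z_g609_z_T111 (grp_cons_le z_g610_z_T111 (grp_cons_le z_g260_z_T111 (grp_cons_le z_g548_z_T111 (grp_cons_le z_g34_z_T111 (grp_cons_le z_g549_z_T111 (grp_cons_le z_g33_z_T111 (grp_cons_le z_g550_z_T111 (grp_cons_le z_g551_z_T111 (grp_cons_le z_g915_z_T111 (grp_cons_le z_g913_z_T111 (grp_cons_le z_g914_z_T111 (grp_nil_le _))))))))))))))))))))))))))))))))))))))))))))))) (Frames.cons z_T111_s1_F (Frames.cons z_T111_s92_F (Frames.cons z_T111_s138_F (Frames.cons z_T111_s140_F (Frames.cons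 z_T111_s141_F Frames.nil))))) (okE_cons.2 ⟨z_g905_ok, okE_nil _⟩) _

noncomputable def yt_c64_cnt_t : BT := (BT.fix (nat_lit 65793) (BT.fix (nat_lit 1) (BT.dif (nat_lit 1) (nat_lit 0) (BT.br (nat_lit 0) (nat_lit 1) [nat_lit 1, nat_lit 3] (BT.kid (nat_lit 1) (nat_lit 54) (BT.frm (nat_lit 0) (nat_lit 777) (nat_lit 777) [nat_lit 0] (BT.pln (nat_lit 0) (nat_lit 2) (BT.and (nat_lit 5) (nat_lit 0) (BT.br (nat_lit 0) (nat_lit 78) [nat_lit 5] (BT.kid (nat_lit 78) (nat_lit 18) (BT.pln (nat_lit 3) (nat_lit 3) (BT.dif (nat_lit 0) (nat_lit 8) (BT.br (nat_lit 0) (nat_lit 8) [nat_lit 7] (BT.dead (nat_lit 12) (BT.img (nat_lit 1) (nat_lit 3) (BT.img (nat_lit 1) (nat_lit 8) (BT.frm (nat_lit 1) (nat_lit 0x3e0f1d0309) (nat_lit 0x3d3f0f1d0309) [nat_lit 2, nat_lit 1, nat_lit 5, nat_lit 0, nat_lit 9] (BT.pln (nat_lit 0) (nat_lit 5) (BT.img (nat_lit 1) (nat_lit 4) (BT.and (nat_lit 1) (nat_lit 0) (BT.cnt (nat_lit 0)))))))) (BT.dead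 (nat_lit 10) (BT.img (nat_lit 1) (nat_lit 3) (BT.img (nat_lit 1) (nat_lit 8) (BT.frm (nat_lit 1) (nat_lit 0x3e0f1d0309) (nat_lit 0x3e3f0f1d0309) [nat_lit 2, nat_lit 1, nat_lit 5, nat_lit 0, nat_lit 9] (BT.pln (nat_lit 0) (nat_lit 5) (BT.img (nat_lit 1) (nat_lit 4) (BT.and (nat_lit 1) (nat_lit 0) (BT.cnt (nat_lit 0)))))))) (BT.kid (nat_lit 8) (nat_lit 9) (BT.dif (nat_lit 5) (nat_lit 10) (BT.img (nat_lit 1) (nat_lit 4) (BT.img (nat_lit 1) (nat_lit 9) (BT.frm (nat_lit 1) (nat_lit 0x3e0f1d0309) (nat_lit 0x3e0f1d0309) [nat_lit 3, nat_lit 1, nat_lit 6, nat_lit 0, nat_lit 10] (BT.pln (nat_lit 0) (nat_lit 5) (BT.dif (nat_lit 4) (nat_lit 0) (BT.pln (nat_lit 2) (nat_lit 6) (BT.dif (nat_lit 1) (nat_lit 0) (BT.pln (nat_lit 4) (nat_lit 8) (BT.and (nat_lit 1) (nat_lit 0) (BT.br (nat_lit 0) (nat_lit 13) [nat_lit 9, nat_lit 11] (BT.kid (nat_lit 13) (nat_lit 1) (BT.and (nat_lit 16) (nat_lit 6) (BT.dif (nat_lit 0) (nat_lit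 5) (BT.img (nat_lit 1) (nat_lit 2) (BT.dif (nat_lit 1) (nat_lit 0) (BT.img (nat_lit 1) (nat_lit 1) (BT.frm (nat_lit 3) (nat_lit 0x595b57423e0f1d0309) (nat_lit 0x595b57423e0f1d0309) [nat_lit 0, nat_lit 2, nat_lit 5, nat_lit 16, nat_lit 14, nat_lit 19, nat_lit 13, nat_lit 23] (BT.pln (nat_lit 0) (nat_lit 10) (BT.and (nat_lit 3) (nat_lit 0) (BT.frm (nat_lit 2) (nat_lit 0x423e0f1d0309) (nat_lit 0x423e0f1d0309) [nat_lit 8, nat_lit 19, nat_lit 17, nat_lit 22, nat_lit 16, nat_lit 26] (BT.pln (nat_lit 0) (nat_lit 6) (BT.and (nat_lit 26) (nat_lit 0) (BT.pln (nat_lit 2) (nat_lit 10) (BT.dif (nat_lit 1) (nat_lit 0) (BT.pln (nat_lit 4) (nat_lit 7) (BT.dif (nat_lit 1) (nat_lit 0) (BT.pln (nat_lit 6) (nat_lit 8) (BT.dif (nat_lit 1) (nat_lit 0) (BT.img (nat_lit 1) (nat_lit 12) (BT.dif (nat_lit 14) (nat_lit 0) (BT.and (nat_lit 35) (nat_lit 5) (BT.and (nat_lit 0) (nat_lit 10) (BT.pln (nat_lit 12) (nat_lit 9) (BT.and (nat_lit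 1) (nat_lit 0) (BT.img (nat_lit 1) (nat_lit 0) (BT.and (nat_lit 5) (nat_lit 0) (BT.img (nat_lit 1) (nat_lit 0) (BT.and (nat_lit 9) (nat_lit 0) (BT.img (nat_lit 1) (nat_lit 0) (BT.and (nat_lit 20) (nat_lit 0) (BT.one (nat_lit 4) (nat_lit 0x595b57423e0f1d0309) (nat_lit 0x595b57423e0f1d0309) [nat_lit 0, nat_lit 24, nat_lit 26, nat_lit 29, nat_lit 40, nat_lit 38, nat_lit 43, nat_lit 37, nat_lit 47])))))))))))))))))))))))))))))) BT.nil)))))))))))) BT.nil)))))) BT.nil))))) BT.nil)))))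

theorem yt_c64_cnt : Cnt 324 (grp 324 y_E0) [z_g905] [z_g905] 0 0 0 0 648 :=
  BT.sound yt_c64_cnt_P Known.nil (t := yt_c64_cnt_t) (d := 0) (by decide +kernel)

theorem yt_c64_ge : 648 ≤ Nat.card (grp 324 yt_c64_K) :=
  Ch.le_card_grp (k := 9) (L := (lab 324 9)) z_hn yt_c64_K_ok (c := (Ch.cons (nat_lit 1) [nat_lit 1, nat_lit 3] (Ch.cons (nat_lit 78) [nat_lit 5] (Ch.cons (nat_lit 8) [nat_lit 7] (Ch.cons (nat_lit 13) [nat_lit 9, nat_lit 11] Ch.nil))))) (by decide +kernel)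

theorem yt_c64_eq : (grp 324 y_E0) ⊓ Subgroup.centralizer {Net.toPerm 324 z_g905} = grp 324 yt_c64_K :=
  cent_eq yt_c64_sym yt_c64_cnt yt_c64_ge

theorem yt_c64_card : Nat.card ↥((grp 324 y_E0) ⊓ Subgroup.centralizer {Net.toPerm 324 z_g905}) = 648 :=
  card_cent yt_c64_sym yt_c64_cnt yt_c64_ge

theorem yt_c64_ord : orderOf (Net.toPerm 324 z_g905) = 6 :=
  orderOf_net z_hn z_hk z_g905_ok (by decide) (ps := [2, 3]) (by set_option linter.unusedSimpArgs false in simp [Nat.primeFactorsList_ofNat]) (by decide +kernel)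

theorem z_le928 : grp 324 yt_c65_K ≤ grp 324 y_E0 :=
  grp_le_of_memB z_hn z_hk y_E0_ok yt_c65_K_ok (ws := [nat_lit 0x353c262819201c013802, nat_lit 0x353828191e0f12012b05, nat_lit 0x333b2f26281f19261207070230, nat_lit 0x382f2b1f1b1a08030e, nat_lit 0x33382f2519221a012602, nat_lit 0x372f1f191b1b013802]) (by decide +kernel)

theorem yt_c65_le : grp 324 yt_c65_K ≤ (grp 324 y_E0) :=
  (z_le928.trans z_T111_s0.le)

theorem yt_c65_mem : Net.toPerm 324 z_g921 ∈ (grp 324 y_E0) :=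
  yt_c65_le (mem_grp_of_memB z_hn z_hk yt_c65_K_ok z_g921_ok (w := (nat_lit 3075)) (by decide +kernel))

theorem yt_c65_sym : Sym 324 (grp 324 y_E0) [z_g921] yt_c65_K 0 :=
  Sym.of_lab z_hn z_hk (okE_cons.2 ⟨z_g921_ok, okE_nil _⟩) yt_c65_K_ok yt_c65_le (kT := 0) (by decide +kernel)

theorem z_le930 : grp 324 z_V929 ≤ grp 324 z_V140 :=
  grp_le_of_memB z_hn z_hk z_V140_ok z_V929_ok (ws := [nat_lit 0x80a0b02, nat_lit 721411]) (by decide +kernel)

theorem z_T111_s142 : Stab 324 (grp 324 y_E0) [nat_lit 323, nat_lit 13, nat_lit 27, nat_lit 84, nat_lit 298, nat_lit 0] z_V929 9 :=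
  Stab.step (k := 9) (L := (lab 324 9)) z_hn z_T111_s5 z_V929_ok z_le930 (c := (Ch.cons (nat_lit 319) [nat_lit 1, nat_lit 3] Ch.nil)) (by decide +kernel)

theorem z_T111_s143 : Stab 324 (grp 324 y_E0) [nat_lit 319, nat_lit 323, nat_lit 13, nat_lit 27, nat_lit 84, nat_lit 298, nat_lit 0] z_V931 1 :=
  Stab.step (k := 9) (L := (lab 324 9)) z_hn z_T111_s142 z_V931_ok (grp_mono (List.subset_append_right [z_g821, z_g886] _)) (c := Ch.nil) (by decide +kernel)

theorem z_g886_z_T111 : Net.toPerm 324 z_g886 ∈ (grp 324 y_E0) :=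
  z_T111_s142.le (toPerm_mem_grp (E := z_V929) (List.Mem.tail _ (List.Mem.head _)))

noncomputable def z_T111_s143_O : ℕ := (nat_lit 0xfffffffffffffffff000000000000000000000000000000000000000000000000000000000000000000000000000000000ffffffffffffffffffffffffffffffff00000000000000000000000000000000f0000000000000000ffffffffffffffff0000000000000000ffffffffffffffff00000000000000000ffffffff00000000ffffffff00000000ffffffff00000000ffffffff00000000ffffffff000000000ffff0000ffff0000ffff0000ffff0000ffff0000ffff0000ffff0000ffff0000ffff0000ffff00000ff00ff00ff00ff00ff00ff00ff00ff00ff00ff00ff00ff00ff00ff00ff00ff00ff00ff00ff00ff000f0f0f0f0f0f0f0f0f0f0f0f0f0f0f0f0f0f0f0f0f0f0f0f0f0f0f0f0f0f0f0f0f0f0f0f0f0f0f0f0cccccccccccccccccccccccccccccccccccccccccccccccccccccccccccccccccccccccccccccccccaaaaaaaaaaaaaaaaaaaaaaaaaaaaaaaaaaaaaaaaaaaaaaaaaaaaaaaaaaaaaaaaaaaaaaaaaaaaaaaaa0000000000000000000000000000000000000000000000000000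00000000000000000000000000001000000400000000000000000000000000000000000000000000000000000000000000000000000000000000000000000000000000000000000000000000000000000000000001000000000000000000000000000000000000000000000000000000000000000000000000000000000000000000000008000000000000000000000000000000000000000000000000000000000000000000000000000000000002000800000000000000000000000000000000000000000000000000000000000000000000000000000000080000000000000000000000000000000000000000000000000000000000000000000000000000000)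

theorem z_T111_s143_F : Frame 324 (grp 324 y_E0) 7 16 z_T111_s143_O 1 1 :=
  IsBase.frame z_T111_s143.isBase (by decide +kernel)

noncomputable def z_T111_s142_O : ℕ := (nat_lit 0x4008028001006050401052000000000000000000000000000000000000000000000000000000000000000000000000000000000402808810000080400842800100605040104240280881000000020aa01db7b6995fdccf9d273721294b6b8991260f29ff08ecf9fedd9fd6e3483293b010000000000000014767fff3ee4373752ac894c80c1aefff126072f35ff33461367712bcc85cc2c0aef76000000000001462cc39a572823ea5dae5c7a57ebf4b7cffe7f080348d388f8880e117e394d8050bc8fc0788002001406a8c78f9c283838cd1271614f6004cf59f8d11973870799d474c307d8ea67e96ab92bf9770000a1467e3441e171350a11b8bba307b49e4bc666fa8f2b0d3e2d59f02a9913f68eb1f49a51a60f27fc0890000000000000000000000000000000000000000000000000000000000000000000000000000000001000000400000000000000000000000000000000000000000000000000000000000000000000000000000000000000000000000000000000000000000000000000000000000001000000000000000000000000000000000000000000000000000000000000000000000000000000000000000000000008000000000000000000000000000000000000000000000000000000000000000000000000000000000002000800000000000000000000000000000000000000000000000000000000000000000000000000000000)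

theorem z_T111_s142_F : Frame 324 (grp 324 y_E0) 6 13 z_T111_s142_O 0 1 :=
  Stab.frame z_hn z_T111_s142 (by decide +kernel)

noncomputable def yt_c65_cnt_L : List ℕ := [1, 4, z_T111_s1_O, 0, 0, 3, 9, z_T111_s3_O, 0, 0, 5, 10, z_T111_s5_O, 0, 0, 6, 13, z_T111_s142_O, 0, 0, 7, 16, z_T111_s143_O, 1, 0]

theorem yt_c65_cnt_P : Prob 324 9 (grp 324 y_E0) yt_c65_cnt_EG [z_g921] [z_g921] yt_c65_K yt_c65_cnt_L 0 0 :=
  Sym.prob z_hn z_hk yt_c65_sym yt_c65_cnt_EG_ok (grp_cons_le z_g39_z_T111 (grp_cons_le zg1_z_T111 (grp_cons_le zg3_z_T111 (grp_cons_le z_g43_z_T111 (grp_cons_le z_g42_z_T111 (grp_cons_le zg2_z_T111 (grp_cons_le z_g44_z_T111 (grp_cons_le z_g54_z_T111 (grp_cons_le z_g55_z_T111 (grp_cons_le z_g49_z_T111 (grp_cons_le z_g50_z_T111 (grp_cons_le z_g51_z_T111 (grp_cons_le z_g62_z_T111 (grp_cons_le z_g58_z_T111 (grp_cons_le z_g59_z_T111 (grp_cons_le z_g65_z_T111 (grp_cons_le z_g66_z_T111 (grp_cons_le z_g67_z_T111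 (grp_cons_le z_g77_z_T111 (grp_cons_le z_g78_z_T111 (grp_cons_le z_g72_z_T111 (grp_cons_le z_g73_z_T111 (grp_cons_le z_g74_z_T111 (grp_cons_le z_g81_z_T111 (grp_cons_le z_g82_z_T111 (grp_cons_le z_g87_z_T111 (grp_cons_le zg0_z_T111 (grp_cons_le z_g91_z_T111 (grp_cons_le z_g28_z_T111 (grp_cons_le z_g88_z_T111 (grp_cons_le z_g126_z_T111 (grp_cons_le z_g127_z_T111 (grp_cons_le z_g128_z_T111 (grp_cons_le z_g129_z_T111 (grp_cons_le z_g130_z_T111 (grp_cons_le z_g131_z_T111 (grp_cons_le z_g132_z_T111 (grp_cons_le z_g133_z_T111 (grp_cons_le z_g134_z_T111 (grp_cons_le z_g135_z_T111 (grp_cons_le z_g821_z_T111 (grp_cons_le z_g886_z_T111 (grp_nil_le _))))))))))))))))))))))))))))))))))))))))))) (Frames.cons z_T111_s1_F (Frames.cons z_T111_s3_F (Frames.cons z_T111_s5_F (Frames.cons z_T111_s142_F (Frames.cons z_T111_s143_F Frames.nil))))) (okE_cons.2 ⟨z_g921_ok, okE_nil _⟩) _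

noncomputable def yt_c65_cnt_t : BT := (BT.fix (nat_lit 1) (BT.br (nat_lit 0) (nat_lit 85) [nat_lit 1] (BT.kid (nat_lit 85) (nat_lit 216) (BT.frm (nat_lit 0) (nat_lit 67362) (nat_lit 67362) [nat_lit 0] (BT.pln (nat_lit 0) (nat_lit 2) (BT.fix (nat_lit 257) (BT.dif (nat_lit 1) (nat_lit 0) (BT.fix (nat_lit 65793) (BT.dif (nat_lit 1) (nat_lit 0) (BT.br (nat_lit 0) (nat_lit 211) [nat_lit 3] (BT.kid (nat_lit 211) (nat_lit 36) (BT.dif (nat_lit 4) (nat_lit 5) (BT.dif (nat_lit 0) (nat_lit 9) (BT.img (nat_lit 1) (nat_lit 2) (BT.frm (nat_lit 1) (nat_lit 0x3d07010722) (nat_lit 0x3d07010722) [nat_lit 0, nat_lit 3, nat_lit 10] (BT.pln (nat_lit 0) (nat_lit 5) (BT.dif (nat_lit 3) (nat_lit 0) (BT.br (nat_lit 0) (nat_lit 75) [nat_lit 5] (BT.kid (nat_lit 75) (nat_lit 18) (BT.dif (nat_lit 9) (nat_lit 15) (BT.dif (nat_lit 0) (nat_lit 13) (BT.img (nat_lit 1) (nat_lit 6) (BT.frm (nat_lit 2) (nat_lit 0x43423d07010722) (nat_lit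 0x43423d07010722) [nat_lit 3, nat_lit 0, nat_lit 7, nat_lit 10, nat_lit 17] (BT.pln (nat_lit 0) (nat_lit 6) (BT.dif (nat_lit 3) (nat_lit 0) (BT.br (nat_lit 0) (nat_lit 56) [nat_lit 7, nat_lit 9] (BT.kid (nat_lit 56) (nat_lit 3) (BT.pln (nat_lit 3) (nat_lit 7) (BT.and (nat_lit 3) (nat_lit 0) (BT.pln (nat_lit 5) (nat_lit 5) (BT.dif (nat_lit 1) (nat_lit 0) (BT.frm (nat_lit 3) (nat_lit 0x4843423d07010722) (nat_lit 0x4843423d07010722) [nat_lit 4, nat_lit 11, nat_lit 8, nat_lit 15, nat_lit 18, nat_lit 25] (BT.pln (nat_lit 0) (nat_lit 7) (BT.dif (nat_lit 2) (nat_lit 0) (BT.dif (nat_lit 0) (nat_lit 23) (BT.br (nat_lit 0) (nat_lit 76) [nat_lit 11] (BT.dead (nat_lit 77) (BT.frm (nat_lit 4) (nat_lit 0x524843423d07010722) (nat_lit 0x514843423d07010722) [nat_lit 0, nat_lit 9, nat_lit 16, nat_lit 13, nat_lit 20, nat_lit 23, nat_lit 30] (BT.pln (nat_lit 0) (nat_lit 8) (BT.img (nat_lit 1) (nat_lit 2) (BT.img (nat_lit 1)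 (nat_lit 0) (BT.img (nat_lit 1) (nat_lit 0) (BT.img (nat_lit 1) (nat_lit 0) (BT.img (nat_lit 1) (nat_lit 0) (BT.and (nat_lit 5) (nat_lit 0) (BT.cnt (nat_lit 0)))))))))) (BT.dead (nat_lit 89) (BT.frm (nat_lit 4) (nat_lit 0x524843423d07010722) (nat_lit 0x52544843423d07010722) [nat_lit 0, nat_lit 9, nat_lit 16, nat_lit 13, nat_lit 20, nat_lit 23, nat_lit 30] (BT.pln (nat_lit 0) (nat_lit 7) (BT.img (nat_lit 1) (nat_lit 2) (BT.and (nat_lit 1) (nat_lit 0) (BT.cnt (nat_lit 0)))))) (BT.kid (nat_lit 76) (nat_lit 1) (BT.one (nat_lit 4) (nat_lit 0x524843423d07010722) (nat_lit 0x524843423d07010722) [nat_lit 0, nat_lit 9, nat_lit 16, nat_lit 13, nat_lit 20, nat_lit 23, nat_lit 30]) BT.nil)))))))))))) BT.nil)))))))) BT.nil)))))))) BT.nil)))))))) BT.nil)))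

theorem yt_c65_cnt : Cnt 324 (grp 324 y_E0) [z_g921] [z_g921] 0 0 0 0 648 :=
  BT.sound yt_c65_cnt_P Known.nil (t := yt_c65_cnt_t) (d := 0) (by decide +kernel)

theorem yt_c65_ge : 648 ≤ Nat.card (grp 324 yt_c65_K) :=
  Ch.le_card_grp (k := 9) (L := (lab 324 9)) z_hn yt_c65_K_ok (c := (Ch.cons (nat_lit 85) [nat_lit 1] (Ch.cons (nat_lit 211) [nat_lit 3] (Ch.cons (nat_lit 75) [nat_lit 5] (Ch.cons (nat_lit 56) [nat_lit 7, nat_lit 9] (Ch.cons (nat_lit 76) [nat_lit 11] Ch.nil)))))) (by decide +kernel)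

theorem yt_c65_eq : (grp 324 y_E0) ⊓ Subgroup.centralizer {Net.toPerm 324 z_g921} = grp 324 yt_c65_K :=
  cent_eq yt_c65_sym yt_c65_cnt yt_c65_ge

theorem yt_c65_card : Nat.card ↥((grp 324 y_E0) ⊓ Subgroup.centralizer {Net.toPerm 324 z_g921}) = 648 :=
  card_cent yt_c65_sym yt_c65_cnt yt_c65_ge

theorem yt_c65_ord : orderOf (Net.toPerm 324 z_g921) = 6 :=
  orderOf_net z_hn z_hk z_g921_ok (by decide) (ps := [2, 3]) (by set_option linter.unusedSimpArgs false in simp [Nat.primeFactorsList_ofNat]) (by decide +kernel)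

theorem z_le937 : grp 324 yt_c66_K ≤ grp 324 y_E0 :=
  grp_le_of_memB z_hn z_hk y_E0_ok yt_c66_K_ok (ws := [nat_lit 0x251f192011090209, nat_lit 0x34352f261c070701051a, nat_lit 0x33352f2b19201c013802, nat_lit 0x382b1f1b1a0f08010301]) (by decide +kernel)

theorem yt_c66_le : grp 324 yt_c66_K ≤ (grp 324 y_E0) :=
  (z_le937.trans z_T111_s0.le)

theorem yt_c66_mem : Net.toPerm 324 z_g932 ∈ (grp 324 y_E0) :=
  yt_c66_le (mem_grp_of_memB z_hn z_hk yt_c66_K_ok z_g932_ok (w := (nat_lit 0x607060301)) (by decide +kernel))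

theorem yt_c66_sym : Sym 324 (grp 324 y_E0) [z_g932] yt_c66_K 0 :=
  Sym.of_lab z_hn z_hk (okE_cons.2 ⟨z_g932_ok, okE_nil _⟩) yt_c66_K_ok yt_c66_le (kT := 0) (by decide +kernel)

noncomputable def yt_c66_cnt_L : List ℕ := [1, 4, z_T111_s1_O, 0, 0, 4, 10, z_T111_s58_O, 0, 0, 6, 15, z_T111_s60_O, 1, 0]

theorem yt_c66_cnt_P : Prob 324 9 (grp 324 y_E0) yt_c66_cnt_EG [z_g932] [z_g932] yt_c66_K yt_c66_cnt_L 0 0 :=
  Sym.prob z_hn z_hk yt_c66_sym yt_c66_cnt_EG_ok (grp_cons_le z_g39_z_T111 (grp_cons_le zg1_z_T111 (grp_cons_le zg3_z_T111 (grp_cons_le z_g43_z_T111 (grp_cons_le z_g42_z_T111 (grp_cons_le zg2_z_T111 (grp_cons_le z_g44_z_T111 (grp_cons_le z_g54_z_T111 (grp_cons_le z_g55_z_T111 (grp_cons_le z_g49_z_T111 (grp_cons_le z_g50_z_T111 (grp_cons_le z_g51_z_T111 (grp_cons_le z_g62_z_T111 (grp_cons_le z_g58_z_T111 (grp_cons_le z_g59_z_T111 (grp_cons_le z_g65_z_T111 (grp_cons_le z_g66_z_T111 (grp_cons_le z_g67_z_T111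 (grp_cons_le z_g77_z_T111 (grp_cons_le z_g78_z_T111 (grp_cons_le z_g72_z_T111 (grp_cons_le z_g73_z_T111 (grp_cons_le z_g74_z_T111 (grp_cons_le z_g81_z_T111 (grp_cons_le z_g82_z_T111 (grp_cons_le z_g87_z_T111 (grp_cons_le zg0_z_T111 (grp_cons_le z_g91_z_T111 (grp_cons_le z_g28_z_T111 (grp_cons_le z_g88_z_T111 (grp_cons_le z_g426_z_T111 (grp_cons_le z_g427_z_T111 (grp_cons_le z_g424_z_T111 (grp_cons_le z_g425_z_T111 (grp_nil_le _))))))))))))))))))))))))))))))))))) (Frames.cons z_T111_s1_F (Frames.cons z_T111_s58_F (Frames.cons z_T111_s60_F Frames.nil))) (okE_cons.2 ⟨z_g932_ok, okE_nil _⟩) _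

noncomputable def yt_c66_cnt_t : BT := (BT.fix (nat_lit 1) (BT.frm (nat_lit 0) (nat_lit 65799) (nat_lit 65799) [nat_lit 0] (BT.pln (nat_lit 0) (nat_lit 3) (BT.fix (nat_lit 257) (BT.dif (nat_lit 1) (nat_lit 0) (BT.br (nat_lit 0) (nat_lit 228) [nat_lit 1] (BT.kid (nat_lit 228) (nat_lit 81) (BT.pln (nat_lit 4) (nat_lit 1) (BT.and (nat_lit 3) (nat_lit 0) (BT.br (nat_lit 0) (nat_lit 320) [nat_lit 3] (BT.dead (nat_lit 240) (BT.dif (nat_lit 11) (nat_lit 2) (BT.pln (nat_lit 8) (nat_lit 2) (BT.dif (nat_lit 1) (nat_lit 0) (BT.img (nat_lit 1) (nat_lit 6) (BT.frm (nat_lit 1) (nat_lit 0x212e070c010107) (nat_lit 0x1d26070c010107) [nat_lit 4, nat_lit 0, nat_lit 7, nat_lit 12] (BT.pln (nat_lit 0) (nat_lit 7) (BT.and (nat_lit 3) (nat_lit 0) (BT.pln (nat_lit 2) (nat_lit 4) (BT.dif (nat_lit 1) (nat_lit 0) (BT.pln (nat_lit 4) (nat_lit 5) (BT.dif (nat_lit 1) (nat_lit 0) (BT.dif (nat_lit 0) (nat_lit 16) (BT.br (nat_lit 0) (nat_lit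 1) [nat_lit 1798, nat_lit 1287] (BT.dead (nat_lit 56) (BT.img (nat_lit 1) (nat_lit 0) (BT.frm (nat_lit 2) (nat_lit 0x3f414342212e070c010107) (nat_lit 0x3e441d26070c010107) [nat_lit 0, nat_lit 1, nat_lit 14, nat_lit 10, nat_lit 17, nat_lit 22] (BT.pln (nat_lit 0) (nat_lit 6) (BT.img (nat_lit 1) (nat_lit 2) (BT.and (nat_lit 1) (nat_lit 0) (BT.cnt (nat_lit 0))))))) BT.nil)))))))))))))) (BT.kid (nat_lit 320) (nat_lit 27) (BT.dif (nat_lit 11) (nat_lit 2) (BT.pln (nat_lit 8) (nat_lit 2) (BT.dif (nat_lit 1) (nat_lit 0) (BT.img (nat_lit 1) (nat_lit 6) (BT.frm (nat_lit 1) (nat_lit 0x212e070c010107) (nat_lit 0x212e070c010107) [nat_lit 4, nat_lit 0, nat_lit 7, nat_lit 12] (BT.pln (nat_lit 0) (nat_lit 7) (BT.and (nat_lit 3) (nat_lit 0) (BT.pln (nat_lit 2) (nat_lit 4) (BT.dif (nat_lit 1) (nat_lit 0) (BT.pln (nat_lit 4) (nat_lit 5) (BT.dif (nat_lit 1) (nat_lit 0) (BT.dif (nat_lit 0) (nat_lit 16) (BT.br (nat_lit 0) (nat_lit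 1) [nat_lit 5, nat_lit 7] (BT.kid (nat_lit 1) (nat_lit 1) (BT.img (nat_lit 1) (nat_lit 0) (BT.one (nat_lit 2) (nat_lit 0x3f414342212e070c010107) (nat_lit 0x3f414342212e070c010107) [nat_lit 0, nat_lit 1, nat_lit 14, nat_lit 10, nat_lit 17, nat_lit 22])) BT.nil)))))))))))))) BT.nil))))) BT.nil)))))))

theorem yt_c66_cnt : Cnt 324 (grp 324 y_E0) [z_g932] [z_g932] 0 0 0 0 486 :=
  BT.sound yt_c66_cnt_P Known.nil (t := yt_c66_cnt_t) (d := 0) (by decide +kernel)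

theorem yt_c66_ge : 486 ≤ Nat.card (grp 324 yt_c66_K) :=
  Ch.le_card_grp (k := 9) (L := (lab 324 9)) z_hn yt_c66_K_ok (c := (Ch.cons (nat_lit 228) [nat_lit 1] (Ch.cons (nat_lit 320) [nat_lit 3] (Ch.cons (nat_lit 1) [nat_lit 5, nat_lit 7] Ch.nil)))) (by decide +kernel)

theorem yt_c66_eq : (grp 324 y_E0) ⊓ Subgroup.centralizer {Net.toPerm 324 z_g932} = grp 324 yt_c66_K :=
  cent_eq yt_c66_sym yt_c66_cnt yt_c66_ge

theorem yt_c66_card : Nat.card ↥((grp 324 y_E0) ⊓ Subgroup.centralizer {Net.toPerm 324 z_g932}) = 486 :=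
  card_cent yt_c66_sym yt_c66_cnt yt_c66_ge

theorem yt_c66_ord : orderOf (Net.toPerm 324 z_g932) = 6 :=
  orderOf_net z_hn z_hk z_g932_ok (by decide) (ps := [2, 3]) (by set_option linter.unusedSimpArgs false in simp [Nat.primeFactorsList_ofNat]) (by decide +kernel)

theorem z_le943 : grp 324 yt_c67_K ≤ grp 324 y_E0 :=
  grp_le_of_memB z_hn z_hk y_E0_ok yt_c67_K_ok (ws := [nat_lit 0x33353c261c110715010522, nat_lit 0x34352f261f191e1207021c02, nat_lit 0x34392f2b1f192615013c02, nat_lit 0x3339251f19150715012502, nat_lit 0x3c2f2819221a12012602]) (by decide +kernel)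

theorem yt_c67_le : grp 324 yt_c67_K ≤ (grp 324 y_E0) :=
  (z_le943.trans z_T111_s0.le)

theorem yt_c67_mem : Net.toPerm 324 z_g938 ∈ (grp 324 y_E0) :=
  yt_c67_le (mem_grp_of_memB z_hn z_hk yt_c67_K_ok z_g938_ok (w := (nat_lit 0x90707050401)) (by decide +kernel))

theorem yt_c67_sym : Sym 324 (grp 324 y_E0) [z_g938] yt_c67_K 0 :=
  Sym.of_lab z_hn z_hk (okE_cons.2 ⟨z_g938_ok, okE_nil _⟩) yt_c67_K_ok yt_c67_le (kT := 0) (by decide +kernel)

noncomputable def yt_c67_cnt_L : List ℕ := [1, 4, z_T111_s1_O, 0, 0, 2, 9, z_T111_s41_O, 0, 0, 3, 15, z_T111_s42_O, 0, 0, 5, 12, z_T111_s44_O, 0, 0, 6, 15, z_T111_s45_O, 1, 0]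

theorem yt_c67_cnt_P : Prob 324 9 (grp 324 y_E0) yt_c67_cnt_EG [z_g938] [z_g938] yt_c67_K yt_c67_cnt_L 0 0 :=
  Sym.prob z_hn z_hk yt_c67_sym yt_c67_cnt_EG_ok (grp_cons_le z_g39_z_T111 (grp_cons_le zg1_z_T111 (grp_cons_le zg3_z_T111 (grp_cons_le z_g43_z_T111 (grp_cons_le z_g42_z_T111 (grp_cons_le zg2_z_T111 (grp_cons_le z_g44_z_T111 (grp_cons_le z_g54_z_T111 (grp_cons_le z_g55_z_T111 (grp_cons_le z_g49_z_T111 (grp_cons_le z_g50_z_T111 (grp_cons_le z_g51_z_T111 (grp_cons_le z_g62_z_T111 (grp_cons_le z_g58_z_T111 (grp_cons_le z_g59_z_T111 (grp_cons_le z_g65_z_T111 (grp_cons_le z_g66_z_T111 (grp_cons_le z_g67_z_T111 (grp_cons_le z_g77_z_T111 (grp_cons_le z_g78_z_T111 (grp_cons_le z_g72_z_T111 (grp_cons_le z_g73_z_T111 (grp_cons_le z_g74_z_T111 (grp_cons_le z_g81_z_T111 (grp_cons_le z_g82_z_T111 (grp_cons_le z_g87_z_T111 (grp_cons_le zg0_z_T111 (grp_cons_le z_g91_z_T111 (grp_cons_le z_g28_z_T111 (grp_cons_le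 z_g88_z_T111 (grp_cons_le z_g344_z_T111 (grp_cons_le z_g345_z_T111 (grp_cons_le z_g346_z_T111 (grp_cons_le z_g347_z_T111 (grp_nil_le _))))))))))))))))))))))))))))))))))) (Frames.cons z_T111_s1_F (Frames.cons z_T111_s41_F (Frames.cons z_T111_s42_F (Frames.cons z_T111_s44_F (Frames.cons z_T111_s45_F Frames.nil))))) (okE_cons.2 ⟨z_g938_ok, okE_nil _⟩) _

noncomputable def yt_c67_cnt_t : BT := (BT.fix (nat_lit 65793) (BT.br (nat_lit 0) (nat_lit 3) [nat_lit 1, nat_lit 3, nat_lit 7] (BT.dead (nat_lit 53) (BT.img (nat_lit 1) (nat_lit 0) (BT.frm (nat_lit 1) (nat_lit 0xb2e0311) (nat_lit 0x22010a05) [nat_lit 0, nat_lit 1] (BT.pln (nat_lit 0) (nat_lit 3) (BT.and (nat_lit 4) (nat_lit 0) (BT.br (nat_lit 0) (nat_lit 241) [nat_lit 461315] (BT.dead (nat_lit 304) (BT.frm (nat_lit 2) (nat_lit 0x3d3f3f0b2e0311) (nat_lit 0x3e444022010a05) [nat_lit 0, nat_lit 4, nat_lit 5] (BT.pln (nat_lit 0) (nat_lit 3) (BT.img (nat_lit 1)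 (nat_lit 2) (BT.and (nat_lit 1) (nat_lit 0) (BT.cnt (nat_lit 0)))))) BT.nil)))))) (BT.dead (nat_lit 5) (BT.img (nat_lit 1) (nat_lit 0) (BT.frm (nat_lit 1) (nat_lit 0xb2e0311) (nat_lit 0x72b013b02) [nat_lit 0, nat_lit 1] (BT.pln (nat_lit 0) (nat_lit 3) (BT.img (nat_lit 1) (nat_lit 2) (BT.and (nat_lit 1) (nat_lit 0) (BT.cnt (nat_lit 0))))))) (BT.kid (nat_lit 3) (nat_lit 144) (BT.img (nat_lit 1) (nat_lit 0) (BT.frm (nat_lit 1) (nat_lit 0xb2e0311) (nat_lit 0xb2e0311) [nat_lit 0, nat_lit 1] (BT.pln (nat_lit 0) (nat_lit 3) (BT.and (nat_lit 4) (nat_lit 0) (BT.br (nat_lit 0) (nat_lit 241) [nat_lit 3] (BT.kid (nat_lit 241) (nat_lit 48) (BT.frm (nat_lit 0) (nat_lit 785) (nat_lit 785) [nat_lit 5] (BT.pln (nat_lit 0) (nat_lit 2) (BT.and (nat_lit 8) (nat_lit 0) (BT.img (nat_lit 1) (nat_lit 3) (BT.dif (nat_lit 1) (nat_lit 0) (BT.br (nat_lit 0) (nat_lit 232) [nat_lit 5] (BT.kid (nat_lit 232) (nat_lit 24) (BT.pln (nat_lit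 5) (nat_lit 3) (BT.img (nat_lit 1) (nat_lit 0) (BT.img (nat_lit 1) (nat_lit 0) (BT.br (nat_lit 0) (nat_lit 41) [nat_lit 7, nat_lit 9] (BT.kid (nat_lit 41) (nat_lit 3) (BT.frm (nat_lit 2) (nat_lit 0x3d3f3f0b2e0311) (nat_lit 0x3d3f3f0b2e0311) [nat_lit 10, nat_lit 14, nat_lit 15] (BT.pln (nat_lit 0) (nat_lit 7) (BT.and (nat_lit 10) (nat_lit 0) (BT.frm (nat_lit 3) (nat_lit 0x41413f3f3d3f3f0b2e0311) (nat_lit 0x41413f3f3d3f3f0b2e0311) [nat_lit 3, nat_lit 7, nat_lit 13, nat_lit 17, nat_lit 18] (BT.pln (nat_lit 0) (nat_lit 5) (BT.and (nat_lit 2) (nat_lit 0) (BT.pln (nat_lit 2) (nat_lit 6) (BT.dif (nat_lit 1) (nat_lit 0) (BT.br (nat_lit 0) (nat_lit 2) [nat_lit 9] (BT.kid (nat_lit 2) (nat_lit 1) (BT.one (nat_lit 4) (nat_lit 0x4341413f3f3d3f3f0b2e0311) (nat_lit 0x4341413f3f3d3f3f0b2e0311) [nat_lit 0, nat_lit 9, nat_lit 13, nat_lit 19, nat_lit 23, nat_lit 24]) BT.nil)))))))))) BT.nil))))) BT.nil))))))) BT.nil))))))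 BT.nil)))))

theorem yt_c67_cnt : Cnt 324 (grp 324 y_E0) [z_g938] [z_g938] 0 0 0 0 432 :=
  BT.sound yt_c67_cnt_P Known.nil (t := yt_c67_cnt_t) (d := 0) (by decide +kernel)

theorem yt_c67_ge : 432 ≤ Nat.card (grp 324 yt_c67_K) :=
  Ch.le_card_grp (k := 9) (L := (lab 324 9)) z_hn yt_c67_K_ok (c := (Ch.cons (nat_lit 3) [nat_lit 1] (Ch.cons (nat_lit 241) [nat_lit 3] (Ch.cons (nat_lit 232) [nat_lit 5] (Ch.cons (nat_lit 41) [nat_lit 7] (Ch.cons (nat_lit 2) [nat_lit 9] Ch.nil)))))) (by decide +kernel)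

theorem yt_c67_eq : (grp 324 y_E0) ⊓ Subgroup.centralizer {Net.toPerm 324 z_g938} = grp 324 yt_c67_K :=
  cent_eq yt_c67_sym yt_c67_cnt yt_c67_ge

theorem yt_c67_card : Nat.card ↥((grp 324 y_E0) ⊓ Subgroup.centralizer {Net.toPerm 324 z_g938}) = 432 :=
  card_cent yt_c67_sym yt_c67_cnt yt_c67_ge

theorem yt_c67_ord : orderOf (Net.toPerm 324 z_g938) = 6 :=
  orderOf_net z_hn z_hk z_g938_ok (by decide) (ps := [2, 3]) (by set_option linter.unusedSimpArgs false in simp [Nat.primeFactorsList_ofNat]) (by decide +kernel)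

theorem z_le950 : grp 324 yt_c68_K ≤ grp 324 y_E0 :=
  grp_le_of_memB z_hn z_hk y_E0_ok yt_c68_K_ok (ws := [nat_lit 0x332f25281f1a1f0f01050e, nat_lit 0x2f26281b1a11070701012e, nat_lit 0x33353c25281f1a1f090116, nat_lit 0x33353c2b191b1b110507, nat_lit 0x33353c271f1d1f0f070a010531]) (by decide +kernel)

theorem yt_c68_le : grp 324 yt_c68_K ≤ (grp 324 y_E0) :=
  (z_le950.trans z_T111_s0.le)

theorem yt_c68_mem : Net.toPerm 324 z_g944 ∈ (grp 324 y_E0) :=
  yt_c68_le (mem_grp_of_memB z_hn z_hk yt_c68_K_ok z_g944_ok (w := (nat_lit 657155)) (by decide +kernel))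

theorem yt_c68_sym : Sym 324 (grp 324 y_E0) [z_g944] yt_c68_K 0 :=
  Sym.of_lab z_hn z_hk (okE_cons.2 ⟨z_g944_ok, okE_nil _⟩) yt_c68_K_ok yt_c68_le (kT := 0) (by decide +kernel)

theorem z_le952 : grp 324 z_V951 ≤ grp 324 z_V362 :=
  grp_le_of_memB z_hn z_hk z_V362_ok z_V951_ok (ws := [nat_lit 3]) (by decide +kernel)

theorem z_T111_s144 : Stab 324 (grp 324 y_E0) [nat_lit 29, nat_lit 226, nat_lit 12, nat_lit 21, nat_lit 10, nat_lit 26, nat_lit 298, nat_lit 0] z_V951 3 :=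
  Stab.step (k := 9) (L := (lab 324 9)) z_hn z_T111_s46 z_V951_ok z_le952 (c := (Ch.cons (nat_lit 270) [nat_lit 1] Ch.nil)) (by decide +kernel)

theorem z_T111_s145 : Stab 324 (grp 324 y_E0) [nat_lit 270, nat_lit 29, nat_lit 226, nat_lit 12, nat_lit 21, nat_lit 10, nat_lit 26, nat_lit 298, nat_lit 0] z_V953 1 :=
  Stab.step (k := 9) (L := (lab 324 9)) z_hn z_T111_s144 z_V953_ok (grp_mono (List.subset_append_right [z_g178] _)) (c := Ch.nil) (by decide +kernel)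

noncomputable def z_T111_s145_O : ℕ := (nat_lit 0xfffffffffffffffff000000000000000000000000000000000000000000000000000000000000000000000000000000000ffffffffffffffffffffffffffffffff00000000000000000000000000000000f0000000000000000ffffffffffffffff0000000000000000ffffffffffffffff00000000000000000ffffffff00000000ffffffff00000000ffffffff00000000ffffffff00000000ffffffff000000000ffff0000ffff0000ffff0000ffff0000ffff0000ffff0000ffff0000ffff0000ffff0000ffff00000ff00ff00ff00ff00ff00ff00ff00ff00ff00ff00ff00ff00ff00ff00ff00ff00ff00ff00ff00ff000f0f0f0f0f0f0f0f0f0f0f0f0f0f0f0f0f0f0f0f0f0f0f0f0f0f0f0f0f0f0f0f0f0f0f0f0f0f0f0f0cccccccccccccccccccccccccccccccccccccccccccccccccccccccccccccccccccccccccccccccccaaaaaaaaaaaaaaaaaaaaaaaaaaaaaaaaaaaaaaaaaaaaaaaaaaaaaaaaaaaaaaaaaaaaaaaaaaaaaaaaa0000000000000000000000000000000000000000000000000000000000000000000000000000000010000004000000000000000000000000000000000000000000000000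00000000000000000000000000000000000000000000000000000000000000000000000000000000000000000000000000004000000000000000000000000000000000000000000000000000000000000000000000000000000000000400000000000000000000000000000000000000000000000000000000000000000000000000000200000000000000000000000000000000000000000000000000000000000000000000000000000000001000000000000000000000000000400000000000000000000000000000000000000000000000000000000000000000000000000000000000000000000000000000000000000000000000000000000020000000000000000000040000000000000000000000000000000000000000000000000000000000000000000)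

theorem z_T111_s145_F : Frame 324 (grp 324 y_E0) 9 18 z_T111_s145_O 1 1 :=
  IsBase.frame z_T111_s145.isBase (by decide +kernel)

noncomputable def z_T111_s144_O : ℕ := (nat_lit 0x26ca6e3a8534b9fdc42d360925db67d07f87f2c07df0b6af02980000200041020000a1c51401000e0c03591811a0146023bc26280ba741831428c8d3c020701102d27fdcfaffeffae0000a1c51401000e0dec0bb3e7d8ee7e9b3b96b632d5bc4b87fcffb97c20a4940fd65ff6ded000011fffe0000000000000b7f5a9b0e7dcfbb7d460a78fa8ca656f8070001c937357d07901fdb210dee113fe01ffeae80000000c35f7dac1d47a29458a341f80ab5a1fefe73680099efe06ec105e0ef40f95f43e1e0d81f15bcc00008d17f90829c7f75fad45ee72869f3abc21ee1e0e3710b46980839a7a88c759f199993935c18104b9845d41d0f1578dea56804edcaa5bd488b59d0d5bd14cff2359b7156549494d4db5554329cb13522a54000000000000000000000000000000000000000000000000000000000000000000000000000000001000000400000000000000000000000000000000000000000000000000000000000000000000000000000000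000000000000000000000000000000000000000000000000000000000000000000004000000000000000000000000000000000000000000000000000000000000000000000000000000000000400000000000000000000000000000000000000000000000000000000000000000000000000000200000000000000000000000000000000000000000000000000000000000000000000000000000000001000000000000000000000000000400000000000000000000000000000000000000000000000000000000000000000000000000000000000000000000000000000000000000000000000000000000020000000)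

theorem z_T111_s144_F : Frame 324 (grp 324 y_E0) 8 15 z_T111_s144_O 0 1 :=
  Stab.frame z_hn z_T111_s144 (by decide +kernel)

noncomputable def yt_c68_cnt_L : List ℕ := [1, 4, z_T111_s1_O, 0, 0, 3, 8, z_T111_s13_O, 0, 0, 5, 10, z_T111_s15_O, 0, 0, 7, 14, z_T111_s46_O, 0, 0, 8, 15, z_T111_s144_O, 0, 0, 9, 18, z_T111_s145_O, 1, 0]

theorem yt_c68_cnt_P : Prob 324 9 (grp 324 y_E0) yt_c68_cnt_EG [z_g944] [z_g944] yt_c68_K yt_c68_cnt_L 0 0 :=
  Sym.prob z_hn z_hk yt_c68_sym yt_c68_cnt_EG_ok (grp_cons_le z_g39_z_T111 (grp_cons_le zg1_z_T111 (grp_cons_le zg3_z_T111 (grp_cons_le z_g43_z_T111 (grp_cons_le z_g42_z_T111 (grp_cons_le zg2_z_T111 (grp_cons_le z_g44_z_T111 (grp_cons_le z_g54_z_T111 (grp_cons_le z_g55_z_T111 (grp_cons_le z_g49_z_T111 (grp_cons_le z_g50_z_T111 (grp_cons_le z_g51_z_T111 (grp_cons_le z_g62_z_T111 (grp_cons_le z_g58_z_T111 (grp_cons_le z_g59_z_T111 (grp_cons_le z_g65_z_T111 (grp_cons_le z_g66_z_T111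 (grp_cons_le z_g67_z_T111 (grp_cons_le z_g77_z_T111 (grp_cons_le z_g78_z_T111 (grp_cons_le z_g72_z_T111 (grp_cons_le z_g73_z_T111 (grp_cons_le z_g74_z_T111 (grp_cons_le z_g81_z_T111 (grp_cons_le z_g82_z_T111 (grp_cons_le z_g87_z_T111 (grp_cons_le zg0_z_T111 (grp_cons_le z_g91_z_T111 (grp_cons_le z_g28_z_T111 (grp_cons_le z_g88_z_T111 (grp_cons_le z_g126_z_T111 (grp_cons_le z_g127_z_T111 (grp_cons_le z_g128_z_T111 (grp_cons_le z_g129_z_T111 (grp_cons_le z_g130_z_T111 (grp_cons_le z_g131_z_T111 (grp_cons_le z_g132_z_T111 (grp_cons_le z_g133_z_T111 (grp_cons_le z_g134_z_T111 (grp_cons_le z_g135_z_T111 (grp_cons_le z_g175_z_T111 (grp_cons_le z_g176_z_T111 (grp_cons_le z_g177_z_T111 (grp_cons_le z_g30_z_T111 (grp_cons_le z_g178_z_T111 (grp_cons_le z_g174_z_T111 (grp_cons_le z_g361_z_T111 (grp_nil_le _)))))))))))))))))))))))))))))))))))))))))))))))) (Frames.cons z_T111_s1_F (Frames.cons z_T111_s13_F (Frames.cons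 z_T111_s15_F (Frames.cons z_T111_s46_F (Frames.cons z_T111_s144_F (Frames.cons z_T111_s145_F Frames.nil)))))) (okE_cons.2 ⟨z_g944_ok, okE_nil _⟩) _

noncomputable def yt_c68_cnt_t : BT := (BT.fix (nat_lit 1) (BT.br (nat_lit 0) (nat_lit 61) [nat_lit 1] (BT.kid (nat_lit 61) (nat_lit 144) (BT.frm (nat_lit 0) (nat_lit 65806) (nat_lit 65806) [nat_lit 0] (BT.pln (nat_lit 0) (nat_lit 2) (BT.fix (nat_lit 65793) (BT.and (nat_lit 1) (nat_lit 0) (BT.br (nat_lit 0) (nat_lit 228) [nat_lit 3] (BT.kid (nat_lit 228) (nat_lit 48) (BT.img (nat_lit 1) (nat_lit 0) (BT.frm (nat_lit 1) (nat_lit 0x471a01010e) (nat_lit 0x471a01010e) [nat_lit 0, nat_lit 1, nat_lit 6] (BT.pln (nat_lit 0) (nat_lit 6) (BT.and (nat_lit 6) (nat_lit 0) (BT.br (nat_lit 0) (nat_lit 227) [nat_lit 5, nat_lit 7] (BT.kid (nat_lit 227) (nat_lit 6) (BT.pln (nat_lit 9) (nat_lit 1) (BT.dif (nat_lit 0) (nat_lit 8) (BT.fix (nat_lit 257) (BT.dif (nat_lit 1) (nat_lit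 0) (BT.dif (nat_lit 10) (nat_lit 9) (BT.dif (nat_lit 0) (nat_lit 9) (BT.frm (nat_lit 2) (nat_lit 0x52545b52471a01010e) (nat_lit 0x52545b52471a01010e) [nat_lit 6, nat_lit 0, nat_lit 10, nat_lit 11, nat_lit 16] (BT.pln (nat_lit 0) (nat_lit 6) (BT.and (nat_lit 4) (nat_lit 0) (BT.img (nat_lit 1) (nat_lit 9) (BT.img (nat_lit 1) (nat_lit 0) (BT.frm (nat_lit 3) (nat_lit 0x555352545b52471a01010e) (nat_lit 0x555352545b52471a01010e) [nat_lit 0, nat_lit 1, nat_lit 11, nat_lit 5, nat_lit 15, nat_lit 16, nat_lit 21] (BT.pln (nat_lit 0) (nat_lit 7) (BT.dif (nat_lit 4) (nat_lit 0) (BT.br (nat_lit 0) (nat_lit 282) [nat_lit 7] (BT.kid (nat_lit 282) (nat_lit 3) (BT.dif (nat_lit 29) (nat_lit 2) (BT.pln (nat_lit 4) (nat_lit 12) (BT.and (nat_lit 1) (nat_lit 0) (BT.dif (nat_lit 0) (nat_lit 10) (BT.pln (nat_lit 12) (nat_lit 7) (BT.dif (nat_lit 1) (nat_lit 0) (BT.pln (nat_lit 9) (nat_lit 8) (BT.dif (nat_lit 1) (nat_lit 0) (BT.frm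 (nat_lit 4) (nat_lit 0x5d555352545b52471a01010e) (nat_lit 0x5d555352545b52471a01010e) [nat_lit 8, nat_lit 12, nat_lit 13, nat_lit 23, nat_lit 17, nat_lit 27, nat_lit 28, nat_lit 33] (BT.pln (nat_lit 0) (nat_lit 10) (BT.dif (nat_lit 2) (nat_lit 0) (BT.br (nat_lit 0) (nat_lit 235) [nat_lit 9] (BT.kid (nat_lit 235) (nat_lit 1) (BT.one (nat_lit 5) (nat_lit 0x5a5d555352545b52471a01010e) (nat_lit 0x5a5d555352545b52471a01010e) [nat_lit 0, nat_lit 12, nat_lit 16, nat_lit 17, nat_lit 27, nat_lit 21, nat_lit 31, nat_lit 32, nat_lit 37]) BT.nil))))))))))))) BT.nil)))))))))))))))) BT.nil)))))) BT.nil)))))) BT.nil)))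

theorem yt_c68_cnt : Cnt 324 (grp 324 y_E0) [z_g944] [z_g944] 0 0 0 0 432 :=
  BT.sound yt_c68_cnt_P Known.nil (t := yt_c68_cnt_t) (d := 0) (by decide +kernel)

theorem yt_c68_ge : 432 ≤ Nat.card (grp 324 yt_c68_K) :=
  Ch.le_card_grp (k := 9) (L := (lab 324 9)) z_hn yt_c68_K_ok (c := (Ch.cons (nat_lit 61) [nat_lit 1] (Ch.cons (nat_lit 228) [nat_lit 3] (Ch.cons (nat_lit 227) [nat_lit 5] (Ch.cons (nat_lit 282) [nat_lit 7] (Ch.cons (nat_lit 235) [nat_lit 9] Ch.nil)))))) (by decide +kernel)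

theorem yt_c68_eq : (grp 324 y_E0) ⊓ Subgroup.centralizer {Net.toPerm 324 z_g944} = grp 324 yt_c68_K :=
  cent_eq yt_c68_sym yt_c68_cnt yt_c68_ge

theorem yt_c68_card : Nat.card ↥((grp 324 y_E0) ⊓ Subgroup.centralizer {Net.toPerm 324 z_g944}) = 432 :=
  card_cent yt_c68_sym yt_c68_cnt yt_c68_ge

theorem yt_c68_ord : orderOf (Net.toPerm 324 z_g944) = 6 :=
  orderOf_net z_hn z_hk z_g944_ok (by decide) (ps := [2, 3]) (by set_option linter.unusedSimpArgs false in simp [Nat.primeFactorsList_ofNat]) (by decide +kernel)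

theorem z_le960 : grp 324 yt_c69_K ≤ grp 324 y_E0 :=
  grp_le_of_memB z_hn z_hk y_E0_ok yt_c69_K_ok (ws := [nat_lit 0x3435261f19221a110707013802, nat_lit 0x343919200f12010803, nat_lit 0x33271f1a200f070c01050a, nat_lit 0x35382f27191b1b110715010333, nat_lit 0x39281d051d]) (by decide +kernel)

theorem yt_c69_le : grp 324 yt_c69_K ≤ (grp 324 y_E0) :=
  (z_le960.trans z_T111_s0.le)

theorem yt_c69_mem : Net.toPerm 324 z_g954 ∈ (grp 324 y_E0) :=
  yt_c69_le (mem_grp_of_memB z_hn z_hk yt_c69_K_ok z_g954_ok (w := (nat_lit 0x7060101)) (by decide +kernel))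

theorem yt_c69_sym : Sym 324 (grp 324 y_E0) [z_g954] yt_c69_K 0 :=
  Sym.of_lab z_hn z_hk (okE_cons.2 ⟨z_g954_ok, okE_nil _⟩) yt_c69_K_ok yt_c69_le (kT := 0) (by decide +kernel)

noncomputable def yt_c69_cnt_L : List ℕ := [1, 4, z_T111_s1_O, 0, 0, 2, 6, z_T111_s20_O, 0, 0, 4, 19, z_T111_s22_O, 0, 0, 5, 10, z_T111_s23_O, 0, 0, 7, 14, z_T111_s27_O, 0, 0, 8, 17, z_T111_s28_O, 1, 0]

theorem yt_c69_cnt_P : Prob 324 9 (grp 324 y_E0) yt_c69_cnt_EG [z_g954] [z_g954] yt_c69_K yt_c69_cnt_L 0 0 :=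
  Sym.prob z_hn z_hk yt_c69_sym yt_c69_cnt_EG_ok (grp_cons_le z_g39_z_T111 (grp_cons_le zg1_z_T111 (grp_cons_le zg3_z_T111 (grp_cons_le z_g43_z_T111 (grp_cons_le z_g42_z_T111 (grp_cons_le zg2_z_T111 (grp_cons_le z_g44_z_T111 (grp_cons_le z_g54_z_T111 (grp_cons_le z_g55_z_T111 (grp_cons_le z_g49_z_T111 (grp_cons_le z_g50_z_T111 (grp_cons_le z_g51_z_T111 (grp_cons_le z_g62_z_T111 (grp_cons_le z_g58_z_T111 (grp_cons_le z_g59_z_T111 (grp_cons_le z_g65_z_T111 (grp_cons_le z_g66_z_T111 (grp_cons_le z_g67_z_T111 (grp_cons_le z_g77_z_T111 (grp_cons_le z_g78_z_T111 (grp_cons_le z_g72_z_T111 (grp_cons_le z_g73_z_T111 (grp_cons_le z_g74_z_T111 (grp_cons_le z_g81_z_T111 (grp_cons_le z_g82_z_T111 (grp_cons_le z_g87_z_T111 (grp_cons_le zg0_z_T111 (grp_cons_le z_g91_z_T111 (grp_cons_le z_g28_z_T111 (grp_cons_le z_g88_z_T111 (grp_cons_le z_g216_z_T111 (grp_cons_le z_g217_z_T111 (grp_nil_le _)))))))))))))))))))))))))))))))))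 (Frames.cons z_T111_s1_F (Frames.cons z_T111_s20_F (Frames.cons z_T111_s22_F (Frames.cons z_T111_s23_F (Frames.cons z_T111_s27_F (Frames.cons z_T111_s28_F Frames.nil)))))) (okE_cons.2 ⟨z_g954_ok, okE_nil _⟩) _

noncomputable def yt_c69_cnt_t : BT := (BT.fix (nat_lit 65793) (BT.fix (nat_lit 1) (BT.dif (nat_lit 1) (nat_lit 0) (BT.br (nat_lit 0) (nat_lit 79) [nat_lit 1] (BT.kid (nat_lit 79) (nat_lit 72) (BT.img (nat_lit 1) (nat_lit 0) (BT.frm (nat_lit 1) (nat_lit 282) (nat_lit 282) [nat_lit 0, nat_lit 1] (BT.pln (nat_lit 0) (nat_lit 4) (BT.and (nat_lit 4) (nat_lit 0) (BT.br (nat_lit 0) (nat_lit 210) [nat_lit 3] (BT.kid (nat_lit 210) (nat_lit 24) (BT.frm (nat_lit 0) (nat_lit 282) (nat_lit 282) [nat_lit 5] (BT.pln (nat_lit 0) (nat_lit 2) (BT.fix (nat_lit 257) (BT.dif (nat_lit 1) (nat_lit 0) (BT.br (nat_lit 0) (nat_lit 168) [nat_lit 5, nat_lit 7] (BT.dead (nat_lit 125) (BT.frm (nat_lit 2) (nat_lit 0x191c12011a)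 (nat_lit 0x191e12011a) [nat_lit 0, nat_lit 5, nat_lit 9, nat_lit 10] (BT.pln (nat_lit 0) (nat_lit 10) (BT.and (nat_lit 0) (nat_lit 14) (BT.cnt (nat_lit 0))))) (BT.dead (nat_lit 151) (BT.frm (nat_lit 2) (nat_lit 0x191c12011a) (nat_lit 0x1a12011a) [nat_lit 0, nat_lit 5, nat_lit 9, nat_lit 10] (BT.pln (nat_lit 0) (nat_lit 10) (BT.and (nat_lit 0) (nat_lit 14) (BT.cnt (nat_lit 0))))) (BT.kid (nat_lit 168) (nat_lit 4) (BT.frm (nat_lit 2) (nat_lit 0x191c12011a) (nat_lit 0x191c12011a) [nat_lit 0, nat_lit 5, nat_lit 9, nat_lit 10] (BT.pln (nat_lit 0) (nat_lit 5) (BT.img (nat_lit 1) (nat_lit 2) (BT.img (nat_lit 1) (nat_lit 0) (BT.frm (nat_lit 3) (nat_lit 0x1f191c12011a) (nat_lit 0x1f191c12011a) [nat_lit 0, nat_lit 4, nat_lit 9, nat_lit 13, nat_lit 14] (BT.pln (nat_lit 0) (nat_lit 5) (BT.and (nat_lit 4) (nat_lit 0) (BT.pln (nat_lit 6) (nat_lit 8) (BT.and (nat_lit 20) (nat_lit 0) (BT.pln (nat_lit 8) (nat_lit 7) (BT.and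 (nat_lit 22) (nat_lit 0) (BT.frm (nat_lit 4) (nat_lit 0x2b1f191c12011a) (nat_lit 0x2b1f191c12011a) [nat_lit 2, nat_lit 0, nat_lit 7, nat_lit 11, nat_lit 16, nat_lit 20, nat_lit 21] (BT.pln (nat_lit 0) (nat_lit 13) (BT.and (nat_lit 6) (nat_lit 0) (BT.br (nat_lit 0) (nat_lit 0) [nat_lit 7, nat_lit 9] (BT.kid (nat_lit 0) (nat_lit 1) (BT.one (nat_lit 5) (nat_lit 0x2b1f191c12011a) (nat_lit 0x2b1f191c12011a) [nat_lit 0, nat_lit 6, nat_lit 4, nat_lit 11, nat_lit 15, nat_lit 20, nat_lit 24, nat_lit 25]) BT.nil)))))))))))))))) BT.nil)))))))) BT.nil)))))) BT.nil)))))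

theorem yt_c69_cnt : Cnt 324 (grp 324 y_E0) [z_g954] [z_g954] 0 0 0 0 432 :=
  BT.sound yt_c69_cnt_P Known.nil (t := yt_c69_cnt_t) (d := 0) (by decide +kernel)

theorem yt_c69_ge : 432 ≤ Nat.card (grp 324 yt_c69_K) :=
  Ch.le_card_grp (k := 9) (L := (lab 324 9)) z_hn yt_c69_K_ok (c := (Ch.cons (nat_lit 79) [nat_lit 1] (Ch.cons (nat_lit 210) [nat_lit 3] (Ch.cons (nat_lit 168) [nat_lit 5] (Ch.cons (nat_lit 0) [nat_lit 7, nat_lit 9] Ch.nil))))) (by decide +kernel)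

theorem yt_c69_eq : (grp 324 y_E0) ⊓ Subgroup.centralizer {Net.toPerm 324 z_g954} = grp 324 yt_c69_K :=
  cent_eq yt_c69_sym yt_c69_cnt yt_c69_ge

theorem yt_c69_card : Nat.card ↥((grp 324 y_E0) ⊓ Subgroup.centralizer {Net.toPerm 324 z_g954}) = 432 :=
  card_cent yt_c69_sym yt_c69_cnt yt_c69_ge

theorem yt_c69_ord : orderOf (Net.toPerm 324 z_g954) = 6 :=
  orderOf_net z_hn z_hk z_g954_ok (by decide) (ps := [2, 3]) (by set_option linter.unusedSimpArgs false in simp [Nat.primeFactorsList_ofNat]) (by decide +kernel)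

theorem z_le964 : grp 324 yt_c70_K ≤ grp 324 y_E0 :=
  grp_le_of_memB z_hn z_hk y_E0_ok yt_c70_K_ok (ws := [nat_lit 0x33382f2611070138, nat_lit 0x34392f281c1207012602, nat_lit 13369]) (by decide +kernel)

theorem yt_c70_le : grp 324 yt_c70_K ≤ (grp 324 y_E0) :=
  (z_le964.trans z_T111_s0.le)

theorem yt_c70_mem : Net.toPerm 324 z_g961 ∈ (grp 324 y_E0) :=
  yt_c70_le (mem_grp_of_memB z_hn z_hk yt_c70_K_ok z_g961_ok (w := (nat_lit 0x5030303020202)) (by decide +kernel))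

theorem yt_c70_sym : Sym 324 (grp 324 y_E0) [z_g961] yt_c70_K 0 :=
  Sym.of_lab z_hn z_hk (okE_cons.2 ⟨z_g961_ok, okE_nil _⟩) yt_c70_K_ok yt_c70_le (kT := 0) (by decide +kernel)

theorem z_le966 : grp 324 z_V965 ≤ grp 324 z_V182 :=
  grp_le_of_memB z_hn z_hk z_V182_ok z_V965_ok (ws := [nat_lit 5, nat_lit 328449]) (by decide +kernel)

theorem z_T111_s146 : Stab 324 (grp 324 y_E0) [nat_lit 11, nat_lit 21, nat_lit 10, nat_lit 26, nat_lit 298, nat_lit 0] z_V965 4 :=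
  Stab.step (k := 9) (L := (lab 324 9)) z_hn z_T111_s15 z_V965_ok z_le966 (c := (Ch.cons (nat_lit 217) [nat_lit 1] (Ch.cons (nat_lit 262) [nat_lit 3] Ch.nil))) (by decide +kernel)

theorem z_T111_s147 : Stab 324 (grp 324 y_E0) [nat_lit 217, nat_lit 11, nat_lit 21, nat_lit 10, nat_lit 26, nat_lit 298, nat_lit 0] z_V967 2 :=
  Stab.step (k := 9) (L := (lab 324 9)) z_hn z_T111_s146 z_V967_ok (grp_mono (List.subset_append_right [z_g30] _)) (c := (Ch.cons (nat_lit 262) [nat_lit 1] Ch.nil)) (by decide +kernel)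

theorem z_T111_s148 : Stab 324 (grp 324 y_E0) [nat_lit 262, nat_lit 217, nat_lit 11, nat_lit 21, nat_lit 10, nat_lit 26, nat_lit 298, nat_lit 0] z_V968 1 :=
  Stab.step (k := 9) (L := (lab 324 9)) z_hn z_T111_s147 z_V968_ok (grp_mono (List.subset_append_right [z_g249] _)) (c := Ch.nil) (by decide +kernel)

theorem z_g249_z_T111 : Net.toPerm 324 z_g249 ∈ (grp 324 y_E0) :=
  z_T111_s146.le (toPerm_mem_grp (E := z_V965) (List.Mem.tail _ (List.Mem.head _)))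

noncomputable def z_T111_s148_O : ℕ := (nat_lit 0xfffffffffffffffff000000000000000000000000000000000000000000000000000000000000000000000000000000000ffffffffffffffffffffffffffffffff00000000000000000000000000000000f0000000000000000ffffffffffffffff0000000000000000ffffffffffffffff00000000000000000ffffffff00000000ffffffff00000000ffffffff00000000ffffffff00000000ffffffff000000000ffff0000ffff0000ffff0000ffff0000ffff0000ffff0000ffff0000ffff0000ffff0000ffff00000ff00ff00ff00ff00ff00ff00ff00ff00ff00ff00ff00ff00ff00ff00ff00ff00ff00ff00ff00ff000f0f0f0f0f0f0f0f0f0f0f0f0f0f0f0f0f0f0f0f0f0f0f0f0f0f0f0f0f0f0f0f0f0f0f0f0f0f0f0f0cccccccccccccccccccccccccccccccccccccccccccccccccccccccccccccccccccccccccccccccccaaaaaaaaaaaaaaaaaaaaaaaaaaaaaaaaaaaaaaaaaaaaaaaaaaaaaaaaaaaaaaaaaaaaaaaaaaaaaaaaa0000000000000000000000000000000000000000000000000000000000000000000000000000000010000004000000000000000000000000000000000000000000000000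00000000000000000000000000000000000000000000000000000000000000000000000000000000000000000000000000004000000000000000000000000000000000000000000000000000000000000000000000000000000000000400000000000000000000000000000000000000000000000000000000000000000000000000000200000000000000000000000000000000000000000000000000000000000000000000000000000000000800000000000000000000000000002000000000000000000000000000000000000000000000000000000000000000000000400000000000000000000000000000000000000000000000000000000000000000)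

theorem z_T111_s148_F : Frame 324 (grp 324 y_E0) 8 17 z_T111_s148_O 1 1 :=
  IsBase.frame z_T111_s148.isBase (by decide +kernel)

noncomputable def z_T111_s147_O : ℕ := (nat_lit 0x4429431fe50c894783c84030468a0000000000000004000000000000000104020000000000bde22b43ad688a01af366801c333c8e1811cfd195980ffdeff2ffefef9fffeb000000000000000000000000098043c8018e116b838033d57d1147ef39d985fbf7fdf981010000014cdffbefeffe0000000b0000007b52f58bc08166206437260598545eb5bddd5b82902065ffaf680000fdbefa01001fffe0000de22b4275a2e843c6d97c7ce0704d00051fdfbfa26107fe80127fe0037fc14cfb001fde01fe01ff00de220003af02a437299a7868bcfcae7105ece4079bb03e93ed67d1a86783d0de0f85f01e1e1e0f0f0d800b462083dbd15c87d3f5598378ee6144a7b06842a314316e739c6f6733cf3cc30cf1999999ccc8c711e00dbe73889c43b836ddf1514d5c914610ac33bd69328b36b575456aa6ab2b68ab5555555aaa295a198000000000000000000000000000000000000000000000000000000000000000000000000000000001000000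400000000000000000000000000000000000000000000000000000000000000000000000000000000000000000000000000000000000000000000000000000000000000000000000000004000000000000000000000000000000000000000000000000000000000000000000000000000000000000400000000000000000000000000000000000000000000000000000000000000000000000000000200000000000000000000000000000000000000000000000000000000000000000000000000000000000800000000000000000000000000002000000000000000000000000000000000000000000000000000000)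

theorem z_T111_s147_F : Frame 324 (grp 324 y_E0) 7 15 z_T111_s147_O 0 1 :=
  Stab.frame z_hn z_T111_s147 (by decide +kernel)

noncomputable def yt_c70_cnt_L : List ℕ := [1, 4, z_T111_s1_O, 0, 0, 5, 10, z_T111_s15_O, 0, 0, 7, 15, z_T111_s147_O, 0, 0, 8, 17, z_T111_s148_O, 1, 0]

theorem yt_c70_cnt_P : Prob 324 9 (grp 324 y_E0) yt_c70_cnt_EG [z_g961] [z_g961] yt_c70_K yt_c70_cnt_L 0 0 :=
  Sym.prob z_hn z_hk yt_c70_sym yt_c70_cnt_EG_ok (grp_cons_le z_g39_z_T111 (grp_cons_le zg1_z_T111 (grp_cons_le zg3_z_T111 (grp_cons_le z_g43_z_T111 (grp_cons_le z_g42_z_T111 (grp_cons_le zg2_z_T111 (grp_cons_le z_g44_z_T111 (grp_cons_le z_g54_z_T111 (grp_cons_le z_g55_z_T111 (grp_cons_le z_g49_z_T111 (grp_cons_le z_g50_z_T111 (grp_cons_le z_g51_z_T111 (grp_cons_le z_g62_z_T111 (grp_cons_le z_g58_z_T111 (grp_cons_le z_g59_z_T111 (grp_cons_le z_g65_z_T111 (grp_cons_le z_g66_z_T111 (grp_cons_le z_g67_z_T111 (grp_cons_le z_g77_z_T111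 (grp_cons_le z_g78_z_T111 (grp_cons_le z_g72_z_T111 (grp_cons_le z_g73_z_T111 (grp_cons_le z_g74_z_T111 (grp_cons_le z_g81_z_T111 (grp_cons_le z_g82_z_T111 (grp_cons_le z_g87_z_T111 (grp_cons_le zg0_z_T111 (grp_cons_le z_g91_z_T111 (grp_cons_le z_g28_z_T111 (grp_cons_le z_g88_z_T111 (grp_cons_le z_g175_z_T111 (grp_cons_le z_g176_z_T111 (grp_cons_le z_g177_z_T111 (grp_cons_le z_g30_z_T111 (grp_cons_le z_g178_z_T111 (grp_cons_le z_g174_z_T111 (grp_cons_le z_g126_z_T111 (grp_cons_le z_g127_z_T111 (grp_cons_le z_g128_z_T111 (grp_cons_le z_g129_z_T111 (grp_cons_le z_g130_z_T111 (grp_cons_le z_g131_z_T111 (grp_cons_le z_g132_z_T111 (grp_cons_le z_g133_z_T111 (grp_cons_le z_g134_z_T111 (grp_cons_le z_g135_z_T111 (grp_cons_le z_g249_z_T111 (grp_nil_le _)))))))))))))))))))))))))))))))))))))))))))))))) (Frames.cons z_T111_s1_F (Frames.cons z_T111_s15_F (Frames.cons z_T111_s147_F (Frames.cons z_T111_s148_F Frames.nil))))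 (okE_cons.2 ⟨z_g961_ok, okE_nil _⟩) _

noncomputable def yt_c70_cnt_t : BT := (BT.fix (nat_lit 65793) (BT.fix (nat_lit 1) (BT.dif (nat_lit 1) (nat_lit 0) (BT.br (nat_lit 0) (nat_lit 9) [nat_lit 1, nat_lit 3] (BT.kid (nat_lit 9) (nat_lit 12) (BT.frm (nat_lit 0) (nat_lit 79874) (nat_lit 79874) [nat_lit 0] (BT.pln (nat_lit 0) (nat_lit 3) (BT.img (nat_lit 1) (nat_lit 0) (BT.img (nat_lit 1) (nat_lit 0) (BT.br (nat_lit 0) (nat_lit 6) [nat_lit 3] (BT.dead (nat_lit 8) (BT.pln (nat_lit 4) (nat_lit 2) (BT.and (nat_lit 8) (nat_lit 0) (BT.img (nat_lit 1) (nat_lit 7) (BT.img (nat_lit 1) (nat_lit 0) (BT.frm (nat_lit 1) (nat_lit 0x3e494f17013802) (nat_lit 0x3d3d494f17013802) [nat_lit 4, nat_lit 2, nat_lit 0, nat_lit 1, nat_lit 9] (BT.pln (nat_lit 0) (nat_lit 5) (BT.img (nat_lit 1) (nat_lit 6) (BT.img (nat_lit 1) (nat_lit 0) (BT.and (nat_lit 2) (nat_lit 0) (BT.cnt (nat_lit 0))))))))))) (BT.kid (nat_lit 6) (nat_lit 2) (BT.dif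 (nat_lit 11) (nat_lit 8) (BT.pln (nat_lit 5) (nat_lit 1) (BT.dif (nat_lit 1) (nat_lit 0) (BT.pln (nat_lit 7) (nat_lit 2) (BT.dif (nat_lit 1) (nat_lit 0) (BT.img (nat_lit 1) (nat_lit 5) (BT.img (nat_lit 1) (nat_lit 0) (BT.and (nat_lit 14) (nat_lit 3) (BT.img (nat_lit 1) (nat_lit 13) (BT.img (nat_lit 1) (nat_lit 0) (BT.frm (nat_lit 2) (nat_lit 0x3f463e494f17013802) (nat_lit 0x3f463e494f17013802) [nat_lit 3, nat_lit 4, nat_lit 10, nat_lit 2, nat_lit 0, nat_lit 1, nat_lit 15] (BT.pln (nat_lit 0) (nat_lit 14) (BT.and (nat_lit 7) (nat_lit 0) (BT.pln (nat_lit 2) (nat_lit 7) (BT.and (nat_lit 1) (nat_lit 0) (BT.pln (nat_lit 4) (nat_lit 8) (BT.and (nat_lit 1) (nat_lit 0) (BT.pln (nat_lit 6) (nat_lit 9) (BT.dif (nat_lit 1) (nat_lit 0) (BT.pln (nat_lit 8) (nat_lit 10) (BT.and (nat_lit 1) (nat_lit 0) (BT.br (nat_lit 0) (nat_lit 221) [nat_lit 5] (BT.kid (nat_lit 221) (nat_lit 1) (BT.one (nat_lit 3) (nat_lit 0x5d3f463e494f17013802)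 (nat_lit 0x5d3f463e494f17013802) [nat_lit 0, nat_lit 15, nat_lit 16, nat_lit 22, nat_lit 14, nat_lit 12, nat_lit 13, nat_lit 27]) BT.nil))))))))))))))))))))))) BT.nil))))))) BT.nil)))))

theorem yt_c70_cnt : Cnt 324 (grp 324 y_E0) [z_g961] [z_g961] 0 0 0 0 324 :=
  BT.sound yt_c70_cnt_P Known.nil (t := yt_c70_cnt_t) (d := 0) (by decide +kernel)

theorem yt_c70_ge : 324 ≤ Nat.card (grp 324 yt_c70_K) :=
  Ch.le_card_grp (k := 9) (L := (lab 324 9)) z_hn yt_c70_K_ok (c := (Ch.cons (nat_lit 9) [nat_lit 1] (Ch.cons (nat_lit 6) [nat_lit 3] (Ch.cons (nat_lit 221) [nat_lit 5] Ch.nil)))) (by decide +kernel)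

theorem yt_c70_eq : (grp 324 y_E0) ⊓ Subgroup.centralizer {Net.toPerm 324 z_g961} = grp 324 yt_c70_K :=
  cent_eq yt_c70_sym yt_c70_cnt yt_c70_ge

theorem yt_c70_card : Nat.card ↥((grp 324 y_E0) ⊓ Subgroup.centralizer {Net.toPerm 324 z_g961}) = 324 :=
  card_cent yt_c70_sym yt_c70_cnt yt_c70_ge

theorem yt_c70_ord : orderOf (Net.toPerm 324 z_g961) = 6 :=
  orderOf_net z_hn z_hk z_g961_ok (by decide) (ps := [2, 3]) (by set_option linter.unusedSimpArgs false in simp [Nat.primeFactorsList_ofNat]) (by decide +kernel)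

theorem z_le976 : grp 324 yt_c71_K ≤ grp 324 y_E0 :=
  grp_le_of_memB z_hn z_hk y_E0_ok yt_c71_K_ok (ws := [nat_lit 0x351f1d0f1207010531, nat_lit 0x3725191c0801013c, nat_lit 0x332f2b1f0f12090509, nat_lit 0x353c2719201c012602, nat_lit 0x332f252819221a1508010116, nat_lit 0x38281d1f0801013b]) (by decide +kernel)

theorem yt_c71_le : grp 324 yt_c71_K ≤ (grp 324 y_E0) :=
  (z_le976.trans z_T111_s0.le)

theorem yt_c71_mem : Net.toPerm 324 z_g969 ∈ (grp 324 y_E0) :=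
  yt_c71_le (mem_grp_of_memB z_hn z_hk yt_c71_K_ok z_g969_ok (w := (nat_lit 525572)) (by decide +kernel))

theorem yt_c71_sym : Sym 324 (grp 324 y_E0) [z_g969] yt_c71_K 0 :=
  Sym.of_lab z_hn z_hk (okE_cons.2 ⟨z_g969_ok, okE_nil _⟩) yt_c71_K_ok yt_c71_le (kT := 0) (by decide +kernel)

noncomputable def yt_c71_cnt_L : List ℕ := [1, 4, z_T111_s1_O, 0, 0, 3, 9, z_T111_s3_O, 0, 0, 4, 19, z_T111_s4_O, 0, 0, 5, 23, z_T111_s9_O, 0, 0, 7, 14, z_T111_s35_O, 0, 0, 8, 16, z_T111_s36_O, 0, 0, 9, 18, z_T111_s37_O, 1, 0]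

theorem yt_c71_cnt_P : Prob 324 9 (grp 324 y_E0) yt_c71_cnt_EG [z_g969] [z_g969] yt_c71_K yt_c71_cnt_L 0 0 :=
  Sym.prob z_hn z_hk yt_c71_sym yt_c71_cnt_EG_ok (grp_cons_le z_g39_z_T111 (grp_cons_le zg1_z_T111 (grp_cons_le zg3_z_T111 (grp_cons_le z_g43_z_T111 (grp_cons_le z_g42_z_T111 (grp_cons_le zg2_z_T111 (grp_cons_le z_g44_z_T111 (grp_cons_le z_g54_z_T111 (grp_cons_le z_g55_z_T111 (grp_cons_le z_g49_z_T111 (grp_cons_le z_g50_z_T111 (grp_cons_le z_g51_z_T111 (grp_cons_le z_g62_z_T111 (grp_cons_le z_g58_z_T111 (grp_cons_le z_g59_z_T111 (grp_cons_le z_g65_z_T111 (grp_cons_le z_g66_z_T111 (grp_cons_le z_g67_z_T111 (grp_cons_le z_g77_z_T111 (grp_cons_le z_g78_z_T111 (grp_cons_le z_g72_z_T111 (grp_cons_le z_g73_z_T111 (grp_cons_le z_g74_z_T111 (grp_cons_le z_g81_z_T111 (grp_cons_le z_g82_z_T111 (grp_cons_le z_g87_z_T111 (grp_cons_le zg0_z_T111 (grp_cons_le z_g91_z_T111 (grp_cons_le z_g28_z_T111 (grp_cons_le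 z_g88_z_T111 (grp_cons_le z_g126_z_T111 (grp_cons_le z_g127_z_T111 (grp_cons_le z_g128_z_T111 (grp_cons_le z_g129_z_T111 (grp_cons_le z_g130_z_T111 (grp_cons_le z_g131_z_T111 (grp_cons_le z_g132_z_T111 (grp_cons_le z_g133_z_T111 (grp_cons_le z_g134_z_T111 (grp_cons_le z_g135_z_T111 (grp_cons_le z_g155_z_T111 (grp_cons_le z_g156_z_T111 (grp_cons_le z_g157_z_T111 (grp_cons_le z_g158_z_T111 (grp_cons_le z_g154_z_T111 (grp_cons_le z_g309_z_T111 (grp_cons_le z_g310_z_T111 (grp_nil_le _)))))))))))))))))))))))))))))))))))))))))))))))) (Frames.cons z_T111_s1_F (Frames.cons z_T111_s3_F (Frames.cons z_T111_s4_F (Frames.cons z_T111_s9_F (Frames.cons z_T111_s35_F (Frames.cons z_T111_s36_F (Frames.cons z_T111_s37_F Frames.nil))))))) (okE_cons.2 ⟨z_g969_ok, okE_nil _⟩) _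

noncomputable def yt_c71_cnt_t : BT := (BT.fix (nat_lit 1) (BT.br (nat_lit 0) (nat_lit 120) [nat_lit 1] (BT.kid (nat_lit 120) (nat_lit 108) (BT.frm (nat_lit 0) (nat_lit 65801) (nat_lit 65801) [nat_lit 0] (BT.pln (nat_lit 0) (nat_lit 2) (BT.fix (nat_lit 65793) (BT.and (nat_lit 1) (nat_lit 0) (BT.br (nat_lit 0) (nat_lit 260) [nat_lit 3] (BT.kid (nat_lit 260) (nat_lit 36) (BT.img (nat_lit 1) (nat_lit 0) (BT.frm (nat_lit 1) (nat_lit 0x3e41081f010109) (nat_lit 0x3e41081f010109) [nat_lit 0, nat_lit 1, nat_lit 6] (BT.pln (nat_lit 0) (nat_lit 6) (BT.and (nat_lit 6) (nat_lit 0) (BT.br (nat_lit 0) (nat_lit 267) [nat_lit 5] (BT.dead (nat_lit 171) (BT.frm (nat_lit 2) (nat_lit 0x3f423e41081f010109) (nat_lit 0x3f413e41081f010109) [nat_lit 0, nat_lit 4, nat_lit 5, nat_lit 10] (BT.pln (nat_lit 0) (nat_lit 4) (BT.and (nat_lit 0) (nat_lit 9) (BT.cnt (nat_lit 0))))) (BT.dead (nat_lit 253) (BT.frm (nat_lit 2) (nat_lit 0x3f423e41081f010109)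 (nat_lit 0x423e41081f010109) [nat_lit 0, nat_lit 4, nat_lit 5, nat_lit 10] (BT.pln (nat_lit 0) (nat_lit 4) (BT.and (nat_lit 0) (nat_lit 9) (BT.cnt (nat_lit 0))))) (BT.kid (nat_lit 267) (nat_lit 18) (BT.frm (nat_lit 2) (nat_lit 0x3f423e41081f010109) (nat_lit 0x3f423e41081f010109) [nat_lit 0, nat_lit 4, nat_lit 5, nat_lit 10] (BT.pln (nat_lit 0) (nat_lit 7) (BT.and (nat_lit 10) (nat_lit 0) (BT.br (nat_lit 0) (nat_lit 317) [nat_lit 7, nat_lit 9] (BT.kid (nat_lit 317) (nat_lit 2) (BT.pln (nat_lit 3) (nat_lit 6) (BT.img (nat_lit 1) (nat_lit 1) (BT.frm (nat_lit 3) (nat_lit 0x4c3f423e41081f010109) (nat_lit 0x4c3f423e41081f010109) [nat_lit 2, nat_lit 6, nat_lit 10, nat_lit 11, nat_lit 16] (BT.pln (nat_lit 0) (nat_lit 16) (BT.and (nat_lit 16) (nat_lit 0) (BT.pln (nat_lit 2) (nat_lit 15) (BT.and (nat_lit 18) (nat_lit 0) (BT.img (nat_lit 1) (nat_lit 0) (BT.and (nat_lit 20) (nat_lit 0) (BT.img (nat_lit 1) (nat_lit 0)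 (BT.dif (nat_lit 5) (nat_lit 0) (BT.frm (nat_lit 4) (nat_lit 0x574c3f423e41081f010109) (nat_lit 0x574c3f423e41081f010109) [nat_lit 9, nat_lit 0, nat_lit 11, nat_lit 15, nat_lit 19, nat_lit 20, nat_lit 25] (BT.pln (nat_lit 0) (nat_lit 7) (BT.dif (nat_lit 12) (nat_lit 0) (BT.pln (nat_lit 2) (nat_lit 12) (BT.dif (nat_lit 1) (nat_lit 0) (BT.img (nat_lit 1) (nat_lit 14) (BT.img (nat_lit 1) (nat_lit 0) (BT.frm (nat_lit 5) (nat_lit 0x5b574c3f423e41081f010109) (nat_lit 0x5b574c3f423e41081f010109) [nat_lit 0, nat_lit 16, nat_lit 7, nat_lit 18, nat_lit 22, nat_lit 26, nat_lit 27, nat_lit 32] (BT.pln (nat_lit 0) (nat_lit 10) (BT.and (nat_lit 4) (nat_lit 0) (BT.br (nat_lit 0) (nat_lit 78) [nat_lit 11] (BT.kid (nat_lit 78) (nat_lit 1) (BT.one (nat_lit 6) (nat_lit 0x5d5b574c3f423e41081f010109) (nat_lit 0x5d5b574c3f423e41081f010109) [nat_lit 0, nat_lit 4, nat_lit 20, nat_lit 11, nat_lit 22, nat_lit 26, nat_lit 30, nat_lit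 31, nat_lit 36]) BT.nil))))))))))))))))))))))) BT.nil))))) BT.nil)))))))) BT.nil)))))) BT.nil)))

theorem yt_c71_cnt : Cnt 324 (grp 324 y_E0) [z_g969] [z_g969] 0 0 0 0 324 :=
  BT.sound yt_c71_cnt_P Known.nil (t := yt_c71_cnt_t) (d := 0) (by decide +kernel)

theorem yt_c71_ge : 324 ≤ Nat.card (grp 324 yt_c71_K) :=
  Ch.le_card_grp (k := 9) (L := (lab 324 9)) z_hn yt_c71_K_ok (c := (Ch.cons (nat_lit 120) [nat_lit 1] (Ch.cons (nat_lit 260) [nat_lit 3] (Ch.cons (nat_lit 267) [nat_lit 5] (Ch.cons (nat_lit 317) [nat_lit 7, nat_lit 9] (Ch.cons (nat_lit 78) [nat_lit 11] Ch.nil)))))) (by decide +kernel)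

theorem yt_c71_eq : (grp 324 y_E0) ⊓ Subgroup.centralizer {Net.toPerm 324 z_g969} = grp 324 yt_c71_K :=
  cent_eq yt_c71_sym yt_c71_cnt yt_c71_ge

theorem yt_c71_card : Nat.card ↥((grp 324 y_E0) ⊓ Subgroup.centralizer {Net.toPerm 324 z_g969}) = 324 :=
  card_cent yt_c71_sym yt_c71_cnt yt_c71_ge

theorem yt_c71_ord : orderOf (Net.toPerm 324 z_g969) = 6 :=
  orderOf_net z_hn z_hk z_g969_ok (by decide) (ps := [2, 3]) (by set_option linter.unusedSimpArgs false in simp [Nat.primeFactorsList_ofNat]) (by decide +kernel)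

theorem z_le982 : grp 324 yt_c72_K ≤ grp 324 y_E0 :=
  grp_le_of_memB z_hn z_hk y_E0_ok yt_c72_K_ok (ws := [nat_lit 0x33353c25281f190f1207150105, nat_lit 0x333526281f1a1f12070521, nat_lit 0x353c2b1f19190f0715020501, nat_lit 0x342f261c0f0715020501]) (by decide +kernel)

theorem yt_c72_le : grp 324 yt_c72_K ≤ (grp 324 y_E0) :=
  (z_le982.trans z_T111_s0.le)

theorem yt_c72_mem : Net.toPerm 324 z_g977 ∈ (grp 324 y_E0) :=
  yt_c72_le (mem_grp_of_memB z_hn z_hk yt_c72_K_ok z_g977_ok (w := (nat_lit 0x608060301)) (by decide +kernel))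

theorem yt_c72_sym : Sym 324 (grp 324 y_E0) [z_g977] yt_c72_K 0 :=
  Sym.of_lab z_hn z_hk (okE_cons.2 ⟨z_g977_ok, okE_nil _⟩) yt_c72_K_ok yt_c72_le (kT := 0) (by decide +kernel)

noncomputable def yt_c72_cnt_L : List ℕ := [1, 4, z_T111_s1_O, 0, 0, 4, 10, z_T111_s58_O, 0, 0, 5, 12, z_T111_s59_O, 0, 0, 6, 15, z_T111_s60_O, 1, 0]

theorem yt_c72_cnt_P : Prob 324 9 (grp 324 y_E0) yt_c72_cnt_EG [z_g977] [z_g977] yt_c72_K yt_c72_cnt_L 0 0 :=
  Sym.prob z_hn z_hk yt_c72_sym yt_c72_cnt_EG_ok (grp_cons_le z_g39_z_T111 (grp_cons_le zg1_z_T111 (grp_cons_le zg3_z_T111 (grp_cons_le z_g43_z_T111 (grp_cons_le z_g42_z_T111 (grp_cons_le zg2_z_T111 (grp_cons_le z_g44_z_T111 (grp_cons_le z_g54_z_T111 (grp_cons_le z_g55_z_T111 (grp_cons_le z_g49_z_T111 (grp_cons_le z_g50_z_T111 (grp_cons_le z_g51_z_T111 (grp_cons_le z_g62_z_T111 (grp_cons_le z_g58_z_T111 (grp_cons_le z_g59_z_T111 (grp_cons_le z_g65_z_T111 (grp_cons_le z_g66_z_T111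 (grp_cons_le z_g67_z_T111 (grp_cons_le z_g77_z_T111 (grp_cons_le z_g78_z_T111 (grp_cons_le z_g72_z_T111 (grp_cons_le z_g73_z_T111 (grp_cons_le z_g74_z_T111 (grp_cons_le z_g81_z_T111 (grp_cons_le z_g82_z_T111 (grp_cons_le z_g87_z_T111 (grp_cons_le zg0_z_T111 (grp_cons_le z_g91_z_T111 (grp_cons_le z_g28_z_T111 (grp_cons_le z_g88_z_T111 (grp_cons_le z_g424_z_T111 (grp_cons_le z_g425_z_T111 (grp_cons_le z_g426_z_T111 (grp_cons_le z_g427_z_T111 (grp_nil_le _))))))))))))))))))))))))))))))))))) (Frames.cons z_T111_s1_F (Frames.cons z_T111_s58_F (Frames.cons z_T111_s59_F (Frames.cons z_T111_s60_F Frames.nil)))) (okE_cons.2 ⟨z_g977_ok, okE_nil _⟩) _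

noncomputable def yt_c72_cnt_t : BT := (BT.fix (nat_lit 1) (BT.frm (nat_lit 0) (nat_lit 515) (nat_lit 515) [nat_lit 0] (BT.pln (nat_lit 0) (nat_lit 3) (BT.fix (nat_lit 257) (BT.dif (nat_lit 1) (nat_lit 0) (BT.br (nat_lit 0) (nat_lit 221) [nat_lit 1] (BT.kid (nat_lit 221) (nat_lit 54) (BT.pln (nat_lit 4) (nat_lit 1) (BT.and (nat_lit 3) (nat_lit 0) (BT.br (nat_lit 0) (nat_lit 113) [nat_lit 3] (BT.dead (nat_lit 251) (BT.dif (nat_lit 11) (nat_lit 2) (BT.pln (nat_lit 8) (nat_lit 2) (BT.dif (nat_lit 1) (nat_lit 0) (BT.img (nat_lit 1) (nat_lit 6) (BT.frm (nat_lit 1) (nat_lit 0x191e1207070203) (nat_lit 0x301207070203) [nat_lit 4, nat_lit 0, nat_lit 7, nat_lit 12] (BT.pln (nat_lit 0) (nat_lit 7) (BT.and (nat_lit 3) (nat_lit 0) (BT.pln (nat_lit 2) (nat_lit 4) (BT.dif (nat_lit 1) (nat_lit 0) (BT.pln (nat_lit 4) (nat_lit 5) (BT.dif (nat_lit 1) (nat_lit 0) (BT.dif (nat_lit 0) (nat_lit 16) (BT.br (nat_lit 0) (nat_lit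 27) [nat_lit 1798, nat_lit 2054] (BT.dead (nat_lit 27) (BT.pln (nat_lit 8) (nat_lit 6) (BT.and (nat_lit 0) (nat_lit 6) (BT.and (nat_lit 0) (nat_lit 5) (BT.frm (nat_lit 2) (nat_lit 0x3d3f3e40191e1207070203) (nat_lit 0x40301207070203) [nat_lit 3, nat_lit 16, nat_lit 12, nat_lit 19, nat_lit 24] (BT.pln (nat_lit 0) (nat_lit 7) (BT.dif (nat_lit 2) (nat_lit 0) (BT.dif (nat_lit 0) (nat_lit 13) (BT.pln (nat_lit 3) (nat_lit 11) (BT.pln (nat_lit 4) (nat_lit 8) (BT.and (nat_lit 1) (nat_lit 0) (BT.pln (nat_lit 6) (nat_lit 5) (BT.dif (nat_lit 1) (nat_lit 0) (BT.pln (nat_lit 8) (nat_lit 6) (BT.dif (nat_lit 1) (nat_lit 0) (BT.and (nat_lit 0) (nat_lit 9) (BT.pln (nat_lit 11) (nat_lit 9) (BT.and (nat_lit 1) (nat_lit 0) (BT.img (nat_lit 1) (nat_lit 0) (BT.and (nat_lit 11) (nat_lit 0) (BT.frm (nat_lit 3) (nat_lit 0x41433d3f3e40191e1207070203) (nat_lit 0x4240301207070203) [nat_lit 0, nat_lit 19, nat_lit 32, nat_lit 28, nat_lit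 35, nat_lit 40] (BT.pln (nat_lit 0) (nat_lit 6) (BT.and (nat_lit 0) (nat_lit 39) (BT.cnt (nat_lit 0)))))))))))))))))))))))) BT.nil)))))))))))))) (BT.dead (nat_lit 210) (BT.dif (nat_lit 11) (nat_lit 2) (BT.pln (nat_lit 8) (nat_lit 2) (BT.dif (nat_lit 1) (nat_lit 0) (BT.img (nat_lit 1) (nat_lit 6) (BT.frm (nat_lit 1) (nat_lit 0x191e1207070203) (nat_lit 0x1b261207070203) [nat_lit 4, nat_lit 0, nat_lit 7, nat_lit 12] (BT.pln (nat_lit 0) (nat_lit 7) (BT.and (nat_lit 3) (nat_lit 0) (BT.pln (nat_lit 2) (nat_lit 4) (BT.dif (nat_lit 1) (nat_lit 0) (BT.pln (nat_lit 4) (nat_lit 5) (BT.dif (nat_lit 1) (nat_lit 0) (BT.dif (nat_lit 0) (nat_lit 16) (BT.br (nat_lit 0) (nat_lit 27) [nat_lit 6, nat_lit 8] (BT.dead (nat_lit 27) (BT.pln (nat_lit 8) (nat_lit 6) (BT.and (nat_lit 0) (nat_lit 6) (BT.and (nat_lit 0) (nat_lit 5) (BT.frm (nat_lit 2) (nat_lit 0x3d3f3e40191e1207070203) (nat_lit 0x1b261207070203) [nat_lit 3, nat_lit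 16, nat_lit 12, nat_lit 19, nat_lit 24] (BT.pln (nat_lit 0) (nat_lit 7) (BT.dif (nat_lit 2) (nat_lit 0) (BT.dif (nat_lit 0) (nat_lit 13) (BT.pln (nat_lit 3) (nat_lit 11) (BT.pln (nat_lit 4) (nat_lit 8) (BT.and (nat_lit 1) (nat_lit 0) (BT.pln (nat_lit 6) (nat_lit 5) (BT.dif (nat_lit 1) (nat_lit 0) (BT.pln (nat_lit 8) (nat_lit 6) (BT.dif (nat_lit 1) (nat_lit 0) (BT.and (nat_lit 0) (nat_lit 9) (BT.pln (nat_lit 11) (nat_lit 9) (BT.and (nat_lit 1) (nat_lit 0) (BT.img (nat_lit 1) (nat_lit 0) (BT.and (nat_lit 11) (nat_lit 0) (BT.frm (nat_lit 3) (nat_lit 0x41433d3f3e40191e1207070203) (nat_lit 0x42441b261207070203) [nat_lit 0, nat_lit 19, nat_lit 32, nat_lit 28, nat_lit 35, nat_lit 40] (BT.pln (nat_lit 0) (nat_lit 6) (BT.and (nat_lit 0) (nat_lit 39) (BT.cnt (nat_lit 0)))))))))))))))))))))))) BT.nil)))))))))))))) (BT.kid (nat_lit 113) (nat_lit 27) (BT.dif (nat_lit 11) (nat_lit 2) (BT.pln (nat_lit 8) (nat_lit 2) (BT.dif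 (nat_lit 1) (nat_lit 0) (BT.img (nat_lit 1) (nat_lit 6) (BT.frm (nat_lit 1) (nat_lit 0x191e1207070203) (nat_lit 0x191e1207070203) [nat_lit 4, nat_lit 0, nat_lit 7, nat_lit 12] (BT.pln (nat_lit 0) (nat_lit 7) (BT.and (nat_lit 3) (nat_lit 0) (BT.pln (nat_lit 2) (nat_lit 4) (BT.dif (nat_lit 1) (nat_lit 0) (BT.pln (nat_lit 4) (nat_lit 5) (BT.dif (nat_lit 1) (nat_lit 0) (BT.dif (nat_lit 0) (nat_lit 16) (BT.br (nat_lit 0) (nat_lit 27) [nat_lit 5, nat_lit 7] (BT.kid (nat_lit 27) (nat_lit 1) (BT.pln (nat_lit 8) (nat_lit 6) (BT.and (nat_lit 0) (nat_lit 6) (BT.and (nat_lit 0) (nat_lit 5) (BT.frm (nat_lit 2) (nat_lit 0x3d3f3e40191e1207070203) (nat_lit 0x3d3f3e40191e1207070203) [nat_lit 3, nat_lit 16, nat_lit 12, nat_lit 19, nat_lit 24] (BT.pln (nat_lit 0) (nat_lit 7) (BT.dif (nat_lit 2) (nat_lit 0) (BT.dif (nat_lit 0) (nat_lit 13) (BT.pln (nat_lit 3) (nat_lit 11) (BT.pln (nat_lit 4) (nat_lit 8) (BT.and (nat_lit 1)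 (nat_lit 0) (BT.pln (nat_lit 6) (nat_lit 5) (BT.dif (nat_lit 1) (nat_lit 0) (BT.pln (nat_lit 8) (nat_lit 6) (BT.dif (nat_lit 1) (nat_lit 0) (BT.and (nat_lit 0) (nat_lit 9) (BT.pln (nat_lit 11) (nat_lit 9) (BT.and (nat_lit 1) (nat_lit 0) (BT.img (nat_lit 1) (nat_lit 0) (BT.and (nat_lit 11) (nat_lit 0) (BT.one (nat_lit 3) (nat_lit 0x41433d3f3e40191e1207070203) (nat_lit 0x41433d3f3e40191e1207070203) [nat_lit 0, nat_lit 19, nat_lit 32, nat_lit 28, nat_lit 35, nat_lit 40])))))))))))))))))))) BT.nil)))))))))))))) BT.nil)))))) BT.nil)))))))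

theorem yt_c72_cnt : Cnt 324 (grp 324 y_E0) [z_g977] [z_g977] 0 0 0 0 324 :=
  BT.sound yt_c72_cnt_P Known.nil (t := yt_c72_cnt_t) (d := 0) (by decide +kernel)

theorem yt_c72_ge : 324 ≤ Nat.card (grp 324 yt_c72_K) :=
  Ch.le_card_grp (k := 9) (L := (lab 324 9)) z_hn yt_c72_K_ok (c := (Ch.cons (nat_lit 221) [nat_lit 1] (Ch.cons (nat_lit 113) [nat_lit 3] (Ch.cons (nat_lit 27) [nat_lit 5, nat_lit 7] Ch.nil)))) (by decide +kernel)

theorem yt_c72_eq : (grp 324 y_E0) ⊓ Subgroup.centralizer {Net.toPerm 324 z_g977} = grp 324 yt_c72_K :=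
  cent_eq yt_c72_sym yt_c72_cnt yt_c72_ge

theorem yt_c72_card : Nat.card ↥((grp 324 y_E0) ⊓ Subgroup.centralizer {Net.toPerm 324 z_g977}) = 324 :=
  card_cent yt_c72_sym yt_c72_cnt yt_c72_ge

theorem yt_c72_ord : orderOf (Net.toPerm 324 z_g977) = 6 :=
  orderOf_net z_hn z_hk z_g977_ok (by decide) (ps := [2, 3]) (by set_option linter.unusedSimpArgs false in simp [Nat.primeFactorsList_ofNat]) (by decide +kernel)

theorem z_le989 : grp 324 yt_c73_K ≤ grp 324 y_E0 :=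
  grp_le_of_memB z_hn z_hk y_E0_ok yt_c73_K_ok (ws := [nat_lit 0x33352f281f191b1b012602, nat_lit 0x34392f251f19201a070c0127, nat_lit 0x34352f191c052d, nat_lit 0x3b2f2619221a012602, nat_lit 0x353c262819201c022501]) (by decide +kernel)

theorem yt_c73_le : grp 324 yt_c73_K ≤ (grp 324 y_E0) :=
  (z_le989.trans z_T111_s0.le)

theorem yt_c73_mem : Net.toPerm 324 z_g983 ∈ (grp 324 y_E0) :=
  yt_c73_le (mem_grp_of_memB z_hn z_hk yt_c73_K_ok z_g983_ok (w := (nat_lit 657156)) (by decide +kernel))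

theorem yt_c73_sym : Sym 324 (grp 324 y_E0) [z_g983] yt_c73_K 0 :=
  Sym.of_lab z_hn z_hk (okE_cons.2 ⟨z_g983_ok, okE_nil _⟩) yt_c73_K_ok yt_c73_le (kT := 0) (by decide +kernel)

noncomputable def yt_c73_cnt_L : List ℕ := [1, 4, z_T111_s1_O, 0, 0, 3, 9, z_T111_s3_O, 0, 0, 5, 10, z_T111_s5_O, 0, 0, 6, 13, z_T111_s134_O, 0, 0, 7, 16, z_T111_s135_O, 1, 0]

theorem yt_c73_cnt_P : Prob 324 9 (grp 324 y_E0) yt_c73_cnt_EG [z_g983] [z_g983] yt_c73_K yt_c73_cnt_L 0 0 :=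
  Sym.prob z_hn z_hk yt_c73_sym yt_c73_cnt_EG_ok (grp_cons_le z_g39_z_T111 (grp_cons_le zg1_z_T111 (grp_cons_le zg3_z_T111 (grp_cons_le z_g43_z_T111 (grp_cons_le z_g42_z_T111 (grp_cons_le zg2_z_T111 (grp_cons_le z_g44_z_T111 (grp_cons_le z_g54_z_T111 (grp_cons_le z_g55_z_T111 (grp_cons_le z_g49_z_T111 (grp_cons_le z_g50_z_T111 (grp_cons_le z_g51_z_T111 (grp_cons_le z_g62_z_T111 (grp_cons_le z_g58_z_T111 (grp_cons_le z_g59_z_T111 (grp_cons_le z_g65_z_T111 (grp_cons_le z_g66_z_T111 (grp_cons_le z_g67_z_T111 (grp_cons_le z_g77_z_T111 (grp_cons_le z_g78_z_T111 (grp_cons_le z_g72_z_T111 (grp_cons_le z_g73_z_T111 (grp_cons_le z_g74_z_T111 (grp_cons_le z_g81_z_T111 (grp_cons_le z_g82_z_T111 (grp_cons_le z_g87_z_T111 (grp_cons_le zg0_z_T111 (grp_cons_le z_g91_z_T111 (grp_cons_le z_g28_z_T111 (grp_cons_le z_g88_z_T111 (grp_cons_le z_g126_z_T111 (grp_cons_le z_g127_z_T111 (grp_cons_le z_g128_z_T111 (grp_cons_le z_g129_z_T111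 (grp_cons_le z_g130_z_T111 (grp_cons_le z_g131_z_T111 (grp_cons_le z_g132_z_T111 (grp_cons_le z_g133_z_T111 (grp_cons_le z_g134_z_T111 (grp_cons_le z_g135_z_T111 (grp_cons_le z_g890_z_T111 (grp_cons_le z_g888_z_T111 (grp_nil_le _))))))))))))))))))))))))))))))))))))))))))) (Frames.cons z_T111_s1_F (Frames.cons z_T111_s3_F (Frames.cons z_T111_s5_F (Frames.cons z_T111_s134_F (Frames.cons z_T111_s135_F Frames.nil))))) (okE_cons.2 ⟨z_g983_ok, okE_nil _⟩) _

noncomputable def yt_c73_cnt_t : BT := (BT.fix (nat_lit 1) (BT.br (nat_lit 0) (nat_lit 94) [nat_lit 1] (BT.dead (nat_lit 246) (BT.frm (nat_lit 0) (nat_lit 67872) (nat_lit 66344) [nat_lit 0] (BT.pln (nat_lit 0) (nat_lit 2) (BT.and (nat_lit 0) (nat_lit 3) (BT.cnt (nat_lit 0))))) (BT.kid (nat_lit 94) (nat_lit 108) (BT.frm (nat_lit 0) (nat_lit 67872) (nat_lit 67872) [nat_lit 0] (BT.pln (nat_lit 0) (nat_lit 2) (BT.fix (nat_lit 65793) (BT.dif (nat_lit 1) (nat_lit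 0) (BT.fix (nat_lit 257) (BT.dif (nat_lit 1) (nat_lit 0) (BT.br (nat_lit 0) (nat_lit 249) [nat_lit 3] (BT.kid (nat_lit 249) (nat_lit 18) (BT.dif (nat_lit 4) (nat_lit 5) (BT.dif (nat_lit 0) (nat_lit 9) (BT.and (nat_lit 10) (nat_lit 7) (BT.frm (nat_lit 1) (nat_lit 0x3e41080b010920) (nat_lit 0x3e41080b010920) [nat_lit 3, nat_lit 0, nat_lit 10] (BT.pln (nat_lit 0) (nat_lit 5) (BT.dif (nat_lit 3) (nat_lit 0) (BT.br (nat_lit 0) (nat_lit 125) [nat_lit 5] (BT.kid (nat_lit 125) (nat_lit 9) (BT.dif (nat_lit 9) (nat_lit 15) (BT.dif (nat_lit 0) (nat_lit 13) (BT.img (nat_lit 1) (nat_lit 9) (BT.frm (nat_lit 2) (nat_lit 0x3e41080b010920) (nat_lit 0x3e41080b010920) [nat_lit 3, nat_lit 0, nat_lit 10, nat_lit 7, nat_lit 17] (BT.pln (nat_lit 0) (nat_lit 5) (BT.dif (nat_lit 3) (nat_lit 0) (BT.br (nat_lit 0) (nat_lit 120) [nat_lit 7] (BT.dead (nat_lit 100) (BT.dif (nat_lit 25) (nat_lit 2) (BT.pln (nat_lit 4) (nat_lit 6) (BT.and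 (nat_lit 1) (nat_lit 0) (BT.pln (nat_lit 6) (nat_lit 7) (BT.and (nat_lit 1) (nat_lit 0) (BT.frm (nat_lit 3) (nat_lit 0x4b3e41080b010920) (nat_lit 0x4649453e41080b010920) [nat_lit 5, nat_lit 12, nat_lit 9, nat_lit 19, nat_lit 16, nat_lit 26] (BT.pln (nat_lit 0) (nat_lit 10) (BT.and (nat_lit 2) (nat_lit 0) (BT.pln (nat_lit 2) (nat_lit 6) (BT.dif (nat_lit 1) (nat_lit 0) (BT.br (nat_lit 0) (nat_lit 106) [nat_lit 9] (BT.dead (nat_lit 64) (BT.frm (nat_lit 4) (nat_lit 0x52534b3e41080b010920) (nat_lit 0x544649453e41080b010920) [nat_lit 0, nat_lit 11, nat_lit 18, nat_lit 15, nat_lit 25, nat_lit 22, nat_lit 32] (BT.pln (nat_lit 0) (nat_lit 7) (BT.img (nat_lit 1) (nat_lit 2) (BT.img (nat_lit 1) (nat_lit 0) (BT.img (nat_lit 1) (nat_lit 0) (BT.img (nat_lit 1) (nat_lit 0) (BT.and (nat_lit 4) (nat_lit 0) (BT.cnt (nat_lit 0))))))))) (BT.dead (nat_lit 112) (BT.frm (nat_lit 4) (nat_lit 0x52534b3e41080b010920) (nat_lit 0x524649453e41080b010920)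 [nat_lit 0, nat_lit 11, nat_lit 18, nat_lit 15, nat_lit 25, nat_lit 22, nat_lit 32] (BT.pln (nat_lit 0) (nat_lit 7) (BT.img (nat_lit 1) (nat_lit 2) (BT.img (nat_lit 1) (nat_lit 0) (BT.and (nat_lit 2) (nat_lit 0) (BT.cnt (nat_lit 0))))))) (BT.dead (nat_lit 119) (BT.frm (nat_lit 4) (nat_lit 0x52534b3e41080b010920) (nat_lit 0x514649453e41080b010920) [nat_lit 0, nat_lit 11, nat_lit 18, nat_lit 15, nat_lit 25, nat_lit 22, nat_lit 32] (BT.pln (nat_lit 0) (nat_lit 7) (BT.img (nat_lit 1) (nat_lit 2) (BT.and (nat_lit 1) (nat_lit 0) (BT.cnt (nat_lit 0)))))) BT.nil)))))))))))))) (BT.kid (nat_lit 120) (nat_lit 3) (BT.dif (nat_lit 25) (nat_lit 2) (BT.pln (nat_lit 4) (nat_lit 6) (BT.and (nat_lit 1) (nat_lit 0) (BT.pln (nat_lit 6) (nat_lit 7) (BT.and (nat_lit 1) (nat_lit 0) (BT.frm (nat_lit 3) (nat_lit 0x4b3e41080b010920) (nat_lit 0x4b3e41080b010920) [nat_lit 5, nat_lit 12, nat_lit 9, nat_lit 19, nat_lit 16, nat_lit 26]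 (BT.pln (nat_lit 0) (nat_lit 10) (BT.and (nat_lit 2) (nat_lit 0) (BT.pln (nat_lit 2) (nat_lit 6) (BT.dif (nat_lit 1) (nat_lit 0) (BT.br (nat_lit 0) (nat_lit 106) [nat_lit 9] (BT.dead (nat_lit 159) (BT.frm (nat_lit 4) (nat_lit 0x52534b3e41080b010920) (nat_lit 0x544b3e41080b010920) [nat_lit 0, nat_lit 11, nat_lit 18, nat_lit 15, nat_lit 25, nat_lit 22, nat_lit 32] (BT.pln (nat_lit 0) (nat_lit 7) (BT.img (nat_lit 1) (nat_lit 2) (BT.and (nat_lit 1) (nat_lit 0) (BT.cnt (nat_lit 0)))))) (BT.dead (nat_lit 153) (BT.frm (nat_lit 4) (nat_lit 0x52534b3e41080b010920) (nat_lit 0x514b3e41080b010920) [nat_lit 0, nat_lit 11, nat_lit 18, nat_lit 15, nat_lit 25, nat_lit 22, nat_lit 32] (BT.pln (nat_lit 0) (nat_lit 7) (BT.img (nat_lit 1) (nat_lit 2) (BT.and (nat_lit 1) (nat_lit 0) (BT.cnt (nat_lit 0)))))) (BT.kid (nat_lit 106) (nat_lit 1) (BT.one (nat_lit 4) (nat_lit 0x52534b3e41080b010920) (nat_lit 0x52534b3e41080b010920)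 [nat_lit 0, nat_lit 11, nat_lit 18, nat_lit 15, nat_lit 25, nat_lit 22, nat_lit 32]) BT.nil)))))))))))))) BT.nil))))))))) BT.nil)))))))) BT.nil)))))))) BT.nil))))

theorem yt_c73_cnt : Cnt 324 (grp 324 y_E0) [z_g983] [z_g983] 0 0 0 0 324 :=
  BT.sound yt_c73_cnt_P Known.nil (t := yt_c73_cnt_t) (d := 0) (by decide +kernel)

theorem yt_c73_ge : 324 ≤ Nat.card (grp 324 yt_c73_K) :=
  Ch.le_card_grp (k := 9) (L := (lab 324 9)) z_hn yt_c73_K_ok (c := (Ch.cons (nat_lit 94) [nat_lit 1] (Ch.cons (nat_lit 249) [nat_lit 3] (Ch.cons (nat_lit 125) [nat_lit 5] (Ch.cons (nat_lit 120) [nat_lit 7] (Ch.cons (nat_lit 106) [nat_lit 9] Ch.nil)))))) (by decide +kernel)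

theorem yt_c73_eq : (grp 324 y_E0) ⊓ Subgroup.centralizer {Net.toPerm 324 z_g983} = grp 324 yt_c73_K :=
  cent_eq yt_c73_sym yt_c73_cnt yt_c73_ge

theorem yt_c73_card : Nat.card ↥((grp 324 y_E0) ⊓ Subgroup.centralizer {Net.toPerm 324 z_g983}) = 324 :=
  card_cent yt_c73_sym yt_c73_cnt yt_c73_ge

theorem yt_c73_ord : orderOf (Net.toPerm 324 z_g983) = 6 :=
  orderOf_net z_hn z_hk z_g983_ok (by decide) (ps := [2, 3]) (by set_option linter.unusedSimpArgs false in simp [Nat.primeFactorsList_ofNat]) (by decide +kernel)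

theorem z_le995 : grp 324 yt_c74_K ≤ grp 324 y_E0 :=
  grp_le_of_memB z_hn z_hk y_E0_ok yt_c74_K_ok (ws := [nat_lit 0x33353c291f191e12012d, nat_lit 0x353c25191b070121, nat_lit 0x35382f2819221a012502, nat_lit 0x342f291f191e120707010511]) (by decide +kernel)

theorem yt_c74_le : grp 324 yt_c74_K ≤ (grp 324 y_E0) :=
  (z_le995.trans z_T111_s0.le)

theorem yt_c74_mem : Net.toPerm 324 z_g990 ∈ (grp 324 y_E0) :=
  yt_c74_le (mem_grp_of_memB z_hn z_hk yt_c74_K_ok z_g990_ok (w := (nat_lit 395266)) (by decide +kernel))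

theorem yt_c74_sym : Sym 324 (grp 324 y_E0) [z_g990] yt_c74_K 0 :=
  Sym.of_lab z_hn z_hk (okE_cons.2 ⟨z_g990_ok, okE_nil _⟩) yt_c74_K_ok yt_c74_le (kT := 0) (by decide +kernel)

noncomputable def yt_c74_cnt_L : List ℕ := [1, 4, z_T111_s1_O, 0, 0, 4, 10, z_T111_s58_O, 0, 0, 5, 12, z_T111_s59_O, 0, 0, 6, 15, z_T111_s60_O, 1, 0]

theorem yt_c74_cnt_P : Prob 324 9 (grp 324 y_E0) yt_c74_cnt_EG [z_g990] [z_g990] yt_c74_K yt_c74_cnt_L 0 0 :=
  Sym.prob z_hn z_hk yt_c74_sym yt_c74_cnt_EG_ok (grp_cons_le z_g39_z_T111 (grp_cons_le zg1_z_T111 (grp_cons_le zg3_z_T111 (grp_cons_le z_g43_z_T111 (grp_cons_le z_g42_z_T111 (grp_cons_le zg2_z_T111 (grp_cons_le z_g44_z_T111 (grp_cons_le z_g54_z_T111 (grp_cons_le z_g55_z_T111 (grp_cons_le z_g49_z_T111 (grp_cons_le z_g50_z_T111 (grp_cons_le z_g51_z_T111 (grp_cons_le z_g62_z_T111 (grp_cons_le z_g58_z_T111 (grp_cons_le z_g59_z_T111 (grp_cons_le z_g65_z_T111 (grp_cons_le z_g66_z_T111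 (grp_cons_le z_g67_z_T111 (grp_cons_le z_g77_z_T111 (grp_cons_le z_g78_z_T111 (grp_cons_le z_g72_z_T111 (grp_cons_le z_g73_z_T111 (grp_cons_le z_g74_z_T111 (grp_cons_le z_g81_z_T111 (grp_cons_le z_g82_z_T111 (grp_cons_le z_g87_z_T111 (grp_cons_le zg0_z_T111 (grp_cons_le z_g91_z_T111 (grp_cons_le z_g28_z_T111 (grp_cons_le z_g88_z_T111 (grp_cons_le z_g424_z_T111 (grp_cons_le z_g425_z_T111 (grp_cons_le z_g426_z_T111 (grp_cons_le z_g427_z_T111 (grp_nil_le _))))))))))))))))))))))))))))))))))) (Frames.cons z_T111_s1_F (Frames.cons z_T111_s58_F (Frames.cons z_T111_s59_F (Frames.cons z_T111_s60_F Frames.nil)))) (okE_cons.2 ⟨z_g990_ok, okE_nil _⟩) _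

noncomputable def yt_c74_cnt_t : BT := (BT.fix (nat_lit 1) (BT.frm (nat_lit 0) (nat_lit 67636) (nat_lit 67636) [nat_lit 0] (BT.pln (nat_lit 0) (nat_lit 3) (BT.fix (nat_lit 257) (BT.dif (nat_lit 1) (nat_lit 0) (BT.br (nat_lit 0) (nat_lit 210) [nat_lit 1] (BT.kid (nat_lit 210) (nat_lit 54) (BT.pln (nat_lit 4) (nat_lit 1) (BT.and (nat_lit 3) (nat_lit 0) (BT.br (nat_lit 0) (nat_lit 297) [nat_lit 3] (BT.dead (nat_lit 238) (BT.dif (nat_lit 11) (nat_lit 2) (BT.pln (nat_lit 8) (nat_lit 2) (BT.dif (nat_lit 1) (nat_lit 0) (BT.img (nat_lit 1) (nat_lit 6) (BT.frm (nat_lit 1) (nat_lit 0x1b261507010834) (nat_lit 0x301507010834) [nat_lit 4, nat_lit 0, nat_lit 7, nat_lit 12] (BT.pln (nat_lit 0) (nat_lit 7) (BT.and (nat_lit 3) (nat_lit 0) (BT.pln (nat_lit 2) (nat_lit 4) (BT.dif (nat_lit 1) (nat_lit 0) (BT.pln (nat_lit 4) (nat_lit 5) (BT.dif (nat_lit 1) (nat_lit 0) (BT.dif (nat_lit 0) (nat_lit 16) (BT.br (nat_lit 0) (nat_lit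 1) [nat_lit 1287, nat_lit 7] (BT.dead (nat_lit 1) (BT.pln (nat_lit 8) (nat_lit 6) (BT.and (nat_lit 0) (nat_lit 6) (BT.and (nat_lit 0) (nat_lit 5) (BT.frm (nat_lit 2) (nat_lit 0x3d403e3f1b261507010834) (nat_lit 0x3d403e301507010834) [nat_lit 3, nat_lit 16, nat_lit 12, nat_lit 19, nat_lit 24] (BT.pln (nat_lit 0) (nat_lit 7) (BT.dif (nat_lit 2) (nat_lit 0) (BT.dif (nat_lit 0) (nat_lit 13) (BT.pln (nat_lit 3) (nat_lit 10) (BT.pln (nat_lit 4) (nat_lit 8) (BT.and (nat_lit 1) (nat_lit 0) (BT.pln (nat_lit 6) (nat_lit 5) (BT.and (nat_lit 1) (nat_lit 0) (BT.pln (nat_lit 8) (nat_lit 6) (BT.and (nat_lit 1) (nat_lit 0) (BT.dif (nat_lit 0) (nat_lit 9) (BT.pln (nat_lit 11) (nat_lit 9) (BT.dif (nat_lit 1) (nat_lit 0) (BT.img (nat_lit 1) (nat_lit 0) (BT.and (nat_lit 11) (nat_lit 0) (BT.frm (nat_lit 3) (nat_lit 0x41443d403e3f1b261507010834) (nat_lit 0x423d403e301507010834) [nat_lit 0, nat_lit 19, nat_lit 32, nat_lit 28, nat_lit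 35, nat_lit 40] (BT.pln (nat_lit 0) (nat_lit 6) (BT.img (nat_lit 1) (nat_lit 21) (BT.img (nat_lit 1) (nat_lit 0) (BT.img (nat_lit 1) (nat_lit 0) (BT.img (nat_lit 1) (nat_lit 0) (BT.img (nat_lit 1) (nat_lit 0) (BT.and (nat_lit 5) (nat_lit 0) (BT.cnt (nat_lit 0))))))))))))))))))))))))))))) BT.nil)))))))))))))) (BT.dead (nat_lit 172) (BT.dif (nat_lit 11) (nat_lit 2) (BT.pln (nat_lit 8) (nat_lit 2) (BT.dif (nat_lit 1) (nat_lit 0) (BT.img (nat_lit 1) (nat_lit 6) (BT.frm (nat_lit 1) (nat_lit 0x1b261507010834) (nat_lit 0x1a341507010834) [nat_lit 4, nat_lit 0, nat_lit 7, nat_lit 12] (BT.pln (nat_lit 0) (nat_lit 7) (BT.and (nat_lit 3) (nat_lit 0) (BT.pln (nat_lit 2) (nat_lit 4) (BT.dif (nat_lit 1) (nat_lit 0) (BT.pln (nat_lit 4) (nat_lit 5) (BT.dif (nat_lit 1) (nat_lit 0) (BT.dif (nat_lit 0) (nat_lit 16) (BT.br (nat_lit 0) (nat_lit 1) [nat_lit 2054, nat_lit 6] (BT.dead (nat_lit 64) (BT.pln (nat_lit 8) (nat_lit 6)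 (BT.and (nat_lit 0) (nat_lit 6) (BT.and (nat_lit 0) (nat_lit 5) (BT.frm (nat_lit 2) (nat_lit 0x3d403e3f1b261507010834) (nat_lit 0x3e1a341507010834) [nat_lit 3, nat_lit 16, nat_lit 12, nat_lit 19, nat_lit 24] (BT.pln (nat_lit 0) (nat_lit 7) (BT.dif (nat_lit 2) (nat_lit 0) (BT.dif (nat_lit 0) (nat_lit 13) (BT.pln (nat_lit 3) (nat_lit 10) (BT.pln (nat_lit 4) (nat_lit 8) (BT.and (nat_lit 1) (nat_lit 0) (BT.pln (nat_lit 6) (nat_lit 5) (BT.and (nat_lit 1) (nat_lit 0) (BT.pln (nat_lit 8) (nat_lit 6) (BT.and (nat_lit 1) (nat_lit 0) (BT.dif (nat_lit 0) (nat_lit 9) (BT.pln (nat_lit 11) (nat_lit 9) (BT.dif (nat_lit 1) (nat_lit 0) (BT.img (nat_lit 1) (nat_lit 0) (BT.and (nat_lit 11) (nat_lit 0) (BT.frm (nat_lit 3) (nat_lit 0x41443d403e3f1b261507010834) (nat_lit 0x423e1a341507010834) [nat_lit 0, nat_lit 19, nat_lit 32, nat_lit 28, nat_lit 35, nat_lit 40] (BT.pln (nat_lit 0) (nat_lit 6) (BT.img (nat_lit 1) (nat_lit 21)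 (BT.img (nat_lit 1) (nat_lit 0) (BT.and (nat_lit 2) (nat_lit 0) (BT.cnt (nat_lit 0)))))))))))))))))))))))))) BT.nil)))))))))))))) (BT.kid (nat_lit 297) (nat_lit 27) (BT.dif (nat_lit 11) (nat_lit 2) (BT.pln (nat_lit 8) (nat_lit 2) (BT.dif (nat_lit 1) (nat_lit 0) (BT.img (nat_lit 1) (nat_lit 6) (BT.frm (nat_lit 1) (nat_lit 0x1b261507010834) (nat_lit 0x1b261507010834) [nat_lit 4, nat_lit 0, nat_lit 7, nat_lit 12] (BT.pln (nat_lit 0) (nat_lit 7) (BT.and (nat_lit 3) (nat_lit 0) (BT.pln (nat_lit 2) (nat_lit 4) (BT.dif (nat_lit 1) (nat_lit 0) (BT.pln (nat_lit 4) (nat_lit 5) (BT.dif (nat_lit 1) (nat_lit 0) (BT.dif (nat_lit 0) (nat_lit 16) (BT.br (nat_lit 0) (nat_lit 1) [nat_lit 5, nat_lit 7] (BT.kid (nat_lit 1) (nat_lit 1) (BT.pln (nat_lit 8) (nat_lit 6) (BT.and (nat_lit 0) (nat_lit 6) (BT.and (nat_lit 0) (nat_lit 5) (BT.frm (nat_lit 2) (nat_lit 0x3d403e3f1b261507010834) (nat_lit 0x3d403e3f1b261507010834) [nat_lit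 3, nat_lit 16, nat_lit 12, nat_lit 19, nat_lit 24] (BT.pln (nat_lit 0) (nat_lit 7) (BT.dif (nat_lit 2) (nat_lit 0) (BT.dif (nat_lit 0) (nat_lit 13) (BT.pln (nat_lit 3) (nat_lit 10) (BT.pln (nat_lit 4) (nat_lit 8) (BT.and (nat_lit 1) (nat_lit 0) (BT.pln (nat_lit 6) (nat_lit 5) (BT.and (nat_lit 1) (nat_lit 0) (BT.pln (nat_lit 8) (nat_lit 6) (BT.and (nat_lit 1) (nat_lit 0) (BT.dif (nat_lit 0) (nat_lit 9) (BT.pln (nat_lit 11) (nat_lit 9) (BT.dif (nat_lit 1) (nat_lit 0) (BT.img (nat_lit 1) (nat_lit 0) (BT.and (nat_lit 11) (nat_lit 0) (BT.one (nat_lit 3) (nat_lit 0x41443d403e3f1b261507010834) (nat_lit 0x41443d403e3f1b261507010834) [nat_lit 0, nat_lit 19, nat_lit 32, nat_lit 28, nat_lit 35, nat_lit 40])))))))))))))))))))) BT.nil)))))))))))))) BT.nil)))))) BT.nil)))))))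

theorem yt_c74_cnt : Cnt 324 (grp 324 y_E0) [z_g990] [z_g990] 0 0 0 0 324 :=
  BT.sound yt_c74_cnt_P Known.nil (t := yt_c74_cnt_t) (d := 0) (by decide +kernel)

theorem yt_c74_ge : 324 ≤ Nat.card (grp 324 yt_c74_K) :=
  Ch.le_card_grp (k := 9) (L := (lab 324 9)) z_hn yt_c74_K_ok (c := (Ch.cons (nat_lit 210) [nat_lit 1] (Ch.cons (nat_lit 297) [nat_lit 3] (Ch.cons (nat_lit 1) [nat_lit 5, nat_lit 7] Ch.nil)))) (by decide +kernel)

theorem yt_c74_eq : (grp 324 y_E0) ⊓ Subgroup.centralizer {Net.toPerm 324 z_g990} = grp 324 yt_c74_K :=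
  cent_eq yt_c74_sym yt_c74_cnt yt_c74_ge

theorem yt_c74_card : Nat.card ↥((grp 324 y_E0) ⊓ Subgroup.centralizer {Net.toPerm 324 z_g990}) = 324 :=
  card_cent yt_c74_sym yt_c74_cnt yt_c74_ge

theorem yt_c74_ord : orderOf (Net.toPerm 324 z_g990) = 6 :=
  orderOf_net z_hn z_hk z_g990_ok (by decide) (ps := [2, 3]) (by set_option linter.unusedSimpArgs false in simp [Nat.primeFactorsList_ofNat]) (by decide +kernel)

theorem z_le1003 : grp 324 yt_c75_K ≤ grp 324 y_E0 :=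
  grp_le_of_memB z_hn z_hk y_E0_ok yt_c75_K_ok (ws := [nat_lit 0x343519201a12021202, nat_lit 0x33352f191e0f1207012101, nat_lit 0x333925281f191c0f120901031f, nat_lit 0x3c26012602, nat_lit 0x372b1f192312021c, nat_lit 0x333828191c0f120210]) (by decide +kernel)

theorem yt_c75_le : grp 324 yt_c75_K ≤ (grp 324 y_E0) :=
  (z_le1003.trans z_T111_s0.le)

theorem yt_c75_mem : Net.toPerm 324 z_g996 ∈ (grp 324 y_E0) :=
  yt_c75_le (mem_grp_of_memB z_hn z_hk yt_c75_K_ok z_g996_ok (w := (nat_lit 722692)) (by decide +kernel))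

theorem yt_c75_sym : Sym 324 (grp 324 y_E0) [z_g996] yt_c75_K 0 :=
  Sym.of_lab z_hn z_hk (okE_cons.2 ⟨z_g996_ok, okE_nil _⟩) yt_c75_K_ok yt_c75_le (kT := 0) (by decide +kernel)

noncomputable def yt_c75_cnt_L : List ℕ := [1, 4, z_T111_s1_O, 0, 0, 3, 9, z_T111_s3_O, 0, 0, 4, 19, z_T111_s4_O, 0, 0, 5, 23, z_T111_s9_O, 0, 0, 6, 11, z_T111_s10_O, 0, 0, 7, 14, z_T111_s35_O, 0, 0, 9, 18, z_T111_s37_O, 1, 0]

theorem yt_c75_cnt_P : Prob 324 9 (grp 324 y_E0) yt_c75_cnt_EG [z_g996] [z_g996] yt_c75_K yt_c75_cnt_L 0 0 :=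
  Sym.prob z_hn z_hk yt_c75_sym yt_c75_cnt_EG_ok (grp_cons_le z_g39_z_T111 (grp_cons_le zg1_z_T111 (grp_cons_le zg3_z_T111 (grp_cons_le z_g43_z_T111 (grp_cons_le z_g42_z_T111 (grp_cons_le zg2_z_T111 (grp_cons_le z_g44_z_T111 (grp_cons_le z_g54_z_T111 (grp_cons_le z_g55_z_T111 (grp_cons_le z_g49_z_T111 (grp_cons_le z_g50_z_T111 (grp_cons_le z_g51_z_T111 (grp_cons_le z_g62_z_T111 (grp_cons_le z_g58_z_T111 (grp_cons_le z_g59_z_T111 (grp_cons_le z_g65_z_T111 (grp_cons_le z_g66_z_T111 (grp_cons_le z_g67_z_T111 (grp_cons_le z_g77_z_T111 (grp_cons_le z_g78_z_T111 (grp_cons_le z_g72_z_T111 (grp_cons_le z_g73_z_T111 (grp_cons_le z_g74_z_T111 (grp_cons_le z_g81_z_T111 (grp_cons_le z_g82_z_T111 (grp_cons_le z_g87_z_T111 (grp_cons_le zg0_z_T111 (grp_cons_le z_g91_z_T111 (grp_cons_le z_g28_z_T111 (grp_cons_le z_g88_z_T111 (grp_cons_le z_g126_z_T111 (grp_cons_le z_g127_z_T111 (grp_cons_le z_g128_z_T111 (grp_cons_le z_g129_z_T111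 (grp_cons_le z_g130_z_T111 (grp_cons_le z_g131_z_T111 (grp_cons_le z_g132_z_T111 (grp_cons_le z_g133_z_T111 (grp_cons_le z_g134_z_T111 (grp_cons_le z_g135_z_T111 (grp_cons_le z_g154_z_T111 (grp_cons_le z_g155_z_T111 (grp_cons_le z_g156_z_T111 (grp_cons_le z_g157_z_T111 (grp_cons_le z_g158_z_T111 (grp_cons_le z_g310_z_T111 (grp_cons_le z_g309_z_T111 (grp_nil_le _)))))))))))))))))))))))))))))))))))))))))))))))) (Frames.cons z_T111_s1_F (Frames.cons z_T111_s3_F (Frames.cons z_T111_s4_F (Frames.cons z_T111_s9_F (Frames.cons z_T111_s10_F (Frames.cons z_T111_s35_F (Frames.cons z_T111_s37_F Frames.nil))))))) (okE_cons.2 ⟨z_g996_ok, okE_nil _⟩) _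

noncomputable def yt_c75_cnt_t : BT := (BT.fix (nat_lit 1) (BT.br (nat_lit 0) (nat_lit 133) [nat_lit 1] (BT.kid (nat_lit 133) (nat_lit 108) (BT.frm (nat_lit 0) (nat_lit 290) (nat_lit 290) [nat_lit 0] (BT.pln (nat_lit 0) (nat_lit 2) (BT.fix (nat_lit 65793) (BT.and (nat_lit 1) (nat_lit 0) (BT.br (nat_lit 0) (nat_lit 48) [nat_lit 3] (BT.kid (nat_lit 48) (nat_lit 36) (BT.img (nat_lit 1) (nat_lit 0) (BT.frm (nat_lit 1) (nat_lit 590114) (nat_lit 590114) [nat_lit 0, nat_lit 1, nat_lit 6] (BT.pln (nat_lit 0) (nat_lit 6) (BT.and (nat_lit 6) (nat_lit 0) (BT.br (nat_lit 0) (nat_lit 166) [nat_lit 5] (BT.dead (nat_lit 145) (BT.frm (nat_lit 2) (nat_lit 0x42090122) (nat_lit 0x3f42090122) [nat_lit 0, nat_lit 4, nat_lit 5, nat_lit 10] (BT.pln (nat_lit 0) (nat_lit 4) (BT.fix (nat_lit 257) (BT.and (nat_lit 1) (nat_lit 0) (BT.cnt (nat_lit 0)))))) (BT.dead (nat_lit 258) (BT.frm (nat_lit 2) (nat_lit 0x42090122) (nat_lit 590114)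 [nat_lit 0, nat_lit 4, nat_lit 5, nat_lit 10] (BT.pln (nat_lit 0) (nat_lit 4) (BT.fix (nat_lit 257) (BT.and (nat_lit 1) (nat_lit 0) (BT.cnt (nat_lit 0)))))) (BT.kid (nat_lit 166) (nat_lit 18) (BT.frm (nat_lit 2) (nat_lit 0x42090122) (nat_lit 0x42090122) [nat_lit 0, nat_lit 4, nat_lit 5, nat_lit 10] (BT.pln (nat_lit 0) (nat_lit 7) (BT.and (nat_lit 10) (nat_lit 0) (BT.br (nat_lit 0) (nat_lit 128) [nat_lit 7, nat_lit 9] (BT.kid (nat_lit 128) (nat_lit 2) (BT.pln (nat_lit 3) (nat_lit 6) (BT.img (nat_lit 1) (nat_lit 1) (BT.frm (nat_lit 3) (nat_lit 0x4c42090122) (nat_lit 0x4c42090122) [nat_lit 2, nat_lit 6, nat_lit 10, nat_lit 11, nat_lit 16] (BT.pln (nat_lit 0) (nat_lit 16) (BT.and (nat_lit 16) (nat_lit 0) (BT.pln (nat_lit 2) (nat_lit 15) (BT.and (nat_lit 18) (nat_lit 0) (BT.img (nat_lit 1) (nat_lit 0) (BT.and (nat_lit 20) (nat_lit 0) (BT.img (nat_lit 1) (nat_lit 0) (BT.dif (nat_lit 5) (nat_lit 0) (BT.frm (nat_lit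 5) (nat_lit 0x514c42090122) (nat_lit 0x514c42090122) [nat_lit 9, nat_lit 0, nat_lit 11, nat_lit 15, nat_lit 19, nat_lit 20, nat_lit 25] (BT.pln (nat_lit 0) (nat_lit 7) (BT.dif (nat_lit 12) (nat_lit 0) (BT.pln (nat_lit 2) (nat_lit 12) (BT.dif (nat_lit 1) (nat_lit 0) (BT.pln (nat_lit 19) (nat_lit 5) (BT.frm (nat_lit 4) (nat_lit 0x514c42090122) (nat_lit 0x514c42090122) [nat_lit 6, nat_lit 17, nat_lit 21, nat_lit 25, nat_lit 26, nat_lit 31] (BT.pln (nat_lit 0) (nat_lit 7) (BT.and (nat_lit 2) (nat_lit 0) (BT.img (nat_lit 1) (nat_lit 0) (BT.dif (nat_lit 5) (nat_lit 0) (BT.br (nat_lit 0) (nat_lit 94) [nat_lit 11] (BT.kid (nat_lit 94) (nat_lit 1) (BT.pln (nat_lit 20) (nat_lit 9) (BT.and (nat_lit 36) (nat_lit 0) (BT.and (nat_lit 0) (nat_lit 15) (BT.img (nat_lit 1) (nat_lit 0) (BT.and (nat_lit 39) (nat_lit 0) (BT.one (nat_lit 6) (nat_lit 0x514c42090122) (nat_lit 0x514c42090122) [nat_lit 5, nat_lit 0, nat_lit 26, nat_lit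 17, nat_lit 28, nat_lit 32, nat_lit 36, nat_lit 37, nat_lit 42])))))) BT.nil)))))))))))))))))))))))) BT.nil))))) BT.nil)))))))) BT.nil)))))) BT.nil)))

theorem yt_c75_cnt : Cnt 324 (grp 324 y_E0) [z_g996] [z_g996] 0 0 0 0 324 :=
  BT.sound yt_c75_cnt_P Known.nil (t := yt_c75_cnt_t) (d := 0) (by decide +kernel)

theorem yt_c75_ge : 324 ≤ Nat.card (grp 324 yt_c75_K) :=
  Ch.le_card_grp (k := 9) (L := (lab 324 9)) z_hn yt_c75_K_ok (c := (Ch.cons (nat_lit 133) [nat_lit 1] (Ch.cons (nat_lit 48) [nat_lit 3] (Ch.cons (nat_lit 166) [nat_lit 5] (Ch.cons (nat_lit 128) [nat_lit 7, nat_lit 9] (Ch.cons (nat_lit 94) [nat_lit 11] Ch.nil)))))) (by decide +kernel)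

theorem yt_c75_eq : (grp 324 y_E0) ⊓ Subgroup.centralizer {Net.toPerm 324 z_g996} = grp 324 yt_c75_K :=
  cent_eq yt_c75_sym yt_c75_cnt yt_c75_ge

theorem yt_c75_card : Nat.card ↥((grp 324 y_E0) ⊓ Subgroup.centralizer {Net.toPerm 324 z_g996}) = 324 :=
  card_cent yt_c75_sym yt_c75_cnt yt_c75_ge

theorem yt_c75_ord : orderOf (Net.toPerm 324 z_g996) = 6 :=
  orderOf_net z_hn z_hk z_g996_ok (by decide) (ps := [2, 3]) (by set_option linter.unusedSimpArgs false in simp [Nat.primeFactorsList_ofNat]) (by decide +kernel)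

theorem z_le1009 : grp 324 yt_c76_K ≤ grp 324 y_E0 :=
  grp_le_of_memB z_hn z_hk y_E0_ok yt_c76_K_ok (ws := [nat_lit 0x34352f261f19201c11022501, nat_lit 0x3c25281a1109010f01, nat_lit 0x392f1f1d1f15070a012f01, nat_lit 0x33352919221a012502, nat_lit 0x33391b1a012602]) (by decide +kernel)

theorem yt_c76_le : grp 324 yt_c76_K ≤ (grp 324 y_E0) :=
  (z_le1009.trans z_T111_s0.le)

theorem yt_c76_mem : Net.toPerm 324 z_g1004 ∈ (grp 324 y_E0) :=
  yt_c76_le (toPerm_mem_grp (E := yt_c76_K) (List.Mem.tail _ (List.Mem.head _)))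

theorem yt_c76_sym : Sym 324 (grp 324 y_E0) [z_g1004] yt_c76_K 0 :=
  Sym.of_lab z_hn z_hk (okE_cons.2 ⟨z_g1004_ok, okE_nil _⟩) yt_c76_K_ok yt_c76_le (kT := 0) (by decide +kernel)

noncomputable def yt_c76_cnt_L : List ℕ := [1, 4, z_T111_s1_O, 0, 0, 3, 9, z_T111_s3_O, 0, 0, 4, 19, z_T111_s4_O, 0, 0, 6, 11, z_T111_s6_O, 0, 0, 7, 13, z_T111_s7_O, 0, 0, 8, 17, z_T111_s8_O, 1, 0]

theorem yt_c76_cnt_P : Prob 324 9 (grp 324 y_E0) yt_c76_cnt_EG [z_g1004] [z_g1004] yt_c76_K yt_c76_cnt_L 0 0 :=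
  Sym.prob z_hn z_hk yt_c76_sym yt_c76_cnt_EG_ok (grp_cons_le z_g39_z_T111 (grp_cons_le zg1_z_T111 (grp_cons_le zg3_z_T111 (grp_cons_le z_g43_z_T111 (grp_cons_le z_g42_z_T111 (grp_cons_le zg2_z_T111 (grp_cons_le z_g44_z_T111 (grp_cons_le z_g54_z_T111 (grp_cons_le z_g55_z_T111 (grp_cons_le z_g49_z_T111 (grp_cons_le z_g50_z_T111 (grp_cons_le z_g51_z_T111 (grp_cons_le z_g62_z_T111 (grp_cons_le z_g58_z_T111 (grp_cons_le z_g59_z_T111 (grp_cons_le z_g65_z_T111 (grp_cons_le z_g66_z_T111 (grp_cons_le z_g67_z_T111 (grp_cons_le z_g77_z_T111 (grp_cons_le z_g78_z_T111 (grp_cons_le z_g72_z_T111 (grp_cons_le z_g73_z_T111 (grp_cons_le z_g74_z_T111 (grp_cons_le z_g81_z_T111 (grp_cons_le z_g82_z_T111 (grp_cons_le z_g87_z_T111 (grp_cons_le zg0_z_T111 (grp_cons_le z_g91_z_T111 (grp_cons_le z_g28_z_T111 (grp_cons_le z_g88_z_T111 (grp_cons_le z_g126_z_T111 (grp_cons_le z_g127_z_T111 (grp_cons_le z_g128_z_T111 (grp_cons_le z_g129_z_T111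 (grp_cons_le z_g130_z_T111 (grp_cons_le z_g131_z_T111 (grp_cons_le z_g132_z_T111 (grp_cons_le z_g133_z_T111 (grp_cons_le z_g134_z_T111 (grp_cons_le z_g135_z_T111 (grp_nil_le _))))))))))))))))))))))))))))))))))))))))) (Frames.cons z_T111_s1_F (Frames.cons z_T111_s3_F (Frames.cons z_T111_s4_F (Frames.cons z_T111_s6_F (Frames.cons z_T111_s7_F (Frames.cons z_T111_s8_F Frames.nil)))))) (okE_cons.2 ⟨z_g1004_ok, okE_nil _⟩) _

noncomputable def yt_c76_cnt_t : BT := (BT.fix (nat_lit 1) (BT.br (nat_lit 0) (nat_lit 89) [nat_lit 1] (BT.kid (nat_lit 89) (nat_lit 108) (BT.frm (nat_lit 0) (nat_lit 66823) (nat_lit 66823) [nat_lit 0] (BT.pln (nat_lit 0) (nat_lit 2) (BT.fix (nat_lit 65793) (BT.dif (nat_lit 1) (nat_lit 0) (BT.fix (nat_lit 257) (BT.dif (nat_lit 1) (nat_lit 0) (BT.br (nat_lit 0) (nat_lit 37) [nat_lit 3] (BT.kid (nat_lit 37) (nat_lit 18) (BT.pln (nat_lit 6) (nat_lit 3) (BT.dif (nat_lit 9) (nat_lit 8) (BT.frm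 (nat_lit 1) (nat_lit 0x3e42071f010507) (nat_lit 0x3e42071f010507) [nat_lit 2, nat_lit 0, nat_lit 9] (BT.pln (nat_lit 0) (nat_lit 5) (BT.dif (nat_lit 3) (nat_lit 0) (BT.br (nat_lit 0) (nat_lit 76) [nat_lit 5] (BT.kid (nat_lit 76) (nat_lit 9) (BT.img (nat_lit 1) (nat_lit 6) (BT.frm (nat_lit 2) (nat_lit 0x3e42071f010507) (nat_lit 0x3e42071f010507) [nat_lit 0, nat_lit 7, nat_lit 5, nat_lit 14] (BT.pln (nat_lit 0) (nat_lit 8) (BT.and (nat_lit 13) (nat_lit 0) (BT.br (nat_lit 0) (nat_lit 28) [nat_lit 7] (BT.dead (nat_lit 30) (BT.frm (nat_lit 3) (nat_lit 0x48433e42071f010507) (nat_lit 0x4647433e42071f010507) [nat_lit 0, nat_lit 5, nat_lit 4, nat_lit 11, nat_lit 9, nat_lit 18] (BT.pln (nat_lit 0) (nat_lit 6) (BT.img (nat_lit 1) (nat_lit 2) (BT.and (nat_lit 1) (nat_lit 0) (BT.cnt (nat_lit 0)))))) (BT.dead (nat_lit 40) (BT.frm (nat_lit 3) (nat_lit 0x48433e42071f010507) (nat_lit 0x433e42071f010507) [nat_lit 0, nat_lit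 5, nat_lit 4, nat_lit 11, nat_lit 9, nat_lit 18] (BT.pln (nat_lit 0) (nat_lit 6) (BT.img (nat_lit 1) (nat_lit 2) (BT.img (nat_lit 1) (nat_lit 0) (BT.and (nat_lit 2) (nat_lit 0) (BT.cnt (nat_lit 0))))))) (BT.kid (nat_lit 28) (nat_lit 3) (BT.pln (nat_lit 3) (nat_lit 6) (BT.img (nat_lit 1) (nat_lit 1) (BT.img (nat_lit 1) (nat_lit 0) (BT.frm (nat_lit 4) (nat_lit 0x48433e42071f010507) (nat_lit 0x48433e42071f010507) [nat_lit 0, nat_lit 3, nat_lit 8, nat_lit 7, nat_lit 14, nat_lit 12, nat_lit 21] (BT.pln (nat_lit 0) (nat_lit 8) (BT.dif (nat_lit 4) (nat_lit 0) (BT.br (nat_lit 0) (nat_lit 48) [nat_lit 9] (BT.dead (nat_lit 166) (BT.frm (nat_lit 5) (nat_lit 0x4c4e48433e42071f010507) (nat_lit 0x4b4e48433e42071f010507) [nat_lit 0, nat_lit 4, nat_lit 7, nat_lit 12, nat_lit 11, nat_lit 18, nat_lit 16, nat_lit 25] (BT.pln (nat_lit 0) (nat_lit 8) (BT.and (nat_lit 0) (nat_lit 22) (BT.cnt (nat_lit 0))))) (BT.dead (nat_lit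 134) (BT.frm (nat_lit 5) (nat_lit 0x4c4e48433e42071f010507) (nat_lit 0x4e4f48433e42071f010507) [nat_lit 0, nat_lit 4, nat_lit 7, nat_lit 12, nat_lit 11, nat_lit 18, nat_lit 16, nat_lit 25] (BT.pln (nat_lit 0) (nat_lit 8) (BT.and (nat_lit 0) (nat_lit 22) (BT.cnt (nat_lit 0))))) (BT.dead (nat_lit 127) (BT.frm (nat_lit 5) (nat_lit 0x4c4e48433e42071f010507) (nat_lit 0x4d4f48433e42071f010507) [nat_lit 0, nat_lit 4, nat_lit 7, nat_lit 12, nat_lit 11, nat_lit 18, nat_lit 16, nat_lit 25] (BT.pln (nat_lit 0) (nat_lit 8) (BT.and (nat_lit 0) (nat_lit 22) (BT.cnt (nat_lit 0))))) (BT.dead (nat_lit 145) (BT.frm (nat_lit 5) (nat_lit 0x4c4e48433e42071f010507) (nat_lit 0x4e48433e42071f010507) [nat_lit 0, nat_lit 4, nat_lit 7, nat_lit 12, nat_lit 11, nat_lit 18, nat_lit 16, nat_lit 25] (BT.pln (nat_lit 0) (nat_lit 8) (BT.and (nat_lit 0) (nat_lit 22) (BT.and (nat_lit 0) (nat_lit 5) (BT.cnt (nat_lit 0)))))) (BT.dead (nat_lit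 83) (BT.frm (nat_lit 5) (nat_lit 0x4c4e48433e42071f010507) (nat_lit 0x4f48433e42071f010507) [nat_lit 0, nat_lit 4, nat_lit 7, nat_lit 12, nat_lit 11, nat_lit 18, nat_lit 16, nat_lit 25] (BT.pln (nat_lit 0) (nat_lit 8) (BT.and (nat_lit 0) (nat_lit 22) (BT.cnt (nat_lit 0))))) (BT.kid (nat_lit 48) (nat_lit 1) (BT.one (nat_lit 5) (nat_lit 0x4c4e48433e42071f010507) (nat_lit 0x4c4e48433e42071f010507) [nat_lit 0, nat_lit 4, nat_lit 7, nat_lit 12, nat_lit 11, nat_lit 18, nat_lit 16, nat_lit 25]) BT.nil))))))))))))) BT.nil)))))))) BT.nil))))))) BT.nil)))))))) BT.nil)))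

theorem yt_c76_cnt : Cnt 324 (grp 324 y_E0) [z_g1004] [z_g1004] 0 0 0 0 216 :=
  BT.sound yt_c76_cnt_P Known.nil (t := yt_c76_cnt_t) (d := 0) (by decide +kernel)

theorem yt_c76_ge : 216 ≤ Nat.card (grp 324 yt_c76_K) :=
  Ch.le_card_grp (k := 9) (L := (lab 324 9)) z_hn yt_c76_K_ok (c := (Ch.cons (nat_lit 89) [nat_lit 1] (Ch.cons (nat_lit 37) [nat_lit 3] (Ch.cons (nat_lit 76) [nat_lit 5] (Ch.cons (nat_lit 28) [nat_lit 7] (Ch.cons (nat_lit 48) [nat_lit 9] Ch.nil)))))) (by decide +kernel)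

theorem yt_c76_eq : (grp 324 y_E0) ⊓ Subgroup.centralizer {Net.toPerm 324 z_g1004} = grp 324 yt_c76_K :=
  cent_eq yt_c76_sym yt_c76_cnt yt_c76_ge

theorem yt_c76_card : Nat.card ↥((grp 324 y_E0) ⊓ Subgroup.centralizer {Net.toPerm 324 z_g1004}) = 216 :=
  card_cent yt_c76_sym yt_c76_cnt yt_c76_ge

theorem yt_c76_ord : orderOf (Net.toPerm 324 z_g1004) = 6 :=
  orderOf_net z_hn z_hk z_g1004_ok (by decide) (ps := [2, 3]) (by set_option linter.unusedSimpArgs false in simp [Nat.primeFactorsList_ofNat]) (by decide +kernel)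

theorem z_le1014 : grp 324 yt_c77_K ≤ grp 324 y_E0 :=
  grp_le_of_memB z_hn z_hk y_E0_ok yt_c77_K_ok (ws := [nat_lit 0x33352b1f1912070c011d01, nat_lit 0x3338261a070c01051d, nat_lit 0x33353c26281d1f012602, nat_lit 0x352f271f191b1b1101, nat_lit 0x35261b1a013c02]) (by decide +kernel)

theorem yt_c77_le : grp 324 yt_c77_K ≤ (grp 324 y_E0) :=
  (z_le1014.trans z_T111_s0.le)

theorem yt_c77_mem : Net.toPerm 324 z_g1010 ∈ (grp 324 y_E0) :=
  yt_c77_le (toPerm_mem_grp (E := yt_c77_K) (List.Mem.head _))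

theorem yt_c77_sym : Sym 324 (grp 324 y_E0) [z_g1010] yt_c77_K 0 :=
  Sym.of_lab z_hn z_hk (okE_cons.2 ⟨z_g1010_ok, okE_nil _⟩) yt_c77_K_ok yt_c77_le (kT := 0) (by decide +kernel)

theorem z_le1017 : grp 324 z_V1016 ≤ grp 324 z_V659 :=
  grp_le_of_memB z_hn z_hk z_V659_ok z_V1016_ok (ws := [nat_lit 0x70c0203, nat_lit 461828, nat_lit 461058, nat_lit 0xb050104]) (by decide +kernel)

theorem z_T111_s149 : Stab 324 (grp 324 y_E0) [nat_lit 217, nat_lit 12, nat_lit 6, nat_lit 14, nat_lit 2, nat_lit 0] z_V1016 36 :=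
  Stab.step (k := 9) (L := (lab 324 9)) z_hn z_T111_s99 z_V1016_ok z_le1017 (c := (Ch.cons (nat_lit 84) [nat_lit 1] (Ch.cons (nat_lit 281) [nat_lit 3, nat_lit 5, nat_lit 7] Ch.nil))) (by decide +kernel)

theorem z_T111_s150 : Stab 324 (grp 324 y_E0) [nat_lit 84, nat_lit 217, nat_lit 12, nat_lit 6, nat_lit 14, nat_lit 2, nat_lit 0] z_V1018 18 :=
  Stab.step (k := 9) (L := (lab 324 9)) z_hn z_T111_s149 z_V1018_ok (grp_mono (List.subset_append_right [z_g1015] _)) (c := (Ch.cons (nat_lit 281) [nat_lit 1, nat_lit 3, nat_lit 5] Ch.nil)) (by decide +kernel)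

theorem z_T111_s151 : Stab 324 (grp 324 y_E0) [nat_lit 281, nat_lit 84, nat_lit 217, nat_lit 12, nat_lit 6, nat_lit 14, nat_lit 2, nat_lit 0] z_V1019 1 :=
  Stab.step (k := 9) (L := (lab 324 9)) z_hn z_T111_s150 z_V1019_ok (grp_mono (List.subset_append_right [z_g131, z_g609, z_g863] _)) (c := Ch.nil) (by decide +kernel)

theorem z_g1015_z_T111 : Net.toPerm 324 z_g1015 ∈ (grp 324 y_E0) :=
  z_T111_s149.le (toPerm_mem_grp (E := z_V1016) (List.Mem.head _))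

noncomputable def z_T111_s151_O : ℕ := (nat_lit 0xfffffffffffffffff000000000000000000000000000000000000000000000000000000000000000000000000000000000ffffffffffffffffffffffffffffffff00000000000000000000000000000000f0000000000000000ffffffffffffffff0000000000000000ffffffffffffffff00000000000000000ffffffff00000000ffffffff00000000ffffffff00000000ffffffff00000000ffffffff000000000ffff0000ffff0000ffff0000ffff0000ffff0000ffff0000ffff0000ffff0000ffff0000ffff00000ff00ff00ff00ff00ff00ff00ff00ff00ff00ff00ff00ff00ff00ff00ff00ff00ff00ff00ff00ff000f0f0f0f0f0f0f0f0f0f0f0f0f0f0f0f0f0f0f0f0f0f0f0f0f0f0f0f0f0f0f0f0f0f0f0f0f0f0f0f0cccccccccccccccccccccccccccccccccccccccccccccccccccccccccccccccccccccccccccccccccaaaaaaaaaaaaaaaaaaaaaaaaaaaaaaaaaaaaaaaaaaaaaaaaaaaaaaaaaaaaaaaaaaaaaaaaaaaaaaaaa0000000000000000000000000000000000000000000000000000000000000000000000000000000010000000000000000000000000000000000000000000000000000000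00000000000000000000000004000000000000000000000000000000000000000000000000000000000000000000000000000004000000000000000000000000000000000000000000000000000000000000000000000000000000000040000000000000000000000000000000000000000000000000000000000000000000000000000001000000000000000000000000000002000000000000000000000000000000000000000000000000000000000000000000000000000000000000000000000000000000000000000001000000000000000000000000000000020000000000000000000000000000000000000000000000000000000000000000000000)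

theorem z_T111_s151_F : Frame 324 (grp 324 y_E0) 8 17 z_T111_s151_O 1 1 :=
  IsBase.frame z_T111_s151.isBase (by decide +kernel)

noncomputable def z_T111_s150_O : ℕ := (nat_lit 0x40000000000000001040000000000000000004000000000000000004000000000000000000000000000000000000000000000000000000000000000000000000000000000020000000000fffafba7fbb879d1fdef99dafb761290b41c070260f21fb3869d1fdcd99f2e3c8b29bb21b00000000803ac0094f774dbd6350fe3334b29618b4bbd91260f2eb0cbb24e9ebf67cdcf4d6ca30a64b600000080303a095f4feabfd8d4f3c743415f74f9e07819980515f0ceab3dac495c647415a30bac0e8f40708800a3189a97ba34fa7d97f97e5096fa3a878b00000009ad7f256da7d97f93f5320680a6b8d91260f20028a92000000000000000000000000000000000000000000000000000000000000000000000000000000001000000000000000000000000000000000000000000000000000000000000000000000000000000004000000000000000000000000000000000000000000000000000000000000000000000000000004000000000000000000000000000000000000000000000000000000000000000000000000000000000040000000000000000000000000000000000000000000000000000000000000000000000000000001000000000000000000000000000002000000000000000000000000000000000000000000000000000000000000000000000000000000000000000000000000000000000000000001000000000000000000000)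

theorem z_T111_s150_F : Frame 324 (grp 324 y_E0) 7 13 z_T111_s150_O 0 1 :=
  Stab.frame z_hn z_T111_s150 (by decide +kernel)

noncomputable def yt_c77_cnt_L : List ℕ := [1, 4, z_T111_s1_O, 0, 0, 5, 10, z_T111_s99_O, 0, 0, 7, 13, z_T111_s150_O, 0, 0, 8, 17, z_T111_s151_O, 1, 0]

theorem yt_c77_cnt_P : Prob 324 9 (grp 324 y_E0) yt_c77_cnt_EG [z_g1010] [z_g1010] yt_c77_K yt_c77_cnt_L 0 0 :=
  Sym.prob z_hn z_hk yt_c77_sym yt_c77_cnt_EG_ok (grp_cons_le z_g39_z_T111 (grp_cons_le zg1_z_T111 (grp_cons_le zg3_z_T111 (grp_cons_le z_g43_z_T111 (grp_cons_le z_g42_z_T111 (grp_cons_le zg2_z_T111 (grp_cons_le z_g44_z_T111 (grp_cons_le z_g54_z_T111 (grp_cons_le z_g55_z_T111 (grp_cons_le z_g49_z_T111 (grp_cons_le z_g50_z_T111 (grp_cons_le z_g51_z_T111 (grp_cons_le z_g62_z_T111 (grp_cons_le z_g58_z_T111 (grp_cons_le z_g59_z_T111 (grp_cons_le z_g65_z_T111 (grp_cons_le z_g66_z_T111 (grp_cons_le z_g67_z_T111 (grp_cons_le z_g77_z_T111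 (grp_cons_le z_g78_z_T111 (grp_cons_le z_g72_z_T111 (grp_cons_le z_g73_z_T111 (grp_cons_le z_g74_z_T111 (grp_cons_le z_g81_z_T111 (grp_cons_le z_g82_z_T111 (grp_cons_le z_g87_z_T111 (grp_cons_le zg0_z_T111 (grp_cons_le z_g91_z_T111 (grp_cons_le z_g28_z_T111 (grp_cons_le z_g88_z_T111 (grp_cons_le z_g652_z_T111 (grp_cons_le z_g653_z_T111 (grp_cons_le z_g654_z_T111 (grp_cons_le z_g655_z_T111 (grp_cons_le z_g656_z_T111 (grp_cons_le z_g493_z_T111 (grp_cons_le z_g548_z_T111 (grp_cons_le z_g34_z_T111 (grp_cons_le z_g549_z_T111 (grp_cons_le z_g33_z_T111 (grp_cons_le z_g550_z_T111 (grp_cons_le z_g551_z_T111 (grp_cons_le z_g1015_z_T111 (grp_cons_le z_g131_z_T111 (grp_cons_le z_g609_z_T111 (grp_cons_le z_g863_z_T111 (grp_nil_le _))))))))))))))))))))))))))))))))))))))))))))))) (Frames.cons z_T111_s1_F (Frames.cons z_T111_s99_F (Frames.cons z_T111_s150_F (Frames.cons z_T111_s151_F Frames.nil)))) (okE_cons.2 ⟨z_g1010_ok,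 okE_nil _⟩) _

noncomputable def yt_c77_cnt_t : BT := (BT.fix (nat_lit 257) (BT.fix (nat_lit 1) (BT.dif (nat_lit 1) (nat_lit 0) (BT.br (nat_lit 0) (nat_lit 86) [nat_lit 1] (BT.dead (nat_lit 213) (BT.frm (nat_lit 0) (nat_lit 303) (nat_lit 295) [nat_lit 0] (BT.pln (nat_lit 0) (nat_lit 2) (BT.fix (nat_lit 65793) (BT.dif (nat_lit 1) (nat_lit 0) (BT.dif (nat_lit 0) (nat_lit 7) (BT.br (nat_lit 0) (nat_lit 305) [nat_lit 459521] (BT.dead (nat_lit 266) (BT.img (nat_lit 1) (nat_lit 0) (BT.img (nat_lit 1) (nat_lit 0) (BT.img (nat_lit 1) (nat_lit 8) (BT.frm (nat_lit 1) (nat_lit 0x3d530f18070a012f) (nat_lit 0x530f07070127) [nat_lit 1, nat_lit 2, nat_lit 3, nat_lit 0, nat_lit 9] (BT.pln (nat_lit 0) (nat_lit 5) (BT.and (nat_lit 0) (nat_lit 13) (BT.cnt (nat_lit 0)))))))) BT.nil))))))) (BT.kid (nat_lit 86) (nat_lit 108) (BT.frm (nat_lit 0) (nat_lit 303) (nat_lit 303) [nat_lit 0] (BT.pln (nat_lit 0) (nat_lit 2) (BT.fix (nat_lit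 65793) (BT.dif (nat_lit 1) (nat_lit 0) (BT.dif (nat_lit 0) (nat_lit 7) (BT.br (nat_lit 0) (nat_lit 305) [nat_lit 3] (BT.kid (nat_lit 305) (nat_lit 18) (BT.dif (nat_lit 3) (nat_lit 8) (BT.img (nat_lit 1) (nat_lit 1) (BT.img (nat_lit 1) (nat_lit 0) (BT.img (nat_lit 1) (nat_lit 9) (BT.frm (nat_lit 1) (nat_lit 0x3d530f18070a012f) (nat_lit 0x3d530f18070a012f) [nat_lit 1, nat_lit 2, nat_lit 4, nat_lit 0, nat_lit 10] (BT.pln (nat_lit 0) (nat_lit 5) (BT.and (nat_lit 5) (nat_lit 0) (BT.br (nat_lit 0) (nat_lit 90) [nat_lit 5, nat_lit 7] (BT.kid (nat_lit 90) (nat_lit 3) (BT.dif (nat_lit 20) (nat_lit 2) (BT.pln (nat_lit 4) (nat_lit 7) (BT.and (nat_lit 1) (nat_lit 0) (BT.pln (nat_lit 6) (nat_lit 6) (BT.dif (nat_lit 1) (nat_lit 0) (BT.img (nat_lit 1) (nat_lit 5) (BT.frm (nat_lit 2) (nat_lit 0x55433d530f18070a012f) (nat_lit 0x55433d530f18070a012f) [nat_lit 0, nat_lit 6, nat_lit 11, nat_lit 12, nat_lit 14, nat_lit 10, nat_lit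 20] (BT.pln (nat_lit 0) (nat_lit 8) (BT.dif (nat_lit 3) (nat_lit 0) (BT.br (nat_lit 0) (nat_lit 27) [nat_lit 9] (BT.dead (nat_lit 78) (BT.frm (nat_lit 3) (nat_lit 0x55433d530f18070a012f) (nat_lit 0x575a55433d530f18070a012f) [nat_lit 0, nat_lit 4, nat_lit 10, nat_lit 15, nat_lit 16, nat_lit 18, nat_lit 14, nat_lit 24] (BT.pln (nat_lit 0) (nat_lit 8) (BT.img (nat_lit 1) (nat_lit 2) (BT.img (nat_lit 1) (nat_lit 0) (BT.img (nat_lit 1) (nat_lit 0) (BT.img (nat_lit 1) (nat_lit 0) (BT.img (nat_lit 1) (nat_lit 0) (BT.and (nat_lit 5) (nat_lit 0) (BT.cnt (nat_lit 0)))))))))) (BT.dead (nat_lit 196) (BT.frm (nat_lit 3) (nat_lit 0x55433d530f18070a012f) (nat_lit 0x575a5b55433d530f18070a012f) [nat_lit 0, nat_lit 4, nat_lit 10, nat_lit 15, nat_lit 16, nat_lit 18, nat_lit 14, nat_lit 24] (BT.pln (nat_lit 0) (nat_lit 8) (BT.img (nat_lit 1) (nat_lit 2) (BT.and (nat_lit 1) (nat_lit 0) (BT.cnt (nat_lit 0)))))) (BT.dead (nat_lit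 150) (BT.frm (nat_lit 3) (nat_lit 0x55433d530f18070a012f) (nat_lit 0x575955433d530f18070a012f) [nat_lit 0, nat_lit 4, nat_lit 10, nat_lit 15, nat_lit 16, nat_lit 18, nat_lit 14, nat_lit 24] (BT.pln (nat_lit 0) (nat_lit 8) (BT.img (nat_lit 1) (nat_lit 2) (BT.img (nat_lit 1) (nat_lit 0) (BT.img (nat_lit 1) (nat_lit 0) (BT.img (nat_lit 1) (nat_lit 0) (BT.and (nat_lit 4) (nat_lit 0) (BT.cnt (nat_lit 0))))))))) (BT.dead (nat_lit 92) (BT.frm (nat_lit 3) (nat_lit 0x55433d530f18070a012f) (nat_lit 0x595b55433d530f18070a012f) [nat_lit 0, nat_lit 4, nat_lit 10, nat_lit 15, nat_lit 16, nat_lit 18, nat_lit 14, nat_lit 24] (BT.pln (nat_lit 0) (nat_lit 8) (BT.img (nat_lit 1) (nat_lit 2) (BT.img (nat_lit 1) (nat_lit 0) (BT.and (nat_lit 2) (nat_lit 0) (BT.cnt (nat_lit 0))))))) (BT.dead (nat_lit 81) (BT.frm (nat_lit 3) (nat_lit 0x55433d530f18070a012f) (nat_lit 0x585b55433d530f18070a012f) [nat_lit 0, nat_lit 4, nat_lit 10,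 nat_lit 15, nat_lit 16, nat_lit 18, nat_lit 14, nat_lit 24] (BT.pln (nat_lit 0) (nat_lit 8) (BT.img (nat_lit 1) (nat_lit 2) (BT.and (nat_lit 1) (nat_lit 0) (BT.cnt (nat_lit 0)))))) (BT.kid (nat_lit 27) (nat_lit 1) (BT.one (nat_lit 3) (nat_lit 0x55433d530f18070a012f) (nat_lit 0x55433d530f18070a012f) [nat_lit 0, nat_lit 4, nat_lit 10, nat_lit 15, nat_lit 16, nat_lit 18, nat_lit 14, nat_lit 24]) BT.nil)))))))))))))))) BT.nil))))))))) BT.nil))))))) BT.nil))))))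

theorem yt_c77_cnt : Cnt 324 (grp 324 y_E0) [z_g1010] [z_g1010] 0 0 0 0 216 :=
  BT.sound yt_c77_cnt_P Known.nil (t := yt_c77_cnt_t) (d := 0) (by decide +kernel)

theorem yt_c77_ge : 216 ≤ Nat.card (grp 324 yt_c77_K) :=
  Ch.le_card_grp (k := 9) (L := (lab 324 9)) z_hn yt_c77_K_ok (c := (Ch.cons (nat_lit 86) [nat_lit 1] (Ch.cons (nat_lit 305) [nat_lit 3] (Ch.cons (nat_lit 90) [nat_lit 5, nat_lit 7] (Ch.cons (nat_lit 27) [nat_lit 9] Ch.nil))))) (by decide +kernel)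

theorem yt_c77_eq : (grp 324 y_E0) ⊓ Subgroup.centralizer {Net.toPerm 324 z_g1010} = grp 324 yt_c77_K :=
  cent_eq yt_c77_sym yt_c77_cnt yt_c77_ge

theorem yt_c77_card : Nat.card ↥((grp 324 y_E0) ⊓ Subgroup.centralizer {Net.toPerm 324 z_g1010}) = 216 :=
  card_cent yt_c77_sym yt_c77_cnt yt_c77_ge

theorem yt_c77_ord : orderOf (Net.toPerm 324 z_g1010) = 6 :=
  orderOf_net z_hn z_hk z_g1010_ok (by decide) (ps := [2, 3]) (by set_option linter.unusedSimpArgs false in simp [Nat.primeFactorsList_ofNat]) (by decide +kernel)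

theorem z_le1025 : grp 324 yt_c78_K ≤ grp 324 y_E0 :=
  grp_le_of_memB z_hn z_hk y_E0_ok yt_c78_K_ok (ws := [nat_lit 0x33352f2519110701051f, nat_lit 0x33271a1107011d01, nat_lit 0x392b1923120715021501, nat_lit 0x3925281d0f12071501052d, nat_lit 0x33252819200f0715010517]) (by decide +kernel)

theorem yt_c78_le : grp 324 yt_c78_K ≤ (grp 324 y_E0) :=
  (z_le1025.trans z_T111_s0.le)

theorem yt_c78_mem : Net.toPerm 324 z_g1020 ∈ (grp 324 y_E0) :=
  yt_c78_le (toPerm_mem_grp (E := yt_c78_K) (List.Mem.head _))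

theorem yt_c78_sym : Sym 324 (grp 324 y_E0) [z_g1020] yt_c78_K 0 :=
  Sym.of_lab z_hn z_hk (okE_cons.2 ⟨z_g1020_ok, okE_nil _⟩) yt_c78_K_ok yt_c78_le (kT := 0) (by decide +kernel)

noncomputable def yt_c78_cnt_L : List ℕ := [1, 4, z_T111_s1_O, 0, 0, 4, 19, z_T111_s22_O, 0, 0, 5, 10, z_T111_s23_O, 0, 0, 7, 14, z_T111_s27_O, 0, 0, 8, 17, z_T111_s28_O, 1, 0]

theorem yt_c78_cnt_P : Prob 324 9 (grp 324 y_E0) yt_c78_cnt_EG [z_g1020] [z_g1020] yt_c78_K yt_c78_cnt_L 0 0 :=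
  Sym.prob z_hn z_hk yt_c78_sym yt_c78_cnt_EG_ok (grp_cons_le z_g39_z_T111 (grp_cons_le zg1_z_T111 (grp_cons_le zg3_z_T111 (grp_cons_le z_g43_z_T111 (grp_cons_le z_g42_z_T111 (grp_cons_le zg2_z_T111 (grp_cons_le z_g44_z_T111 (grp_cons_le z_g54_z_T111 (grp_cons_le z_g55_z_T111 (grp_cons_le z_g49_z_T111 (grp_cons_le z_g50_z_T111 (grp_cons_le z_g51_z_T111 (grp_cons_le z_g62_z_T111 (grp_cons_le z_g58_z_T111 (grp_cons_le z_g59_z_T111 (grp_cons_le z_g65_z_T111 (grp_cons_le z_g66_z_T111 (grp_cons_le z_g67_z_T111 (grp_cons_le z_g77_z_T111 (grp_cons_le z_g78_z_T111 (grp_cons_le z_g72_z_T111 (grp_cons_le z_g73_z_T111 (grp_cons_le z_g74_z_T111 (grp_cons_le z_g81_z_T111 (grp_cons_le z_g82_z_T111 (grp_cons_le z_g87_z_T111 (grp_cons_le zg0_z_T111 (grp_cons_le z_g91_z_T111 (grp_cons_le z_g28_z_T111 (grp_cons_le z_g88_z_T111 (grp_cons_le z_g216_z_T111 (grp_cons_le z_g217_z_T111 (grp_nil_le _)))))))))))))))))))))))))))))))))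 (Frames.cons z_T111_s1_F (Frames.cons z_T111_s22_F (Frames.cons z_T111_s23_F (Frames.cons z_T111_s27_F (Frames.cons z_T111_s28_F Frames.nil))))) (okE_cons.2 ⟨z_g1020_ok, okE_nil _⟩) _

noncomputable def yt_c78_cnt_t : BT := (BT.fix (nat_lit 65793) (BT.fix (nat_lit 1) (BT.dif (nat_lit 1) (nat_lit 0) (BT.br (nat_lit 0) (nat_lit 29) [nat_lit 1, nat_lit 3] (BT.kid (nat_lit 29) (nat_lit 24) (BT.frm (nat_lit 0) (nat_lit 328199) (nat_lit 328199) [nat_lit 0] (BT.pln (nat_lit 0) (nat_lit 2) (BT.fix (nat_lit 257) (BT.dif (nat_lit 1) (nat_lit 0) (BT.br (nat_lit 0) (nat_lit 95) [nat_lit 5, nat_lit 7] (BT.dead (nat_lit 76) (BT.img (nat_lit 1) (nat_lit 5) (BT.img (nat_lit 1) (nat_lit 0) (BT.frm (nat_lit 1) (nat_lit 0x1d1f1109050207) (nat_lit 0x1b1a1109050207) [nat_lit 2, nat_lit 0, nat_lit 1, nat_lit 7] (BT.pln (nat_lit 0) (nat_lit 9) (BT.and (nat_lit 0) (nat_lit 11) (BT.cnt (nat_lit 0))))))) (BT.dead (nat_lit 241) (BT.img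 (nat_lit 1) (nat_lit 5) (BT.img (nat_lit 1) (nat_lit 0) (BT.frm (nat_lit 1) (nat_lit 0x1d1f1109050207) (nat_lit 0x1109050207) [nat_lit 2, nat_lit 0, nat_lit 1, nat_lit 7] (BT.pln (nat_lit 0) (nat_lit 9) (BT.img (nat_lit 1) (nat_lit 4) (BT.and (nat_lit 1) (nat_lit 0) (BT.cnt (nat_lit 0)))))))) (BT.kid (nat_lit 95) (nat_lit 4) (BT.img (nat_lit 1) (nat_lit 5) (BT.img (nat_lit 1) (nat_lit 0) (BT.frm (nat_lit 1) (nat_lit 0x1d1f1109050207) (nat_lit 0x1d1f1109050207) [nat_lit 2, nat_lit 0, nat_lit 1, nat_lit 7] (BT.pln (nat_lit 0) (nat_lit 5) (BT.img (nat_lit 1) (nat_lit 4) (BT.img (nat_lit 1) (nat_lit 0) (BT.img (nat_lit 1) (nat_lit 0) (BT.img (nat_lit 1) (nat_lit 0) (BT.img (nat_lit 1) (nat_lit 0) (BT.frm (nat_lit 2) (nat_lit 0x1d1f1109050207) (nat_lit 0x1d1f1109050207) [nat_lit 0, nat_lit 9, nat_lit 7, nat_lit 8, nat_lit 14] (BT.pln (nat_lit 0) (nat_lit 5) (BT.and (nat_lit 7) (nat_lit 0) (BT.pln (nat_lit 9)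 (nat_lit 8) (BT.and (nat_lit 20) (nat_lit 0) (BT.pln (nat_lit 11) (nat_lit 7) (BT.and (nat_lit 22) (nat_lit 0) (BT.frm (nat_lit 3) (nat_lit 0x3c271d1f1109050207) (nat_lit 0x3c271d1f1109050207) [nat_lit 2, nat_lit 0, nat_lit 7, nat_lit 16, nat_lit 14, nat_lit 15, nat_lit 21] (BT.pln (nat_lit 0) (nat_lit 13) (BT.and (nat_lit 6) (nat_lit 0) (BT.br (nat_lit 0) (nat_lit 265) [nat_lit 7, nat_lit 9] (BT.kid (nat_lit 265) (nat_lit 1) (BT.one (nat_lit 4) (nat_lit 0x3d3c271d1f1109050207) (nat_lit 0x3d3c271d1f1109050207) [nat_lit 0, nat_lit 6, nat_lit 4, nat_lit 11, nat_lit 20, nat_lit 18, nat_lit 19, nat_lit 25]) BT.nil))))))))))))))))))))) BT.nil)))))))) BT.nil)))))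

theorem yt_c78_cnt : Cnt 324 (grp 324 y_E0) [z_g1020] [z_g1020] 0 0 0 0 216 :=
  BT.sound yt_c78_cnt_P Known.nil (t := yt_c78_cnt_t) (d := 0) (by decide +kernel)

theorem yt_c78_ge : 216 ≤ Nat.card (grp 324 yt_c78_K) :=
  Ch.le_card_grp (k := 9) (L := (lab 324 9)) z_hn yt_c78_K_ok (c := (Ch.cons (nat_lit 29) [nat_lit 1, nat_lit 3] (Ch.cons (nat_lit 95) [nat_lit 5] (Ch.cons (nat_lit 265) [nat_lit 7, nat_lit 9] Ch.nil)))) (by decide +kernel)

theorem yt_c78_eq : (grp 324 y_E0) ⊓ Subgroup.centralizer {Net.toPerm 324 z_g1020} = grp 324 yt_c78_K :=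
  cent_eq yt_c78_sym yt_c78_cnt yt_c78_ge

theorem yt_c78_card : Nat.card ↥((grp 324 y_E0) ⊓ Subgroup.centralizer {Net.toPerm 324 z_g1020}) = 216 :=
  card_cent yt_c78_sym yt_c78_cnt yt_c78_ge

theorem yt_c78_ord : orderOf (Net.toPerm 324 z_g1020) = 6 :=
  orderOf_net z_hn z_hk z_g1020_ok (by decide) (ps := [2, 3]) (by set_option linter.unusedSimpArgs false in simp [Nat.primeFactorsList_ofNat]) (by decide +kernel)

theorem z_le1031 : grp 324 yt_c79_K ≤ grp 324 y_E0 :=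
  grp_le_of_memB z_hn z_hk y_E0_ok yt_c79_K_ok (ws := [nat_lit 0x37251f1921110707052d, nat_lit 0x382f2b1f1a1e0f070a010523, nat_lit 0x34392719220f12070a010722, nat_lit 0x333b2f271f190f1208020e, nat_lit 0x352f26191e0f070a010519]) (by decide +kernel)

theorem yt_c79_le : grp 324 yt_c79_K ≤ (grp 324 y_E0) :=
  (z_le1031.trans z_T111_s0.le)

theorem yt_c79_mem : Net.toPerm 324 z_g1026 ∈ (grp 324 y_E0) :=
  yt_c79_le (toPerm_mem_grp (E := yt_c79_K) (List.Mem.head _))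

theorem yt_c79_sym : Sym 324 (grp 324 y_E0) [z_g1026] yt_c79_K 0 :=
  Sym.of_lab z_hn z_hk (okE_cons.2 ⟨z_g1026_ok, okE_nil _⟩) yt_c79_K_ok yt_c79_le (kT := 0) (by decide +kernel)

noncomputable def yt_c79_cnt_L : List ℕ := [1, 4, z_T111_s1_O, 0, 0, 4, 13, z_T111_s81_O, 0, 0, 5, 10, z_T111_s82_O, 0, 0, 6, 12, z_T111_s83_O, 0, 0, 7, 14, z_T111_s120_O, 0, 0, 8, 17, z_T111_s121_O, 1, 0]

theorem yt_c79_cnt_P : Prob 324 9 (grp 324 y_E0) yt_c79_cnt_EG [z_g1026] [z_g1026] yt_c79_K yt_c79_cnt_L 0 0 :=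
  Sym.prob z_hn z_hk yt_c79_sym yt_c79_cnt_EG_ok (grp_cons_le z_g39_z_T111 (grp_cons_le zg1_z_T111 (grp_cons_le zg3_z_T111 (grp_cons_le z_g43_z_T111 (grp_cons_le z_g42_z_T111 (grp_cons_le zg2_z_T111 (grp_cons_le z_g44_z_T111 (grp_cons_le z_g54_z_T111 (grp_cons_le z_g55_z_T111 (grp_cons_le z_g49_z_T111 (grp_cons_le z_g50_z_T111 (grp_cons_le z_g51_z_T111 (grp_cons_le z_g62_z_T111 (grp_cons_le z_g58_z_T111 (grp_cons_le z_g59_z_T111 (grp_cons_le z_g65_z_T111 (grp_cons_le z_g66_z_T111 (grp_cons_le z_g67_z_T111 (grp_cons_le z_g77_z_T111 (grp_cons_le z_g78_z_T111 (grp_cons_le z_g72_z_T111 (grp_cons_le z_g73_z_T111 (grp_cons_le z_g74_z_T111 (grp_cons_le z_g81_z_T111 (grp_cons_le z_g82_z_T111 (grp_cons_le z_g87_z_T111 (grp_cons_le zg0_z_T111 (grp_cons_le z_g91_z_T111 (grp_cons_le z_g28_z_T111 (grp_cons_le z_g88_z_T111 (grp_cons_le z_g548_z_T111 (grp_cons_le z_g34_z_T111 (grp_cons_le z_g549_z_T111 (grp_cons_le z_g33_z_T111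 (grp_cons_le z_g550_z_T111 (grp_cons_le z_g551_z_T111 (grp_cons_le z_g799_z_T111 (grp_nil_le _)))))))))))))))))))))))))))))))))))))) (Frames.cons z_T111_s1_F (Frames.cons z_T111_s81_F (Frames.cons z_T111_s82_F (Frames.cons z_T111_s83_F (Frames.cons z_T111_s120_F (Frames.cons z_T111_s121_F Frames.nil)))))) (okE_cons.2 ⟨z_g1026_ok, okE_nil _⟩) _

noncomputable def yt_c79_cnt_t : BT := (BT.fix (nat_lit 65793) (BT.br (nat_lit 0) (nat_lit 58) [nat_lit 1, nat_lit 3] (BT.dead (nat_lit 118) (BT.frm (nat_lit 0) (nat_lit 66331) (nat_lit 297) [nat_lit 0] (BT.pln (nat_lit 0) (nat_lit 2) (BT.and (nat_lit 0) (nat_lit 3) (BT.cnt (nat_lit 0))))) (BT.kid (nat_lit 58) (nat_lit 18) (BT.frm (nat_lit 0) (nat_lit 66331) (nat_lit 66331) [nat_lit 0] (BT.pln (nat_lit 0) (nat_lit 2) (BT.and (nat_lit 3) (nat_lit 0) (BT.br (nat_lit 0) (nat_lit 122) [nat_lit 5] (BT.kid (nat_lit 122) (nat_lit 6) (BT.img (nat_lit 1) (nat_lit 0) (BT.img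 (nat_lit 1) (nat_lit 5) (BT.frm (nat_lit 1) (nat_lit 0x190901031b) (nat_lit 0x190901031b) [nat_lit 1, nat_lit 2, nat_lit 0, nat_lit 6] (BT.pln (nat_lit 0) (nat_lit 11) (BT.and (nat_lit 6) (nat_lit 0) (BT.br (nat_lit 0) (nat_lit 215) [nat_lit 7] (BT.kid (nat_lit 215) (nat_lit 3) (BT.pln (nat_lit 9) (nat_lit 1) (BT.dif (nat_lit 15) (nat_lit 0) (BT.dif (nat_lit 0) (nat_lit 10) (BT.and (nat_lit 11) (nat_lit 14) (BT.dif (nat_lit 0) (nat_lit 10) (BT.dif (nat_lit 0) (nat_lit 10) (BT.frm (nat_lit 2) (nat_lit 0x4047190901031b) (nat_lit 0x4047190901031b) [nat_lit 0, nat_lit 11, nat_lit 12, nat_lit 10, nat_lit 16] (BT.pln (nat_lit 0) (nat_lit 8) (BT.and (nat_lit 5) (nat_lit 0) (BT.pln (nat_lit 2) (nat_lit 5) (BT.dif (nat_lit 1) (nat_lit 0) (BT.pln (nat_lit 4) (nat_lit 6) (BT.dif (nat_lit 1) (nat_lit 0) (BT.frm (nat_lit 3) (nat_lit 0x4047190901031b) (nat_lit 0x4047190901031b) [nat_lit 13, nat_lit 7, nat_lit 18, nat_lit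 19, nat_lit 17, nat_lit 23] (BT.pln (nat_lit 0) (nat_lit 7) (BT.dif (nat_lit 2) (nat_lit 0) (BT.and (nat_lit 15) (nat_lit 4) (BT.pln (nat_lit 3) (nat_lit 6) (BT.dif (nat_lit 1) (nat_lit 0) (BT.pln (nat_lit 5) (nat_lit 8) (BT.and (nat_lit 19) (nat_lit 0) (BT.and (nat_lit 0) (nat_lit 3) (BT.dif (nat_lit 1) (nat_lit 4) (BT.and (nat_lit 6) (nat_lit 5) (BT.pln (nat_lit 17) (nat_lit 7) (BT.and (nat_lit 24) (nat_lit 0) (BT.and (nat_lit 0) (nat_lit 16) (BT.and (nat_lit 0) (nat_lit 12) (BT.img (nat_lit 1) (nat_lit 0) (BT.and (nat_lit 5) (nat_lit 0) (BT.img (nat_lit 1) (nat_lit 0) (BT.and (nat_lit 8) (nat_lit 0) (BT.img (nat_lit 1) (nat_lit 0) (BT.and (nat_lit 11) (nat_lit 0) (BT.img (nat_lit 1) (nat_lit 0) (BT.and (nat_lit 16) (nat_lit 0) (BT.frm (nat_lit 4) (nat_lit 0x454047190901031b) (nat_lit 0x454047190901031b) [nat_lit 0, nat_lit 36, nat_lit 30, nat_lit 41, nat_lit 42, nat_lit 40, nat_lit 46] (BT.pln (nat_lit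 0) (nat_lit 8) (BT.dif (nat_lit 22) (nat_lit 0) (BT.br (nat_lit 0) (nat_lit 178) [nat_lit 9] (BT.kid (nat_lit 178) (nat_lit 1) (BT.one (nat_lit 5) (nat_lit 0x454047190901031b) (nat_lit 0x454047190901031b) [nat_lit 0, nat_lit 4, nat_lit 40, nat_lit 34, nat_lit 45, nat_lit 46, nat_lit 44, nat_lit 50]) BT.nil))))))))))))))))))))))))))))))))))))))))) BT.nil))))))) BT.nil))))) BT.nil))))

theorem yt_c79_cnt : Cnt 324 (grp 324 y_E0) [z_g1026] [z_g1026] 0 0 0 0 162 :=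
  BT.sound yt_c79_cnt_P Known.nil (t := yt_c79_cnt_t) (d := 0) (by decide +kernel)

theorem yt_c79_ge : 162 ≤ Nat.card (grp 324 yt_c79_K) :=
  Ch.le_card_grp (k := 9) (L := (lab 324 9)) z_hn yt_c79_K_ok (c := (Ch.cons (nat_lit 58) [nat_lit 1, nat_lit 3] (Ch.cons (nat_lit 122) [nat_lit 5] (Ch.cons (nat_lit 215) [nat_lit 7] (Ch.cons (nat_lit 178) [nat_lit 9] Ch.nil))))) (by decide +kernel)

theorem yt_c79_eq : (grp 324 y_E0) ⊓ Subgroup.centralizer {Net.toPerm 324 z_g1026} = grp 324 yt_c79_K :=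
  cent_eq yt_c79_sym yt_c79_cnt yt_c79_ge

theorem yt_c79_card : Nat.card ↥((grp 324 y_E0) ⊓ Subgroup.centralizer {Net.toPerm 324 z_g1026}) = 162 :=
  card_cent yt_c79_sym yt_c79_cnt yt_c79_ge

theorem yt_c79_ord : orderOf (Net.toPerm 324 z_g1026) = 6 :=
  orderOf_net z_hn z_hk z_g1026_ok (by decide) (ps := [2, 3]) (by set_option linter.unusedSimpArgs false in simp [Nat.primeFactorsList_ofNat]) (by decide +kernel)

theorem z_le1037 : grp 324 yt_c80_K ≤ grp 324 y_E0 :=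
  grp_le_of_memB z_hn z_hk y_E0_ok yt_c80_K_ok (ws := [nat_lit 0x3b2b1f1a1e0f07010a, nat_lit 0x34352f26281f1926070a010933, nat_lit 0x342f251926120715, nat_lit 0x34352f251f191e1108011101, nat_lit 0x353c2f25281f192308013802]) (by decide +kernel)

theorem yt_c80_le : grp 324 yt_c80_K ≤ (grp 324 y_E0) :=
  (z_le1037.trans z_T111_s0.le)

theorem yt_c80_mem : Net.toPerm 324 z_g1032 ∈ (grp 324 y_E0) :=
  yt_c80_le (toPerm_mem_grp (E := yt_c80_K) (List.Mem.head _))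

theorem yt_c80_sym : Sym 324 (grp 324 y_E0) [z_g1032] yt_c80_K 0 :=
  Sym.of_lab z_hn z_hk (okE_cons.2 ⟨z_g1032_ok, okE_nil _⟩) yt_c80_K_ok yt_c80_le (kT := 0) (by decide +kernel)

theorem z_le1042 : grp 324 z_V1041 ≤ grp 324 z_V379 :=
  grp_le_of_memB z_hn z_hk z_V379_ok z_V1041_ok (ws := [nat_lit 0xc0e070a03060105, nat_lit 0xb0e090106, nat_lit 0xc0d070a060206]) (by decide +kernel)

theorem z_T111_s152 : Stab 324 (grp 324 y_E0) [nat_lit 166, nat_lit 293, nat_lit 0] z_V1041 144 :=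
  Stab.step (k := 9) (L := (lab 324 9)) z_hn z_T111_s49 z_V1041_ok z_le1042 (c := (Ch.cons (nat_lit 22) [nat_lit 1] (Ch.cons (nat_lit 137) [nat_lit 3, nat_lit 5] Ch.nil))) (by decide +kernel)

theorem z_T111_s153 : Stab 324 (grp 324 y_E0) [nat_lit 22, nat_lit 166, nat_lit 293, nat_lit 0] z_V1043 8 :=
  Stab.step (k := 9) (L := (lab 324 9)) z_hn z_T111_s152 z_V1043_ok (grp_mono (List.subset_append_right [z_g1038] _)) (c := (Ch.cons (nat_lit 137) [nat_lit 1, nat_lit 3] Ch.nil)) (by decide +kernel)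

theorem z_T111_s154 : Stab 324 (grp 324 y_E0) [nat_lit 137, nat_lit 22, nat_lit 166, nat_lit 293, nat_lit 0] z_V1044 1 :=
  Stab.step (k := 9) (L := (lab 324 9)) z_hn z_T111_s153 z_V1044_ok (grp_mono (List.subset_append_right [z_g1039, z_g1040] _)) (c := Ch.nil) (by decide +kernel)

theorem z_g1038_z_T111 : Net.toPerm 324 z_g1038 ∈ (grp 324 y_E0) :=
  z_T111_s152.le (toPerm_mem_grp (E := z_V1041) (List.Mem.head _))

theorem z_g1039_z_T111 : Net.toPerm 324 z_g1039 ∈ (grp 324 y_E0) :=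
  z_T111_s152.le (toPerm_mem_grp (E := z_V1041) (List.Mem.tail _ (List.Mem.head _)))

theorem z_g1040_z_T111 : Net.toPerm 324 z_g1040 ∈ (grp 324 y_E0) :=
  z_T111_s152.le (toPerm_mem_grp (E := z_V1041) (List.Mem.tail _ (List.Mem.tail _ (List.Mem.head _))))

noncomputable def z_T111_s154_O : ℕ := (nat_lit 0xfffffffffffffffff000000000000000000000000000000000000000000000000000000000000000000000000000000000ffffffffffffffffffffffffffffffff00000000000000000000000000000000f0000000000000000ffffffffffffffff0000000000000000ffffffffffffffff00000000000000000ffffffff00000000ffffffff00000000ffffffff00000000ffffffff00000000ffffffff000000000ffff0000ffff0000ffff0000ffff0000ffff0000ffff0000ffff0000ffff0000ffff0000ffff00000ff00ff00ff00ff00ff00ff00ff00ff00ff00ff00ff00ff00ff00ff00ff00ff00ff00ff00ff00ff000f0f0f0f0f0f0f0f0f0f0f0f0f0f0f0f0f0f0f0f0f0f0f0f0f0f0f0f0f0f0f0f0f0f0f0f0f0f0f0f0ccccccccccccccccccccccccccccccccccccccccc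ccccccccccccccccccccccccccccccccccccccccaaaaaaaaaaaaaaaaaaaaaaaaaaaaaaaaaaaaaaaaaaaaaaaaaaaaaaaaaaaaaaaaaaaaaaaaaaaaaaaaa000000000000000000000000000000000000000000000000000000000000000000000000000000001000000020000000000000000000000000000000000000000000000000000000000000000000000000000000000000000000000000000000000000000400000000000000000000000000000000000000000000000000000000000000000000000000000000000000000000000000000000000000000000400000000000000000000000000000000000000000000000000020000000000000000000000000000000000)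

theorem z_T111_s154_F : Frame 324 (grp 324 y_E0) 5 14 z_T111_s154_O 1 1 :=
  IsBase.frame z_T111_s154.isBase (by decide +kernel)

noncomputable def z_T111_s153_O : ℕ := (nat_lit 0x1807321c4a480fcc2810004c5a02430402000160023101a2091100288808000000002100100010000e7f881019197d273964c8921a109b8f14947dc99b888c85df48e9fc74796b8b51f80000000000000066e0cfad27a26014c6ed57e3c78d7ee934a02e8277d2be51f2626d1325dcf008e07e1801800010000003045212536c91081bea5e5f1d59676cb5fd4c87f02d640636838eb9af203ed7075e7fe7f00000001b9df9e070587d13c75274f340b71d02085b9ee334662b4fd10ad3ebc24f847ece6b163228fbd0000185103e5337873818951cfd1befc1ad5573c4f33c5ed8dc43dfad7f211af2c232952e8b2648022ab4000000000000000000000000000000000000000000000000000000000000000000000000000000001000000020000000000000000000000000000000000000000000000000000000000000000000000000000000000000000000000000000000000000000400000000000000000000000000000000000000000000000000000000000000000000000000000000000000000000000000000000000000000000400000)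

theorem z_T111_s153_F : Frame 324 (grp 324 y_E0) 4 10 z_T111_s153_O 0 1 :=
  Stab.frame z_hn z_T111_s153 (by decide +kernel)

noncomputable def z_T111_s152_O : ℕ := (nat_lit 0x4000000000000000000000000000000000000000000000000000000000000000000000000000000000000000040000000000000000000000000000000000000000000000000000000000000000000000000000000000400000000000000000000000000000000000000000000000000000000000000000000000000400000000008000000080000000800100201000004000000000000000000000004000000000000000000000000800810000000000800000000004000100200000000000000000000800000008001002010000000000000000000000000000000000400040000000000800000000000000000008000000000040001002000000000000000000002000000000000000000080081000000000000000000400000000000000010002000000000000000040000000000000001040200000000008000000000000000000000000000000000000000000000000000000000000000000000000000000000022ab4000470004000060000000000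000205000000000000020202000000000048000840200000000000000000000202020000000000480008402000000000047000400006000000000000020500000000000000000000000000000000000000000000000000000000000000000000000000000000000000007fdd54a66a0860c168210950eac08200b01602000000191b0191095ce90aa010410980009040000000000000191b0191095ce90aa0104109800090400000066a0860c168210950eac08200b016020000000000000000000000000000000000000000000000000000000000000000000000000000000000000000000001000000020000000000000000000000000000000000000000000000000000000000000000000000000000000000000000000000000000000000000000400000000000000000000000000000000000000000)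

theorem z_T111_s152_F : Frame 324 (grp 324 y_E0) 3 17 z_T111_s152_O 0 1 :=
  Stab.frame z_hn z_T111_s152 (by decide +kernel)

noncomputable def yt_c80_cnt_L : List ℕ := [1, 4, z_T111_s1_O, 0, 0, 2, 11, z_T111_s49_O, 0, 0, 3, 17, z_T111_s152_O, 0, 0, 4, 10, z_T111_s153_O, 0, 0, 5, 14, z_T111_s154_O, 1, 0]

theorem yt_c80_cnt_P : Prob 324 9 (grp 324 y_E0) yt_c80_cnt_EG [z_g1032] [z_g1032] yt_c80_K yt_c80_cnt_L 0 0 :=
  Sym.prob z_hn z_hk yt_c80_sym yt_c80_cnt_EG_ok (grp_cons_le z_g39_z_T111 (grp_cons_le zg1_z_T111 (grp_cons_le zg3_z_T111 (grp_cons_le z_g43_z_T111 (grp_cons_le z_g42_z_T111 (grp_cons_le zg2_z_T111 (grp_cons_le z_g44_z_T111 (grp_cons_le z_g54_z_T111 (grp_cons_le z_g55_z_T111 (grp_cons_le z_g49_z_T111 (grp_cons_le z_g50_z_T111 (grp_cons_le z_g51_z_T111 (grp_cons_le z_g62_z_T111 (grp_cons_le z_g58_z_T111 (grp_cons_le z_g59_z_T111 (grp_cons_le z_g65_z_T111 (grp_cons_le z_g66_z_T111 (grp_cons_le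 z_g67_z_T111 (grp_cons_le z_g77_z_T111 (grp_cons_le z_g78_z_T111 (grp_cons_le z_g72_z_T111 (grp_cons_le z_g73_z_T111 (grp_cons_le z_g74_z_T111 (grp_cons_le z_g81_z_T111 (grp_cons_le z_g82_z_T111 (grp_cons_le z_g87_z_T111 (grp_cons_le zg0_z_T111 (grp_cons_le z_g91_z_T111 (grp_cons_le z_g28_z_T111 (grp_cons_le z_g88_z_T111 (grp_cons_le z_g372_z_T111 (grp_cons_le z_g373_z_T111 (grp_cons_le z_g374_z_T111 (grp_cons_le z_g375_z_T111 (grp_cons_le z_g376_z_T111 (grp_cons_le z_g377_z_T111 (grp_cons_le z_g378_z_T111 (grp_cons_le z_g1038_z_T111 (grp_cons_le z_g1039_z_T111 (grp_cons_le z_g1040_z_T111 (grp_nil_le _))))))))))))))))))))))))))))))))))))))))) (Frames.cons z_T111_s1_F (Frames.cons z_T111_s49_F (Frames.cons z_T111_s152_F (Frames.cons z_T111_s153_F (Frames.cons z_T111_s154_F Frames.nil))))) (okE_cons.2 ⟨z_g1032_ok, okE_nil _⟩) _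

noncomputable def yt_c80_cnt_t : BT := (BT.fix (nat_lit 65793) (BT.br (nat_lit 0) (nat_lit 5) [nat_lit 3, nat_lit 5] (BT.dead (nat_lit 28) (BT.img (nat_lit 1) (nat_lit 0) (BT.frm (nat_lit 1) (nat_lit 0x933013b02) (nat_lit 0x927010d05) [nat_lit 0, nat_lit 1] (BT.pln (nat_lit 0) (nat_lit 5) (BT.img (nat_lit 1) (nat_lit 2) (BT.and (nat_lit 1) (nat_lit 0) (BT.cnt (nat_lit 0))))))) (BT.dead (nat_lit 18) (BT.img (nat_lit 1) (nat_lit 0) (BT.frm (nat_lit 1) (nat_lit 0x933013b02) (nat_lit 0xf1a030f) [nat_lit 0, nat_lit 1] (BT.pln (nat_lit 0) (nat_lit 5) (BT.img (nat_lit 1) (nat_lit 2) (BT.and (nat_lit 1) (nat_lit 0) (BT.cnt (nat_lit 0))))))) (BT.kid (nat_lit 5) (nat_lit 16) (BT.frm (nat_lit 0) (nat_lit 80642) (nat_lit 80642) [nat_lit 0] (BT.pln (nat_lit 0) (nat_lit 2) (BT.and (nat_lit 3) (nat_lit 0) (BT.img (nat_lit 1) (nat_lit 3) (BT.img (nat_lit 1) (nat_lit 0) (BT.frm (nat_lit 2) (nat_lit 0x44490933013b02) (nat_lit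 0x44490933013b02) [nat_lit 0, nat_lit 1, nat_lit 5] (BT.pln (nat_lit 0) (nat_lit 5) (BT.and (nat_lit 4) (nat_lit 0) (BT.br (nat_lit 0) (nat_lit 8) [nat_lit 5] (BT.kid (nat_lit 8) (nat_lit 8) (BT.frm (nat_lit 1) (nat_lit 0x933013b02) (nat_lit 0x933013b02) [nat_lit 5, nat_lit 9] (BT.pln (nat_lit 0) (nat_lit 2) (BT.frm (nat_lit 3) (nat_lit 0x4b4d4f44490933013b02) (nat_lit 0x4b4d4f44490933013b02) [nat_lit 2, nat_lit 6, nat_lit 7, nat_lit 11] (BT.pln (nat_lit 0) (nat_lit 5) (BT.dif (nat_lit 2) (nat_lit 0) (BT.pln (nat_lit 2) (nat_lit 6) (BT.dif (nat_lit 1) (nat_lit 0) (BT.br (nat_lit 0) (nat_lit 65) [nat_lit 7, nat_lit 9] (BT.kid (nat_lit 65) (nat_lit 1) (BT.one (nat_lit 4) (nat_lit 0x504b4d4f44490933013b02) (nat_lit 0x504b4d4f44490933013b02) [nat_lit 0, nat_lit 8, nat_lit 12, nat_lit 13, nat_lit 17]) BT.nil))))))))) BT.nil)))))))))) BT.nil)))))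

theorem yt_c80_cnt : Cnt 324 (grp 324 y_E0) [z_g1032] [z_g1032] 0 0 0 0 144 :=
  BT.sound yt_c80_cnt_P Known.nil (t := yt_c80_cnt_t) (d := 0) (by decide +kernel)

theorem yt_c80_ge : 144 ≤ Nat.card (grp 324 yt_c80_K) :=
  Ch.le_card_grp (k := 9) (L := (lab 324 9)) z_hn yt_c80_K_ok (c := (Ch.cons (nat_lit 5) [nat_lit 1, nat_lit 3] (Ch.cons (nat_lit 8) [nat_lit 5] (Ch.cons (nat_lit 65) [nat_lit 7, nat_lit 9] Ch.nil)))) (by decide +kernel)

theorem yt_c80_eq : (grp 324 y_E0) ⊓ Subgroup.centralizer {Net.toPerm 324 z_g1032} = grp 324 yt_c80_K :=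
  cent_eq yt_c80_sym yt_c80_cnt yt_c80_ge

theorem yt_c80_card : Nat.card ↥((grp 324 y_E0) ⊓ Subgroup.centralizer {Net.toPerm 324 z_g1032}) = 144 :=
  card_cent yt_c80_sym yt_c80_cnt yt_c80_ge

theorem yt_c80_ord : orderOf (Net.toPerm 324 z_g1032) = 6 :=
  orderOf_net z_hn z_hk z_g1032_ok (by decide) (ps := [2, 3]) (by set_option linter.unusedSimpArgs false in simp [Nat.primeFactorsList_ofNat]) (by decide +kernel)

theorem z_le1050 : grp 324 yt_c81_K ≤ grp 324 y_E0 :=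
  grp_le_of_memB z_hn z_hk y_E0_ok yt_c81_K_ok (ws := [nat_lit 0x3335261921120901031e02, nat_lit 0x39281f19221a0f12070c011602, nat_lit 0x35382f26281907150307, nat_lit 0x3338291f191b1b150801070e, nat_lit 0x342f26281f1a1d070a010715]) (by decide +kernel)

theorem yt_c81_le : grp 324 yt_c81_K ≤ (grp 324 y_E0) :=
  (z_le1050.trans z_T111_s0.le)

theorem yt_c81_mem : Net.toPerm 324 z_g1045 ∈ (grp 324 y_E0) :=
  yt_c81_le (toPerm_mem_grp (E := yt_c81_K) (List.Mem.head _))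

theorem yt_c81_sym : Sym 324 (grp 324 y_E0) [z_g1045] yt_c81_K 0 :=
  Sym.of_lab z_hn z_hk (okE_cons.2 ⟨z_g1045_ok, okE_nil _⟩) yt_c81_K_ok yt_c81_le (kT := 0) (by decide +kernel)

noncomputable def yt_c81_cnt_L : List ℕ := [1, 4, z_T111_s1_O, 0, 0, 3, 11, z_T111_s21_O, 0, 0, 4, 19, z_T111_s22_O, 0, 0, 6, 12, z_T111_s55_O, 0, 0, 7, 14, z_T111_s56_O, 0, 0, 8, 17, z_T111_s57_O, 1, 0]

theorem yt_c81_cnt_P : Prob 324 9 (grp 324 y_E0) yt_c81_cnt_EG [z_g1045] [z_g1045] yt_c81_K yt_c81_cnt_L 0 0 :=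
  Sym.prob z_hn z_hk yt_c81_sym yt_c81_cnt_EG_ok (grp_cons_le z_g39_z_T111 (grp_cons_le zg1_z_T111 (grp_cons_le zg3_z_T111 (grp_cons_le z_g43_z_T111 (grp_cons_le z_g42_z_T111 (grp_cons_le zg2_z_T111 (grp_cons_le z_g44_z_T111 (grp_cons_le z_g54_z_T111 (grp_cons_le z_g55_z_T111 (grp_cons_le z_g49_z_T111 (grp_cons_le z_g50_z_T111 (grp_cons_le z_g51_z_T111 (grp_cons_le z_g62_z_T111 (grp_cons_le z_g58_z_T111 (grp_cons_le z_g59_z_T111 (grp_cons_le z_g65_z_T111 (grp_cons_le z_g66_z_T111 (grp_cons_le z_g67_z_T111 (grp_cons_le z_g77_z_T111 (grp_cons_le z_g78_z_T111 (grp_cons_le z_g72_z_T111 (grp_cons_le z_g73_z_T111 (grp_cons_le z_g74_z_T111 (grp_cons_le z_g81_z_T111 (grp_cons_le z_g82_z_T111 (grp_cons_le z_g87_z_T111 (grp_cons_le zg0_z_T111 (grp_cons_le z_g91_z_T111 (grp_cons_le z_g28_z_T111 (grp_cons_le z_g88_z_T111 (grp_cons_le z_g391_z_T111 (grp_cons_le z_g392_z_T111 (grp_cons_le z_g135_z_T111 (grp_cons_le z_g393_z_T111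 (grp_cons_le z_g394_z_T111 (grp_nil_le _)))))))))))))))))))))))))))))))))))) (Frames.cons z_T111_s1_F (Frames.cons z_T111_s21_F (Frames.cons z_T111_s22_F (Frames.cons z_T111_s55_F (Frames.cons z_T111_s56_F (Frames.cons z_T111_s57_F Frames.nil)))))) (okE_cons.2 ⟨z_g1045_ok, okE_nil _⟩) _

noncomputable def yt_c81_cnt_t : BT := (BT.fix (nat_lit 257) (BT.fix (nat_lit 1) (BT.dif (nat_lit 1) (nat_lit 0) (BT.br (nat_lit 0) (nat_lit 85) [nat_lit 1, nat_lit 3] (BT.kid (nat_lit 85) (nat_lit 18) (BT.frm (nat_lit 0) (nat_lit 67362) (nat_lit 67362) [nat_lit 0] (BT.pln (nat_lit 0) (nat_lit 3) (BT.dif (nat_lit 0) (nat_lit 5) (BT.br (nat_lit 0) (nat_lit 167) [nat_lit 5] (BT.dead (nat_lit 263) (BT.img (nat_lit 1) (nat_lit 4) (BT.frm (nat_lit 1) (nat_lit 0xf12070c010722) (nat_lit 0x12070c010722) [nat_lit 1, nat_lit 0, nat_lit 5] (BT.pln (nat_lit 0) (nat_lit 6) (BT.img (nat_lit 1) (nat_lit 3) (BT.and (nat_lit 1) (nat_lit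 0) (BT.cnt (nat_lit 0))))))) (BT.kid (nat_lit 167) (nat_lit 6) (BT.pln (nat_lit 3) (nat_lit 2) (BT.fix (nat_lit 65793) (BT.and (nat_lit 1) (nat_lit 0) (BT.br (nat_lit 0) (nat_lit 309) [nat_lit 7] (BT.kid (nat_lit 309) (nat_lit 2) (BT.img (nat_lit 1) (nat_lit 8) (BT.frm (nat_lit 2) (nat_lit 0x1a200f12070c010722) (nat_lit 0x1a200f12070c010722) [nat_lit 1, nat_lit 5, nat_lit 0, nat_lit 9] (BT.pln (nat_lit 0) (nat_lit 12) (BT.and (nat_lit 6) (nat_lit 0) (BT.br (nat_lit 0) (nat_lit 211) [nat_lit 9] (BT.kid (nat_lit 211) (nat_lit 1) (BT.dif (nat_lit 14) (nat_lit 13) (BT.dif (nat_lit 0) (nat_lit 5) (BT.dif (nat_lit 8) (nat_lit 7) (BT.img (nat_lit 1) (nat_lit 8) (BT.dif (nat_lit 1) (nat_lit 0) (BT.frm (nat_lit 3) (nat_lit 0x3f231a200f12070c010722) (nat_lit 0x3f231a200f12070c010722) [nat_lit 0, nat_lit 1, nat_lit 10, nat_lit 14, nat_lit 9, nat_lit 18] (BT.pln (nat_lit 0) (nat_lit 7) (BT.and (nat_lit 5) (nat_lit 0)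 (BT.frm (nat_lit 4) (nat_lit 0x413f231a200f12070c010722) (nat_lit 0x413f231a200f12070c010722) [nat_lit 8, nat_lit 3, nat_lit 4, nat_lit 13, nat_lit 17, nat_lit 12, nat_lit 21] (BT.pln (nat_lit 0) (nat_lit 12) (BT.dif (nat_lit 2) (nat_lit 0) (BT.one (nat_lit 5) (nat_lit 0x413f231a200f12070c010722) (nat_lit 0x413f231a200f12070c010722) [nat_lit 0, nat_lit 11, nat_lit 6, nat_lit 7, nat_lit 16, nat_lit 20, nat_lit 15, nat_lit 24])))))))))))) BT.nil)))))) BT.nil))))) BT.nil)))))) BT.nil)))))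

theorem yt_c81_cnt : Cnt 324 (grp 324 y_E0) [z_g1045] [z_g1045] 0 0 0 0 108 :=
  BT.sound yt_c81_cnt_P Known.nil (t := yt_c81_cnt_t) (d := 0) (by decide +kernel)

theorem yt_c81_ge : 108 ≤ Nat.card (grp 324 yt_c81_K) :=
  Ch.le_card_grp (k := 9) (L := (lab 324 9)) z_hn yt_c81_K_ok (c := (Ch.cons (nat_lit 85) [nat_lit 1, nat_lit 3] (Ch.cons (nat_lit 167) [nat_lit 5] (Ch.cons (nat_lit 309) [nat_lit 7] (Ch.cons (nat_lit 211) [nat_lit 9] Ch.nil))))) (by decide +kernel)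

theorem yt_c81_eq : (grp 324 y_E0) ⊓ Subgroup.centralizer {Net.toPerm 324 z_g1045} = grp 324 yt_c81_K :=
  cent_eq yt_c81_sym yt_c81_cnt yt_c81_ge

theorem yt_c81_card : Nat.card ↥((grp 324 y_E0) ⊓ Subgroup.centralizer {Net.toPerm 324 z_g1045}) = 108 :=
  card_cent yt_c81_sym yt_c81_cnt yt_c81_ge

theorem yt_c81_ord : orderOf (Net.toPerm 324 z_g1045) = 6 :=
  orderOf_net z_hn z_hk z_g1045_ok (by decide) (ps := [2, 3]) (by set_option linter.unusedSimpArgs false in simp [Nat.primeFactorsList_ofNat]) (by decide +kernel)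

theorem z_le1056 : grp 324 yt_c82_K ≤ grp 324 y_E0 :=
  grp_le_of_memB z_hn z_hk y_E0_ok yt_c82_K_ok (ws := [nat_lit 0x33353c2f251f1d1f0f07010e1c, nat_lit 0x33352f1f190f1208020e, nat_lit 0x353826281f1a1f0715010a38, nat_lit 0x33353c2f281f191b1b013802, nat_lit 0x34392f261f19201c0f010e1d]) (by decide +kernel)

theorem yt_c82_le : grp 324 yt_c82_K ≤ (grp 324 y_E0) :=
  (z_le1056.trans z_T111_s0.le)

theorem yt_c82_mem : Net.toPerm 324 z_g1051 ∈ (grp 324 y_E0) :=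
  yt_c82_le (toPerm_mem_grp (E := yt_c82_K) (List.Mem.head _))

theorem yt_c82_sym : Sym 324 (grp 324 y_E0) [z_g1051] yt_c82_K 0 :=
  Sym.of_lab z_hn z_hk (okE_cons.2 ⟨z_g1051_ok, okE_nil _⟩) yt_c82_K_ok yt_c82_le (kT := 0) (by decide +kernel)

noncomputable def yt_c82_cnt_L : List ℕ := [1, 4, z_T111_s1_O, 0, 0, 4, 13, z_T111_s61_O, 0, 0, 6, 23, z_T111_s71_O, 0, 0, 7, 13, z_T111_s72_O, 0, 0, 8, 17, z_T111_s73_O, 1, 0]

theorem yt_c82_cnt_P : Prob 324 9 (grp 324 y_E0) yt_c82_cnt_EG [z_g1051] [z_g1051] yt_c82_K yt_c82_cnt_L 0 0 :=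
  Sym.prob z_hn z_hk yt_c82_sym yt_c82_cnt_EG_ok (grp_cons_le z_g39_z_T111 (grp_cons_le zg1_z_T111 (grp_cons_le zg3_z_T111 (grp_cons_le z_g43_z_T111 (grp_cons_le z_g42_z_T111 (grp_cons_le zg2_z_T111 (grp_cons_le z_g44_z_T111 (grp_cons_le z_g54_z_T111 (grp_cons_le z_g55_z_T111 (grp_cons_le z_g49_z_T111 (grp_cons_le z_g50_z_T111 (grp_cons_le z_g51_z_T111 (grp_cons_le z_g62_z_T111 (grp_cons_le z_g58_z_T111 (grp_cons_le z_g59_z_T111 (grp_cons_le z_g65_z_T111 (grp_cons_le z_g66_z_T111 (grp_cons_le z_g67_z_T111 (grp_cons_le z_g77_z_T111 (grp_cons_le z_g78_z_T111 (grp_cons_le z_g72_z_T111 (grp_cons_le z_g73_z_T111 (grp_cons_le z_g74_z_T111 (grp_cons_le z_g81_z_T111 (grp_cons_le z_g82_z_T111 (grp_cons_le z_g87_z_T111 (grp_cons_le zg0_z_T111 (grp_cons_le z_g91_z_T111 (grp_cons_le z_g28_z_T111 (grp_cons_le z_g88_z_T111 (grp_cons_le z_g174_z_T111 (grp_cons_le z_g175_z_T111 (grp_cons_le z_g176_z_T111 (grp_cons_le z_g177_z_T111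 (grp_cons_le z_g30_z_T111 (grp_cons_le z_g178_z_T111 (grp_cons_le z_g126_z_T111 (grp_cons_le z_g127_z_T111 (grp_cons_le z_g128_z_T111 (grp_cons_le z_g129_z_T111 (grp_cons_le z_g130_z_T111 (grp_cons_le z_g131_z_T111 (grp_cons_le z_g132_z_T111 (grp_cons_le z_g133_z_T111 (grp_cons_le z_g134_z_T111 (grp_cons_le z_g135_z_T111 (grp_cons_le z_g467_z_T111 (grp_cons_le z_g468_z_T111 (grp_cons_le z_g297_z_T111 (grp_cons_le z_g469_z_T111 (grp_cons_le z_g470_z_T111 (grp_cons_le z_g436_z_T111 (grp_cons_le z_g437_z_T111 (grp_cons_le z_g438_z_T111 (grp_cons_le z_g248_z_T111 (grp_cons_le z_g247_z_T111 (grp_nil_le _))))))))))))))))))))))))))))))))))))))))))))))))))))))))) (Frames.cons z_T111_s1_F (Frames.cons z_T111_s61_F (Frames.cons z_T111_s71_F (Frames.cons z_T111_s72_F (Frames.cons z_T111_s73_F Frames.nil))))) (okE_cons.2 ⟨z_g1051_ok, okE_nil _⟩) _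

noncomputable def yt_c82_cnt_t : BT := (BT.fix (nat_lit 65793) (BT.fix (nat_lit 1) (BT.dif (nat_lit 1) (nat_lit 0) (BT.br (nat_lit 0) (nat_lit 65) [nat_lit 1, nat_lit 5] (BT.dead (nat_lit 158) (BT.frm (nat_lit 0) (nat_lit 294) (nat_lit 66313) [nat_lit 0] (BT.pln (nat_lit 0) (nat_lit 2) (BT.and (nat_lit 0) (nat_lit 4) (BT.cnt (nat_lit 0))))) (BT.kid (nat_lit 65) (nat_lit 36) (BT.frm (nat_lit 0) (nat_lit 294) (nat_lit 294) [nat_lit 0] (BT.pln (nat_lit 0) (nat_lit 2) (BT.dif (nat_lit 0) (nat_lit 5) (BT.pln (nat_lit 2) (nat_lit 3) (BT.img (nat_lit 1) (nat_lit 0) (BT.dif (nat_lit 2) (nat_lit 0) (BT.br (nat_lit 0) (nat_lit 196) [nat_lit 3] (BT.dead (nat_lit 203) (BT.img (nat_lit 1) (nat_lit 7) (BT.img (nat_lit 1) (nat_lit 0) (BT.frm (nat_lit 1) (nat_lit 0x404b1b0126) (nat_lit 0x3f414b1b0126) [nat_lit 2, nat_lit 0, nat_lit 1, nat_lit 9] (BT.pln (nat_lit 0) (nat_lit 6) (BT.img (nat_lit 1) (nat_lit 4) (BT.and (nat_lit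 1) (nat_lit 0) (BT.cnt (nat_lit 0)))))))) (BT.kid (nat_lit 196) (nat_lit 18) (BT.img (nat_lit 1) (nat_lit 7) (BT.img (nat_lit 1) (nat_lit 0) (BT.frm (nat_lit 1) (nat_lit 0x404b1b0126) (nat_lit 0x404b1b0126) [nat_lit 2, nat_lit 0, nat_lit 1, nat_lit 9] (BT.pln (nat_lit 0) (nat_lit 9) (BT.and (nat_lit 5) (nat_lit 0) (BT.br (nat_lit 0) (nat_lit 203) [nat_lit 5] (BT.kid (nat_lit 203) (nat_lit 6) (BT.img (nat_lit 1) (nat_lit 6) (BT.img (nat_lit 1) (nat_lit 0) (BT.frm (nat_lit 2) (nat_lit 0x404b1b0126) (nat_lit 0x404b1b0126) [nat_lit 0, nat_lit 1, nat_lit 8, nat_lit 6, nat_lit 7, nat_lit 15] (BT.pln (nat_lit 0) (nat_lit 8) (BT.frm (nat_lit 3) (nat_lit 0x60404b1b0126) (nat_lit 0x60404b1b0126) [nat_lit 4, nat_lit 2, nat_lit 3, nat_lit 10, nat_lit 8, nat_lit 9, nat_lit 17] (BT.pln (nat_lit 0) (nat_lit 9) (BT.dif (nat_lit 2) (nat_lit 0) (BT.br (nat_lit 0) (nat_lit 31) [nat_lit 7, nat_lit 9] (BT.dead (nat_lit 46) (BT.frm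 (nat_lit 4) (nat_lit 0x6560404b1b0126) (nat_lit 0x636560404b1b0126) [nat_lit 0, nat_lit 8, nat_lit 6, nat_lit 7, nat_lit 14, nat_lit 12, nat_lit 13, nat_lit 21] (BT.pln (nat_lit 0) (nat_lit 8) (BT.and (nat_lit 0) (nat_lit 25) (BT.cnt (nat_lit 0))))) (BT.dead (nat_lit 38) (BT.frm (nat_lit 4) (nat_lit 0x6560404b1b0126) (nat_lit 0x6460404b1b0126) [nat_lit 0, nat_lit 8, nat_lit 6, nat_lit 7, nat_lit 14, nat_lit 12, nat_lit 13, nat_lit 21] (BT.pln (nat_lit 0) (nat_lit 8) (BT.and (nat_lit 0) (nat_lit 25) (BT.cnt (nat_lit 0))))) (BT.kid (nat_lit 31) (nat_lit 1) (BT.one (nat_lit 4) (nat_lit 0x6560404b1b0126) (nat_lit 0x6560404b1b0126) [nat_lit 0, nat_lit 8, nat_lit 6, nat_lit 7, nat_lit 14, nat_lit 12, nat_lit 13, nat_lit 21]) BT.nil))))))))))) BT.nil))))))) BT.nil))))))))) BT.nil))))))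

theorem yt_c82_cnt : Cnt 324 (grp 324 y_E0) [z_g1051] [z_g1051] 0 0 0 0 108 :=
  BT.sound yt_c82_cnt_P Known.nil (t := yt_c82_cnt_t) (d := 0) (by decide +kernel)

theorem yt_c82_ge : 108 ≤ Nat.card (grp 324 yt_c82_K) :=
  Ch.le_card_grp (k := 9) (L := (lab 324 9)) z_hn yt_c82_K_ok (c := (Ch.cons (nat_lit 65) [nat_lit 1] (Ch.cons (nat_lit 196) [nat_lit 3] (Ch.cons (nat_lit 203) [nat_lit 5] (Ch.cons (nat_lit 31) [nat_lit 7, nat_lit 9] Ch.nil))))) (by decide +kernel)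

theorem yt_c82_eq : (grp 324 y_E0) ⊓ Subgroup.centralizer {Net.toPerm 324 z_g1051} = grp 324 yt_c82_K :=
  cent_eq yt_c82_sym yt_c82_cnt yt_c82_ge

theorem yt_c82_card : Nat.card ↥((grp 324 y_E0) ⊓ Subgroup.centralizer {Net.toPerm 324 z_g1051}) = 108 :=
  card_cent yt_c82_sym yt_c82_cnt yt_c82_ge

theorem yt_c82_ord : orderOf (Net.toPerm 324 z_g1051) = 6 :=
  orderOf_net z_hn z_hk z_g1051_ok (by decide) (ps := [2, 3]) (by set_option linter.unusedSimpArgs false in simp [Nat.primeFactorsList_ofNat]) (by decide +kernel)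

theorem z_le1061 : grp 324 yt_c83_K ≤ grp 324 y_E0 :=
  grp_le_of_memB z_hn z_hk y_E0_ok yt_c83_K_ok (ws := [nat_lit 0x353c252819201a0f071501050e, nat_lit 0x33392f2919201c12021202, nat_lit 0x33353c25281f1920110707011101, nat_lit 0x332f25281f191c070c0308, nat_lit 0x353c19201a012502]) (by decide +kernel)

theorem yt_c83_le : grp 324 yt_c83_K ≤ (grp 324 y_E0) :=
  (z_le1061.trans z_T111_s0.le)

theorem yt_c83_mem : Net.toPerm 324 z_g1057 ∈ (grp 324 y_E0) :=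
  yt_c83_le (toPerm_mem_grp (E := yt_c83_K) (List.Mem.head _))

theorem yt_c83_sym : Sym 324 (grp 324 y_E0) [z_g1057] yt_c83_K 0 :=
  Sym.of_lab z_hn z_hk (okE_cons.2 ⟨z_g1057_ok, okE_nil _⟩) yt_c83_K_ok yt_c83_le (kT := 0) (by decide +kernel)

theorem z_le1067 : grp 324 z_V1066 ≤ grp 324 z_V350 :=
  grp_le_of_memB z_hn z_hk z_V350_ok z_V1066_ok (ws := [nat_lit 327940, nat_lit 0x604010401, nat_lit 514, nat_lit 0x3010104]) (by decide +kernel)

theorem z_T111_s155 : Stab 324 (grp 324 y_E0) [nat_lit 21, nat_lit 43, nat_lit 68, nat_lit 0] z_V1066 54 :=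
  Stab.step (k := 9) (L := (lab 324 9)) z_hn z_T111_s42 z_V1066_ok z_le1067 (c := (Ch.cons (nat_lit 44) [nat_lit 1, nat_lit 3] (Ch.cons (nat_lit 288) [nat_lit 5, nat_lit 7] Ch.nil))) (by decide +kernel)

theorem z_T111_s156 : Stab 324 (grp 324 y_E0) [nat_lit 44, nat_lit 21, nat_lit 43, nat_lit 68, nat_lit 0] z_V1068 9 :=
  Stab.step (k := 9) (L := (lab 324 9)) z_hn z_T111_s155 z_V1068_ok (grp_mono (List.subset_append_right [z_g1062, z_g1063] _)) (c := (Ch.cons (nat_lit 288) [nat_lit 1, nat_lit 3] Ch.nil)) (by decide +kernel)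

theorem z_T111_s157 : Stab 324 (grp 324 y_E0) [nat_lit 288, nat_lit 44, nat_lit 21, nat_lit 43, nat_lit 68, nat_lit 0] z_V1069 1 :=
  Stab.step (k := 9) (L := (lab 324 9)) z_hn z_T111_s156 z_V1069_ok (grp_mono (List.subset_append_right [z_g1064, z_g1065] _)) (c := Ch.nil) (by decide +kernel)

theorem z_g1062_z_T111 : Net.toPerm 324 z_g1062 ∈ (grp 324 y_E0) :=
  z_T111_s155.le (toPerm_mem_grp (E := z_V1066) (List.Mem.head _))

theorem z_g1063_z_T111 : Net.toPerm 324 z_g1063 ∈ (grp 324 y_E0) :=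
  z_T111_s155.le (toPerm_mem_grp (E := z_V1066) (List.Mem.tail _ (List.Mem.head _)))

theorem z_g1064_z_T111 : Net.toPerm 324 z_g1064 ∈ (grp 324 y_E0) :=
  z_T111_s155.le (toPerm_mem_grp (E := z_V1066) (List.Mem.tail _ (List.Mem.tail _ (List.Mem.head _))))

theorem z_g1065_z_T111 : Net.toPerm 324 z_g1065 ∈ (grp 324 y_E0) :=
  z_T111_s155.le (toPerm_mem_grp (E := z_V1066) (List.Mem.tail _ (List.Mem.tail _ (List.Mem.tail _ (List.Mem.head _)))))

noncomputable def z_T111_s157_O : ℕ := (nat_lit 0xfffffffffffffffff000000000000000000000000000000000000000000000000000000000000000000000000000000000ffffffffffffffffffffffffffffffff00000000000000000000000000000000f0000000000000000ffffffffffffffff0000000000000000ffffffffffffffff00000000000000000ffffffff00000000ffffffff00000000ffffffff00000000ffffffff00000000ffffffff000000000ffff0000ffff0000ffff0000ffff0000ffff0000ffff0000ffff0000ffff0000ffff0000ffff00000ff00ff00ff00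ff00ff00ff00ff00ff00ff00ff00ff00ff00ff00ff00ff00ff00ff00ff00ff00ff000f0f0f0f0f0f0f0f0f0f0f0f0f0f0f0f0f0f0f0f0f0f0f0f0f0f0f0f0f0f0f0f0f0f0f0f0f0f0f0f0cccccccccccccccccccccccccccccccccccccccccccccccccccccccccccccccccccccccccccccccccaaaaaaaaaaaaaaaaaaaaaaaaaaaaaaaaaaaaaaaaaaaaaaaaaaaaaaaaaaaaaaaaaaaaaaaaaaaaaaaaa000000000000000000000000000000000000000000000000000000000000000000000000000000001000000000000000000000000000000000000000000000000000000000000000100000000000000000000000000000000000000000000000000000000000000000000000000000000000000080000000000000000000000000000000000000000000000000000000000000000000000000000000000000200000000000000000000000000000000000000000000000000000000000000000000000000100000000000000000001000000000000000000000000000000000000000000000000000000000000000000000000)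

theorem z_T111_s157_F : Frame 324 (grp 324 y_E0) 6 15 z_T111_s157_O 1 1 :=
  IsBase.frame z_T111_s157.isBase (by decide +kernel)

noncomputable def z_T111_s156_O : ℕ := (nat_lit 0x10320000040001e666000000000000000000000000000000000000000000000000000000000000000000000000000000001fa00000000000000000000820434000000818057de2aa01df7b69b5fdccfdd267401290b0b8981001fa9fb08e8d9fedd9bd7e34936f3f010000818000000014f6bff73cf4373730bd8b6ce00bc6e778001fa131ff334693c775aac58cc808086bf40000057d00014e66c3d8fc6033ee3dbc3d343b50b59e7799e5e943081281f3c06651ee3a4eb048f8a30018560e2014020bcbb52898385ecd74758780d49e4686198f2d340b7b097192438ad0fe50e8ce6bde667f18c0a147314b2e563a65f972ea62595c4b75334ddd577c37f6d944f68f1624a40319e522d52e4170cd4a0890000000000000000000000000000000000000000000000000000000000000000000000000000000001000000000000000000000000000000000000000000000000000000000000000100000000000000000000000000000000000000000000000000000000000000000000000000000000000000080000000000000000000000000000000000000000000000000000000000000000000000000000000000000200000000000000000000000000000000000000000000000000000000000000000000000000100000000000)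

theorem z_T111_s156_F : Frame 324 (grp 324 y_E0) 5 12 z_T111_s156_O 0 1 :=
  Stab.frame z_hn z_T111_s156 (by decide +kernel)

noncomputable def z_T111_s155_O : ℕ := (nat_lit 0x10000000000001004320000000000000000000000204140000000000020000000000000000000000010320000040001e664da00000000000000000000800020000000918055dc220000000040000000000001821474300000bbb770000004000000000010322104060001e667fa807fffe614bc3120bba60dd87f6e2003449cced59f8d9eb43cadf4459f22790abdefbbc633028018000628b48a4fb316c0d1b6769c6e684c805ab9d3802a0f21b0995823739e1fac9d9472401e87c77e7f0060ab4000000000000000000000000000000000000000000000000000000000000000000000000000000001000000000000000000000000000000000000000000000000000000000000000100000000000000000000000000000000000000000000000000000000000000000000000000000000000000080000000000000000000000000000000000000000000000000000000000000000000000000000000000000200000)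

theorem z_T111_s155_F : Frame 324 (grp 324 y_E0) 4 9 z_T111_s155_O 0 1 :=
  Stab.frame z_hn z_T111_s155 (by decide +kernel)

noncomputable def yt_c83_cnt_L : List ℕ := [1, 4, z_T111_s1_O, 0, 0, 2, 9, z_T111_s41_O, 0, 0, 3, 15, z_T111_s42_O, 0, 0, 4, 9, z_T111_s155_O, 0, 0, 5, 12, z_T111_s156_O, 0, 0, 6, 15, z_T111_s157_O, 1, 0]

theorem yt_c83_cnt_P : Prob 324 9 (grp 324 y_E0) yt_c83_cnt_EG [z_g1057] [z_g1057] yt_c83_K yt_c83_cnt_L 0 0 :=
  Sym.prob z_hn z_hk yt_c83_sym yt_c83_cnt_EG_ok (grp_cons_le z_g39_z_T111 (grp_cons_le zg1_z_T111 (grp_cons_le zg3_z_T111 (grp_cons_le z_g43_z_T111 (grp_cons_le z_g42_z_T111 (grp_cons_le zg2_z_T111 (grp_cons_le z_g44_z_T111 (grp_cons_le z_g54_z_T111 (grp_cons_le z_g55_z_T111 (grp_cons_le z_g49_z_T111 (grp_cons_le z_g50_z_T111 (grp_cons_le z_g51_z_T111 (grp_cons_le z_g62_z_T111 (grp_cons_le z_g58_z_T111 (grp_cons_le z_g59_z_T111 (grp_cons_le z_g65_z_T111 (grp_cons_le z_g66_z_T111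 (grp_cons_le z_g67_z_T111 (grp_cons_le z_g77_z_T111 (grp_cons_le z_g78_z_T111 (grp_cons_le z_g72_z_T111 (grp_cons_le z_g73_z_T111 (grp_cons_le z_g74_z_T111 (grp_cons_le z_g81_z_T111 (grp_cons_le z_g82_z_T111 (grp_cons_le z_g87_z_T111 (grp_cons_le zg0_z_T111 (grp_cons_le z_g91_z_T111 (grp_cons_le z_g28_z_T111 (grp_cons_le z_g88_z_T111 (grp_cons_le z_g344_z_T111 (grp_cons_le z_g345_z_T111 (grp_cons_le z_g346_z_T111 (grp_cons_le z_g347_z_T111 (grp_cons_le z_g1062_z_T111 (grp_cons_le z_g1063_z_T111 (grp_cons_le z_g1064_z_T111 (grp_cons_le z_g1065_z_T111 (grp_nil_le _))))))))))))))))))))))))))))))))))))))) (Frames.cons z_T111_s1_F (Frames.cons z_T111_s41_F (Frames.cons z_T111_s42_F (Frames.cons z_T111_s155_F (Frames.cons z_T111_s156_F (Frames.cons z_T111_s157_F Frames.nil)))))) (okE_cons.2 ⟨z_g1057_ok, okE_nil _⟩) _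

noncomputable def yt_c83_cnt_t : BT := (BT.fix (nat_lit 65793) (BT.br (nat_lit 0) (nat_lit 3) [nat_lit 1, nat_lit 3, nat_lit 5] (BT.dead (nat_lit 10) (BT.img (nat_lit 1) (nat_lit 0) (BT.frm (nat_lit 1) (nat_lit 0xb2e0311) (nat_lit 8963) [nat_lit 0, nat_lit 1] (BT.pln (nat_lit 0) (nat_lit 3) (BT.and (nat_lit 4) (nat_lit 0) (BT.br (nat_lit 0) (nat_lit 43) [nat_lit 2563] (BT.dead (nat_lit 184) (BT.frm (nat_lit 2) (nat_lit 0xb2e0311) (nat_lit 0x3e3e422303) [nat_lit 0, nat_lit 4, nat_lit 5] (BT.pln (nat_lit 0) (nat_lit 7) (BT.img (nat_lit 1) (nat_lit 2) (BT.and (nat_lit 1) (nat_lit 0) (BT.cnt (nat_lit 0)))))) BT.nil)))))) (BT.dead (nat_lit 20) (BT.img (nat_lit 1) (nat_lit 0) (BT.frm (nat_lit 1) (nat_lit 0xb2e0311) (nat_lit 0x27030e) [nat_lit 0, nat_lit 1] (BT.pln (nat_lit 0) (nat_lit 3) (BT.img (nat_lit 1) (nat_lit 2) (BT.and (nat_lit 1) (nat_lit 0) (BT.cnt (nat_lit 0))))))) (BT.kid (nat_lit 3) (nat_lit 36)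 (BT.img (nat_lit 1) (nat_lit 0) (BT.frm (nat_lit 1) (nat_lit 0xb2e0311) (nat_lit 0xb2e0311) [nat_lit 0, nat_lit 1] (BT.pln (nat_lit 0) (nat_lit 3) (BT.and (nat_lit 4) (nat_lit 0) (BT.br (nat_lit 0) (nat_lit 43) [nat_lit 3] (BT.kid (nat_lit 43) (nat_lit 12) (BT.frm (nat_lit 0) (nat_lit 785) (nat_lit 785) [nat_lit 5] (BT.pln (nat_lit 0) (nat_lit 2) (BT.and (nat_lit 8) (nat_lit 0) (BT.img (nat_lit 1) (nat_lit 3) (BT.dif (nat_lit 1) (nat_lit 0) (BT.br (nat_lit 0) (nat_lit 23) [nat_lit 5] (BT.kid (nat_lit 23) (nat_lit 6) (BT.frm (nat_lit 3) (nat_lit 0x410b2e0311) (nat_lit 0x410b2e0311) [nat_lit 0, nat_lit 6, nat_lit 10, nat_lit 11] (BT.pln (nat_lit 0) (nat_lit 7) (BT.and (nat_lit 10) (nat_lit 0) (BT.br (nat_lit 0) (nat_lit 28) [nat_lit 7] (BT.dead (nat_lit 30) (BT.frm (nat_lit 4) (nat_lit 0x47410b2e0311) (nat_lit 0x4547410b2e0311) [nat_lit 0, nat_lit 4, nat_lit 10, nat_lit 14, nat_lit 15] (BT.pln (nat_lit 0)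 (nat_lit 5) (BT.img (nat_lit 1) (nat_lit 2) (BT.and (nat_lit 1) (nat_lit 0) (BT.cnt (nat_lit 0)))))) (BT.dead (nat_lit 40) (BT.frm (nat_lit 4) (nat_lit 0x47410b2e0311) (nat_lit 0x45410b2e0311) [nat_lit 0, nat_lit 4, nat_lit 10, nat_lit 14, nat_lit 15] (BT.pln (nat_lit 0) (nat_lit 5) (BT.img (nat_lit 1) (nat_lit 2) (BT.img (nat_lit 1) (nat_lit 0) (BT.img (nat_lit 1) (nat_lit 0) (BT.and (nat_lit 3) (nat_lit 0) (BT.cnt (nat_lit 0)))))))) (BT.kid (nat_lit 28) (nat_lit 3) (BT.dif (nat_lit 19) (nat_lit 2) (BT.pln (nat_lit 4) (nat_lit 4) (BT.dif (nat_lit 1) (nat_lit 0) (BT.pln (nat_lit 6) (nat_lit 5) (BT.dif (nat_lit 1) (nat_lit 0) (BT.dif (nat_lit 0) (nat_lit 13) (BT.dif (nat_lit 0) (nat_lit 22) (BT.frm (nat_lit 4) (nat_lit 0x47410b2e0311) (nat_lit 0x47410b2e0311) [nat_lit 7, nat_lit 11, nat_lit 17, nat_lit 21, nat_lit 22] (BT.pln (nat_lit 0) (nat_lit 5) (BT.dif (nat_lit 2) (nat_lit 0) (BT.pln (nat_lit 2) (nat_lit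 7) (BT.dif (nat_lit 1) (nat_lit 0) (BT.br (nat_lit 0) (nat_lit 57) [nat_lit 9] (BT.dead (nat_lit 71) (BT.frm (nat_lit 5) (nat_lit 0x4c47410b2e0311) (nat_lit 0x4947410b2e0311) [nat_lit 0, nat_lit 13, nat_lit 17, nat_lit 23, nat_lit 27, nat_lit 28] (BT.pln (nat_lit 0) (nat_lit 6) (BT.img (nat_lit 1) (nat_lit 2) (BT.img (nat_lit 1) (nat_lit 0) (BT.img (nat_lit 1) (nat_lit 0) (BT.img (nat_lit 1) (nat_lit 0) (BT.img (nat_lit 1) (nat_lit 0) (BT.and (nat_lit 5) (nat_lit 0) (BT.cnt (nat_lit 0)))))))))) (BT.dead (nat_lit 66) (BT.frm (nat_lit 5) (nat_lit 0x4c47410b2e0311) (nat_lit 0x4a4c47410b2e0311) [nat_lit 0, nat_lit 13, nat_lit 17, nat_lit 23, nat_lit 27, nat_lit 28] (BT.pln (nat_lit 0) (nat_lit 6) (BT.img (nat_lit 1) (nat_lit 2) (BT.and (nat_lit 1) (nat_lit 0) (BT.cnt (nat_lit 0)))))) (BT.kid (nat_lit 57) (nat_lit 1) (BT.one (nat_lit 5) (nat_lit 0x4c47410b2e0311) (nat_lit 0x4c47410b2e0311) [nat_lit 0, nat_lit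 13, nat_lit 17, nat_lit 23, nat_lit 27, nat_lit 28]) BT.nil)))))))))))))))) BT.nil))))))) BT.nil))))))) BT.nil)))))) BT.nil)))))

theorem yt_c83_cnt : Cnt 324 (grp 324 y_E0) [z_g1057] [z_g1057] 0 0 0 0 108 :=
  BT.sound yt_c83_cnt_P Known.nil (t := yt_c83_cnt_t) (d := 0) (by decide +kernel)

theorem yt_c83_ge : 108 ≤ Nat.card (grp 324 yt_c83_K) :=
  Ch.le_card_grp (k := 9) (L := (lab 324 9)) z_hn yt_c83_K_ok (c := (Ch.cons (nat_lit 3) [nat_lit 1] (Ch.cons (nat_lit 43) [nat_lit 3] (Ch.cons (nat_lit 23) [nat_lit 5] (Ch.cons (nat_lit 28) [nat_lit 7] (Ch.cons (nat_lit 57) [nat_lit 9] Ch.nil)))))) (by decide +kernel)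

theorem yt_c83_eq : (grp 324 y_E0) ⊓ Subgroup.centralizer {Net.toPerm 324 z_g1057} = grp 324 yt_c83_K :=
  cent_eq yt_c83_sym yt_c83_cnt yt_c83_ge

theorem yt_c83_card : Nat.card ↥((grp 324 y_E0) ⊓ Subgroup.centralizer {Net.toPerm 324 z_g1057}) = 108 :=
  card_cent yt_c83_sym yt_c83_cnt yt_c83_ge

theorem yt_c83_ord : orderOf (Net.toPerm 324 z_g1057) = 6 :=
  orderOf_net z_hn z_hk z_g1057_ok (by decide) (ps := [2, 3]) (by set_option linter.unusedSimpArgs false in simp [Nat.primeFactorsList_ofNat]) (by decide +kernel)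

theorem z_le1075 : grp 324 yt_c84_K ≤ grp 324 y_E0 :=
  grp_le_of_memB z_hn z_hk y_E0_ok yt_c84_K_ok (ws := [nat_lit 0x33353c2f281f1a0f1208010516, nat_lit 0x372f26281f1a1d110707010512, nat_lit 0x392f271f1a070a011505, nat_lit 0x353c261f19190f120715011f01, nat_lit 0x342b1a2015070a]) (by decide +kernel)

theorem yt_c84_le : grp 324 yt_c84_K ≤ (grp 324 y_E0) :=
  (z_le1075.trans z_T111_s0.le)

theorem yt_c84_mem : Net.toPerm 324 z_g1070 ∈ (grp 324 y_E0) :=
  yt_c84_le (toPerm_mem_grp (E := yt_c84_K) (List.Mem.head _))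

theorem yt_c84_sym : Sym 324 (grp 324 y_E0) [z_g1070] yt_c84_K 0 :=
  Sym.of_lab z_hn z_hk (okE_cons.2 ⟨z_g1070_ok, okE_nil _⟩) yt_c84_K_ok yt_c84_le (kT := 0) (by decide +kernel)

noncomputable def yt_c84_cnt_L : List ℕ := [1, 4, z_T111_s1_O, 0, 0, 3, 9, z_T111_s80_O, 0, 0, 4, 13, z_T111_s81_O, 0, 0, 5, 10, z_T111_s82_O, 0, 0, 6, 12, z_T111_s83_O, 0, 0, 7, 14, z_T111_s84_O, 0, 0, 9, 18, z_T111_s86_O, 1, 0]

theorem yt_c84_cnt_P : Prob 324 9 (grp 324 y_E0) yt_c84_cnt_EG [z_g1070] [z_g1070] yt_c84_K yt_c84_cnt_L 0 0 :=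
  Sym.prob z_hn z_hk yt_c84_sym yt_c84_cnt_EG_ok (grp_cons_le z_g39_z_T111 (grp_cons_le zg1_z_T111 (grp_cons_le zg3_z_T111 (grp_cons_le z_g43_z_T111 (grp_cons_le z_g42_z_T111 (grp_cons_le zg2_z_T111 (grp_cons_le z_g44_z_T111 (grp_cons_le z_g54_z_T111 (grp_cons_le z_g55_z_T111 (grp_cons_le z_g49_z_T111 (grp_cons_le z_g50_z_T111 (grp_cons_le z_g51_z_T111 (grp_cons_le z_g62_z_T111 (grp_cons_le z_g58_z_T111 (grp_cons_le z_g59_z_T111 (grp_cons_le z_g65_z_T111 (grp_cons_le z_g66_z_T111 (grp_cons_le z_g67_z_T111 (grp_cons_le z_g77_z_T111 (grp_cons_le z_g78_z_T111 (grp_cons_le z_g72_z_T111 (grp_cons_le z_g73_z_T111 (grp_cons_le z_g74_z_T111 (grp_cons_le z_g81_z_T111 (grp_cons_le z_g82_z_T111 (grp_cons_le z_g87_z_T111 (grp_cons_le zg0_z_T111 (grp_cons_le z_g91_z_T111 (grp_cons_le z_g28_z_T111 (grp_cons_le z_g88_z_T111 (grp_cons_le z_g548_z_T111 (grp_cons_le z_g34_z_T111 (grp_cons_le z_g549_z_T111 (grp_cons_le z_g33_z_T111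 (grp_cons_le z_g550_z_T111 (grp_cons_le z_g551_z_T111 (grp_nil_le _))))))))))))))))))))))))))))))))))))) (Frames.cons z_T111_s1_F (Frames.cons z_T111_s80_F (Frames.cons z_T111_s81_F (Frames.cons z_T111_s82_F (Frames.cons z_T111_s83_F (Frames.cons z_T111_s84_F (Frames.cons z_T111_s86_F Frames.nil))))))) (okE_cons.2 ⟨z_g1070_ok, okE_nil _⟩) _

noncomputable def yt_c84_cnt_t : BT := (BT.fix (nat_lit 65793) (BT.fix (nat_lit 1) (BT.dif (nat_lit 1) (nat_lit 0) (BT.br (nat_lit 0) (nat_lit 28) [nat_lit 3] (BT.dead (nat_lit 29) (BT.frm (nat_lit 0) (nat_lit 68869) (nat_lit 328199) [nat_lit 0] (BT.pln (nat_lit 0) (nat_lit 2) (BT.and (nat_lit 0) (nat_lit 4) (BT.cnt (nat_lit 0))))) (BT.kid (nat_lit 28) (nat_lit 18) (BT.frm (nat_lit 0) (nat_lit 68869) (nat_lit 68869) [nat_lit 0] (BT.pln (nat_lit 0) (nat_lit 2) (BT.and (nat_lit 5) (nat_lit 0) (BT.br (nat_lit 0) (nat_lit 37) [nat_lit 5] (BT.kid (nat_lit 37) (nat_lit 6)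 (BT.img (nat_lit 1) (nat_lit 0) (BT.img (nat_lit 1) (nat_lit 5) (BT.frm (nat_lit 2) (nat_lit 0x3d3d4808010d05) (nat_lit 0x3d3d4808010d05) [nat_lit 1, nat_lit 2, nat_lit 0, nat_lit 6] (BT.pln (nat_lit 0) (nat_lit 11) (BT.and (nat_lit 6) (nat_lit 0) (BT.br (nat_lit 0) (nat_lit 42) [nat_lit 7] (BT.kid (nat_lit 42) (nat_lit 3) (BT.frm (nat_lit 1) (nat_lit 0x8010d05) (nat_lit 0x8010d05) [nat_lit 6, nat_lit 4, nat_lit 10] (BT.pln (nat_lit 0) (nat_lit 5) (BT.and (nat_lit 10) (nat_lit 0) (BT.img (nat_lit 1) (nat_lit 0) (BT.and (nat_lit 12) (nat_lit 0) (BT.img (nat_lit 1) (nat_lit 0) (BT.and (nat_lit 14) (nat_lit 0) (BT.and (nat_lit 15) (nat_lit 20) (BT.dif (nat_lit 0) (nat_lit 14) (BT.dif (nat_lit 0) (nat_lit 14) (BT.frm (nat_lit 4) (nat_lit 0x4140473d3d4808010d05) (nat_lit 0x4140473d3d4808010d05) [nat_lit 10, nat_lit 0, nat_lit 15, nat_lit 16, nat_lit 14, nat_lit 20] (BT.pln (nat_lit 0) (nat_lit 6) (BT.and (nat_lit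 7) (nat_lit 0) (BT.img (nat_lit 1) (nat_lit 0) (BT.and (nat_lit 7) (nat_lit 0) (BT.img (nat_lit 1) (nat_lit 0) (BT.dif (nat_lit 13) (nat_lit 0) (BT.br (nat_lit 0) (nat_lit 230) [nat_lit 9] (BT.kid (nat_lit 230) (nat_lit 1) (BT.pln (nat_lit 27) (nat_lit 1) (BT.frm (nat_lit 3) (nat_lit 0x40473d3d4808010d05) (nat_lit 0x40473d3d4808010d05) [nat_lit 9, nat_lit 24, nat_lit 25, nat_lit 23, nat_lit 29] (BT.pln (nat_lit 0) (nat_lit 6) (BT.and (nat_lit 2) (nat_lit 0) (BT.dif (nat_lit 0) (nat_lit 10) (BT.img (nat_lit 1) (nat_lit 23) (BT.frm (nat_lit 5) (nat_lit 0x4140473d3d4808010d05) (nat_lit 0x4140473d3d4808010d05) [nat_lit 0, nat_lit 24, nat_lit 14, nat_lit 29, nat_lit 30, nat_lit 28, nat_lit 34] (BT.pln (nat_lit 0) (nat_lit 7) (BT.dif (nat_lit 3) (nat_lit 0) (BT.pln (nat_lit 16) (nat_lit 8) (BT.and (nat_lit 9) (nat_lit 0) (BT.and (nat_lit 0) (nat_lit 17) (BT.dif (nat_lit 1) (nat_lit 18) (BT.and (nat_lit 9) (nat_lit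 19) (BT.pln (nat_lit 12) (nat_lit 7) (BT.and (nat_lit 14) (nat_lit 0) (BT.pln (nat_lit 14) (nat_lit 5) (BT.and (nat_lit 1) (nat_lit 0) (BT.pln (nat_lit 25) (nat_lit 7) (BT.and (nat_lit 1) (nat_lit 0) (BT.img (nat_lit 1) (nat_lit 0) (BT.and (nat_lit 7) (nat_lit 0) (BT.img (nat_lit 1) (nat_lit 0) (BT.and (nat_lit 10) (nat_lit 0) (BT.img (nat_lit 1) (nat_lit 0) (BT.and (nat_lit 13) (nat_lit 0) (BT.img (nat_lit 1) (nat_lit 0) (BT.and (nat_lit 18) (nat_lit 0) (BT.one (nat_lit 6) (nat_lit 0x474140473d3d4808010d05) (nat_lit 0x474140473d3d4808010d05) [nat_lit 28, nat_lit 0, nat_lit 22, nat_lit 46, nat_lit 36, nat_lit 51, nat_lit 52, nat_lit 50, nat_lit 56]))))))))))))))))))))))))))))) BT.nil))))))))))))))))))) BT.nil))))))) BT.nil))))) BT.nil))))))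

theorem yt_c84_cnt : Cnt 324 (grp 324 y_E0) [z_g1070] [z_g1070] 0 0 0 0 108 :=
  BT.sound yt_c84_cnt_P Known.nil (t := yt_c84_cnt_t) (d := 0) (by decide +kernel)

theorem yt_c84_ge : 108 ≤ Nat.card (grp 324 yt_c84_K) :=
  Ch.le_card_grp (k := 9) (L := (lab 324 9)) z_hn yt_c84_K_ok (c := (Ch.cons (nat_lit 28) [nat_lit 1, nat_lit 3] (Ch.cons (nat_lit 37) [nat_lit 5] (Ch.cons (nat_lit 42) [nat_lit 7] (Ch.cons (nat_lit 230) [nat_lit 9] Ch.nil))))) (by decide +kernel)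

theorem yt_c84_eq : (grp 324 y_E0) ⊓ Subgroup.centralizer {Net.toPerm 324 z_g1070} = grp 324 yt_c84_K :=
  cent_eq yt_c84_sym yt_c84_cnt yt_c84_ge

theorem yt_c84_card : Nat.card ↥((grp 324 y_E0) ⊓ Subgroup.centralizer {Net.toPerm 324 z_g1070}) = 108 :=
  card_cent yt_c84_sym yt_c84_cnt yt_c84_ge

theorem yt_c84_ord : orderOf (Net.toPerm 324 z_g1070) = 6 :=
  orderOf_net z_hn z_hk z_g1070_ok (by decide) (ps := [2, 3]) (by set_option linter.unusedSimpArgs false in simp [Nat.primeFactorsList_ofNat]) (by decide +kernel)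

theorem z_le1081 : grp 324 yt_c85_K ≤ grp 324 y_E0 :=
  grp_le_of_memB z_hn z_hk y_E0_ok yt_c85_K_ok (ws := [nat_lit 0x3435251f19221a150801012e, nat_lit 0x33382f1a1e1207010f01, nat_lit 0x33261f1a1f0f1207150317, nat_lit 0x333b2f28191c15070a03082e, nat_lit 0x33353c2f25281f191b1b012602]) (by decide +kernel)

theorem yt_c85_le : grp 324 yt_c85_K ≤ (grp 324 y_E0) :=
  (z_le1081.trans z_T111_s0.le)

theorem yt_c85_mem : Net.toPerm 324 z_g1076 ∈ (grp 324 y_E0) :=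
  yt_c85_le (toPerm_mem_grp (E := yt_c85_K) (List.Mem.head _))

theorem yt_c85_sym : Sym 324 (grp 324 y_E0) [z_g1076] yt_c85_K 0 :=
  Sym.of_lab z_hn z_hk (okE_cons.2 ⟨z_g1076_ok, okE_nil _⟩) yt_c85_K_ok yt_c85_le (kT := 0) (by decide +kernel)

theorem z_le1085 : grp 324 z_V1084 ≤ grp 324 z_V381 :=
  grp_le_of_memB z_hn z_hk z_V381_ok z_V1084_ok (ws := [nat_lit 0x5080104, nat_lit 2821, nat_lit 787720]) (by decide +kernel)

theorem z_T111_s158 : Stab 324 (grp 324 y_E0) [nat_lit 305, nat_lit 11, nat_lit 293, nat_lit 0] z_V1084 18 :=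
  Stab.step (k := 9) (L := (lab 324 9)) z_hn z_T111_s50 z_V1084_ok z_le1085 (c := (Ch.cons (nat_lit 7) [nat_lit 1] (Ch.cons (nat_lit 147) [nat_lit 3, nat_lit 5] Ch.nil))) (by decide +kernel)

theorem z_T111_s159 : Stab 324 (grp 324 y_E0) [nat_lit 7, nat_lit 305, nat_lit 11, nat_lit 293, nat_lit 0] z_V1086 9 :=
  Stab.step (k := 9) (L := (lab 324 9)) z_hn z_T111_s158 z_V1086_ok (grp_mono (List.subset_append_right [z_g1082] _)) (c := (Ch.cons (nat_lit 147) [nat_lit 1, nat_lit 3] Ch.nil)) (by decide +kernel)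

theorem z_T111_s160 : Stab 324 (grp 324 y_E0) [nat_lit 147, nat_lit 7, nat_lit 305, nat_lit 11, nat_lit 293, nat_lit 0] z_V1087 1 :=
  Stab.step (k := 9) (L := (lab 324 9)) z_hn z_T111_s159 z_V1087_ok (grp_mono (List.subset_append_right [z_g1083, z_g654] _)) (c := Ch.nil) (by decide +kernel)

theorem z_g1082_z_T111 : Net.toPerm 324 z_g1082 ∈ (grp 324 y_E0) :=
  z_T111_s158.le (toPerm_mem_grp (E := z_V1084) (List.Mem.head _))

theorem z_g1083_z_T111 : Net.toPerm 324 z_g1083 ∈ (grp 324 y_E0) :=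
  z_T111_s158.le (toPerm_mem_grp (E := z_V1084) (List.Mem.tail _ (List.Mem.head _)))

noncomputable def z_T111_s160_O : ℕ := (nat_lit 0xfffffffffffffffff000000000000000000000000000000000000000000000000000000000000000000000000000000000ffffffffffffffffffffffffffffffff00000000000000000000000000000000f0000000000000000ffffffffffffffff0000000000000000ffffffffffffffff00000000000000000ffffffff00000000ffffffff00000000ffffffff00000000ffffffff00000000ffffffff000000000ffff0000ffff0000ffff0000ffff0000ffff0000ffff0000ffff0000ffff0000ffff0000ffff00000ff00ff00ff00ff00ff00ff00ff00ff00ff00ff00ff00ff00ff00ff00ff00ff00ff00ff00ff00ff000f0f0f0f0f0f0f0f0f0f0f0f0f0f0f0f0f0f0f0f0f0f0f0f0f0f0f0f0f0f0f0f0f0f0f0f0f0f0f0f0cccccccccccccccccccccccccccccccccccccccccccccccccccccccccccccccccccccccccccccccccaaaaaaaaaaaaaaaaaaaaaaaaaaaaaaaaaaaaaaaaaaaaaaaaaaaaaaaaaaaaaaaaaaaaaaaaaaaaaaaaa000000000000000000000000000000000000000000000000000000000000000000000000000000001000000020000000000000000000000000000000000000000000000000000000000000000000000000000000000000000000000000000000000000000000000000000000000000000000000000000000800000020000000000000000000000000000000000000000000000000000000000000000000000000000000000000000000000000000000000000000000000000000000000000000000000000000000000080000000000000000000000000000000000000000000008000000000000000000000000000000000000)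

theorem z_T111_s160_F : Frame 324 (grp 324 y_E0) 6 15 z_T111_s160_O 1 1 :=
  IsBase.frame z_T111_s160.isBase (by decide +kernel)

noncomputable def z_T111_s159_O : ℕ := (nat_lit 0x4410206000064000400480008c0000000000000000000000000000000000000000000000000000000000000000000000000000000020b81000008000480080210020500010420000040000000003f7781fb3869d1fdcd99d2f3721290b438b91260f29fb3ce9d9ffdd9bd7e3493293b018000000000000006f4ffdf38f4372532f48958628b02fff126072f35cf326690e775aacd84cc2808e7fe100000003e006e46c558986832ae593e7e74535534f7cffeff090008a1a1e1c846016eafcfb0d43e0ec07880021706614b83b14b3a6ad9869849810483e8ef59f0d1ebc3d0cd4c4b726e82d486e8f123152bf9770019466981c83e1a8edab3eb475c3d9f02a12dc6667af094bac152a60ff537ef29754a736d30a60f28015254000000000000000000000000000000000000000000000000000000000000000000000000000000001000000020000000000000000000000000000000000000000000000000000000000000000000000000000000000000000000000000000000000000000000000000000000000000000000000000000000800000020000000000000000000000000000000000000000000000000000000000000000000000000000000000000000000000000000000000000000000000000000000000000000000000000000000000080)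

theorem z_T111_s159_F : Frame 324 (grp 324 y_E0) 5 12 z_T111_s159_O 0 1 :=
  Stab.frame z_hn z_T111_s159 (by decide +kernel)

noncomputable def z_T111_s158_O : ℕ := (nat_lit 0x4010004000024000400480000003010000000000000000000000000004000000000000000014044000400202000040000000000008e0880000008000480080210020500010020000040000000002b7b0f7ff87bdbdbf7f7cbcf445e10b82ca600000097b7fe9dddbd5f7e7c7c09218b02b90000000000000a0ce4cea93ec88edf473e392b8bcd358d40688f9d841a3bbcee98da2b4d7ef3a9d46e180000001900a1dff05381754e583a2494c2c8f9bb1d1bf8776f28870c0f6bf0b98e99580a0101607e6677a000674a7314ca04238657956eed9a86301f6532a61721c7bcfbb2474a912e50275c985cc96cd59e8d002622e000000000000000000000000000000000000000000000000000000000000000000000000000000001000000020000000000000000000000000000000000000000000000000000000000000000000000000000000000000000000000000000000000000000000000000000000000000000000000000000000800000020000000000000000000000000000000000000000000000000000000000000000000000000000)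

theorem z_T111_s158_F : Frame 324 (grp 324 y_E0) 4 10 z_T111_s158_O 0 1 :=
  Stab.frame z_hn z_T111_s158 (by decide +kernel)

noncomputable def yt_c85_cnt_L : List ℕ := [1, 4, z_T111_s1_O, 0, 0, 2, 11, z_T111_s49_O, 0, 0, 4, 10, z_T111_s158_O, 0, 0, 5, 12, z_T111_s159_O, 0, 0, 6, 15, z_T111_s160_O, 1, 0]

theorem yt_c85_cnt_P : Prob 324 9 (grp 324 y_E0) yt_c85_cnt_EG [z_g1076] [z_g1076] yt_c85_K yt_c85_cnt_L 0 0 :=
  Sym.prob z_hn z_hk yt_c85_sym yt_c85_cnt_EG_ok (grp_cons_le z_g39_z_T111 (grp_cons_le zg1_z_T111 (grp_cons_le zg3_z_T111 (grp_cons_le z_g43_z_T111 (grp_cons_le z_g42_z_T111 (grp_cons_le zg2_z_T111 (grp_cons_le z_g44_z_T111 (grp_cons_le z_g54_z_T111 (grp_cons_le z_g55_z_T111 (grp_cons_le z_g49_z_T111 (grp_cons_le z_g50_z_T111 (grp_cons_le z_g51_z_T111 (grp_cons_le z_g62_z_T111 (grp_cons_le z_g58_z_T111 (grp_cons_le z_g59_z_T111 (grp_cons_le z_g65_z_T111 (grp_cons_le z_g66_z_T111 (grp_cons_le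 z_g67_z_T111 (grp_cons_le z_g77_z_T111 (grp_cons_le z_g78_z_T111 (grp_cons_le z_g72_z_T111 (grp_cons_le z_g73_z_T111 (grp_cons_le z_g74_z_T111 (grp_cons_le z_g81_z_T111 (grp_cons_le z_g82_z_T111 (grp_cons_le z_g87_z_T111 (grp_cons_le zg0_z_T111 (grp_cons_le z_g91_z_T111 (grp_cons_le z_g28_z_T111 (grp_cons_le z_g88_z_T111 (grp_cons_le z_g373_z_T111 (grp_cons_le z_g374_z_T111 (grp_cons_le z_g375_z_T111 (grp_cons_le z_g376_z_T111 (grp_cons_le z_g377_z_T111 (grp_cons_le z_g378_z_T111 (grp_cons_le z_g372_z_T111 (grp_cons_le z_g1082_z_T111 (grp_cons_le z_g1083_z_T111 (grp_cons_le z_g654_z_T111 (grp_nil_le _))))))))))))))))))))))))))))))))))))))))) (Frames.cons z_T111_s1_F (Frames.cons z_T111_s49_F (Frames.cons z_T111_s158_F (Frames.cons z_T111_s159_F (Frames.cons z_T111_s160_F Frames.nil))))) (okE_cons.2 ⟨z_g1076_ok, okE_nil _⟩) _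

noncomputable def yt_c85_cnt_t : BT := (BT.fix (nat_lit 65793) (BT.br (nat_lit 0) (nat_lit 3) [nat_lit 1, nat_lit 3, nat_lit 5] (BT.dead (nat_lit 10) (BT.frm (nat_lit 0) (nat_lit 785) (nat_lit 3) [nat_lit 0] (BT.pln (nat_lit 0) (nat_lit 3) (BT.and (nat_lit 3) (nat_lit 0) (BT.br (nat_lit 0) (nat_lit 15) [] (BT.dead (nat_lit 3) (BT.img (nat_lit 1) (nat_lit 4) (BT.frm (nat_lit 1) (nat_lit 0x9170311) (nat_lit 658435) [nat_lit 0, nat_lit 5] (BT.pln (nat_lit 0) (nat_lit 5) (BT.and (nat_lit 8) (nat_lit 0) (BT.br (nat_lit 0) (nat_lit 85) [nat_lit 2310] (BT.dead (nat_lit 85) (BT.frm (nat_lit 2) (nat_lit 0x493d4a09170311) (nat_lit 0x3f41493d4a0a0c03) [nat_lit 0, nat_lit 5, nat_lit 4, nat_lit 9] (BT.pln (nat_lit 0) (nat_lit 4) (BT.img (nat_lit 1) (nat_lit 2) (BT.and (nat_lit 1) (nat_lit 0) (BT.cnt (nat_lit 0)))))) BT.nil)))))) (BT.dead (nat_lit 15) (BT.img (nat_lit 1) (nat_lit 4) (BT.frm (nat_lit 1) (nat_lit 0x9170311)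 (nat_lit 658435) [nat_lit 0, nat_lit 5] (BT.pln (nat_lit 0) (nat_lit 5) (BT.and (nat_lit 8) (nat_lit 0) (BT.br (nat_lit 0) (nat_lit 85) [nat_lit 2566] (BT.dead (nat_lit 85) (BT.frm (nat_lit 2) (nat_lit 0x493d4a09170311) (nat_lit 0x3f410a0c03) [nat_lit 0, nat_lit 5, nat_lit 4, nat_lit 9] (BT.pln (nat_lit 0) (nat_lit 4) (BT.img (nat_lit 1) (nat_lit 2) (BT.and (nat_lit 1) (nat_lit 0) (BT.cnt (nat_lit 0)))))) BT.nil)))))) BT.nil)))))) (BT.dead (nat_lit 21) (BT.img (nat_lit 1) (nat_lit 0) (BT.frm (nat_lit 1) (nat_lit 0x9170311) (nat_lit 0x151f011605) [nat_lit 0, nat_lit 1] (BT.pln (nat_lit 0) (nat_lit 5) (BT.img (nat_lit 1) (nat_lit 2) (BT.and (nat_lit 1) (nat_lit 0) (BT.cnt (nat_lit 0))))))) (BT.kid (nat_lit 3) (nat_lit 36) (BT.frm (nat_lit 0) (nat_lit 785) (nat_lit 785) [nat_lit 0] (BT.pln (nat_lit 0) (nat_lit 3) (BT.and (nat_lit 3) (nat_lit 0) (BT.br (nat_lit 0) (nat_lit 15) [nat_lit 3] (BT.kid (nat_lit 15)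 (nat_lit 18) (BT.img (nat_lit 1) (nat_lit 4) (BT.frm (nat_lit 1) (nat_lit 0x9170311) (nat_lit 0x9170311) [nat_lit 0, nat_lit 5] (BT.pln (nat_lit 0) (nat_lit 5) (BT.and (nat_lit 8) (nat_lit 0) (BT.br (nat_lit 0) (nat_lit 85) [nat_lit 5] (BT.kid (nat_lit 85) (nat_lit 6) (BT.dif (nat_lit 7) (nat_lit 10) (BT.frm (nat_lit 2) (nat_lit 0x493d4a09170311) (nat_lit 0x493d4a09170311) [nat_lit 1, nat_lit 6, nat_lit 5, nat_lit 10] (BT.pln (nat_lit 0) (nat_lit 4) (BT.dif (nat_lit 2) (nat_lit 0) (BT.br (nat_lit 0) (nat_lit 14) [nat_lit 7] (BT.kid (nat_lit 14) (nat_lit 3) (BT.pln (nat_lit 3) (nat_lit 5) (BT.and (nat_lit 3) (nat_lit 0) (BT.pln (nat_lit 5) (nat_lit 7) (BT.and (nat_lit 1) (nat_lit 0) (BT.dif (nat_lit 0) (nat_lit 11) (BT.pln (nat_lit 13) (nat_lit 2) (BT.and (nat_lit 1) (nat_lit 0) (BT.frm (nat_lit 3) (nat_lit 0x4b493d4a09170311) (nat_lit 0x4b493d4a09170311) [nat_lit 7, nat_lit 12, nat_lit 17, nat_lit 16, nat_lit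 21] (BT.pln (nat_lit 0) (nat_lit 5) (BT.dif (nat_lit 2) (nat_lit 0) (BT.br (nat_lit 0) (nat_lit 133) [nat_lit 9] (BT.dead (nat_lit 270) (BT.frm (nat_lit 4) (nat_lit 0x4b493d4a09170311) (nat_lit 0x4d4b493d4a09170311) [nat_lit 0, nat_lit 11, nat_lit 16, nat_lit 21, nat_lit 20, nat_lit 25] (BT.pln (nat_lit 0) (nat_lit 6) (BT.img (nat_lit 1) (nat_lit 2) (BT.img (nat_lit 1) (nat_lit 0) (BT.img (nat_lit 1) (nat_lit 0) (BT.and (nat_lit 3) (nat_lit 0) (BT.cnt (nat_lit 0)))))))) (BT.dead (nat_lit 204) (BT.frm (nat_lit 4) (nat_lit 0x4b493d4a09170311) (nat_lit 0x4f4b493d4a09170311) [nat_lit 0, nat_lit 11, nat_lit 16, nat_lit 21, nat_lit 20, nat_lit 25] (BT.pln (nat_lit 0) (nat_lit 6) (BT.img (nat_lit 1) (nat_lit 2) (BT.and (nat_lit 1) (nat_lit 0) (BT.cnt (nat_lit 0)))))) (BT.kid (nat_lit 133) (nat_lit 1) (BT.one (nat_lit 4) (nat_lit 0x4b493d4a09170311) (nat_lit 0x4b493d4a09170311) [nat_lit 0, nat_lit 11, nat_lit 16,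 nat_lit 21, nat_lit 20, nat_lit 25]) BT.nil)))))))))))))) BT.nil)))))) BT.nil)))))) BT.nil))))) BT.nil)))))

theorem yt_c85_cnt : Cnt 324 (grp 324 y_E0) [z_g1076] [z_g1076] 0 0 0 0 108 :=
  BT.sound yt_c85_cnt_P Known.nil (t := yt_c85_cnt_t) (d := 0) (by decide +kernel)

theorem yt_c85_ge : 108 ≤ Nat.card (grp 324 yt_c85_K) :=
  Ch.le_card_grp (k := 9) (L := (lab 324 9)) z_hn yt_c85_K_ok (c := (Ch.cons (nat_lit 3) [nat_lit 1] (Ch.cons (nat_lit 15) [nat_lit 3] (Ch.cons (nat_lit 85) [nat_lit 5] (Ch.cons (nat_lit 14) [nat_lit 7] (Ch.cons (nat_lit 133) [nat_lit 9] Ch.nil)))))) (by decide +kernel)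

theorem yt_c85_eq : (grp 324 y_E0) ⊓ Subgroup.centralizer {Net.toPerm 324 z_g1076} = grp 324 yt_c85_K :=
  cent_eq yt_c85_sym yt_c85_cnt yt_c85_ge

theorem yt_c85_card : Nat.card ↥((grp 324 y_E0) ⊓ Subgroup.centralizer {Net.toPerm 324 z_g1076}) = 108 :=
  card_cent yt_c85_sym yt_c85_cnt yt_c85_ge

theorem yt_c85_ord : orderOf (Net.toPerm 324 z_g1076) = 6 :=
  orderOf_net z_hn z_hk z_g1076_ok (by decide) (ps := [2, 3]) (by set_option linter.unusedSimpArgs false in simp [Nat.primeFactorsList_ofNat]) (by decide +kernel)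

theorem z_le1091 : grp 324 yt_c86_K ≤ grp 324 y_E0 :=
  grp_le_of_memB z_hn z_hk y_E0_ok yt_c86_K_ok (ws := [nat_lit 0x332f262819221a120707010715, nat_lit 0x3c2f2919201a012502, nat_lit 0x33353c252819221a120801050f, nat_lit 0x3c271b1a013c02]) (by decide +kernel)

theorem yt_c86_le : grp 324 yt_c86_K ≤ (grp 324 y_E0) :=
  (z_le1091.trans z_T111_s0.le)

theorem yt_c86_mem : Net.toPerm 324 z_g1088 ∈ (grp 324 y_E0) :=
  yt_c86_le (toPerm_mem_grp (E := yt_c86_K) (List.Mem.head _))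

theorem yt_c86_sym : Sym 324 (grp 324 y_E0) [z_g1088] yt_c86_K 0 :=
  Sym.of_lab z_hn z_hk (okE_cons.2 ⟨z_g1088_ok, okE_nil _⟩) yt_c86_K_ok yt_c86_le (kT := 0) (by decide +kernel)

noncomputable def yt_c86_cnt_L : List ℕ := [1, 4, z_T111_s1_O, 0, 0, 2, 11, z_T111_s49_O, 0, 0, 4, 10, z_T111_s158_O, 0, 0, 5, 12, z_T111_s159_O, 0, 0, 6, 15, z_T111_s160_O, 1, 0]

theorem yt_c86_cnt_P : Prob 324 9 (grp 324 y_E0) yt_c86_cnt_EG [z_g1088] [z_g1088] yt_c86_K yt_c86_cnt_L 0 0 :=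
  Sym.prob z_hn z_hk yt_c86_sym yt_c86_cnt_EG_ok (grp_cons_le z_g39_z_T111 (grp_cons_le zg1_z_T111 (grp_cons_le zg3_z_T111 (grp_cons_le z_g43_z_T111 (grp_cons_le z_g42_z_T111 (grp_cons_le zg2_z_T111 (grp_cons_le z_g44_z_T111 (grp_cons_le z_g54_z_T111 (grp_cons_le z_g55_z_T111 (grp_cons_le z_g49_z_T111 (grp_cons_le z_g50_z_T111 (grp_cons_le z_g51_z_T111 (grp_cons_le z_g62_z_T111 (grp_cons_le z_g58_z_T111 (grp_cons_le z_g59_z_T111 (grp_cons_le z_g65_z_T111 (grp_cons_le z_g66_z_T111 (grp_cons_le z_g67_z_T111 (grp_cons_le z_g77_z_T111 (grp_cons_le z_g78_z_T111 (grp_cons_le z_g72_z_T111 (grp_cons_le z_g73_z_T111 (grp_cons_le z_g74_z_T111 (grp_cons_le z_g81_z_T111 (grp_cons_le z_g82_z_T111 (grp_cons_le z_g87_z_T111 (grp_cons_le zg0_z_T111 (grp_cons_le z_g91_z_T111 (grp_cons_le z_g28_z_T111 (grp_cons_le z_g88_z_T111 (grp_cons_le z_g373_z_T111 (grp_cons_le z_g374_z_T111 (grp_cons_le z_g375_z_T111 (grp_cons_le z_g376_z_T111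 (grp_cons_le z_g377_z_T111 (grp_cons_le z_g378_z_T111 (grp_cons_le z_g372_z_T111 (grp_cons_le z_g1082_z_T111 (grp_cons_le z_g1083_z_T111 (grp_cons_le z_g654_z_T111 (grp_nil_le _))))))))))))))))))))))))))))))))))))))))) (Frames.cons z_T111_s1_F (Frames.cons z_T111_s49_F (Frames.cons z_T111_s158_F (Frames.cons z_T111_s159_F (Frames.cons z_T111_s160_F Frames.nil))))) (okE_cons.2 ⟨z_g1088_ok, okE_nil _⟩) _

noncomputable def yt_c86_cnt_t : BT := (BT.fix (nat_lit 65793) (BT.br (nat_lit 0) (nat_lit 56) [nat_lit 1, nat_lit 3] (BT.dead (nat_lit 65) (BT.frm (nat_lit 0) (nat_lit 530) (nat_lit 294) [nat_lit 0] (BT.pln (nat_lit 0) (nat_lit 3) (BT.and (nat_lit 3) (nat_lit 0) (BT.br (nat_lit 0) (nat_lit 142) [] (BT.dead (nat_lit 142) (BT.img (nat_lit 1) (nat_lit 4) (BT.frm (nat_lit 1) (nat_lit 0x1c0212) (nat_lit 0x230126) [nat_lit 0, nat_lit 5] (BT.pln (nat_lit 0) (nat_lit 5) (BT.and (nat_lit 8) (nat_lit 0) (BT.br (nat_lit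 0) (nat_lit 82) [nat_lit 1283] (BT.dead (nat_lit 82) (BT.dif (nat_lit 7) (nat_lit 10) (BT.frm (nat_lit 2) (nat_lit 0x4a1c0212) (nat_lit 0x404749230126) [nat_lit 1, nat_lit 6, nat_lit 5, nat_lit 10] (BT.pln (nat_lit 0) (nat_lit 4) (BT.dif (nat_lit 2) (nat_lit 0) (BT.br (nat_lit 0) (nat_lit 281) [nat_lit 5] (BT.dead (nat_lit 162) (BT.pln (nat_lit 3) (nat_lit 5) (BT.and (nat_lit 3) (nat_lit 0) (BT.pln (nat_lit 5) (nat_lit 7) (BT.and (nat_lit 1) (nat_lit 0) (BT.dif (nat_lit 0) (nat_lit 11) (BT.pln (nat_lit 13) (nat_lit 2) (BT.and (nat_lit 1) (nat_lit 0) (BT.frm (nat_lit 3) (nat_lit 0x4b4a1c0212) (nat_lit 0x404749230126) [nat_lit 7, nat_lit 12, nat_lit 17, nat_lit 16, nat_lit 21] (BT.pln (nat_lit 0) (nat_lit 5) (BT.dif (nat_lit 2) (nat_lit 0) (BT.br (nat_lit 0) (nat_lit 1) [nat_lit 8] (BT.dead (nat_lit 39) (BT.frm (nat_lit 4) (nat_lit 0x4e4f4b4a1c0212) (nat_lit 0x4e4f404749230126) [nat_lit 0, nat_lit 11, nat_lit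 16, nat_lit 21, nat_lit 20, nat_lit 25] (BT.pln (nat_lit 0) (nat_lit 6) (BT.img (nat_lit 1) (nat_lit 2) (BT.and (nat_lit 1) (nat_lit 0) (BT.cnt (nat_lit 0)))))) (BT.dead (nat_lit 28) (BT.frm (nat_lit 4) (nat_lit 0x4e4f4b4a1c0212) (nat_lit 0x4e50404749230126) [nat_lit 0, nat_lit 11, nat_lit 16, nat_lit 21, nat_lit 20, nat_lit 25] (BT.pln (nat_lit 0) (nat_lit 6) (BT.img (nat_lit 1) (nat_lit 2) (BT.and (nat_lit 1) (nat_lit 0) (BT.cnt (nat_lit 0)))))) (BT.dead (nat_lit 44) (BT.frm (nat_lit 4) (nat_lit 0x4e4f4b4a1c0212) (nat_lit 0x4e404749230126) [nat_lit 0, nat_lit 11, nat_lit 16, nat_lit 21, nat_lit 20, nat_lit 25] (BT.pln (nat_lit 0) (nat_lit 6) (BT.img (nat_lit 1) (nat_lit 2) (BT.img (nat_lit 1) (nat_lit 0) (BT.img (nat_lit 1) (nat_lit 0) (BT.and (nat_lit 3) (nat_lit 0) (BT.cnt (nat_lit 0)))))))) BT.nil)))))))))))))) BT.nil)))))) BT.nil)))))) (BT.dead (nat_lit 56) (BT.img (nat_lit 1) (nat_lit 4) (BT.frm (nat_lit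 1) (nat_lit 0x1c0212) (nat_lit 0x230126) [nat_lit 0, nat_lit 5] (BT.pln (nat_lit 0) (nat_lit 5) (BT.and (nat_lit 8) (nat_lit 0) (BT.br (nat_lit 0) (nat_lit 82) [nat_lit 1284] (BT.dead (nat_lit 82) (BT.frm (nat_lit 2) (nat_lit 0x4a1c0212) (nat_lit 0x45493d230126) [nat_lit 0, nat_lit 5, nat_lit 4, nat_lit 9] (BT.pln (nat_lit 0) (nat_lit 5) (BT.img (nat_lit 1) (nat_lit 2) (BT.and (nat_lit 1) (nat_lit 0) (BT.cnt (nat_lit 0)))))) BT.nil)))))) BT.nil)))))) (BT.dead (nat_lit 142) (BT.frm (nat_lit 0) (nat_lit 530) (nat_lit 311) [nat_lit 0] (BT.pln (nat_lit 0) (nat_lit 3) (BT.and (nat_lit 3) (nat_lit 0) (BT.br (nat_lit 0) (nat_lit 142) [] (BT.dead (nat_lit 65) (BT.img (nat_lit 1) (nat_lit 4) (BT.frm (nat_lit 1) (nat_lit 0x1c0212) (nat_lit 0x80b0137) [nat_lit 0, nat_lit 5] (BT.pln (nat_lit 0) (nat_lit 5) (BT.and (nat_lit 8) (nat_lit 0) (BT.br (nat_lit 0) (nat_lit 82) [nat_lit 1796] (BT.dead (nat_lit 82) (BT.frm (nat_lit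 2) (nat_lit 0x4a1c0212) (nat_lit 0x404049080b0137) [nat_lit 0, nat_lit 5, nat_lit 4, nat_lit 9] (BT.pln (nat_lit 0) (nat_lit 4) (BT.img (nat_lit 1) (nat_lit 2) (BT.and (nat_lit 1) (nat_lit 0) (BT.cnt (nat_lit 0)))))) BT.nil)))))) (BT.dead (nat_lit 56) (BT.img (nat_lit 1) (nat_lit 4) (BT.frm (nat_lit 1) (nat_lit 0x1c0212) (nat_lit 0x80b0137) [nat_lit 0, nat_lit 5] (BT.pln (nat_lit 0) (nat_lit 5) (BT.and (nat_lit 8) (nat_lit 0) (BT.br (nat_lit 0) (nat_lit 82) [nat_lit 4] (BT.dead (nat_lit 82) (BT.frm (nat_lit 2) (nat_lit 0x4a1c0212) (nat_lit 0x3f493d080b0137) [nat_lit 0, nat_lit 5, nat_lit 4, nat_lit 9] (BT.pln (nat_lit 0) (nat_lit 4) (BT.img (nat_lit 1) (nat_lit 2) (BT.and (nat_lit 1) (nat_lit 0) (BT.cnt (nat_lit 0)))))) BT.nil)))))) BT.nil)))))) (BT.dead (nat_lit 82) (BT.img (nat_lit 1) (nat_lit 0) (BT.frm (nat_lit 1) (nat_lit 0x1c0212) (nat_lit 0x192d012d01) [nat_lit 0, nat_lit 1] (BT.pln (nat_lit 0) (nat_lit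 5) (BT.img (nat_lit 1) (nat_lit 2) (BT.and (nat_lit 1) (nat_lit 0) (BT.cnt (nat_lit 0))))))) (BT.kid (nat_lit 56) (nat_lit 18) (BT.frm (nat_lit 0) (nat_lit 530) (nat_lit 530) [nat_lit 0] (BT.pln (nat_lit 0) (nat_lit 3) (BT.and (nat_lit 3) (nat_lit 0) (BT.br (nat_lit 0) (nat_lit 142) [] (BT.dead (nat_lit 65) (BT.img (nat_lit 1) (nat_lit 4) (BT.frm (nat_lit 1) (nat_lit 0x1c0212) (nat_lit 0x1c0212) [nat_lit 0, nat_lit 5] (BT.pln (nat_lit 0) (nat_lit 5) (BT.and (nat_lit 8) (nat_lit 0) (BT.br (nat_lit 0) (nat_lit 82) [nat_lit 3] (BT.dead (nat_lit 82) (BT.frm (nat_lit 2) (nat_lit 0x4a1c0212) (nat_lit 0x3d3f49401c0212) [nat_lit 0, nat_lit 5, nat_lit 4, nat_lit 9] (BT.pln (nat_lit 0) (nat_lit 5) (BT.img (nat_lit 1) (nat_lit 2) (BT.and (nat_lit 1) (nat_lit 0) (BT.cnt (nat_lit 0)))))) BT.nil)))))) (BT.kid (nat_lit 142) (nat_lit 18) (BT.img (nat_lit 1) (nat_lit 4) (BT.frm (nat_lit 1) (nat_lit 0x1c0212) (nat_lit 0x1c0212)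 [nat_lit 0, nat_lit 5] (BT.pln (nat_lit 0) (nat_lit 5) (BT.and (nat_lit 8) (nat_lit 0) (BT.br (nat_lit 0) (nat_lit 82) [nat_lit 3] (BT.kid (nat_lit 82) (nat_lit 6) (BT.dif (nat_lit 7) (nat_lit 10) (BT.frm (nat_lit 2) (nat_lit 0x4a1c0212) (nat_lit 0x4a1c0212) [nat_lit 1, nat_lit 6, nat_lit 5, nat_lit 10] (BT.pln (nat_lit 0) (nat_lit 4) (BT.dif (nat_lit 2) (nat_lit 0) (BT.br (nat_lit 0) (nat_lit 281) [nat_lit 5] (BT.kid (nat_lit 281) (nat_lit 3) (BT.pln (nat_lit 3) (nat_lit 5) (BT.and (nat_lit 3) (nat_lit 0) (BT.pln (nat_lit 5) (nat_lit 7) (BT.and (nat_lit 1) (nat_lit 0) (BT.dif (nat_lit 0) (nat_lit 11) (BT.pln (nat_lit 13) (nat_lit 2) (BT.and (nat_lit 1) (nat_lit 0) (BT.frm (nat_lit 3) (nat_lit 0x4b4a1c0212) (nat_lit 0x4b4a1c0212) [nat_lit 7, nat_lit 12, nat_lit 17, nat_lit 16, nat_lit 21] (BT.pln (nat_lit 0) (nat_lit 5) (BT.dif (nat_lit 2) (nat_lit 0) (BT.br (nat_lit 0) (nat_lit 1) [nat_lit 7] (BT.dead (nat_lit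 3) (BT.frm (nat_lit 4) (nat_lit 0x4e4f4b4a1c0212) (nat_lit 0x4e504b4a1c0212) [nat_lit 0, nat_lit 11, nat_lit 16, nat_lit 21, nat_lit 20, nat_lit 25] (BT.pln (nat_lit 0) (nat_lit 6) (BT.img (nat_lit 1) (nat_lit 2) (BT.img (nat_lit 1) (nat_lit 0) (BT.img (nat_lit 1) (nat_lit 0) (BT.and (nat_lit 3) (nat_lit 0) (BT.cnt (nat_lit 0)))))))) (BT.dead (nat_lit 6) (BT.frm (nat_lit 4) (nat_lit 0x4e4f4b4a1c0212) (nat_lit 0x4e4b4a1c0212) [nat_lit 0, nat_lit 11, nat_lit 16, nat_lit 21, nat_lit 20, nat_lit 25] (BT.pln (nat_lit 0) (nat_lit 6) (BT.img (nat_lit 1) (nat_lit 2) (BT.and (nat_lit 1) (nat_lit 0) (BT.cnt (nat_lit 0)))))) (BT.kid (nat_lit 1) (nat_lit 1) (BT.one (nat_lit 4) (nat_lit 0x4e4f4b4a1c0212) (nat_lit 0x4e4f4b4a1c0212) [nat_lit 0, nat_lit 11, nat_lit 16, nat_lit 21, nat_lit 20, nat_lit 25]) BT.nil)))))))))))))) BT.nil)))))) BT.nil)))))) BT.nil)))))) BT.nil))))))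

theorem yt_c86_cnt : Cnt 324 (grp 324 y_E0) [z_g1088] [z_g1088] 0 0 0 0 54 :=
  BT.sound yt_c86_cnt_P Known.nil (t := yt_c86_cnt_t) (d := 0) (by decide +kernel)

theorem yt_c86_ge : 54 ≤ Nat.card (grp 324 yt_c86_K) :=
  Ch.le_card_grp (k := 9) (L := (lab 324 9)) z_hn yt_c86_K_ok (c := (Ch.cons (nat_lit 56) [nat_lit 1] (Ch.cons (nat_lit 82) [nat_lit 3] (Ch.cons (nat_lit 281) [nat_lit 5] (Ch.cons (nat_lit 1) [nat_lit 7] Ch.nil))))) (by decide +kernel)

theorem yt_c86_eq : (grp 324 y_E0) ⊓ Subgroup.centralizer {Net.toPerm 324 z_g1088} = grp 324 yt_c86_K :=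
  cent_eq yt_c86_sym yt_c86_cnt yt_c86_ge

theorem yt_c86_card : Nat.card ↥((grp 324 y_E0) ⊓ Subgroup.centralizer {Net.toPerm 324 z_g1088}) = 54 :=
  card_cent yt_c86_sym yt_c86_cnt yt_c86_ge

theorem yt_c86_ord : orderOf (Net.toPerm 324 z_g1088) = 6 :=
  orderOf_net z_hn z_hk z_g1088_ok (by decide) (ps := [2, 3]) (by set_option linter.unusedSimpArgs false in simp [Nat.primeFactorsList_ofNat]) (by decide +kernel)

theorem z_le1094 : grp 324 yt_c87_K ≤ grp 324 y_E0 :=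
  grp_le_of_memB z_hn z_hk y_E0_ok yt_c87_K_ok (ws := [nat_lit 0x372f25281f192012052f, nat_lit 0x3b2f281f1d1f1208010105, nat_lit 0x3b2f2619221a012602]) (by decide +kernel)

theorem yt_c87_le : grp 324 yt_c87_K ≤ (grp 324 y_E0) :=
  (z_le1094.trans z_T111_s0.le)

theorem yt_c87_mem : Net.toPerm 324 z_g1092 ∈ (grp 324 y_E0) :=
  yt_c87_le (toPerm_mem_grp (E := yt_c87_K) (List.Mem.head _))

theorem yt_c87_sym : Sym 324 (grp 324 y_E0) [z_g1092] yt_c87_K 0 :=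
  Sym.of_lab z_hn z_hk (okE_cons.2 ⟨z_g1092_ok, okE_nil _⟩) yt_c87_K_ok yt_c87_le (kT := 0) (by decide +kernel)

noncomputable def yt_c87_cnt_L : List ℕ := [1, 4, z_T111_s1_O, 0, 0, 4, 13, z_T111_s61_O, 0, 0, 6, 11, z_T111_s63_O, 0, 0, 8, 17, z_T111_s65_O, 1, 0]

theorem yt_c87_cnt_P : Prob 324 9 (grp 324 y_E0) yt_c87_cnt_EG [z_g1092] [z_g1092] yt_c87_K yt_c87_cnt_L 0 0 :=
  Sym.prob z_hn z_hk yt_c87_sym yt_c87_cnt_EG_ok (grp_cons_le z_g39_z_T111 (grp_cons_le zg1_z_T111 (grp_cons_le zg3_z_T111 (grp_cons_le z_g43_z_T111 (grp_cons_le z_g42_z_T111 (grp_cons_le zg2_z_T111 (grp_cons_le z_g44_z_T111 (grp_cons_le z_g54_z_T111 (grp_cons_le z_g55_z_T111 (grp_cons_le z_g49_z_T111 (grp_cons_le z_g50_z_T111 (grp_cons_le z_g51_z_T111 (grp_cons_le z_g62_z_T111 (grp_cons_le z_g58_z_T111 (grp_cons_le z_g59_z_T111 (grp_cons_le z_g65_z_T111 (grp_cons_le z_g66_z_T111 (grp_cons_le z_g67_z_T111 (grp_cons_le z_g77_z_T111 (grp_cons_le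 z_g78_z_T111 (grp_cons_le z_g72_z_T111 (grp_cons_le z_g73_z_T111 (grp_cons_le z_g74_z_T111 (grp_cons_le z_g81_z_T111 (grp_cons_le z_g82_z_T111 (grp_cons_le z_g87_z_T111 (grp_cons_le zg0_z_T111 (grp_cons_le z_g91_z_T111 (grp_cons_le z_g28_z_T111 (grp_cons_le z_g88_z_T111 (grp_cons_le z_g174_z_T111 (grp_cons_le z_g175_z_T111 (grp_cons_le z_g176_z_T111 (grp_cons_le z_g177_z_T111 (grp_cons_le z_g30_z_T111 (grp_cons_le z_g178_z_T111 (grp_cons_le z_g126_z_T111 (grp_cons_le z_g127_z_T111 (grp_cons_le z_g128_z_T111 (grp_cons_le z_g129_z_T111 (grp_cons_le z_g130_z_T111 (grp_cons_le z_g131_z_T111 (grp_cons_le z_g132_z_T111 (grp_cons_le z_g133_z_T111 (grp_cons_le z_g134_z_T111 (grp_cons_le z_g135_z_T111 (grp_cons_le z_g437_z_T111 (grp_cons_le z_g438_z_T111 (grp_cons_le z_g297_z_T111 (grp_cons_le z_g248_z_T111 (grp_cons_le z_g247_z_T111 (grp_cons_le z_g436_z_T111 (grp_nil_le _)))))))))))))))))))))))))))))))))))))))))))))))))))))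 (Frames.cons z_T111_s1_F (Frames.cons z_T111_s61_F (Frames.cons z_T111_s63_F (Frames.cons z_T111_s65_F Frames.nil)))) (okE_cons.2 ⟨z_g1092_ok, okE_nil _⟩) _

noncomputable def yt_c87_cnt_t : BT := (BT.fix (nat_lit 65793) (BT.br (nat_lit 0) (nat_lit 60) [nat_lit 1, nat_lit 5] (BT.dead (nat_lit 126) (BT.frm (nat_lit 0) (nat_lit 67636) (nat_lit 1317) [nat_lit 0] (BT.pln (nat_lit 0) (nat_lit 2) (BT.and (nat_lit 0) (nat_lit 3) (BT.cnt (nat_lit 0))))) (BT.kid (nat_lit 60) (nat_lit 18) (BT.frm (nat_lit 0) (nat_lit 67636) (nat_lit 67636) [nat_lit 0] (BT.pln (nat_lit 0) (nat_lit 2) (BT.dif (nat_lit 0) (nat_lit 3) (BT.pln (nat_lit 2) (nat_lit 3) (BT.img (nat_lit 1) (nat_lit 0) (BT.dif (nat_lit 2) (nat_lit 0) (BT.br (nat_lit 0) (nat_lit 94) [nat_lit 3] (BT.dead (nat_lit 125) (BT.img (nat_lit 1) (nat_lit 7) (BT.img (nat_lit 1) (nat_lit 0) (BT.frm (nat_lit 1) (nat_lit 0x3f21010834) (nat_lit 0x3f4221010834) [nat_lit 2,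 nat_lit 0, nat_lit 1, nat_lit 9] (BT.pln (nat_lit 0) (nat_lit 6) (BT.img (nat_lit 1) (nat_lit 4) (BT.and (nat_lit 1) (nat_lit 0) (BT.cnt (nat_lit 0)))))))) (BT.kid (nat_lit 94) (nat_lit 3) (BT.pln (nat_lit 6) (nat_lit 1) (BT.img (nat_lit 1) (nat_lit 8) (BT.img (nat_lit 1) (nat_lit 0) (BT.frm (nat_lit 1) (nat_lit 0x3f21010834) (nat_lit 0x3f21010834) [nat_lit 3, nat_lit 0, nat_lit 1, nat_lit 10] (BT.pln (nat_lit 0) (nat_lit 6) (BT.dif (nat_lit 8) (nat_lit 0) (BT.pln (nat_lit 2) (nat_lit 8) (BT.and (nat_lit 12) (nat_lit 0) (BT.img (nat_lit 1) (nat_lit 0) (BT.dif (nat_lit 3) (nat_lit 0) (BT.pln (nat_lit 6) (nat_lit 9) (BT.and (nat_lit 16) (nat_lit 0) (BT.img (nat_lit 1) (nat_lit 12) (BT.img (nat_lit 1) (nat_lit 0) (BT.dif (nat_lit 16) (nat_lit 0) (BT.dif (nat_lit 18) (nat_lit 2) (BT.and (nat_lit 0) (nat_lit 7) (BT.and (nat_lit 0) (nat_lit 12) (BT.img (nat_lit 1) (nat_lit 0) (BT.and (nat_lit 4) (nat_lit 0) (BT.pln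 (nat_lit 16) (nat_lit 7) (BT.and (nat_lit 1) (nat_lit 0) (BT.img (nat_lit 1) (nat_lit 0) (BT.and (nat_lit 11) (nat_lit 0) (BT.frm (nat_lit 2) (nat_lit 0x3f21010834) (nat_lit 0x3f21010834) [nat_lit 14, nat_lit 0, nat_lit 24, nat_lit 21, nat_lit 22, nat_lit 31] (BT.pln (nat_lit 0) (nat_lit 6) (BT.dif (nat_lit 25) (nat_lit 0) (BT.and (nat_lit 26) (nat_lit 1) (BT.img (nat_lit 1) (nat_lit 0) (BT.dif (nat_lit 2) (nat_lit 0) (BT.br (nat_lit 0) (nat_lit 164) [nat_lit 5] (BT.dead (nat_lit 59) (BT.and (nat_lit 25) (nat_lit 22) (BT.img (nat_lit 1) (nat_lit 0) (BT.and (nat_lit 35) (nat_lit 0) (BT.frm (nat_lit 3) (nat_lit 0x64663f21010834) (nat_lit 0x61643f21010834) [nat_lit 3, nat_lit 0, nat_lit 24, nat_lit 10, nat_lit 34, nat_lit 31, nat_lit 32, nat_lit 41] (BT.pln (nat_lit 0) (nat_lit 8) (BT.img (nat_lit 1) (nat_lit 5) (BT.img (nat_lit 1) (nat_lit 0) (BT.img (nat_lit 1) (nat_lit 0) (BT.img (nat_lit 1) (nat_lit 0)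 (BT.and (nat_lit 4) (nat_lit 0) (BT.cnt (nat_lit 0)))))))))))) (BT.dead (nat_lit 276) (BT.and (nat_lit 25) (nat_lit 22) (BT.img (nat_lit 1) (nat_lit 0) (BT.and (nat_lit 35) (nat_lit 0) (BT.frm (nat_lit 3) (nat_lit 0x64663f21010834) (nat_lit 0x61633f21010834) [nat_lit 3, nat_lit 0, nat_lit 24, nat_lit 10, nat_lit 34, nat_lit 31, nat_lit 32, nat_lit 41] (BT.pln (nat_lit 0) (nat_lit 8) (BT.img (nat_lit 1) (nat_lit 5) (BT.img (nat_lit 1) (nat_lit 0) (BT.and (nat_lit 2) (nat_lit 0) (BT.cnt (nat_lit 0)))))))))) (BT.dead (nat_lit 234) (BT.and (nat_lit 25) (nat_lit 22) (BT.img (nat_lit 1) (nat_lit 0) (BT.and (nat_lit 35) (nat_lit 0) (BT.frm (nat_lit 3) (nat_lit 0x64663f21010834) (nat_lit 0x61663f21010834) [nat_lit 3, nat_lit 0, nat_lit 24, nat_lit 10, nat_lit 34, nat_lit 31, nat_lit 32, nat_lit 41] (BT.pln (nat_lit 0) (nat_lit 8) (BT.img (nat_lit 1) (nat_lit 5) (BT.and (nat_lit 1) (nat_lit 0) (BT.cnt (nat_lit 0)))))))))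 (BT.dead (nat_lit 172) (BT.and (nat_lit 25) (nat_lit 22) (BT.img (nat_lit 1) (nat_lit 0) (BT.and (nat_lit 35) (nat_lit 0) (BT.frm (nat_lit 3) (nat_lit 0x64663f21010834) (nat_lit 0x663f21010834) [nat_lit 3, nat_lit 0, nat_lit 24, nat_lit 10, nat_lit 34, nat_lit 31, nat_lit 32, nat_lit 41] (BT.pln (nat_lit 0) (nat_lit 8) (BT.img (nat_lit 1) (nat_lit 5) (BT.and (nat_lit 1) (nat_lit 0) (BT.cnt (nat_lit 0))))))))) (BT.dead (nat_lit 307) (BT.and (nat_lit 25) (nat_lit 22) (BT.img (nat_lit 1) (nat_lit 0) (BT.and (nat_lit 35) (nat_lit 0) (BT.frm (nat_lit 3) (nat_lit 0x64663f21010834) (nat_lit 0x633f21010834) [nat_lit 3, nat_lit 0, nat_lit 24, nat_lit 10, nat_lit 34, nat_lit 31, nat_lit 32, nat_lit 41] (BT.pln (nat_lit 0) (nat_lit 8) (BT.img (nat_lit 1) (nat_lit 5) (BT.and (nat_lit 1) (nat_lit 0) (BT.cnt (nat_lit 0))))))))) (BT.kid (nat_lit 164) (nat_lit 1) (BT.and (nat_lit 25) (nat_lit 22) (BT.img (nat_lit 1) (nat_lit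 0) (BT.and (nat_lit 35) (nat_lit 0) (BT.one (nat_lit 3) (nat_lit 0x64663f21010834) (nat_lit 0x64663f21010834) [nat_lit 3, nat_lit 0, nat_lit 24, nat_lit 10, nat_lit 34, nat_lit 31, nat_lit 32, nat_lit 41])))) BT.nil))))))))))))))))))))))))))))))))))))) BT.nil))))))))) BT.nil))))

theorem yt_c87_cnt : Cnt 324 (grp 324 y_E0) [z_g1092] [z_g1092] 0 0 0 0 54 :=
  BT.sound yt_c87_cnt_P Known.nil (t := yt_c87_cnt_t) (d := 0) (by decide +kernel)

theorem yt_c87_ge : 54 ≤ Nat.card (grp 324 yt_c87_K) :=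
  Ch.le_card_grp (k := 9) (L := (lab 324 9)) z_hn yt_c87_K_ok (c := (Ch.cons (nat_lit 60) [nat_lit 1] (Ch.cons (nat_lit 94) [nat_lit 3] (Ch.cons (nat_lit 164) [nat_lit 5] Ch.nil)))) (by decide +kernel)

theorem yt_c87_eq : (grp 324 y_E0) ⊓ Subgroup.centralizer {Net.toPerm 324 z_g1092} = grp 324 yt_c87_K :=
  cent_eq yt_c87_sym yt_c87_cnt yt_c87_ge

theorem yt_c87_card : Nat.card ↥((grp 324 y_E0) ⊓ Subgroup.centralizer {Net.toPerm 324 z_g1092}) = 54 :=
  card_cent yt_c87_sym yt_c87_cnt yt_c87_ge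

theorem yt_c87_ord : orderOf (Net.toPerm 324 z_g1092) = 6 :=
  orderOf_net z_hn z_hk z_g1092_ok (by decide) (ps := [2, 3]) (by set_option linter.unusedSimpArgs false in simp [Nat.primeFactorsList_ofNat]) (by decide +kernel)

theorem z_le1099 : grp 324 yt_c88_K ≤ grp 324 y_E0 :=
  grp_le_of_memB z_hn z_hk y_E0_ok yt_c88_K_ok (ws := [nat_lit 0x33353c2819201a0f0707010b05, nat_lit 0x3538251b1a013802, nat_lit 0x382b1f19221a070703070c, nat_lit 0x3b26281b1a022501]) (by decide +kernel)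

theorem yt_c88_le : grp 324 yt_c88_K ≤ (grp 324 y_E0) :=
  (z_le1099.trans z_T111_s0.le)

theorem yt_c88_mem : Net.toPerm 324 z_g1095 ∈ (grp 324 y_E0) :=
  yt_c88_le (toPerm_mem_grp (E := yt_c88_K) (List.Mem.head _))

theorem yt_c88_sym : Sym 324 (grp 324 y_E0) [z_g1095] yt_c88_K 0 :=
  Sym.of_lab z_hn z_hk (okE_cons.2 ⟨z_g1095_ok, okE_nil _⟩) yt_c88_K_ok yt_c88_le (kT := 0) (by decide +kernel)

noncomputable def yt_c88_cnt_L : List ℕ := [2, 9, z_T111_s41_O, 0, 0, 3, 15, z_T111_s42_O, 0, 0, 4, 9, z_T111_s155_O, 0, 0, 5, 12, z_T111_s156_O, 0, 0, 6, 15, z_T111_s157_O, 1, 0]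

theorem yt_c88_cnt_P : Prob 324 9 (grp 324 y_E0) yt_c88_cnt_EG [z_g1095] [z_g1095] yt_c88_K yt_c88_cnt_L 0 0 :=
  Sym.prob z_hn z_hk yt_c88_sym yt_c88_cnt_EG_ok (grp_cons_le z_g43_z_T111 (grp_cons_le z_g42_z_T111 (grp_cons_le zg2_z_T111 (grp_cons_le z_g44_z_T111 (grp_cons_le z_g54_z_T111 (grp_cons_le z_g55_z_T111 (grp_cons_le z_g49_z_T111 (grp_cons_le z_g50_z_T111 (grp_cons_le z_g51_z_T111 (grp_cons_le z_g62_z_T111 (grp_cons_le z_g58_z_T111 (grp_cons_le z_g59_z_T111 (grp_cons_le z_g65_z_T111 (grp_cons_le z_g66_z_T111 (grp_cons_le z_g67_z_T111 (grp_cons_le z_g77_z_T111 (grp_cons_le z_g78_z_T111 (grp_cons_le z_g72_z_T111 (grp_cons_le z_g73_z_T111 (grp_cons_le z_g74_z_T111 (grp_cons_le z_g81_z_T111 (grp_cons_le z_g82_z_T111 (grp_cons_le z_g87_z_T111 (grp_cons_le zg0_z_T111 (grp_cons_le z_g91_z_T111 (grp_cons_le z_g28_z_T111 (grp_cons_le z_g88_z_T111 (grp_cons_le z_g39_z_T111 (grp_cons_le zg1_z_T111 (grp_cons_le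 zg3_z_T111 (grp_cons_le z_g344_z_T111 (grp_cons_le z_g345_z_T111 (grp_cons_le z_g346_z_T111 (grp_cons_le z_g347_z_T111 (grp_cons_le z_g1062_z_T111 (grp_cons_le z_g1063_z_T111 (grp_cons_le z_g1064_z_T111 (grp_cons_le z_g1065_z_T111 (grp_nil_le _))))))))))))))))))))))))))))))))))))))) (Frames.cons z_T111_s41_F (Frames.cons z_T111_s42_F (Frames.cons z_T111_s155_F (Frames.cons z_T111_s156_F (Frames.cons z_T111_s157_F Frames.nil))))) (okE_cons.2 ⟨z_g1095_ok, okE_nil _⟩) _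

noncomputable def yt_c88_cnt_t : BT := (BT.fix (nat_lit 65793) (BT.br (nat_lit 0) (nat_lit 3) [nat_lit 1, nat_lit 3] (BT.dead (nat_lit 15) (BT.img (nat_lit 1) (nat_lit 0) (BT.frm (nat_lit 0) (nat_lit 0x18390b) (nat_lit 0x6372538) [nat_lit 0, nat_lit 1] (BT.pln (nat_lit 0) (nat_lit 3) (BT.and (nat_lit 4) (nat_lit 0) (BT.br (nat_lit 0) (nat_lit 52) [nat_lit 2051] (BT.dead (nat_lit 33) (BT.img (nat_lit 1) (nat_lit 0) (BT.frm (nat_lit 2) (nat_lit 0x3f443d3f4218390b) (nat_lit 0x443e3e3f06372538) [nat_lit 0, nat_lit 1, nat_lit 5, nat_lit 6] (BT.pln (nat_lit 0) (nat_lit 7) (BT.and (nat_lit 5) (nat_lit 0) (BT.br (nat_lit 0) (nat_lit 96) [nat_lit 5] (BT.dead (nat_lit 41) (BT.dif (nat_lit 14) (nat_lit 2) (BT.pln (nat_lit 4) (nat_lit 4) (BT.dif (nat_lit 1) (nat_lit 0) (BT.pln (nat_lit 6) (nat_lit 5) (BT.dif (nat_lit 1) (nat_lit 0) (BT.pln (nat_lit 8) (nat_lit 6) (BT.dif (nat_lit 1) (nat_lit 0) (BT.dif (nat_lit 0)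 (nat_lit 18) (BT.frm (nat_lit 3) (nat_lit 0x483f443d3f4218390b) (nat_lit 0x4548443e3e3f06372538) [nat_lit 8, nat_lit 12, nat_lit 13, nat_lit 17, nat_lit 18] (BT.pln (nat_lit 0) (nat_lit 5) (BT.dif (nat_lit 2) (nat_lit 0) (BT.pln (nat_lit 2) (nat_lit 7) (BT.dif (nat_lit 1) (nat_lit 0) (BT.br (nat_lit 0) (nat_lit 126) [nat_lit 8] (BT.dead (nat_lit 302) (BT.frm (nat_lit 4) (nat_lit 0x494b483f443d3f4218390b) (nat_lit 0x494c4548443e3e3f06372538) [nat_lit 0, nat_lit 14, nat_lit 18, nat_lit 19, nat_lit 23, nat_lit 24] (BT.pln (nat_lit 0) (nat_lit 6) (BT.img (nat_lit 1) (nat_lit 2) (BT.and (nat_lit 1) (nat_lit 0) (BT.cnt (nat_lit 0)))))) (BT.dead (nat_lit 126) (BT.frm (nat_lit 4) (nat_lit 0x494b483f443d3f4218390b) (nat_lit 0x4a4548443e3e3f06372538) [nat_lit 0, nat_lit 14, nat_lit 18, nat_lit 19, nat_lit 23, nat_lit 24] (BT.pln (nat_lit 0) (nat_lit 6) (BT.img (nat_lit 1) (nat_lit 2) (BT.and (nat_lit 1) (nat_lit 0)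 (BT.cnt (nat_lit 0)))))) (BT.dead (nat_lit 136) (BT.frm (nat_lit 4) (nat_lit 0x494b483f443d3f4218390b) (nat_lit 0x4548443e3e3f06372538) [nat_lit 0, nat_lit 14, nat_lit 18, nat_lit 19, nat_lit 23, nat_lit 24] (BT.pln (nat_lit 0) (nat_lit 6) (BT.img (nat_lit 1) (nat_lit 2) (BT.img (nat_lit 1) (nat_lit 0) (BT.img (nat_lit 1) (nat_lit 0) (BT.and (nat_lit 3) (nat_lit 0) (BT.cnt (nat_lit 0)))))))) BT.nil))))))))))))))))) (BT.dead (nat_lit 29) (BT.frm (nat_lit 3) (nat_lit 0x483f443d3f4218390b) (nat_lit 0x4547443e3e3f06372538) [nat_lit 0, nat_lit 4, nat_lit 5, nat_lit 9, nat_lit 10] (BT.pln (nat_lit 0) (nat_lit 5) (BT.img (nat_lit 1) (nat_lit 2) (BT.img (nat_lit 1) (nat_lit 0) (BT.img (nat_lit 1) (nat_lit 0) (BT.img (nat_lit 1) (nat_lit 0) (BT.img (nat_lit 1) (nat_lit 0) (BT.and (nat_lit 5) (nat_lit 0) (BT.cnt (nat_lit 0)))))))))) (BT.dead (nat_lit 45) (BT.frm (nat_lit 3) (nat_lit 0x483f443d3f4218390b) (nat_lit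 0x45443e3e3f06372538) [nat_lit 0, nat_lit 4, nat_lit 5, nat_lit 9, nat_lit 10] (BT.pln (nat_lit 0) (nat_lit 5) (BT.img (nat_lit 1) (nat_lit 2) (BT.and (nat_lit 1) (nat_lit 0) (BT.cnt (nat_lit 0)))))) BT.nil)))))))) BT.nil)))))) (BT.dead (nat_lit 10) (BT.img (nat_lit 1) (nat_lit 0) (BT.frm (nat_lit 0) (nat_lit 0x18390b) (nat_lit 198201) [nat_lit 0, nat_lit 1] (BT.pln (nat_lit 0) (nat_lit 3) (BT.and (nat_lit 4) (nat_lit 0) (BT.br (nat_lit 0) (nat_lit 52) [nat_lit 3] (BT.dead (nat_lit 42) (BT.frm (nat_lit 1) (nat_lit 0x3d3f4218390b) (nat_lit 0x3d3d3f030639) [nat_lit 0, nat_lit 4, nat_lit 5] (BT.pln (nat_lit 0) (nat_lit 7) (BT.img (nat_lit 1) (nat_lit 2) (BT.and (nat_lit 1) (nat_lit 0) (BT.cnt (nat_lit 0)))))) BT.nil)))))) (BT.dead (nat_lit 33) (BT.img (nat_lit 1) (nat_lit 0) (BT.frm (nat_lit 0) (nat_lit 0x18390b) (nat_lit 0x7373b25) [nat_lit 0, nat_lit 1] (BT.pln (nat_lit 0) (nat_lit 3) (BT.img (nat_lit 1)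 (nat_lit 2) (BT.and (nat_lit 1) (nat_lit 0) (BT.cnt (nat_lit 0))))))) (BT.kid (nat_lit 3) (nat_lit 18) (BT.img (nat_lit 1) (nat_lit 0) (BT.frm (nat_lit 0) (nat_lit 0x18390b) (nat_lit 0x18390b) [nat_lit 0, nat_lit 1] (BT.pln (nat_lit 0) (nat_lit 3) (BT.and (nat_lit 4) (nat_lit 0) (BT.br (nat_lit 0) (nat_lit 52) [nat_lit 3] (BT.kid (nat_lit 52) (nat_lit 6) (BT.img (nat_lit 1) (nat_lit 0) (BT.frm (nat_lit 2) (nat_lit 0x3f443d3f4218390b) (nat_lit 0x3f443d3f4218390b) [nat_lit 0, nat_lit 1, nat_lit 5, nat_lit 6] (BT.pln (nat_lit 0) (nat_lit 7) (BT.and (nat_lit 5) (nat_lit 0) (BT.br (nat_lit 0) (nat_lit 96) [nat_lit 5] (BT.dead (nat_lit 45) (BT.frm (nat_lit 3) (nat_lit 0x483f443d3f4218390b) (nat_lit 0x45473f443d3f4218390b) [nat_lit 0, nat_lit 4, nat_lit 5, nat_lit 9, nat_lit 10] (BT.pln (nat_lit 0) (nat_lit 5) (BT.img (nat_lit 1) (nat_lit 2) (BT.and (nat_lit 1) (nat_lit 0) (BT.cnt (nat_lit 0)))))) (BT.dead (nat_lit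 32) (BT.frm (nat_lit 3) (nat_lit 0x483f443d3f4218390b) (nat_lit 0x3f443d3f4218390b) [nat_lit 0, nat_lit 4, nat_lit 5, nat_lit 9, nat_lit 10] (BT.pln (nat_lit 0) (nat_lit 5) (BT.img (nat_lit 1) (nat_lit 2) (BT.img (nat_lit 1) (nat_lit 0) (BT.img (nat_lit 1) (nat_lit 0) (BT.img (nat_lit 1) (nat_lit 0) (BT.img (nat_lit 1) (nat_lit 0) (BT.and (nat_lit 5) (nat_lit 0) (BT.cnt (nat_lit 0)))))))))) (BT.kid (nat_lit 96) (nat_lit 3) (BT.dif (nat_lit 14) (nat_lit 2) (BT.pln (nat_lit 4) (nat_lit 4) (BT.dif (nat_lit 1) (nat_lit 0) (BT.pln (nat_lit 6) (nat_lit 5) (BT.dif (nat_lit 1) (nat_lit 0) (BT.pln (nat_lit 8) (nat_lit 6) (BT.dif (nat_lit 1) (nat_lit 0) (BT.dif (nat_lit 0) (nat_lit 18) (BT.frm (nat_lit 3) (nat_lit 0x483f443d3f4218390b) (nat_lit 0x483f443d3f4218390b) [nat_lit 8, nat_lit 12, nat_lit 13, nat_lit 17, nat_lit 18] (BT.pln (nat_lit 0) (nat_lit 5) (BT.dif (nat_lit 2) (nat_lit 0) (BT.pln (nat_lit 2) (nat_lit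 7) (BT.dif (nat_lit 1) (nat_lit 0) (BT.br (nat_lit 0) (nat_lit 126) [nat_lit 7] (BT.dead (nat_lit 302) (BT.frm (nat_lit 4) (nat_lit 0x494b483f443d3f4218390b) (nat_lit 0x4a4c483f443d3f4218390b) [nat_lit 0, nat_lit 14, nat_lit 18, nat_lit 19, nat_lit 23, nat_lit 24] (BT.pln (nat_lit 0) (nat_lit 6) (BT.img (nat_lit 1) (nat_lit 2) (BT.and (nat_lit 1) (nat_lit 0) (BT.cnt (nat_lit 0)))))) (BT.dead (nat_lit 136) (BT.frm (nat_lit 4) (nat_lit 0x494b483f443d3f4218390b) (nat_lit 0x4b483f443d3f4218390b) [nat_lit 0, nat_lit 14, nat_lit 18, nat_lit 19, nat_lit 23, nat_lit 24] (BT.pln (nat_lit 0) (nat_lit 6) (BT.img (nat_lit 1) (nat_lit 2) (BT.and (nat_lit 1) (nat_lit 0) (BT.cnt (nat_lit 0)))))) (BT.kid (nat_lit 126) (nat_lit 1) (BT.one (nat_lit 4) (nat_lit 0x494b483f443d3f4218390b) (nat_lit 0x494b483f443d3f4218390b) [nat_lit 0, nat_lit 14, nat_lit 18, nat_lit 19, nat_lit 23, nat_lit 24]) BT.nil))))))))))))))))) BT.nil))))))))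 BT.nil)))))) BT.nil))))))

theorem yt_c88_cnt : Cnt 324 (grp 324 y_E0) [z_g1095] [z_g1095] 0 0 0 0 54 :=
  BT.sound yt_c88_cnt_P Known.nil (t := yt_c88_cnt_t) (d := 0) (by decide +kernel)

theorem yt_c88_ge : 54 ≤ Nat.card (grp 324 yt_c88_K) :=
  Ch.le_card_grp (k := 9) (L := (lab 324 9)) z_hn yt_c88_K_ok (c := (Ch.cons (nat_lit 3) [nat_lit 1] (Ch.cons (nat_lit 52) [nat_lit 3] (Ch.cons (nat_lit 96) [nat_lit 5] (Ch.cons (nat_lit 126) [nat_lit 7] Ch.nil))))) (by decide +kernel)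

theorem yt_c88_eq : (grp 324 y_E0) ⊓ Subgroup.centralizer {Net.toPerm 324 z_g1095} = grp 324 yt_c88_K :=
  cent_eq yt_c88_sym yt_c88_cnt yt_c88_ge

theorem yt_c88_card : Nat.card ↥((grp 324 y_E0) ⊓ Subgroup.centralizer {Net.toPerm 324 z_g1095}) = 54 :=
  card_cent yt_c88_sym yt_c88_cnt yt_c88_ge

theorem yt_c88_ord : orderOf (Net.toPerm 324 z_g1095) = 6 :=
  orderOf_net z_hn z_hk z_g1095_ok (by decide) (ps := [2, 3]) (by set_option linter.unusedSimpArgs false in simp [Nat.primeFactorsList_ofNat]) (by decide +kernel)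

theorem z_le1104 : grp 324 yt_c89_K ≤ grp 324 y_E0 :=
  grp_le_of_memB z_hn z_hk y_E0_ok yt_c89_K_ok (ws := [nat_lit 0x352f251f1920120901010f, nat_lit 0x33351f1b1a0f070a01052b, nat_lit 0x3b271a1e0f12070a012305, nat_lit 0x342f271f1a1e070a010715]) (by decide +kernel)

theorem yt_c89_le : grp 324 yt_c89_K ≤ (grp 324 y_E0) :=
  (z_le1104.trans z_T111_s0.le)

theorem yt_c89_mem : Net.toPerm 324 z_g1100 ∈ (grp 324 y_E0) :=
  yt_c89_le (toPerm_mem_grp (E := yt_c89_K) (List.Mem.head _))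

theorem yt_c89_sym : Sym 324 (grp 324 y_E0) [z_g1100] yt_c89_K 0 :=
  Sym.of_lab z_hn z_hk (okE_cons.2 ⟨z_g1100_ok, okE_nil _⟩) yt_c89_K_ok yt_c89_le (kT := 0) (by decide +kernel)

noncomputable def yt_c89_cnt_L : List ℕ := [1, 4, z_T111_s1_O, 0, 0, 4, 19, z_T111_s22_O, 0, 0, 6, 12, z_T111_s55_O, 0, 0, 7, 14, z_T111_s56_O, 0, 0, 8, 17, z_T111_s57_O, 1, 0]

theorem yt_c89_cnt_P : Prob 324 9 (grp 324 y_E0) yt_c89_cnt_EG [z_g1100] [z_g1100] yt_c89_K yt_c89_cnt_L 0 0 :=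
  Sym.prob z_hn z_hk yt_c89_sym yt_c89_cnt_EG_ok (grp_cons_le z_g39_z_T111 (grp_cons_le zg1_z_T111 (grp_cons_le zg3_z_T111 (grp_cons_le z_g43_z_T111 (grp_cons_le z_g42_z_T111 (grp_cons_le zg2_z_T111 (grp_cons_le z_g44_z_T111 (grp_cons_le z_g54_z_T111 (grp_cons_le z_g55_z_T111 (grp_cons_le z_g49_z_T111 (grp_cons_le z_g50_z_T111 (grp_cons_le z_g51_z_T111 (grp_cons_le z_g62_z_T111 (grp_cons_le z_g58_z_T111 (grp_cons_le z_g59_z_T111 (grp_cons_le z_g65_z_T111 (grp_cons_le z_g66_z_T111 (grp_cons_le z_g67_z_T111 (grp_cons_le z_g77_z_T111 (grp_cons_le z_g78_z_T111 (grp_cons_le z_g72_z_T111 (grp_cons_le z_g73_z_T111 (grp_cons_le z_g74_z_T111 (grp_cons_le z_g81_z_T111 (grp_cons_le z_g82_z_T111 (grp_cons_le z_g87_z_T111 (grp_cons_le zg0_z_T111 (grp_cons_le z_g91_z_T111 (grp_cons_le z_g28_z_T111 (grp_cons_le z_g88_z_T111 (grp_cons_le z_g391_z_T111 (grp_cons_le z_g392_z_T111 (grp_cons_le z_g135_z_T111 (grp_cons_le z_g393_z_T111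 (grp_cons_le z_g394_z_T111 (grp_nil_le _)))))))))))))))))))))))))))))))))))) (Frames.cons z_T111_s1_F (Frames.cons z_T111_s22_F (Frames.cons z_T111_s55_F (Frames.cons z_T111_s56_F (Frames.cons z_T111_s57_F Frames.nil))))) (okE_cons.2 ⟨z_g1100_ok, okE_nil _⟩) _

noncomputable def yt_c89_cnt_t : BT := (BT.fix (nat_lit 65793) (BT.br (nat_lit 0) (nat_lit 73) [nat_lit 1, nat_lit 3] (BT.dead (nat_lit 106) (BT.frm (nat_lit 0) (nat_lit 549) (nat_lit 555) [nat_lit 0] (BT.pln (nat_lit 0) (nat_lit 2) (BT.and (nat_lit 0) (nat_lit 3) (BT.cnt (nat_lit 0))))) (BT.kid (nat_lit 73) (nat_lit 6) (BT.frm (nat_lit 0) (nat_lit 549) (nat_lit 549) [nat_lit 0] (BT.pln (nat_lit 0) (nat_lit 2) (BT.and (nat_lit 3) (nat_lit 0) (BT.br (nat_lit 0) (nat_lit 146) [nat_lit 5] (BT.kid (nat_lit 146) (nat_lit 2) (BT.img (nat_lit 1) (nat_lit 4) (BT.img (nat_lit 1) (nat_lit 0) (BT.frm (nat_lit 1) (nat_lit 0x191b12090225) (nat_lit 0x191b12090225)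 [nat_lit 2, nat_lit 0, nat_lit 1, nat_lit 6] (BT.pln (nat_lit 0) (nat_lit 12) (BT.and (nat_lit 6) (nat_lit 0) (BT.br (nat_lit 0) (nat_lit 309) [nat_lit 7] (BT.kid (nat_lit 309) (nat_lit 1) (BT.pln (nat_lit 9) (nat_lit 1) (BT.img (nat_lit 1) (nat_lit 7) (BT.and (nat_lit 10) (nat_lit 13) (BT.dif (nat_lit 0) (nat_lit 9) (BT.dif (nat_lit 0) (nat_lit 2) (BT.frm (nat_lit 2) (nat_lit 0x3f2d191b12090225) (nat_lit 0x3f2d191b12090225) [nat_lit 3, nat_lit 0, nat_lit 11, nat_lit 9, nat_lit 10, nat_lit 15] (BT.pln (nat_lit 0) (nat_lit 7) (BT.and (nat_lit 6) (nat_lit 0) (BT.pln (nat_lit 2) (nat_lit 6) (BT.dif (nat_lit 1) (nat_lit 0) (BT.pln (nat_lit 4) (nat_lit 8) (BT.and (nat_lit 1) (nat_lit 0) (BT.frm (nat_lit 3) (nat_lit 0x3f2d191b12090225) (nat_lit 0x3f2d191b12090225) [nat_lit 12, nat_lit 10, nat_lit 7, nat_lit 18, nat_lit 16, nat_lit 17, nat_lit 22] (BT.pln (nat_lit 0) (nat_lit 12) (BT.dif (nat_lit 2) (nat_lit 0)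 (BT.dif (nat_lit 5) (nat_lit 4) (BT.pln (nat_lit 3) (nat_lit 7) (BT.dif (nat_lit 1) (nat_lit 0) (BT.and (nat_lit 17) (nat_lit 4) (BT.img (nat_lit 1) (nat_lit 0) (BT.and (nat_lit 19) (nat_lit 0) (BT.pln (nat_lit 8) (nat_lit 9) (BT.dif (nat_lit 1) (nat_lit 0) (BT.img (nat_lit 1) (nat_lit 0) (BT.and (nat_lit 6) (nat_lit 0) (BT.img (nat_lit 1) (nat_lit 0) (BT.and (nat_lit 11) (nat_lit 0) (BT.one (nat_lit 4) (nat_lit 0x43453f2d191b12090225) (nat_lit 0x43453f2d191b12090225) [nat_lit 0, nat_lit 27, nat_lit 25, nat_lit 22, nat_lit 33, nat_lit 31, nat_lit 32, nat_lit 37])))))))))))))))))))))))))))) BT.nil))))))) BT.nil))))) BT.nil))))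

theorem yt_c89_cnt : Cnt 324 (grp 324 y_E0) [z_g1100] [z_g1100] 0 0 0 0 54 :=
  BT.sound yt_c89_cnt_P Known.nil (t := yt_c89_cnt_t) (d := 0) (by decide +kernel)

theorem yt_c89_ge : 54 ≤ Nat.card (grp 324 yt_c89_K) :=
  Ch.le_card_grp (k := 9) (L := (lab 324 9)) z_hn yt_c89_K_ok (c := (Ch.cons (nat_lit 73) [nat_lit 1, nat_lit 3] (Ch.cons (nat_lit 146) [nat_lit 5] (Ch.cons (nat_lit 309) [nat_lit 7] Ch.nil)))) (by decide +kernel)

theorem yt_c89_eq : (grp 324 y_E0) ⊓ Subgroup.centralizer {Net.toPerm 324 z_g1100} = grp 324 yt_c89_K :=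
  cent_eq yt_c89_sym yt_c89_cnt yt_c89_ge

theorem yt_c89_card : Nat.card ↥((grp 324 y_E0) ⊓ Subgroup.centralizer {Net.toPerm 324 z_g1100}) = 54 :=
  card_cent yt_c89_sym yt_c89_cnt yt_c89_ge

theorem yt_c89_ord : orderOf (Net.toPerm 324 z_g1100) = 6 :=
  orderOf_net z_hn z_hk z_g1100_ok (by decide) (ps := [2, 3]) (by set_option linter.unusedSimpArgs false in simp [Nat.primeFactorsList_ofNat]) (by decide +kernel)

theorem z_le1110 : grp 324 yt_c90_K ≤ grp 324 y_E0 :=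
  grp_le_of_memB z_hn z_hk y_E0_ok yt_c90_K_ok (ws := [nat_lit 0x3826191f120703070c, nat_lit 0x33382b1b1a1501051f, nat_lit 0x38291f1b1a12070a011101, nat_lit 0x3339251f1d1f, nat_lit 0x33353c]) (by decide +kernel)

theorem yt_c90_le : grp 324 yt_c90_K ≤ (grp 324 y_E0) :=
  (z_le1110.trans z_T111_s0.le)

theorem yt_c90_mem : Net.toPerm 324 z_g1105 ∈ (grp 324 y_E0) :=
  yt_c90_le (toPerm_mem_grp (E := yt_c90_K) (List.Mem.head _))

theorem yt_c90_sym : Sym 324 (grp 324 y_E0) [z_g1105] yt_c90_K 0 :=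
  Sym.of_lab z_hn z_hk (okE_cons.2 ⟨z_g1105_ok, okE_nil _⟩) yt_c90_K_ok yt_c90_le (kT := 0) (by decide +kernel)

theorem z_le1116 : grp 324 z_V1115 ≤ grp 324 z_V678 :=
  grp_le_of_memB z_hn z_hk z_V678_ok z_V1115_ok (ws := [nat_lit 0xb0607030b0401, nat_lit 0x906030604, nat_lit 0xb05070405, nat_lit 0xc0607030b, nat_lit 0x90b050703050a, nat_lit 0xa0b05070305, nat_lit 0xa0c050308]) (by decide +kernel)

theorem z_T111_s161 : Stab 324 (grp 324 y_E0) [nat_lit 217, nat_lit 2, nat_lit 298, nat_lit 0] z_V1115 648 :=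
  Stab.step (k := 9) (L := (lab 324 9)) z_hn z_T111_s103 z_V1115_ok z_le1116 (c := (Ch.cons (nat_lit 5) [nat_lit 1] (Ch.cons (nat_lit 8) [nat_lit 3, nat_lit 5] (Ch.cons (nat_lit 18) [nat_lit 7, nat_lit 9] (Ch.cons (nat_lit 10) [nat_lit 11] (Ch.cons (nat_lit 305) [nat_lit 13] Ch.nil)))))) (by decide +kernel)

theorem z_T111_s162 : Stab 324 (grp 324 y_E0) [nat_lit 5, nat_lit 217, nat_lit 2, nat_lit 298, nat_lit 0] z_V1117 324 :=
  Stab.step (k := 9) (L := (lab 324 9)) z_hn z_T111_s161 z_V1117_ok (grp_mono (List.subset_append_right [z_g1111] _)) (c := (Ch.cons (nat_lit 8) [nat_lit 1, nat_lit 3] (Ch.cons (nat_lit 18) [nat_lit 5, nat_lit 7] (Ch.cons (nat_lit 10) [nat_lit 9] (Ch.cons (nat_lit 305) [nat_lit 11] Ch.nil))))) (by decide +kernel)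

theorem z_T111_s163 : Stab 324 (grp 324 y_E0) [nat_lit 8, nat_lit 5, nat_lit 217, nat_lit 2, nat_lit 298, nat_lit 0] z_V1118 36 :=
  Stab.step (k := 9) (L := (lab 324 9)) z_hn z_T111_s162 z_V1118_ok (grp_mono (List.subset_append_right [z_g888, z_g1112] _)) (c := (Ch.cons (nat_lit 18) [nat_lit 1, nat_lit 3] (Ch.cons (nat_lit 10) [nat_lit 5] (Ch.cons (nat_lit 305) [nat_lit 7] Ch.nil)))) (by decide +kernel)

theorem z_T111_s164 : Stab 324 (grp 324 y_E0) [nat_lit 18, nat_lit 8, nat_lit 5, nat_lit 217, nat_lit 2, nat_lit 298, nat_lit 0] z_V1119 4 :=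
  Stab.step (k := 9) (L := (lab 324 9)) z_hn z_T111_s163 z_V1119_ok (grp_mono (List.subset_append_right [z_g1113, z_g246] _)) (c := (Ch.cons (nat_lit 10) [nat_lit 1] (Ch.cons (nat_lit 305) [nat_lit 3] Ch.nil))) (by decide +kernel)

theorem z_T111_s165 : Stab 324 (grp 324 y_E0) [nat_lit 10, nat_lit 18, nat_lit 8, nat_lit 5, nat_lit 217, nat_lit 2, nat_lit 298, nat_lit 0] z_V1120 2 :=
  Stab.step (k := 9) (L := (lab 324 9)) z_hn z_T111_s164 z_V1120_ok (grp_mono (List.subset_append_right [z_g1114] _)) (c := (Ch.cons (nat_lit 305) [nat_lit 1] Ch.nil)) (by decide +kernel)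

theorem z_T111_s166 : Stab 324 (grp 324 y_E0) [nat_lit 305, nat_lit 10, nat_lit 18, nat_lit 8, nat_lit 5, nat_lit 217, nat_lit 2, nat_lit 298, nat_lit 0] z_V1121 1 :=
  Stab.step (k := 9) (L := (lab 324 9)) z_hn z_T111_s165 z_V1121_ok (grp_mono (List.subset_append_right [z_g217] _)) (c := Ch.nil) (by decide +kernel)

theorem z_g1111_z_T111 : Net.toPerm 324 z_g1111 ∈ (grp 324 y_E0) :=
  z_T111_s161.le (toPerm_mem_grp (E := z_V1115) (List.Mem.head _))

theorem z_g1112_z_T111 : Net.toPerm 324 z_g1112 ∈ (grp 324 y_E0) :=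
  z_T111_s161.le (toPerm_mem_grp (E := z_V1115) (List.Mem.tail _ (List.Mem.tail _ (List.Mem.head _))))

theorem z_g1113_z_T111 : Net.toPerm 324 z_g1113 ∈ (grp 324 y_E0) :=
  z_T111_s161.le (toPerm_mem_grp (E := z_V1115) (List.Mem.tail _ (List.Mem.tail _ (List.Mem.tail _ (List.Mem.head _)))))

theorem z_g246_z_T111 : Net.toPerm 324 z_g246 ∈ (grp 324 y_E0) :=
  z_T111_s161.le (toPerm_mem_grp (E := z_V1115) (List.Mem.tail _ (List.Mem.tail _ (List.Mem.tail _ (List.Mem.tail _ (List.Mem.head _))))))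

theorem z_g1114_z_T111 : Net.toPerm 324 z_g1114 ∈ (grp 324 y_E0) :=
  z_T111_s161.le (toPerm_mem_grp (E := z_V1115) (List.Mem.tail _ (List.Mem.tail _ (List.Mem.tail _ (List.Mem.tail _ (List.Mem.tail _ (List.Mem.head _)))))))

noncomputable def z_T111_s166_O : ℕ := (nat_lit 0xfffffffffffffffff000000000000000000000000000000000000000000000000000000000000000000000000000000000ffffffffffffffffffffffffffffffff00000000000000000000000000000000f0000000000000000ffffffffffffffff0000000000000000ffffffffffffffff00000000000000000ffffffff00000000ffffffff00000000ffffffff00000000ffffffff00000000ffffffff000000000ffff0000ffff0000ffff0000ffff0000ffff0000ffff0000ffff0000ffff0000ffff0000ffff00000ff00ff00ff00ff00ff00ff00ff00ff00ff00ff00ff00ff00ff00ff00ff00ff00ff00ff00ff00ff000f0f0f0f0f0f0f0f0f0f0f0f0f0f0f0f0f0f0f0f0f0f0f0f0f0f0f0f0f0f0f0f0f0f0f0f0f0f0f0f0cccccccccccccccccccccccccccccccccccccccccccccccccccccccccccccccccccccccc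cccccccccaaaaaaaaaaaaaaaaaaaaaaaaaaaaaaaaaaaaaaaaaaaaaaaaaaaaaaaaaaaaaaaaaaaaaaaaaaaaaaaaa000000000000000000000000000000000000000000000000000000000000000000000000000000001000000400000000000000000000000000000000000000000000000000000000000000000000000000000000000000000000000000000000000000000000000000000000000000000000000000000000004000000000000000000000000002000000000000000000000000000000000000000000000000000000000000000000000000000000000000000000000000000000000000000000000000000000000000020000000000000000000000000000000000000000000000000000000000000000000000000000000100000000000000000000000000000000000000000000000000000000000000000000000000000040000000000000000000000000000000000000000000000000000000000000000000000000000000000400000020000000000000000000000000000000000000000000000000000000000000000000000000000)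

theorem z_T111_s166_F : Frame 324 (grp 324 y_E0) 9 18 z_T111_s166_O 1 1 :=
  IsBase.frame z_T111_s166.isBase (by decide +kernel)

noncomputable def z_T111_s165_O : ℕ := (nat_lit 0xc161650553d38f385e15641040000000000000000004000000000000000104020000000000803fada1e921a828c2c7083216a116f8fdff667acbc2baffe7bdfbfbdffd9a000000000000000000000000002c0e9a1a2c0c204721ca1977ced5e6f6aebf27f9e98400404200264fdefffffafe000000008020000b4f4782b85a46002a0a01bef06cdefff30011c56072bfabfc000045fdffe000501fff7c000001fada248c9d9c5e575bb8a12a8bef369609018ebfef16067bb540359c024fed00dbe001ff083f70001fa80168f13be667fe4879f9009716119e510dff0d8ad06bc2ed83523d44f13e1ba18c1e0fc3c8f001e05ae546f4149270ad45b9c659dce619dbe91d4ea8f4c6d34f4630f3890cf298959e3998e3334c66198503deb4fbd20661e66922f3934b591ba07998702cca576e8a52eaa4c8a9a54cd55a5569aabaad515248000000000000000000000000000000000000000000000000000000000000000000000000000000001000000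400000000000000000000000000000000000000000000000000000000000000000000000000000000000000000000000000000000000000000000000000000000000000000000000000000000004000000000000000000000000002000000000000000000000000000000000000000000000000000000000000000000000000000000000000000000000000000000000000000000000000000000000000020000000000000000000000000000000000000000000000000000000000000000000000000000000100000000000000000000000000000000000000000000000000000000000000000000000000000040000000000000000000000000000000000000000000000000000000000000000000000000000000000400)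

theorem z_T111_s165_F : Frame 324 (grp 324 y_E0) 8 16 z_T111_s165_O 0 1 :=
  Stab.frame z_hn z_T111_s165 (by decide +kernel)

noncomputable def z_T111_s164_O : ℕ := (nat_lit 0x808230020420000020013055c60986600000008280241a0000000000000104020000000000ffbfeda777d41955bdff59b5ebc4d220916708108010771185ac1bdedffddedccda8800000000000000000001a51cf0cbbda3be6c630049a418679008280090d27d5e5bfb3fffb02130566fafff80000008022a907c14832433de43fb01404b3860502017be89783d765f41fda99002edda2176e0f807fc2c007f9d44a0957d58a1e1e5d1cb28faa7f1606057792bca7c1308b407d8e2fa6ae36f052fb0787e09370ffa200037c0d5a2f987bbbd0cd7236cc543c486a3f61d22d33570de6f0c70f1a58e3392c66714434ce618e40418009386daf7447906778277d85fae8938ead354f78a8792aaa4ccb564dd352a556993baa5534c88000000000000000000000000000000000000000000000000000000000000000000000000000000001000000400000000000000000000000000000000000000000000000000000000000000000000000000000000000000000000000000000000000000000000000000000000000000000000000000000000004000000000000000000000000002000000000000000000000000000000000000000000000000000000000000000000000000000000000000000000000000000000000000000000000000000000000000020000000000000000000000000000000000000000000000000000000000000000000000000000000100000000000000000000000000000000000000000000000000000000000000000000000000000040000)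

theorem z_T111_s164_F : Frame 324 (grp 324 y_E0) 7 14 z_T111_s164_O 0 1 :=
  Stab.frame z_hn z_T111_s164 (by decide +kernel)

noncomputable def z_T111_s163_O : ℕ := (nat_lit 0x10400000000000000000040000000000000001040200000000008022800000000000000000000000010400000000000000000000000000000000000000000000000007fdd6dafefff79fde5fbfb9be9041690b0bc5e1000001b938a743bfcd1df6e7c1cbacaa5ba000000000106901b938a343bfcd1df6e7c1caa8a85ba0000000fefff7dfde5fbfb9be9041790b0bc5e100000802c2c875bb059917966987a3af69358f51f070bf8f76f2887cd0dcaf81e8cbccb09f100706e40708800b252000000000000000000000000000000000000000000000000000000000000000000000000000000001000000400000000000000000000000000000000000000000000000000000000000000000000000000000000000000000000000000000000000000000000000000000000000000000000000000000000004000000000000000000000000002000000000000000000000000000000000000000000000000000000000000000000000000000000000000000000000000000000000000000000000000000000000000020000000000000000000000000000000000000000000000000000000000000000000000000000000100)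

theorem z_T111_s163_F : Frame 324 (grp 324 y_E0) 6 11 z_T111_s163_O 0 1 :=
  Stab.frame z_hn z_T111_s163 (by decide +kernel)

noncomputable def z_T111_s162_O : ℕ := (nat_lit 0x10400000000000000000040000000000000001040200000000008000000000000000000000000000000000000000000000000000000000000000000000000000000007ffffdafefff79fde5fbfb9be9041794b0bc5e1000001b938a743bfcd1df6e7c1caa8a85ba00000000022a001b938a343bfcd1df6e7c1cba8a85ba0000000fefff79fde5fbfb9be9041794b0bc5e100000002209075bb059917966987a3af6925cf51f070bf8f76f28878d0dcaf81e8cbccb19b120706e407087fe0880000000000000000000000000000000000000000000000000000000000000000000000000000000001000000400000000000000000000000000000000000000000000000000000000000000000000000000000000000000000000000000000000000000000000000000000000000000000000000000000000004000000000000000000000000002000000000000000000000000000000000000000000000000000000000000000000000000000000000000000000000000000000000000000000000000000000000000020)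

theorem z_T111_s162_F : Frame 324 (grp 324 y_E0) 5 10 z_T111_s162_O 0 1 :=
  Stab.frame z_hn z_T111_s162 (by decide +kernel)

noncomputable def yt_c90_cnt_L : List ℕ := [1, 4, z_T111_s1_O, 0, 0, 5, 10, z_T111_s162_O, 0, 0, 6, 11, z_T111_s163_O, 0, 0, 7, 14, z_T111_s164_O, 0, 0, 8, 16, z_T111_s165_O, 0, 0, 9, 18, z_T111_s166_O, 1, 0]

theorem yt_c90_cnt_P : Prob 324 9 (grp 324 y_E0) yt_c90_cnt_EG [z_g1105] [z_g1105] yt_c90_K yt_c90_cnt_L 0 0 :=
  Sym.prob z_hn z_hk yt_c90_sym yt_c90_cnt_EG_ok (grp_cons_le z_g39_z_T111 (grp_cons_le zg1_z_T111 (grp_cons_le zg3_z_T111 (grp_cons_le z_g43_z_T111 (grp_cons_le z_g42_z_T111 (grp_cons_le zg2_z_T111 (grp_cons_le z_g44_z_T111 (grp_cons_le z_g54_z_T111 (grp_cons_le z_g55_z_T111 (grp_cons_le z_g49_z_T111 (grp_cons_le z_g50_z_T111 (grp_cons_le z_g51_z_T111 (grp_cons_le z_g62_z_T111 (grp_cons_le z_g58_z_T111 (grp_cons_le z_g59_z_T111 (grp_cons_le z_g65_z_T111 (grp_cons_le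 z_g66_z_T111 (grp_cons_le z_g67_z_T111 (grp_cons_le z_g77_z_T111 (grp_cons_le z_g78_z_T111 (grp_cons_le z_g72_z_T111 (grp_cons_le z_g73_z_T111 (grp_cons_le z_g74_z_T111 (grp_cons_le z_g81_z_T111 (grp_cons_le z_g82_z_T111 (grp_cons_le z_g87_z_T111 (grp_cons_le zg0_z_T111 (grp_cons_le z_g91_z_T111 (grp_cons_le z_g28_z_T111 (grp_cons_le z_g88_z_T111 (grp_cons_le z_g1111_z_T111 (grp_cons_le z_g888_z_T111 (grp_cons_le z_g1112_z_T111 (grp_cons_le z_g1113_z_T111 (grp_cons_le z_g246_z_T111 (grp_cons_le z_g1114_z_T111 (grp_cons_le z_g217_z_T111 (grp_cons_le z_g672_z_T111 (grp_cons_le z_g673_z_T111 (grp_cons_le z_g674_z_T111 (grp_cons_le z_g675_z_T111 (grp_cons_le z_g676_z_T111 (grp_cons_le z_g677_z_T111 (grp_cons_le z_g126_z_T111 (grp_cons_le z_g127_z_T111 (grp_cons_le z_g128_z_T111 (grp_cons_le z_g129_z_T111 (grp_cons_le z_g130_z_T111 (grp_cons_le z_g131_z_T111 (grp_cons_le z_g132_z_T111 (grp_cons_le z_g133_z_T111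 (grp_cons_le z_g134_z_T111 (grp_cons_le z_g135_z_T111 (grp_nil_le _)))))))))))))))))))))))))))))))))))))))))))))))))))))) (Frames.cons z_T111_s1_F (Frames.cons z_T111_s162_F (Frames.cons z_T111_s163_F (Frames.cons z_T111_s164_F (Frames.cons z_T111_s165_F (Frames.cons z_T111_s166_F Frames.nil)))))) (okE_cons.2 ⟨z_g1105_ok, okE_nil _⟩) _

noncomputable def yt_c90_cnt_t : BT := (BT.fix (nat_lit 257) (BT.fix (nat_lit 1) (BT.dif (nat_lit 1) (nat_lit 0) (BT.br (nat_lit 0) (nat_lit 5) [nat_lit 3] (BT.kid (nat_lit 5) (nat_lit 32) (BT.frm (nat_lit 0) (nat_lit 80642) (nat_lit 80642) [nat_lit 0] (BT.pln (nat_lit 0) (nat_lit 3) (BT.br (nat_lit 0) (nat_lit 0) [nat_lit 5] (BT.kid (nat_lit 0) (nat_lit 4) (BT.pln (nat_lit 2) (nat_lit 2) (BT.dif (nat_lit 0) (nat_lit 7) (BT.img (nat_lit 1) (nat_lit 3) (BT.dif (nat_lit 1) (nat_lit 0) (BT.pln (nat_lit 6) (nat_lit 1) (BT.dif (nat_lit 10) (nat_lit 0) (BT.img (nat_lit 1) (nat_lit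 6) (BT.img (nat_lit 1) (nat_lit 0) (BT.img (nat_lit 1) (nat_lit 11) (BT.frm (nat_lit 1) (nat_lit 0x5709013b02) (nat_lit 0x5709013b02) [nat_lit 1, nat_lit 2, nat_lit 9, nat_lit 0, nat_lit 12] (BT.pln (nat_lit 0) (nat_lit 5) (BT.dif (nat_lit 5) (nat_lit 0) (BT.frm (nat_lit 2) (nat_lit 0x40415709013b02) (nat_lit 0x40415709013b02) [nat_lit 0, nat_lit 4, nat_lit 5, nat_lit 12, nat_lit 3, nat_lit 15] (BT.pln (nat_lit 0) (nat_lit 8) (BT.and (nat_lit 10) (nat_lit 0) (BT.br (nat_lit 0) (nat_lit 8) [nat_lit 7] (BT.kid (nat_lit 8) (nat_lit 2) (BT.pln (nat_lit 3) (nat_lit 6) (BT.dif (nat_lit 3) (nat_lit 0) (BT.pln (nat_lit 5) (nat_lit 7) (BT.dif (nat_lit 1) (nat_lit 0) (BT.dif (nat_lit 0) (nat_lit 19) (BT.and (nat_lit 15) (nat_lit 10) (BT.frm (nat_lit 3) (nat_lit 0x4440415709013b02) (nat_lit 0x4440415709013b02) [nat_lit 0, nat_lit 10, nat_lit 14, nat_lit 15, nat_lit 22, nat_lit 13, nat_lit 25] (BT.pln (nat_lit 0) (nat_lit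 13) (BT.and (nat_lit 3) (nat_lit 0) (BT.pln (nat_lit 2) (nat_lit 8) (BT.dif (nat_lit 1) (nat_lit 0) (BT.frm (nat_lit 4) (nat_lit 0x4440415709013b02) (nat_lit 0x4440415709013b02) [nat_lit 11, nat_lit 5, nat_lit 15, nat_lit 19, nat_lit 20, nat_lit 27, nat_lit 18, nat_lit 30] (BT.pln (nat_lit 0) (nat_lit 10) (BT.dif (nat_lit 2) (nat_lit 0) (BT.br (nat_lit 0) (nat_lit 196) [nat_lit 9] (BT.kid (nat_lit 196) (nat_lit 1) (BT.one (nat_lit 5) (nat_lit 0x4440415709013b02) (nat_lit 0x4440415709013b02) [nat_lit 0, nat_lit 15, nat_lit 9, nat_lit 19, nat_lit 23, nat_lit 24, nat_lit 31, nat_lit 22, nat_lit 34]) BT.nil)))))))))))))))) BT.nil))))))))))))))))) BT.nil)))) BT.nil)))))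

theorem yt_c90_cnt : Cnt 324 (grp 324 y_E0) [z_g1105] [z_g1105] 0 0 0 0 192 :=
  BT.sound yt_c90_cnt_P Known.nil (t := yt_c90_cnt_t) (d := 0) (by decide +kernel)

theorem yt_c90_ge : 192 ≤ Nat.card (grp 324 yt_c90_K) :=
  Ch.le_card_grp (k := 9) (L := (lab 324 9)) z_hn yt_c90_K_ok (c := (Ch.cons (nat_lit 5) [nat_lit 1, nat_lit 3] (Ch.cons (nat_lit 0) [nat_lit 5] (Ch.cons (nat_lit 8) [nat_lit 7] (Ch.cons (nat_lit 196) [nat_lit 9] Ch.nil))))) (by decide +kernel)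

theorem yt_c90_eq : (grp 324 y_E0) ⊓ Subgroup.centralizer {Net.toPerm 324 z_g1105} = grp 324 yt_c90_K :=
  cent_eq yt_c90_sym yt_c90_cnt yt_c90_ge

theorem yt_c90_card : Nat.card ↥((grp 324 y_E0) ⊓ Subgroup.centralizer {Net.toPerm 324 z_g1105}) = 192 :=
  card_cent yt_c90_sym yt_c90_cnt yt_c90_ge

theorem yt_c90_ord : orderOf (Net.toPerm 324 z_g1105) = 8 :=
  orderOf_net z_hn z_hk z_g1105_ok (by decide) (ps := [2]) (by set_option linter.unusedSimpArgs false in simp [Nat.primeFactorsList_ofNat]) (by decide +kernel)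

theorem z_le1125 : grp 324 yt_c91_K ≤ grp 324 y_E0 :=
  grp_le_of_memB z_hn z_hk y_E0_ok yt_c91_K_ok (ws := [nat_lit 0x33352f26281c0307, nat_lit 0x33352f192015070105, nat_lit 0x3538281f190f1208022501, nat_lit 0x38251f1d1f, nat_lit 0x33353c]) (by decide +kernel)

theorem yt_c91_le : grp 324 yt_c91_K ≤ (grp 324 y_E0) :=
  (z_le1125.trans z_T111_s0.le)

theorem yt_c91_mem : Net.toPerm 324 z_g1122 ∈ (grp 324 y_E0) :=
  yt_c91_le (toPerm_mem_grp (E := yt_c91_K) (List.Mem.head _))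

theorem yt_c91_sym : Sym 324 (grp 324 y_E0) [z_g1122] yt_c91_K 0 :=
  Sym.of_lab z_hn z_hk (okE_cons.2 ⟨z_g1122_ok, okE_nil _⟩) yt_c91_K_ok yt_c91_le (kT := 0) (by decide +kernel)

noncomputable def yt_c91_cnt_L : List ℕ := [1, 4, z_T111_s1_O, 0, 0, 5, 10, z_T111_s162_O, 0, 0, 6, 11, z_T111_s163_O, 0, 0, 7, 14, z_T111_s164_O, 0, 0, 8, 16, z_T111_s165_O, 0, 0, 9, 18, z_T111_s166_O, 1, 0]

theorem yt_c91_cnt_P : Prob 324 9 (grp 324 y_E0) yt_c91_cnt_EG [z_g1122] [z_g1122] yt_c91_K yt_c91_cnt_L 0 0 :=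
  Sym.prob z_hn z_hk yt_c91_sym yt_c91_cnt_EG_ok (grp_cons_le z_g39_z_T111 (grp_cons_le zg1_z_T111 (grp_cons_le zg3_z_T111 (grp_cons_le z_g43_z_T111 (grp_cons_le z_g42_z_T111 (grp_cons_le zg2_z_T111 (grp_cons_le z_g44_z_T111 (grp_cons_le z_g54_z_T111 (grp_cons_le z_g55_z_T111 (grp_cons_le z_g49_z_T111 (grp_cons_le z_g50_z_T111 (grp_cons_le z_g51_z_T111 (grp_cons_le z_g62_z_T111 (grp_cons_le z_g58_z_T111 (grp_cons_le z_g59_z_T111 (grp_cons_le z_g65_z_T111 (grp_cons_le z_g66_z_T111 (grp_cons_le z_g67_z_T111 (grp_cons_le z_g77_z_T111 (grp_cons_le z_g78_z_T111 (grp_cons_le z_g72_z_T111 (grp_cons_le z_g73_z_T111 (grp_cons_le z_g74_z_T111 (grp_cons_le z_g81_z_T111 (grp_cons_le z_g82_z_T111 (grp_cons_le z_g87_z_T111 (grp_cons_le zg0_z_T111 (grp_cons_le z_g91_z_T111 (grp_cons_le z_g28_z_T111 (grp_cons_le z_g88_z_T111 (grp_cons_le z_g1111_z_T111 (grp_cons_le z_g888_z_T111 (grp_cons_le z_g1112_z_T111 (grp_cons_le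 z_g1113_z_T111 (grp_cons_le z_g246_z_T111 (grp_cons_le z_g1114_z_T111 (grp_cons_le z_g217_z_T111 (grp_cons_le z_g672_z_T111 (grp_cons_le z_g673_z_T111 (grp_cons_le z_g674_z_T111 (grp_cons_le z_g675_z_T111 (grp_cons_le z_g676_z_T111 (grp_cons_le z_g677_z_T111 (grp_cons_le z_g126_z_T111 (grp_cons_le z_g127_z_T111 (grp_cons_le z_g128_z_T111 (grp_cons_le z_g129_z_T111 (grp_cons_le z_g130_z_T111 (grp_cons_le z_g131_z_T111 (grp_cons_le z_g132_z_T111 (grp_cons_le z_g133_z_T111 (grp_cons_le z_g134_z_T111 (grp_cons_le z_g135_z_T111 (grp_nil_le _)))))))))))))))))))))))))))))))))))))))))))))))))))))) (Frames.cons z_T111_s1_F (Frames.cons z_T111_s162_F (Frames.cons z_T111_s163_F (Frames.cons z_T111_s164_F (Frames.cons z_T111_s165_F (Frames.cons z_T111_s166_F Frames.nil)))))) (okE_cons.2 ⟨z_g1122_ok, okE_nil _⟩) _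

noncomputable def yt_c91_cnt_t : BT := (BT.fix (nat_lit 257) (BT.fix (nat_lit 1) (BT.dif (nat_lit 1) (nat_lit 0) (BT.br (nat_lit 0) (nat_lit 5) [nat_lit 3, nat_lit 7] (BT.kid (nat_lit 5) (nat_lit 32) (BT.frm (nat_lit 0) (nat_lit 80642) (nat_lit 80642) [nat_lit 0] (BT.pln (nat_lit 0) (nat_lit 3) (BT.br (nat_lit 0) (nat_lit 0) [nat_lit 5] (BT.kid (nat_lit 0) (nat_lit 4) (BT.pln (nat_lit 2) (nat_lit 2) (BT.dif (nat_lit 0) (nat_lit 7) (BT.img (nat_lit 1) (nat_lit 3) (BT.dif (nat_lit 1) (nat_lit 0) (BT.pln (nat_lit 6) (nat_lit 1) (BT.dif (nat_lit 10) (nat_lit 0) (BT.img (nat_lit 1) (nat_lit 6) (BT.img (nat_lit 1) (nat_lit 0) (BT.img (nat_lit 1) (nat_lit 11) (BT.frm (nat_lit 1) (nat_lit 0x4b505709013b02) (nat_lit 0x4b505709013b02) [nat_lit 1, nat_lit 2, nat_lit 9, nat_lit 0, nat_lit 12] (BT.pln (nat_lit 0) (nat_lit 5) (BT.dif (nat_lit 5) (nat_lit 0) (BT.frm (nat_lit 2) (nat_lit 0x40414b505709013b02) (nat_lit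 0x40414b505709013b02) [nat_lit 0, nat_lit 4, nat_lit 5, nat_lit 12, nat_lit 3, nat_lit 15] (BT.pln (nat_lit 0) (nat_lit 8) (BT.and (nat_lit 10) (nat_lit 0) (BT.br (nat_lit 0) (nat_lit 8) [nat_lit 7] (BT.kid (nat_lit 8) (nat_lit 2) (BT.pln (nat_lit 3) (nat_lit 6) (BT.dif (nat_lit 3) (nat_lit 0) (BT.pln (nat_lit 5) (nat_lit 7) (BT.dif (nat_lit 1) (nat_lit 0) (BT.dif (nat_lit 0) (nat_lit 19) (BT.and (nat_lit 15) (nat_lit 10) (BT.frm (nat_lit 3) (nat_lit 0x444540414b505709013b02) (nat_lit 0x444540414b505709013b02) [nat_lit 0, nat_lit 10, nat_lit 14, nat_lit 15, nat_lit 22, nat_lit 13, nat_lit 25] (BT.pln (nat_lit 0) (nat_lit 13) (BT.and (nat_lit 3) (nat_lit 0) (BT.pln (nat_lit 2) (nat_lit 8) (BT.dif (nat_lit 1) (nat_lit 0) (BT.frm (nat_lit 4) (nat_lit 0x47444540414b505709013b02) (nat_lit 0x47444540414b505709013b02) [nat_lit 11, nat_lit 5, nat_lit 15, nat_lit 19, nat_lit 20, nat_lit 27, nat_lit 18, nat_lit 30]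 (BT.pln (nat_lit 0) (nat_lit 10) (BT.dif (nat_lit 2) (nat_lit 0) (BT.br (nat_lit 0) (nat_lit 206) [nat_lit 9] (BT.kid (nat_lit 206) (nat_lit 1) (BT.one (nat_lit 5) (nat_lit 0x47444540414b505709013b02) (nat_lit 0x47444540414b505709013b02) [nat_lit 0, nat_lit 15, nat_lit 9, nat_lit 19, nat_lit 23, nat_lit 24, nat_lit 31, nat_lit 22, nat_lit 34]) BT.nil)))))))))))))))) BT.nil))))))))))))))))) BT.nil)))) BT.nil)))))

theorem yt_c91_cnt : Cnt 324 (grp 324 y_E0) [z_g1122] [z_g1122] 0 0 0 0 192 :=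
  BT.sound yt_c91_cnt_P Known.nil (t := yt_c91_cnt_t) (d := 0) (by decide +kernel)

theorem yt_c91_ge : 192 ≤ Nat.card (grp 324 yt_c91_K) :=
  Ch.le_card_grp (k := 9) (L := (lab 324 9)) z_hn yt_c91_K_ok (c := (Ch.cons (nat_lit 5) [nat_lit 1, nat_lit 3] (Ch.cons (nat_lit 0) [nat_lit 5] (Ch.cons (nat_lit 8) [nat_lit 7] (Ch.cons (nat_lit 206) [nat_lit 9] Ch.nil))))) (by decide +kernel)

theorem yt_c91_eq : (grp 324 y_E0) ⊓ Subgroup.centralizer {Net.toPerm 324 z_g1122} = grp 324 yt_c91_K :=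
  cent_eq yt_c91_sym yt_c91_cnt yt_c91_ge

theorem yt_c91_card : Nat.card ↥((grp 324 y_E0) ⊓ Subgroup.centralizer {Net.toPerm 324 z_g1122}) = 192 :=
  card_cent yt_c91_sym yt_c91_cnt yt_c91_ge

theorem yt_c91_ord : orderOf (Net.toPerm 324 z_g1122) = 8 :=
  orderOf_net z_hn z_hk z_g1122_ok (by decide) (ps := [2]) (by set_option linter.unusedSimpArgs false in simp [Nat.primeFactorsList_ofNat]) (by decide +kernel)

theorem z_le1130 : grp 324 yt_c92_K ≤ grp 324 y_E0 :=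
  grp_le_of_memB z_hn z_hk y_E0_ok yt_c92_K_ok (ws := [nat_lit 0x3c2f2528191b1b120707010301, nat_lit 0x3c2f25281f191c0f120901031f, nat_lit 0x3b2f2819190f070a010509, nat_lit 0x34392f281f1d11070a010503, nat_lit 0x353c2f25191b1b1107050705]) (by decide +kernel)

theorem yt_c92_le : grp 324 yt_c92_K ≤ (grp 324 y_E0) :=
  (z_le1130.trans z_T111_s0.le)

theorem yt_c92_mem : Net.toPerm 324 z_g1126 ∈ (grp 324 y_E0) :=
  yt_c92_le (toPerm_mem_grp (E := yt_c92_K) (List.Mem.head _))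

theorem yt_c92_sym : Sym 324 (grp 324 y_E0) [z_g1126] yt_c92_K 0 :=
  Sym.of_lab z_hn z_hk (okE_cons.2 ⟨z_g1126_ok, okE_nil _⟩) yt_c92_K_ok yt_c92_le (kT := 0) (by decide +kernel)

noncomputable def yt_c92_cnt_L : List ℕ := [1, 4, z_T111_s1_O, 0, 0, 5, 10, z_T111_s162_O, 0, 0, 6, 11, z_T111_s163_O, 0, 0, 7, 14, z_T111_s164_O, 0, 0, 8, 16, z_T111_s165_O, 0, 0, 9, 18, z_T111_s166_O, 1, 0]

theorem yt_c92_cnt_P : Prob 324 9 (grp 324 y_E0) yt_c92_cnt_EG [z_g1126] [z_g1126] yt_c92_K yt_c92_cnt_L 0 0 :=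
  Sym.prob z_hn z_hk yt_c92_sym yt_c92_cnt_EG_ok (grp_cons_le z_g39_z_T111 (grp_cons_le zg1_z_T111 (grp_cons_le zg3_z_T111 (grp_cons_le z_g43_z_T111 (grp_cons_le z_g42_z_T111 (grp_cons_le zg2_z_T111 (grp_cons_le z_g44_z_T111 (grp_cons_le z_g54_z_T111 (grp_cons_le z_g55_z_T111 (grp_cons_le z_g49_z_T111 (grp_cons_le z_g50_z_T111 (grp_cons_le z_g51_z_T111 (grp_cons_le z_g62_z_T111 (grp_cons_le z_g58_z_T111 (grp_cons_le z_g59_z_T111 (grp_cons_le z_g65_z_T111 (grp_cons_le z_g66_z_T111 (grp_cons_le z_g67_z_T111 (grp_cons_le z_g77_z_T111 (grp_cons_le z_g78_z_T111 (grp_cons_le z_g72_z_T111 (grp_cons_le z_g73_z_T111 (grp_cons_le z_g74_z_T111 (grp_cons_le z_g81_z_T111 (grp_cons_le z_g82_z_T111 (grp_cons_le z_g87_z_T111 (grp_cons_le zg0_z_T111 (grp_cons_le z_g91_z_T111 (grp_cons_le z_g28_z_T111 (grp_cons_le z_g88_z_T111 (grp_cons_le z_g1111_z_T111 (grp_cons_le z_g888_z_T111 (grp_cons_le z_g1112_z_T111 (grp_cons_le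 z_g1113_z_T111 (grp_cons_le z_g246_z_T111 (grp_cons_le z_g1114_z_T111 (grp_cons_le z_g217_z_T111 (grp_cons_le z_g672_z_T111 (grp_cons_le z_g673_z_T111 (grp_cons_le z_g674_z_T111 (grp_cons_le z_g675_z_T111 (grp_cons_le z_g676_z_T111 (grp_cons_le z_g677_z_T111 (grp_cons_le z_g126_z_T111 (grp_cons_le z_g127_z_T111 (grp_cons_le z_g128_z_T111 (grp_cons_le z_g129_z_T111 (grp_cons_le z_g130_z_T111 (grp_cons_le z_g131_z_T111 (grp_cons_le z_g132_z_T111 (grp_cons_le z_g133_z_T111 (grp_cons_le z_g134_z_T111 (grp_cons_le z_g135_z_T111 (grp_nil_le _)))))))))))))))))))))))))))))))))))))))))))))))))))))) (Frames.cons z_T111_s1_F (Frames.cons z_T111_s162_F (Frames.cons z_T111_s163_F (Frames.cons z_T111_s164_F (Frames.cons z_T111_s165_F (Frames.cons z_T111_s166_F Frames.nil)))))) (okE_cons.2 ⟨z_g1126_ok, okE_nil _⟩) _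

noncomputable def yt_c92_cnt_t : BT := (BT.fix (nat_lit 257) (BT.fix (nat_lit 1) (BT.dif (nat_lit 1) (nat_lit 0) (BT.br (nat_lit 0) (nat_lit 104) [nat_lit 3, nat_lit 7] (BT.kid (nat_lit 104) (nat_lit 32) (BT.frm (nat_lit 0) (nat_lit 73985) (nat_lit 73985) [nat_lit 0] (BT.pln (nat_lit 0) (nat_lit 3) (BT.br (nat_lit 0) (nat_lit 70) [nat_lit 5] (BT.kid (nat_lit 70) (nat_lit 4) (BT.pln (nat_lit 2) (nat_lit 2) (BT.dif (nat_lit 0) (nat_lit 7) (BT.img (nat_lit 1) (nat_lit 3) (BT.dif (nat_lit 1) (nat_lit 0) (BT.and (nat_lit 9) (nat_lit 3) (BT.img (nat_lit 1) (nat_lit 5) (BT.img (nat_lit 1) (nat_lit 0) (BT.img (nat_lit 1) (nat_lit 0) (BT.img (nat_lit 1) (nat_lit 0) (BT.img (nat_lit 1) (nat_lit 0) (BT.img (nat_lit 1) (nat_lit 0) (BT.img (nat_lit 1) (nat_lit 14) (BT.frm (nat_lit 1) (nat_lit 0x4f5b1d012101) (nat_lit 0x4f5b1d012101) [nat_lit 1, nat_lit 6, nat_lit 12, nat_lit 0, nat_lit 15] (BT.pln (nat_lit 0) (nat_lit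 5) (BT.dif (nat_lit 9) (nat_lit 0) (BT.frm (nat_lit 2) (nat_lit 0x3f414f5b1d012101) (nat_lit 0x3f414f5b1d012101) [nat_lit 0, nat_lit 4, nat_lit 9, nat_lit 15, nat_lit 3, nat_lit 18] (BT.pln (nat_lit 0) (nat_lit 8) (BT.and (nat_lit 13) (nat_lit 0) (BT.br (nat_lit 0) (nat_lit 186) [nat_lit 7] (BT.kid (nat_lit 186) (nat_lit 2) (BT.pln (nat_lit 3) (nat_lit 6) (BT.dif (nat_lit 3) (nat_lit 0) (BT.pln (nat_lit 5) (nat_lit 7) (BT.dif (nat_lit 1) (nat_lit 0) (BT.dif (nat_lit 0) (nat_lit 22) (BT.and (nat_lit 19) (nat_lit 10) (BT.frm (nat_lit 3) (nat_lit 0x43463f414f5b1d012101) (nat_lit 0x43463f414f5b1d012101) [nat_lit 0, nat_lit 10, nat_lit 14, nat_lit 19, nat_lit 25, nat_lit 13, nat_lit 28] (BT.pln (nat_lit 0) (nat_lit 13) (BT.and (nat_lit 3) (nat_lit 0) (BT.pln (nat_lit 2) (nat_lit 8) (BT.dif (nat_lit 1) (nat_lit 0) (BT.frm (nat_lit 4) (nat_lit 0x4743463f414f5b1d012101) (nat_lit 0x4743463f414f5b1d012101) [nat_lit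 11, nat_lit 5, nat_lit 15, nat_lit 19, nat_lit 24, nat_lit 30, nat_lit 18, nat_lit 33] (BT.pln (nat_lit 0) (nat_lit 10) (BT.dif (nat_lit 2) (nat_lit 0) (BT.br (nat_lit 0) (nat_lit 125) [nat_lit 9] (BT.kid (nat_lit 125) (nat_lit 1) (BT.one (nat_lit 5) (nat_lit 0x494743463f414f5b1d012101) (nat_lit 0x494743463f414f5b1d012101) [nat_lit 0, nat_lit 15, nat_lit 9, nat_lit 19, nat_lit 23, nat_lit 28, nat_lit 34, nat_lit 22, nat_lit 37]) BT.nil)))))))))))))))) BT.nil)))))))))))))))))))) BT.nil)))) BT.nil)))))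

theorem yt_c92_cnt : Cnt 324 (grp 324 y_E0) [z_g1126] [z_g1126] 0 0 0 0 192 :=
  BT.sound yt_c92_cnt_P Known.nil (t := yt_c92_cnt_t) (d := 0) (by decide +kernel)

theorem yt_c92_ge : 192 ≤ Nat.card (grp 324 yt_c92_K) :=
  Ch.le_card_grp (k := 9) (L := (lab 324 9)) z_hn yt_c92_K_ok (c := (Ch.cons (nat_lit 104) [nat_lit 1, nat_lit 3] (Ch.cons (nat_lit 70) [nat_lit 5] (Ch.cons (nat_lit 186) [nat_lit 7] (Ch.cons (nat_lit 125) [nat_lit 9] Ch.nil))))) (by decide +kernel)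

theorem yt_c92_eq : (grp 324 y_E0) ⊓ Subgroup.centralizer {Net.toPerm 324 z_g1126} = grp 324 yt_c92_K :=
  cent_eq yt_c92_sym yt_c92_cnt yt_c92_ge

theorem yt_c92_card : Nat.card ↥((grp 324 y_E0) ⊓ Subgroup.centralizer {Net.toPerm 324 z_g1126}) = 192 :=
  card_cent yt_c92_sym yt_c92_cnt yt_c92_ge

theorem yt_c92_ord : orderOf (Net.toPerm 324 z_g1126) = 8 :=
  orderOf_net z_hn z_hk z_g1126_ok (by decide) (ps := [2]) (by set_option linter.unusedSimpArgs false in simp [Nat.primeFactorsList_ofNat]) (by decide +kernel)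

theorem z_le1135 : grp 324 yt_c93_K ≤ grp 324 y_E0 :=
  grp_le_of_memB z_hn z_hk y_E0_ok yt_c93_K_ok (ws := [nat_lit 0x2f291f19211208050210, nat_lit 0x352f19150901010e, nat_lit 0x353c2b1f1909012602, nat_lit 0x33271f19201a0707030d, nat_lit 0x353c2f25191b1b1107050705]) (by decide +kernel)

theorem yt_c93_le : grp 324 yt_c93_K ≤ (grp 324 y_E0) :=
  (z_le1135.trans z_T111_s0.le)

theorem yt_c93_mem : Net.toPerm 324 z_g1131 ∈ (grp 324 y_E0) :=
  yt_c93_le (toPerm_mem_grp (E := yt_c93_K) (List.Mem.head _))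

theorem yt_c93_sym : Sym 324 (grp 324 y_E0) [z_g1131] yt_c93_K 0 :=
  Sym.of_lab z_hn z_hk (okE_cons.2 ⟨z_g1131_ok, okE_nil _⟩) yt_c93_K_ok yt_c93_le (kT := 0) (by decide +kernel)

noncomputable def yt_c93_cnt_L : List ℕ := [1, 4, z_T111_s1_O, 0, 0, 5, 10, z_T111_s162_O, 0, 0, 6, 11, z_T111_s163_O, 0, 0, 7, 14, z_T111_s164_O, 0, 0, 8, 16, z_T111_s165_O, 0, 0, 9, 18, z_T111_s166_O, 1, 0]

theorem yt_c93_cnt_P : Prob 324 9 (grp 324 y_E0) yt_c93_cnt_EG [z_g1131] [z_g1131] yt_c93_K yt_c93_cnt_L 0 0 :=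
  Sym.prob z_hn z_hk yt_c93_sym yt_c93_cnt_EG_ok (grp_cons_le z_g39_z_T111 (grp_cons_le zg1_z_T111 (grp_cons_le zg3_z_T111 (grp_cons_le z_g43_z_T111 (grp_cons_le z_g42_z_T111 (grp_cons_le zg2_z_T111 (grp_cons_le z_g44_z_T111 (grp_cons_le z_g54_z_T111 (grp_cons_le z_g55_z_T111 (grp_cons_le z_g49_z_T111 (grp_cons_le z_g50_z_T111 (grp_cons_le z_g51_z_T111 (grp_cons_le z_g62_z_T111 (grp_cons_le z_g58_z_T111 (grp_cons_le z_g59_z_T111 (grp_cons_le z_g65_z_T111 (grp_cons_le z_g66_z_T111 (grp_cons_le z_g67_z_T111 (grp_cons_le z_g77_z_T111 (grp_cons_le z_g78_z_T111 (grp_cons_le z_g72_z_T111 (grp_cons_le z_g73_z_T111 (grp_cons_le z_g74_z_T111 (grp_cons_le z_g81_z_T111 (grp_cons_le z_g82_z_T111 (grp_cons_le z_g87_z_T111 (grp_cons_le zg0_z_T111 (grp_cons_le z_g91_z_T111 (grp_cons_le z_g28_z_T111 (grp_cons_le z_g88_z_T111 (grp_cons_le z_g1111_z_T111 (grp_cons_le z_g888_z_T111 (grp_cons_le z_g1112_z_T111 (grp_cons_le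 z_g1113_z_T111 (grp_cons_le z_g246_z_T111 (grp_cons_le z_g1114_z_T111 (grp_cons_le z_g217_z_T111 (grp_cons_le z_g672_z_T111 (grp_cons_le z_g673_z_T111 (grp_cons_le z_g674_z_T111 (grp_cons_le z_g675_z_T111 (grp_cons_le z_g676_z_T111 (grp_cons_le z_g677_z_T111 (grp_cons_le z_g126_z_T111 (grp_cons_le z_g127_z_T111 (grp_cons_le z_g128_z_T111 (grp_cons_le z_g129_z_T111 (grp_cons_le z_g130_z_T111 (grp_cons_le z_g131_z_T111 (grp_cons_le z_g132_z_T111 (grp_cons_le z_g133_z_T111 (grp_cons_le z_g134_z_T111 (grp_cons_le z_g135_z_T111 (grp_nil_le _)))))))))))))))))))))))))))))))))))))))))))))))))))))) (Frames.cons z_T111_s1_F (Frames.cons z_T111_s162_F (Frames.cons z_T111_s163_F (Frames.cons z_T111_s164_F (Frames.cons z_T111_s165_F (Frames.cons z_T111_s166_F Frames.nil)))))) (okE_cons.2 ⟨z_g1131_ok, okE_nil _⟩) _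

noncomputable def yt_c93_cnt_t : BT := (BT.fix (nat_lit 257) (BT.fix (nat_lit 1) (BT.dif (nat_lit 1) (nat_lit 0) (BT.br (nat_lit 0) (nat_lit 104) [nat_lit 3, nat_lit 5] (BT.kid (nat_lit 104) (nat_lit 32) (BT.frm (nat_lit 0) (nat_lit 73985) (nat_lit 73985) [nat_lit 0] (BT.pln (nat_lit 0) (nat_lit 3) (BT.br (nat_lit 0) (nat_lit 70) [nat_lit 5] (BT.kid (nat_lit 70) (nat_lit 4) (BT.pln (nat_lit 2) (nat_lit 2) (BT.dif (nat_lit 0) (nat_lit 7) (BT.img (nat_lit 1) (nat_lit 3) (BT.dif (nat_lit 1) (nat_lit 0) (BT.and (nat_lit 9) (nat_lit 3) (BT.img (nat_lit 1) (nat_lit 5) (BT.img (nat_lit 1) (nat_lit 0) (BT.img (nat_lit 1) (nat_lit 0) (BT.img (nat_lit 1) (nat_lit 0) (BT.img (nat_lit 1) (nat_lit 0) (BT.img (nat_lit 1) (nat_lit 0) (BT.img (nat_lit 1) (nat_lit 14) (BT.frm (nat_lit 1) (nat_lit 0x4b5b1d012101) (nat_lit 0x4b5b1d012101) [nat_lit 1, nat_lit 6, nat_lit 12, nat_lit 0, nat_lit 15] (BT.pln (nat_lit 0) (nat_lit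 5) (BT.dif (nat_lit 9) (nat_lit 0) (BT.frm (nat_lit 2) (nat_lit 0x3f414b5b1d012101) (nat_lit 0x3f414b5b1d012101) [nat_lit 0, nat_lit 4, nat_lit 9, nat_lit 15, nat_lit 3, nat_lit 18] (BT.pln (nat_lit 0) (nat_lit 8) (BT.and (nat_lit 13) (nat_lit 0) (BT.br (nat_lit 0) (nat_lit 186) [nat_lit 7] (BT.kid (nat_lit 186) (nat_lit 2) (BT.pln (nat_lit 3) (nat_lit 6) (BT.dif (nat_lit 3) (nat_lit 0) (BT.pln (nat_lit 5) (nat_lit 7) (BT.dif (nat_lit 1) (nat_lit 0) (BT.dif (nat_lit 0) (nat_lit 22) (BT.and (nat_lit 19) (nat_lit 10) (BT.frm (nat_lit 3) (nat_lit 0x433f414b5b1d012101) (nat_lit 0x433f414b5b1d012101) [nat_lit 0, nat_lit 10, nat_lit 14, nat_lit 19, nat_lit 25, nat_lit 13, nat_lit 28] (BT.pln (nat_lit 0) (nat_lit 13) (BT.and (nat_lit 3) (nat_lit 0) (BT.pln (nat_lit 2) (nat_lit 8) (BT.dif (nat_lit 1) (nat_lit 0) (BT.frm (nat_lit 4) (nat_lit 0x433f414b5b1d012101) (nat_lit 0x433f414b5b1d012101) [nat_lit 11, nat_lit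 5, nat_lit 15, nat_lit 19, nat_lit 24, nat_lit 30, nat_lit 18, nat_lit 33] (BT.pln (nat_lit 0) (nat_lit 10) (BT.dif (nat_lit 2) (nat_lit 0) (BT.br (nat_lit 0) (nat_lit 57) [nat_lit 9] (BT.kid (nat_lit 57) (nat_lit 1) (BT.one (nat_lit 5) (nat_lit 0x49433f414b5b1d012101) (nat_lit 0x49433f414b5b1d012101) [nat_lit 0, nat_lit 15, nat_lit 9, nat_lit 19, nat_lit 23, nat_lit 28, nat_lit 34, nat_lit 22, nat_lit 37]) BT.nil)))))))))))))))) BT.nil)))))))))))))))))))) BT.nil)))) BT.nil)))))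

theorem yt_c93_cnt : Cnt 324 (grp 324 y_E0) [z_g1131] [z_g1131] 0 0 0 0 192 :=
  BT.sound yt_c93_cnt_P Known.nil (t := yt_c93_cnt_t) (d := 0) (by decide +kernel)

theorem yt_c93_ge : 192 ≤ Nat.card (grp 324 yt_c93_K) :=
  Ch.le_card_grp (k := 9) (L := (lab 324 9)) z_hn yt_c93_K_ok (c := (Ch.cons (nat_lit 104) [nat_lit 1, nat_lit 3] (Ch.cons (nat_lit 70) [nat_lit 5] (Ch.cons (nat_lit 186) [nat_lit 7] (Ch.cons (nat_lit 57) [nat_lit 9] Ch.nil))))) (by decide +kernel)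

theorem yt_c93_eq : (grp 324 y_E0) ⊓ Subgroup.centralizer {Net.toPerm 324 z_g1131} = grp 324 yt_c93_K :=
  cent_eq yt_c93_sym yt_c93_cnt yt_c93_ge

theorem yt_c93_card : Nat.card ↥((grp 324 y_E0) ⊓ Subgroup.centralizer {Net.toPerm 324 z_g1131}) = 192 :=
  card_cent yt_c93_sym yt_c93_cnt yt_c93_ge

theorem yt_c93_ord : orderOf (Net.toPerm 324 z_g1131) = 8 :=
  orderOf_net z_hn z_hk z_g1131_ok (by decide) (ps := [2]) (by set_option linter.unusedSimpArgs false in simp [Nat.primeFactorsList_ofNat]) (by decide +kernel)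

theorem z_le1140 : grp 324 yt_c94_K ≤ grp 324 y_E0 :=
  grp_le_of_memB z_hn z_hk y_E0_ok yt_c94_K_ok (ws := [nat_lit 0x33281f191e11070a010529, nat_lit 0x353c1f191b1b150715010135, nat_lit 0x2f2628191c12022d, nat_lit 0x3435271f1b1a15080203]) (by decide +kernel)

theorem yt_c94_le : grp 324 yt_c94_K ≤ (grp 324 y_E0) :=
  (z_le1140.trans z_T111_s0.le)

theorem yt_c94_mem : Net.toPerm 324 z_g1136 ∈ (grp 324 y_E0) :=
  yt_c94_le (toPerm_mem_grp (E := yt_c94_K) (List.Mem.head _))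

theorem yt_c94_sym : Sym 324 (grp 324 y_E0) [z_g1136] yt_c94_K 0 :=
  Sym.of_lab z_hn z_hk (okE_cons.2 ⟨z_g1136_ok, okE_nil _⟩) yt_c94_K_ok yt_c94_le (kT := 0) (by decide +kernel)

noncomputable def yt_c94_cnt_L : List ℕ := [1, 4, z_T111_s1_O, 0, 0, 3, 8, z_T111_s13_O, 0, 0, 5, 10, z_T111_s15_O, 0, 0, 7, 14, z_T111_s74_O, 0, 0, 8, 16, z_T111_s75_O, 0, 0, 9, 18, z_T111_s76_O, 1, 0]

theorem yt_c94_cnt_P : Prob 324 9 (grp 324 y_E0) yt_c94_cnt_EG [z_g1136] [z_g1136] yt_c94_K yt_c94_cnt_L 0 0 :=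
  Sym.prob z_hn z_hk yt_c94_sym yt_c94_cnt_EG_ok (grp_cons_le z_g39_z_T111 (grp_cons_le zg1_z_T111 (grp_cons_le zg3_z_T111 (grp_cons_le z_g43_z_T111 (grp_cons_le z_g42_z_T111 (grp_cons_le zg2_z_T111 (grp_cons_le z_g44_z_T111 (grp_cons_le z_g54_z_T111 (grp_cons_le z_g55_z_T111 (grp_cons_le z_g49_z_T111 (grp_cons_le z_g50_z_T111 (grp_cons_le z_g51_z_T111 (grp_cons_le z_g62_z_T111 (grp_cons_le z_g58_z_T111 (grp_cons_le z_g59_z_T111 (grp_cons_le z_g65_z_T111 (grp_cons_le z_g66_z_T111 (grp_cons_le z_g67_z_T111 (grp_cons_le z_g77_z_T111 (grp_cons_le z_g78_z_T111 (grp_cons_le z_g72_z_T111 (grp_cons_le z_g73_z_T111 (grp_cons_le z_g74_z_T111 (grp_cons_le z_g81_z_T111 (grp_cons_le z_g82_z_T111 (grp_cons_le z_g87_z_T111 (grp_cons_le zg0_z_T111 (grp_cons_le z_g91_z_T111 (grp_cons_le z_g28_z_T111 (grp_cons_le z_g88_z_T111 (grp_cons_le z_g126_z_T111 (grp_cons_le z_g127_z_T111 (grp_cons_le z_g128_z_T111 (grp_cons_le z_g129_z_T111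 (grp_cons_le z_g130_z_T111 (grp_cons_le z_g131_z_T111 (grp_cons_le z_g132_z_T111 (grp_cons_le z_g133_z_T111 (grp_cons_le z_g134_z_T111 (grp_cons_le z_g135_z_T111 (grp_cons_le z_g175_z_T111 (grp_cons_le z_g176_z_T111 (grp_cons_le z_g177_z_T111 (grp_cons_le z_g30_z_T111 (grp_cons_le z_g178_z_T111 (grp_cons_le z_g174_z_T111 (grp_cons_le z_g310_z_T111 (grp_nil_le _)))))))))))))))))))))))))))))))))))))))))))))))) (Frames.cons z_T111_s1_F (Frames.cons z_T111_s13_F (Frames.cons z_T111_s15_F (Frames.cons z_T111_s74_F (Frames.cons z_T111_s75_F (Frames.cons z_T111_s76_F Frames.nil)))))) (okE_cons.2 ⟨z_g1136_ok, okE_nil _⟩) _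

noncomputable def yt_c94_cnt_t : BT := (BT.fix (nat_lit 1) (BT.br (nat_lit 0) (nat_lit 64) [] (BT.dead (nat_lit 107) (BT.fix (nat_lit 257) (BT.frm (nat_lit 0) (nat_lit 65827) (nat_lit 65829) [nat_lit 1] (BT.pln (nat_lit 0) (nat_lit 2) (BT.and (nat_lit 2) (nat_lit 0) (BT.dif (nat_lit 0) (nat_lit 5) (BT.br (nat_lit 0) (nat_lit 278) [nat_lit 1] (BT.dead (nat_lit 278) (BT.dif (nat_lit 7) (nat_lit 6) (BT.frm (nat_lit 1) (nat_lit 0x4011010123) (nat_lit 0x4611010125) [nat_lit 1, nat_lit 0, nat_lit 7] (BT.pln (nat_lit 0) (nat_lit 6) (BT.and (nat_lit 6) (nat_lit 0) (BT.br (nat_lit 0) (nat_lit 268) [nat_lit 3] (BT.dead (nat_lit 116) (BT.dif (nat_lit 8) (nat_lit 2) (BT.pln (nat_lit 4) (nat_lit 7) (BT.and (nat_lit 1) (nat_lit 0) (BT.dif (nat_lit 10) (nat_lit 8) (BT.dif (nat_lit 0) (nat_lit 16) (BT.frm (nat_lit 2) (nat_lit 0x51545c524011010123) (nat_lit 0x52545b554611010125) [nat_lit 5, nat_lit 0, nat_lit 10, nat_lit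 9, nat_lit 16] (BT.pln (nat_lit 0) (nat_lit 5) (BT.dif (nat_lit 4) (nat_lit 0) (BT.img (nat_lit 1) (nat_lit 8) (BT.pln (nat_lit 12) (nat_lit 4) (BT.and (nat_lit 18) (nat_lit 0) (BT.dif (nat_lit 0) (nat_lit 2) (BT.pln (nat_lit 6) (nat_lit 9) (BT.and (nat_lit 1) (nat_lit 0) (BT.dif (nat_lit 15) (nat_lit 14) (BT.img (nat_lit 1) (nat_lit 6) (BT.dif (nat_lit 1) (nat_lit 0) (BT.img (nat_lit 1) (nat_lit 1) (BT.img (nat_lit 1) (nat_lit 0) (BT.dif (nat_lit 2) (nat_lit 0) (BT.img (nat_lit 1) (nat_lit 1) (BT.img (nat_lit 1) (nat_lit 0) (BT.dif (nat_lit 2) (nat_lit 0) (BT.and (nat_lit 0) (nat_lit 16) (BT.dif (nat_lit 12) (nat_lit 6) (BT.dif (nat_lit 0) (nat_lit 35) (BT.dif (nat_lit 0) (nat_lit 5) (BT.img (nat_lit 1) (nat_lit 5) (BT.dif (nat_lit 1) (nat_lit 0) (BT.pln (nat_lit 23) (nat_lit 6) (BT.and (nat_lit 1) (nat_lit 0) (BT.img (nat_lit 1) (nat_lit 0) (BT.and (nat_lit 8) (nat_lit 0) (BT.img (nat_lit 1) (nat_lit 0)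 (BT.and (nat_lit 20) (nat_lit 0) (BT.frm (nat_lit 3) (nat_lit 0x5351545c524011010123) (nat_lit 0x5652545b554611010125) [nat_lit 26, nat_lit 0, nat_lit 35, nat_lit 30, nat_lit 40, nat_lit 39, nat_lit 46] (BT.pln (nat_lit 0) (nat_lit 8) (BT.dif (nat_lit 29) (nat_lit 0) (BT.br (nat_lit 0) (nat_lit 309) [nat_lit 7] (BT.dead (nat_lit 275) (BT.frm (nat_lit 4) (nat_lit 0x5351545c524011010123) (nat_lit 0x5652545b554611010125) [nat_lit 0, nat_lit 30, nat_lit 4, nat_lit 39, nat_lit 34, nat_lit 44, nat_lit 43, nat_lit 50] (BT.pln (nat_lit 0) (nat_lit 8) (BT.img (nat_lit 1) (nat_lit 2) (BT.and (nat_lit 1) (nat_lit 0) (BT.cnt (nat_lit 0)))))) BT.nil)))))))))))))))))))))))))))))))))))))))) (BT.dead (nat_lit 268) (BT.dif (nat_lit 7) (nat_lit 5) (BT.dif (nat_lit 0) (nat_lit 13) (BT.frm (nat_lit 2) (nat_lit 0x51545c524011010123) (nat_lit 0x525b554611010125) [nat_lit 2, nat_lit 0, nat_lit 7, nat_lit 6, nat_lit 13] (BT.pln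 (nat_lit 0) (nat_lit 5) (BT.img (nat_lit 1) (nat_lit 4) (BT.img (nat_lit 1) (nat_lit 0) (BT.and (nat_lit 2) (nat_lit 0) (BT.cnt (nat_lit 0))))))))) BT.nil))))))) BT.nil))))))) (BT.kid (nat_lit 64) (nat_lit 32) (BT.fix (nat_lit 257) (BT.frm (nat_lit 0) (nat_lit 65827) (nat_lit 65827) [nat_lit 1] (BT.pln (nat_lit 0) (nat_lit 2) (BT.and (nat_lit 2) (nat_lit 0) (BT.dif (nat_lit 0) (nat_lit 5) (BT.br (nat_lit 0) (nat_lit 278) [nat_lit 1] (BT.kid (nat_lit 278) (nat_lit 16) (BT.dif (nat_lit 7) (nat_lit 6) (BT.frm (nat_lit 1) (nat_lit 0x4011010123) (nat_lit 0x4011010123) [nat_lit 1, nat_lit 0, nat_lit 7] (BT.pln (nat_lit 0) (nat_lit 6) (BT.and (nat_lit 6) (nat_lit 0) (BT.br (nat_lit 0) (nat_lit 268) [nat_lit 3] (BT.dead (nat_lit 106) (BT.dif (nat_lit 7) (nat_lit 5) (BT.dif (nat_lit 0) (nat_lit 13) (BT.frm (nat_lit 2) (nat_lit 0x51545c524011010123) (nat_lit 0x515c524011010123) [nat_lit 2, nat_lit 0, nat_lit 7, nat_lit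 6, nat_lit 13] (BT.pln (nat_lit 0) (nat_lit 5) (BT.img (nat_lit 1) (nat_lit 4) (BT.img (nat_lit 1) (nat_lit 0) (BT.and (nat_lit 2) (nat_lit 0) (BT.cnt (nat_lit 0))))))))) (BT.kid (nat_lit 268) (nat_lit 4) (BT.dif (nat_lit 8) (nat_lit 2) (BT.pln (nat_lit 4) (nat_lit 7) (BT.and (nat_lit 1) (nat_lit 0) (BT.dif (nat_lit 10) (nat_lit 8) (BT.dif (nat_lit 0) (nat_lit 16) (BT.frm (nat_lit 2) (nat_lit 0x51545c524011010123) (nat_lit 0x51545c524011010123) [nat_lit 5, nat_lit 0, nat_lit 10, nat_lit 9, nat_lit 16] (BT.pln (nat_lit 0) (nat_lit 5) (BT.dif (nat_lit 4) (nat_lit 0) (BT.img (nat_lit 1) (nat_lit 8) (BT.pln (nat_lit 12) (nat_lit 4) (BT.and (nat_lit 18) (nat_lit 0) (BT.dif (nat_lit 0) (nat_lit 2) (BT.pln (nat_lit 6) (nat_lit 9) (BT.and (nat_lit 1) (nat_lit 0) (BT.dif (nat_lit 15) (nat_lit 14) (BT.img (nat_lit 1) (nat_lit 6) (BT.dif (nat_lit 1) (nat_lit 0) (BT.img (nat_lit 1) (nat_lit 1) (BT.img (nat_lit 1) (nat_lit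 0) (BT.dif (nat_lit 2) (nat_lit 0) (BT.img (nat_lit 1) (nat_lit 1) (BT.img (nat_lit 1) (nat_lit 0) (BT.dif (nat_lit 2) (nat_lit 0) (BT.and (nat_lit 0) (nat_lit 16) (BT.dif (nat_lit 12) (nat_lit 6) (BT.dif (nat_lit 0) (nat_lit 35) (BT.dif (nat_lit 0) (nat_lit 5) (BT.img (nat_lit 1) (nat_lit 5) (BT.dif (nat_lit 1) (nat_lit 0) (BT.pln (nat_lit 23) (nat_lit 6) (BT.and (nat_lit 1) (nat_lit 0) (BT.img (nat_lit 1) (nat_lit 0) (BT.and (nat_lit 8) (nat_lit 0) (BT.img (nat_lit 1) (nat_lit 0) (BT.and (nat_lit 20) (nat_lit 0) (BT.frm (nat_lit 3) (nat_lit 0x5351545c524011010123) (nat_lit 0x5351545c524011010123) [nat_lit 26, nat_lit 0, nat_lit 35, nat_lit 30, nat_lit 40, nat_lit 39, nat_lit 46] (BT.pln (nat_lit 0) (nat_lit 8) (BT.dif (nat_lit 29) (nat_lit 0) (BT.br (nat_lit 0) (nat_lit 309) [nat_lit 5] (BT.kid (nat_lit 309) (nat_lit 2) (BT.pln (nat_lit 3) (nat_lit 12) (BT.and (nat_lit 3) (nat_lit 0) (BT.dif (nat_lit 0)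 (nat_lit 34) (BT.dif (nat_lit 0) (nat_lit 12) (BT.pln (nat_lit 37) (nat_lit 7) (BT.dif (nat_lit 1) (nat_lit 0) (BT.frm (nat_lit 4) (nat_lit 0x5351545c524011010123) (nat_lit 0x5351545c524011010123) [nat_lit 6, nat_lit 36, nat_lit 10, nat_lit 45, nat_lit 40, nat_lit 50, nat_lit 49, nat_lit 56] (BT.pln (nat_lit 0) (nat_lit 10) (BT.dif (nat_lit 2) (nat_lit 0) (BT.br (nat_lit 0) (nat_lit 230) [nat_lit 7] (BT.kid (nat_lit 230) (nat_lit 1) (BT.one (nat_lit 5) (nat_lit 0x5351545c524011010123) (nat_lit 0x5351545c524011010123) [nat_lit 0, nat_lit 10, nat_lit 40, nat_lit 14, nat_lit 49, nat_lit 44, nat_lit 54, nat_lit 53, nat_lit 60]) BT.nil))))))))))) BT.nil)))))))))))))))))))))))))))))))))))))))) BT.nil))))))) BT.nil))))))) BT.nil))))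

theorem yt_c94_cnt : Cnt 324 (grp 324 y_E0) [z_g1136] [z_g1136] 0 0 0 0 32 :=
  BT.sound yt_c94_cnt_P Known.nil (t := yt_c94_cnt_t) (d := 0) (by decide +kernel)

theorem yt_c94_ge : 32 ≤ Nat.card (grp 324 yt_c94_K) :=
  Ch.le_card_grp (k := 9) (L := (lab 324 9)) z_hn yt_c94_K_ok (c := (Ch.cons (nat_lit 278) [nat_lit 1] (Ch.cons (nat_lit 268) [nat_lit 3] (Ch.cons (nat_lit 309) [nat_lit 5] (Ch.cons (nat_lit 230) [nat_lit 7] Ch.nil))))) (by decide +kernel)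

theorem yt_c94_eq : (grp 324 y_E0) ⊓ Subgroup.centralizer {Net.toPerm 324 z_g1136} = grp 324 yt_c94_K :=
  cent_eq yt_c94_sym yt_c94_cnt yt_c94_ge

theorem yt_c94_card : Nat.card ↥((grp 324 y_E0) ⊓ Subgroup.centralizer {Net.toPerm 324 z_g1136}) = 32 :=
  card_cent yt_c94_sym yt_c94_cnt yt_c94_ge

theorem yt_c94_ord : orderOf (Net.toPerm 324 z_g1136) = 8 :=
  orderOf_net z_hn z_hk z_g1136_ok (by decide) (ps := [2]) (by set_option linter.unusedSimpArgs false in simp [Nat.primeFactorsList_ofNat]) (by decide +kernel)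

end Cfsg.Agent.H99.HB
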