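import Mathlib
import Cfsg.Agent.H99.FiH8c

/-!
# The classes of a subgroup of index four
-/

set_option autoImplicit false
set_option maxRecDepth 200000
set_option linter.style.longLine false

namespace Cfsg.Agent.H99.HB

open Cfsg.Agent.H43

theorem z_le1145 : grp 324 yt_c95_K ≤ grp 324 y_E0 :=
  grp_le_of_memB z_hn z_hk y_E0_ok yt_c95_K_ok (ws := [nat_lit 0x382b1f1a1e0f051b, nat_lit 0x353c2628192312090317, nat_lit 0x392f25281d11070a010810, nat_lit 0x3825281f1b1a0f120801010d]) (by decide +kernel)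

theorem yt_c95_le : grp 324 yt_c95_K ≤ (grp 324 y_E0) :=
  (z_le1145.trans z_T111_s0.le)

theorem yt_c95_mem : Net.toPerm 324 z_g1141 ∈ (grp 324 y_E0) :=
  yt_c95_le (toPerm_mem_grp (E := yt_c95_K) (List.Mem.head _))

theorem yt_c95_sym : Sym 324 (grp 324 y_E0) [z_g1141] yt_c95_K 0 :=
  Sym.of_lab z_hn z_hk (okE_cons.2 ⟨z_g1141_ok, okE_nil _⟩) yt_c95_K_ok yt_c95_le (kT := 0) (by decide +kernel)

noncomputable def yt_c95_cnt_L : List ℕ := [1, 4, z_T111_s1_O, 0, 0, 2, 6, z_T111_s2_O, 0, 0, 3, 8, z_T111_s13_O, 0, 0, 5, 10, z_T111_s15_O, 0, 0, 8, 16, z_T111_s75_O, 0, 0, 9, 18, z_T111_s76_O, 1, 0]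

theorem yt_c95_cnt_P : Prob 324 9 (grp 324 y_E0) yt_c95_cnt_EG [z_g1141] [z_g1141] yt_c95_K yt_c95_cnt_L 0 0 :=
  Sym.prob z_hn z_hk yt_c95_sym yt_c95_cnt_EG_ok (grp_cons_le z_g39_z_T111 (grp_cons_le zg1_z_T111 (grp_cons_le zg3_z_T111 (grp_cons_le z_g43_z_T111 (grp_cons_le z_g42_z_T111 (grp_cons_le zg2_z_T111 (grp_cons_le z_g44_z_T111 (grp_cons_le z_g54_z_T111 (grp_cons_le z_g55_z_T111 (grp_cons_le z_g49_z_T111 (grp_cons_le z_g50_z_T111 (grp_cons_le z_g51_z_T111 (grp_cons_le z_g62_z_T111 (grp_cons_le z_g58_z_T111 (grp_cons_le z_g59_z_T111 (grp_cons_le z_g65_z_T111 (grp_cons_le z_g66_z_T111 (grp_cons_le z_g67_z_T111 (grp_cons_le z_g77_z_T111 (grp_cons_le z_g78_z_T111 (grp_cons_le z_g72_z_T111 (grp_cons_le z_g73_z_T111 (grp_cons_le z_g74_z_T111 (grp_cons_le z_g81_z_T111 (grp_cons_le z_g82_z_T111 (grp_cons_le z_g87_z_T111 (grp_cons_le zg0_z_T111 (grp_cons_le z_g91_z_T111 (grp_cons_le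 z_g28_z_T111 (grp_cons_le z_g88_z_T111 (grp_cons_le z_g126_z_T111 (grp_cons_le z_g127_z_T111 (grp_cons_le z_g128_z_T111 (grp_cons_le z_g129_z_T111 (grp_cons_le z_g130_z_T111 (grp_cons_le z_g131_z_T111 (grp_cons_le z_g132_z_T111 (grp_cons_le z_g133_z_T111 (grp_cons_le z_g134_z_T111 (grp_cons_le z_g135_z_T111 (grp_cons_le z_g175_z_T111 (grp_cons_le z_g176_z_T111 (grp_cons_le z_g177_z_T111 (grp_cons_le z_g30_z_T111 (grp_cons_le z_g178_z_T111 (grp_cons_le z_g174_z_T111 (grp_cons_le z_g310_z_T111 (grp_nil_le _)))))))))))))))))))))))))))))))))))))))))))))))) (Frames.cons z_T111_s1_F (Frames.cons z_T111_s2_F (Frames.cons z_T111_s13_F (Frames.cons z_T111_s15_F (Frames.cons z_T111_s75_F (Frames.cons z_T111_s76_F Frames.nil)))))) (okE_cons.2 ⟨z_g1141_ok, okE_nil _⟩) _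

noncomputable def yt_c95_cnt_t : BT := (BT.fix (nat_lit 1) (BT.br (nat_lit 0) (nat_lit 94) [] (BT.dead (nat_lit 136) (BT.fix (nat_lit 257) (BT.frm (nat_lit 0) (nat_lit 67872) (nat_lit 1332) [nat_lit 1] (BT.pln (nat_lit 0) (nat_lit 2) (BT.and (nat_lit 2) (nat_lit 0) (BT.dif (nat_lit 0) (nat_lit 5) (BT.br (nat_lit 0) (nat_lit 262) [nat_lit 1] (BT.dead (nat_lit 262) (BT.dif (nat_lit 7) (nat_lit 6) (BT.frm (nat_lit 2) (nat_lit 0x3f410e010920) (nat_lit 0x4041090534) [nat_lit 1, nat_lit 0, nat_lit 7] (BT.pln (nat_lit 0) (nat_lit 6) (BT.and (nat_lit 6) (nat_lit 0) (BT.br (nat_lit 0) (nat_lit 249) [nat_lit 3] (BT.dead (nat_lit 88) (BT.dif (nat_lit 8) (nat_lit 2) (BT.pln (nat_lit 4) (nat_lit 7) (BT.and (nat_lit 1) (nat_lit 0) (BT.frm (nat_lit 1) (nat_lit 0xe010920) (nat_lit 591156) [nat_lit 7, nat_lit 14] (BT.pln (nat_lit 0) (nat_lit 5) (BT.and (nat_lit 13) (nat_lit 0) (BT.dif (nat_lit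 13) (nat_lit 11) (BT.dif (nat_lit 0) (nat_lit 19) (BT.frm (nat_lit 3) (nat_lit 0x52545b513f410e010920) (nat_lit 0x52545b524041090534) [nat_lit 8, nat_lit 0, nat_lit 13, nat_lit 12, nat_lit 19] (BT.pln (nat_lit 0) (nat_lit 5) (BT.and (nat_lit 4) (nat_lit 0) (BT.img (nat_lit 1) (nat_lit 0) (BT.and (nat_lit 6) (nat_lit 0) (BT.img (nat_lit 1) (nat_lit 0) (BT.and (nat_lit 11) (nat_lit 0) (BT.br (nat_lit 0) (nat_lit 302) [nat_lit 7] (BT.dead (nat_lit 209) (BT.img (nat_lit 1) (nat_lit 16) (BT.pln (nat_lit 20) (nat_lit 4) (BT.and (nat_lit 26) (nat_lit 0) (BT.dif (nat_lit 0) (nat_lit 2) (BT.pln (nat_lit 11) (nat_lit 9) (BT.and (nat_lit 1) (nat_lit 0) (BT.dif (nat_lit 23) (nat_lit 22) (BT.img (nat_lit 1) (nat_lit 6) (BT.dif (nat_lit 1) (nat_lit 0) (BT.img (nat_lit 1) (nat_lit 1) (BT.img (nat_lit 1) (nat_lit 0) (BT.dif (nat_lit 2) (nat_lit 0) (BT.img (nat_lit 1) (nat_lit 1) (BT.img (nat_lit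 1) (nat_lit 0) (BT.dif (nat_lit 2) (nat_lit 0) (BT.and (nat_lit 0) (nat_lit 21) (BT.dif (nat_lit 12) (nat_lit 6) (BT.dif (nat_lit 0) (nat_lit 43) (BT.dif (nat_lit 0) (nat_lit 5) (BT.img (nat_lit 1) (nat_lit 5) (BT.dif (nat_lit 1) (nat_lit 0) (BT.pln (nat_lit 28) (nat_lit 6) (BT.and (nat_lit 1) (nat_lit 0) (BT.img (nat_lit 1) (nat_lit 0) (BT.and (nat_lit 8) (nat_lit 0) (BT.img (nat_lit 1) (nat_lit 0) (BT.and (nat_lit 20) (nat_lit 0) (BT.frm (nat_lit 4) (nat_lit 0x57565352545b513f410e010920) (nat_lit 0x575652545b524041090534) [nat_lit 27, nat_lit 26, nat_lit 0, nat_lit 43, nat_lit 35, nat_lit 48, nat_lit 47, nat_lit 54] (BT.pln (nat_lit 0) (nat_lit 8) (BT.img (nat_lit 1) (nat_lit 29) (BT.and (nat_lit 1) (nat_lit 0) (BT.cnt (nat_lit 0))))))))))))))))))))))))))))))))) BT.nil))))))))))))))))) (BT.dead (nat_lit 249) (BT.dif (nat_lit 7) (nat_lit 5) (BT.dif (nat_lit 0) (nat_lit 13)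 (BT.frm (nat_lit 3) (nat_lit 0x52545b513f410e010920) (nat_lit 0x52535b524041090534) [nat_lit 2, nat_lit 0, nat_lit 7, nat_lit 6, nat_lit 13] (BT.pln (nat_lit 0) (nat_lit 5) (BT.img (nat_lit 1) (nat_lit 4) (BT.img (nat_lit 1) (nat_lit 0) (BT.and (nat_lit 2) (nat_lit 0) (BT.cnt (nat_lit 0))))))))) BT.nil))))))) BT.nil))))))) (BT.kid (nat_lit 94) (nat_lit 32) (BT.fix (nat_lit 257) (BT.frm (nat_lit 0) (nat_lit 67872) (nat_lit 67872) [nat_lit 1] (BT.pln (nat_lit 0) (nat_lit 2) (BT.and (nat_lit 2) (nat_lit 0) (BT.dif (nat_lit 0) (nat_lit 5) (BT.br (nat_lit 0) (nat_lit 262) [nat_lit 1] (BT.kid (nat_lit 262) (nat_lit 16) (BT.dif (nat_lit 7) (nat_lit 6) (BT.frm (nat_lit 2) (nat_lit 0x3f410e010920) (nat_lit 0x3f410e010920) [nat_lit 1, nat_lit 0, nat_lit 7] (BT.pln (nat_lit 0) (nat_lit 6) (BT.and (nat_lit 6) (nat_lit 0) (BT.br (nat_lit 0) (nat_lit 249) [nat_lit 3] (BT.dead (nat_lit 123)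 (BT.dif (nat_lit 7) (nat_lit 5) (BT.dif (nat_lit 0) (nat_lit 13) (BT.frm (nat_lit 3) (nat_lit 0x52545b513f410e010920) (nat_lit 0x525b513f410e010920) [nat_lit 2, nat_lit 0, nat_lit 7, nat_lit 6, nat_lit 13] (BT.pln (nat_lit 0) (nat_lit 5) (BT.img (nat_lit 1) (nat_lit 4) (BT.img (nat_lit 1) (nat_lit 0) (BT.and (nat_lit 2) (nat_lit 0) (BT.cnt (nat_lit 0))))))))) (BT.kid (nat_lit 249) (nat_lit 4) (BT.dif (nat_lit 8) (nat_lit 2) (BT.pln (nat_lit 4) (nat_lit 7) (BT.and (nat_lit 1) (nat_lit 0) (BT.frm (nat_lit 1) (nat_lit 0xe010920) (nat_lit 0xe010920) [nat_lit 7, nat_lit 14] (BT.pln (nat_lit 0) (nat_lit 5) (BT.and (nat_lit 13) (nat_lit 0) (BT.dif (nat_lit 13) (nat_lit 11) (BT.dif (nat_lit 0) (nat_lit 19) (BT.frm (nat_lit 3) (nat_lit 0x52545b513f410e010920) (nat_lit 0x52545b513f410e010920) [nat_lit 8, nat_lit 0, nat_lit 13, nat_lit 12, nat_lit 19] (BT.pln (nat_lit 0) (nat_lit 5)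 (BT.and (nat_lit 4) (nat_lit 0) (BT.img (nat_lit 1) (nat_lit 0) (BT.and (nat_lit 6) (nat_lit 0) (BT.img (nat_lit 1) (nat_lit 0) (BT.and (nat_lit 11) (nat_lit 0) (BT.br (nat_lit 0) (nat_lit 302) [nat_lit 5] (BT.kid (nat_lit 302) (nat_lit 2) (BT.dif (nat_lit 31) (nat_lit 6) (BT.pln (nat_lit 8) (nat_lit 8) (BT.and (nat_lit 1) (nat_lit 0) (BT.pln (nat_lit 10) (nat_lit 6) (BT.dif (nat_lit 1) (nat_lit 0) (BT.pln (nat_lit 12) (nat_lit 7) (BT.dif (nat_lit 1) (nat_lit 0) (BT.pln (nat_lit 32) (nat_lit 1) (BT.dif (nat_lit 39) (nat_lit 0) (BT.dif (nat_lit 0) (nat_lit 33) (BT.and (nat_lit 0) (nat_lit 8) (BT.dif (nat_lit 0) (nat_lit 17) (BT.dif (nat_lit 0) (nat_lit 8) (BT.and (nat_lit 2) (nat_lit 19) (BT.pln (nat_lit 39) (nat_lit 3) (BT.dif (nat_lit 1) (nat_lit 0) (BT.and (nat_lit 6) (nat_lit 10) (BT.and (nat_lit 0) (nat_lit 23) (BT.and (nat_lit 0) (nat_lit 14) (BT.dif (nat_lit 0) (nat_lit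 4) (BT.dif (nat_lit 10) (nat_lit 5) (BT.and (nat_lit 0) (nat_lit 17) (BT.dif (nat_lit 0) (nat_lit 28) (BT.dif (nat_lit 0) (nat_lit 17) (BT.dif (nat_lit 0) (nat_lit 22) (BT.and (nat_lit 14) (nat_lit 21) (BT.dif (nat_lit 0) (nat_lit 11) (BT.img (nat_lit 1) (nat_lit 0) (BT.and (nat_lit 3) (nat_lit 0) (BT.img (nat_lit 1) (nat_lit 0) (BT.and (nat_lit 5) (nat_lit 0) (BT.img (nat_lit 1) (nat_lit 0) (BT.and (nat_lit 12) (nat_lit 0) (BT.img (nat_lit 1) (nat_lit 0) (BT.and (nat_lit 18) (nat_lit 0) (BT.img (nat_lit 1) (nat_lit 0) (BT.and (nat_lit 23) (nat_lit 0) (BT.img (nat_lit 1) (nat_lit 0) (BT.and (nat_lit 31) (nat_lit 0) (BT.img (nat_lit 1) (nat_lit 55) (BT.pln (nat_lit 59) (nat_lit 4) (BT.and (nat_lit 65) (nat_lit 0) (BT.dif (nat_lit 0) (nat_lit 2) (BT.pln (nat_lit 50) (nat_lit 9) (BT.and (nat_lit 1) (nat_lit 0) (BT.dif (nat_lit 62) (nat_lit 61) (BT.img (nat_lit 1) (nat_lit 6)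 (BT.dif (nat_lit 1) (nat_lit 0) (BT.img (nat_lit 1) (nat_lit 1) (BT.img (nat_lit 1) (nat_lit 0) (BT.dif (nat_lit 2) (nat_lit 0) (BT.img (nat_lit 1) (nat_lit 1) (BT.img (nat_lit 1) (nat_lit 0) (BT.dif (nat_lit 2) (nat_lit 0) (BT.and (nat_lit 0) (nat_lit 60) (BT.dif (nat_lit 12) (nat_lit 6) (BT.dif (nat_lit 0) (nat_lit 82) (BT.dif (nat_lit 0) (nat_lit 5) (BT.img (nat_lit 1) (nat_lit 5) (BT.dif (nat_lit 1) (nat_lit 0) (BT.and (nat_lit 0) (nat_lit 56) (BT.img (nat_lit 1) (nat_lit 0) (BT.and (nat_lit 7) (nat_lit 0) (BT.img (nat_lit 1) (nat_lit 0) (BT.and (nat_lit 19) (nat_lit 0) (BT.frm (nat_lit 4) (nat_lit 0x57565352545b513f410e010920) (nat_lit 0x57565352545b513f410e010920) [nat_lit 65, nat_lit 25, nat_lit 0, nat_lit 81, nat_lit 73, nat_lit 86, nat_lit 85, nat_lit 92] (BT.pln (nat_lit 0) (nat_lit 10) (BT.dif (nat_lit 28) (nat_lit 0) (BT.br (nat_lit 0) (nat_lit 18) [nat_lit 7]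 (BT.kid (nat_lit 18) (nat_lit 1) (BT.one (nat_lit 5) (nat_lit 0x5d57565352545b513f410e010920) (nat_lit 0x5d57565352545b513f410e010920) [nat_lit 0, nat_lit 69, nat_lit 29, nat_lit 4, nat_lit 85, nat_lit 77, nat_lit 90, nat_lit 89, nat_lit 96]) BT.nil)))))))))))))))))))))))))))))))))))))))))))))))))))))))))))))))))))))) BT.nil))))))))))))))))) BT.nil))))))) BT.nil))))))) BT.nil))))

theorem yt_c95_cnt : Cnt 324 (grp 324 y_E0) [z_g1141] [z_g1141] 0 0 0 0 32 :=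
  BT.sound yt_c95_cnt_P Known.nil (t := yt_c95_cnt_t) (d := 0) (by decide +kernel)

theorem yt_c95_ge : 32 ≤ Nat.card (grp 324 yt_c95_K) :=
  Ch.le_card_grp (k := 9) (L := (lab 324 9)) z_hn yt_c95_K_ok (c := (Ch.cons (nat_lit 262) [nat_lit 1] (Ch.cons (nat_lit 249) [nat_lit 3] (Ch.cons (nat_lit 302) [nat_lit 5] (Ch.cons (nat_lit 18) [nat_lit 7] Ch.nil))))) (by decide +kernel)

theorem yt_c95_eq : (grp 324 y_E0) ⊓ Subgroup.centralizer {Net.toPerm 324 z_g1141} = grp 324 yt_c95_K :=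
  cent_eq yt_c95_sym yt_c95_cnt yt_c95_ge

theorem yt_c95_card : Nat.card ↥((grp 324 y_E0) ⊓ Subgroup.centralizer {Net.toPerm 324 z_g1141}) = 32 :=
  card_cent yt_c95_sym yt_c95_cnt yt_c95_ge

theorem yt_c95_ord : orderOf (Net.toPerm 324 z_g1141) = 8 :=
  orderOf_net z_hn z_hk z_g1141_ok (by decide) (ps := [2]) (by set_option linter.unusedSimpArgs false in simp [Nat.primeFactorsList_ofNat]) (by decide +kernel)

theorem z_le1151 : grp 324 yt_c96_K ≤ grp 324 y_E0 :=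
  grp_le_of_memB z_hn z_hk y_E0_ok yt_c96_K_ok (ws := [nat_lit 0x342f281f1d1f120715021501, nat_lit 0x33382f1f0f120701082d, nat_lit 0x353c191c, nat_lit 0x382f19221a]) (by decide +kernel)

theorem yt_c96_le : grp 324 yt_c96_K ≤ (grp 324 y_E0) :=
  (z_le1151.trans z_T111_s0.le)

theorem yt_c96_mem : Net.toPerm 324 z_g1146 ∈ (grp 324 y_E0) :=
  yt_c96_le (mem_grp_of_memB z_hn z_hk yt_c96_K_ok z_g1146_ok (w := (nat_lit 0x50703050703)) (by decide +kernel))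

theorem yt_c96_sym : Sym 324 (grp 324 y_E0) [z_g1146] yt_c96_K 0 :=
  Sym.of_lab z_hn z_hk (okE_cons.2 ⟨z_g1146_ok, okE_nil _⟩) yt_c96_K_ok yt_c96_le (kT := 0) (by decide +kernel)

theorem z_le1158 : grp 324 z_V1157 ≤ grp 324 z_V198 :=
  grp_le_of_memB z_hn z_hk z_V198_ok z_V1157_ok (ws := [nat_lit 0x252a21171a110c0104, nat_lit 0x2e0d0c03, nat_lit 0x262b211a110b0d0d, nat_lit 0x252b211a0b14, nat_lit 0x2a210b140c, nat_lit 0x2b1b110b0d0d]) (by decide +kernel)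

theorem z_T111_s167 : Stab 324 (grp 324 y_E0) [nat_lit 189, nat_lit 2, nat_lit 0] z_V1157 1458 :=
  Stab.step (k := 9) (L := (lab 324 9)) z_hn z_T111_s20 z_V1157_ok z_le1158 (c := (Ch.cons (nat_lit 39) [nat_lit 1, nat_lit 3] (Ch.cons (nat_lit 203) [nat_lit 5, nat_lit 7] (Ch.cons (nat_lit 161) [nat_lit 9, nat_lit 11] Ch.nil)))) (by decide +kernel)

theorem z_T111_s168 : Stab 324 (grp 324 y_E0) [nat_lit 39, nat_lit 189, nat_lit 2, nat_lit 0] z_V1159 243 :=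
  Stab.step (k := 9) (L := (lab 324 9)) z_hn z_T111_s167 z_V1159_ok (grp_mono (List.subset_append_right [z_g1152, z_g1153] _)) (c := (Ch.cons (nat_lit 203) [nat_lit 1, nat_lit 3] (Ch.cons (nat_lit 161) [nat_lit 5, nat_lit 7] Ch.nil))) (by decide +kernel)

theorem z_T111_s169 : Stab 324 (grp 324 y_E0) [nat_lit 203, nat_lit 39, nat_lit 189, nat_lit 2, nat_lit 0] z_V1160 9 :=
  Stab.step (k := 9) (L := (lab 324 9)) z_hn z_T111_s168 z_V1160_ok (grp_mono (List.subset_append_right [z_g1154, z_g1155] _)) (c := (Ch.cons (nat_lit 161) [nat_lit 1, nat_lit 3] Ch.nil)) (by decide +kernel)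

theorem z_T111_s170 : Stab 324 (grp 324 y_E0) [nat_lit 161, nat_lit 203, nat_lit 39, nat_lit 189, nat_lit 2, nat_lit 0] z_V1161 1 :=
  Stab.step (k := 9) (L := (lab 324 9)) z_hn z_T111_s169 z_V1161_ok (grp_mono (List.subset_append_right [z_g1150, z_g1156] _)) (c := Ch.nil) (by decide +kernel)

theorem z_g1152_z_T111 : Net.toPerm 324 z_g1152 ∈ (grp 324 y_E0) :=
  z_T111_s167.le (toPerm_mem_grp (E := z_V1157) (List.Mem.head _))

theorem z_g1153_z_T111 : Net.toPerm 324 z_g1153 ∈ (grp 324 y_E0) :=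
  z_T111_s167.le (toPerm_mem_grp (E := z_V1157) (List.Mem.tail _ (List.Mem.head _)))

theorem z_g1154_z_T111 : Net.toPerm 324 z_g1154 ∈ (grp 324 y_E0) :=
  z_T111_s167.le (toPerm_mem_grp (E := z_V1157) (List.Mem.tail _ (List.Mem.tail _ (List.Mem.head _))))

theorem z_g1155_z_T111 : Net.toPerm 324 z_g1155 ∈ (grp 324 y_E0) :=
  z_T111_s167.le (toPerm_mem_grp (E := z_V1157) (List.Mem.tail _ (List.Mem.tail _ (List.Mem.tail _ (List.Mem.head _)))))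

theorem z_g1150_z_T111 : Net.toPerm 324 z_g1150 ∈ (grp 324 y_E0) :=
  z_T111_s167.le (toPerm_mem_grp (E := z_V1157) (List.Mem.tail _ (List.Mem.tail _ (List.Mem.tail _ (List.Mem.tail _ (List.Mem.head _))))))

theorem z_g1156_z_T111 : Net.toPerm 324 z_g1156 ∈ (grp 324 y_E0) :=
  z_T111_s167.le (toPerm_mem_grp (E := z_V1157) (List.Mem.tail _ (List.Mem.tail _ (List.Mem.tail _ (List.Mem.tail _ (List.Mem.tail _ (List.Mem.head _)))))))

noncomputable def z_T111_s170_O : ℕ := (nat_lit 0xfffffffffffffffff000000000000000000000000000000000000000000000000000000000000000000000000000000000ffffffffffffffffffffffffffffffff00000000000000000000000000000000f0000000000000000ffffffffffffffff0000000000000000ffffffffffffffff00000000000000000ffffffff00000000ffffffff00000000ffffffff00000000ffffffff00000000ffffffff000000000ffff0000ffff0000ffff0000ffff0000ffff0000ffff0000ffff0000ffff0000ffff0000ff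ff00000ff00ff00ff00ff00ff00ff00ff00ff00ff00ff00ff00ff00ff00ff00ff00ff00ff00ff00ff00ff000f0f0f0f0f0f0f0f0f0f0f0f0f0f0f0f0f0f0f0f0f0f0f0f0f0f0f0f0f0f0f0f0f0f0f0f0f0f0f0f0cccccccccccccccccccccccccccccccccccccccccccccccccccccccccccccccccccccccccccccccccaaaaaaaaaaaaaaaaaaaaaaaaaaaaaaaaaaaaaaaaaaaaaaaaaaaaaaaaaaaaaaaaaaaaaaaaaaaaaaaaa000000000000000000000000000000000000000000000000000000000000000000000000000000001000000000000000000000000000000000000000000000000000000000000000000000000000000004000000000000000000000000000000000200000000000000000000000000000000000000000000000000000000000000000000000000000000000000000000000000000000000000000000008000000000000000000000000000000000000000800000000000000000000000000000000000000000000000000000000000000000000000000000000000000000020000000000000000000000000000000000000000)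

theorem z_T111_s170_F : Frame 324 (grp 324 y_E0) 6 15 z_T111_s170_O 1 1 :=
  IsBase.frame z_T111_s170.isBase (by decide +kernel)

noncomputable def z_T111_s169_O : ℕ := (nat_lit 0x8c0008310408840004909290a082813241728008090080000000000000000000000000000000000008c0008310000000000000000000000000000000000000a8920add2345042040100401900500220001737b61c4fdcdfdd2f7f29290b4ba100000801fb3869d1ffdf9bdfe2083293b008000000000000ab0e42cff28e463ae72d4c95cc281865f7324140715470226baf67e220dc5cc2848f7fa1000000000ab0f8db0130a2d7a9e5b2a4c7ed3495ca7fd9e3f8a00c2850ac8985f8d5e790d80503c4ed97880000aa0781f71d2487ea708a1da61304e62cd7c7debd028cba647a21361e5c1d8ef6fab63352b61778000a1085ab4599875168a39343e348b9499c4e607aa6f28052c2dc3d0c94bdbeecc35d46a70ae0f67fe0890000000000000000000000000000000000000000000000000000000000000000000000000000000001000000000000000000000000000000000000000000000000000000000000000000000000000000004000000000000000000000000000000000200000000000000000000000000000000000000000000000000000000000000000000000000000000000000000000000000000000000000000000008000000000000000000000000000000000000000800000000000000000000000000000000000000000000000000)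

theorem z_T111_s169_F : Frame 324 (grp 324 y_E0) 5 12 z_T111_s169_O 0 1 :=
  Stab.frame z_hn z_T111_s169 (by decide +kernel)

noncomputable def z_T111_s168_O : ℕ := (nat_lit 0x100000000001000000000000000000000000000000000000000000000000000000000000000000000000000000000224172000000000000000000000000040000001900500220009c3cb789c445af70b440414901020942241729110820083a541f5366c084000012800000000000ab063c040263baa508d0abc0ca00a8d66a3241000caf7db97c58ae0ac01055ab8f869740190000000aa00b0348b529d8d84e4874978bb4849e0e79e6de6e344bfb69318a51ba625e50fddc6a3901850000a10721f393462b63787eba7748680d7d362840d06a47f29740729e120c898b09b40af5bd6e67e0020890000000000000000000000000000000000000000000000000000000000000000000000000000000001000000000000000000000000000000000000000000000000000000000000000000000000000000004000000000000000000000000000000000200000000000000000000000000000000000000000000000000000000000000000000000000000000000000000000000000000000000000000000008000000000)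

theorem z_T111_s168_F : Frame 324 (grp 324 y_E0) 4 10 z_T111_s168_O 0 1 :=
  Stab.frame z_hn z_T111_s168 (by decide +kernel)

noncomputable def z_T111_s167_O : ℕ := (nat_lit 0x10000000000000000000000000000000000000000000000000000000000000000000000000000000000000000000000400000000000000000000000000000000000000000000000000000000000000000000000000000000010000000000000000000000000000000000000000000000000000000000000000000000000000000000000000000000000000000000000000000100000000000000000000000000000000000000000000000000000000000000000000000000000000010000000000000000000000000000000000000000000000000000000000000000000000000000000000000000800000000000000000000000000000000102007200000000000000000000000000000000000000000000000000000000000000000000000000020000000000000000000000000000004000000088050000000000000000000000000000000000000000000000000000000000000000000000000000000000022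2b00000000000000000000082003400000c59e0d0000000000000000010220040050000280180000000000000000000000000102200400500000800800000000000000000000182003000001c6667a000000000000040000000000000001040200000000000000004000000000000000104020000000000ffdd54a84238e1884110032540010428100900000000735000060106514028c00000000848a1000000000000000000000000000000000000000000000000000000000000000000000000000000000000000000001000000000000000000000000000000000000000000000000000000000000000000000000000000004000000000000000000000000000000000200000000000000000000000000000000000000000000000)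

theorem z_T111_s167_F : Frame 324 (grp 324 y_E0) 3 16 z_T111_s167_O 0 1 :=
  Stab.frame z_hn z_T111_s167 (by decide +kernel)

noncomputable def yt_c96_cnt_L : List ℕ := [1, 4, z_T111_s1_O, 0, 0, 3, 16, z_T111_s167_O, 0, 0, 4, 10, z_T111_s168_O, 0, 0, 5, 12, z_T111_s169_O, 0, 0, 6, 15, z_T111_s170_O, 1, 0]

theorem yt_c96_cnt_P : Prob 324 9 (grp 324 y_E0) yt_c96_cnt_EG [z_g1146] [z_g1146] yt_c96_K yt_c96_cnt_L 0 0 :=
  Sym.prob z_hn z_hk yt_c96_sym yt_c96_cnt_EG_ok (grp_cons_le z_g39_z_T111 (grp_cons_le zg1_z_T111 (grp_cons_le zg3_z_T111 (grp_cons_le z_g43_z_T111 (grp_cons_le z_g42_z_T111 (grp_cons_le zg2_z_T111 (grp_cons_le z_g44_z_T111 (grp_cons_le z_g54_z_T111 (grp_cons_le z_g55_z_T111 (grp_cons_le z_g49_z_T111 (grp_cons_le z_g50_z_T111 (grp_cons_le z_g51_z_T111 (grp_cons_le z_g62_z_T111 (grp_cons_le z_g58_z_T111 (grp_cons_le z_g59_z_T111 (grp_cons_le z_g65_z_T111 (grp_cons_le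 z_g66_z_T111 (grp_cons_le z_g67_z_T111 (grp_cons_le z_g77_z_T111 (grp_cons_le z_g78_z_T111 (grp_cons_le z_g72_z_T111 (grp_cons_le z_g73_z_T111 (grp_cons_le z_g74_z_T111 (grp_cons_le z_g81_z_T111 (grp_cons_le z_g82_z_T111 (grp_cons_le z_g87_z_T111 (grp_cons_le zg0_z_T111 (grp_cons_le z_g91_z_T111 (grp_cons_le z_g28_z_T111 (grp_cons_le z_g88_z_T111 (grp_cons_le z_g1152_z_T111 (grp_cons_le z_g1153_z_T111 (grp_cons_le z_g1154_z_T111 (grp_cons_le z_g1155_z_T111 (grp_cons_le z_g1150_z_T111 (grp_cons_le z_g1156_z_T111 (grp_nil_le _))))))))))))))))))))))))))))))))))))) (Frames.cons z_T111_s1_F (Frames.cons z_T111_s167_F (Frames.cons z_T111_s168_F (Frames.cons z_T111_s169_F (Frames.cons z_T111_s170_F Frames.nil))))) (okE_cons.2 ⟨z_g1146_ok, okE_nil _⟩) _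

noncomputable def yt_c96_cnt_t : BT := (BT.fix (nat_lit 65793) (BT.dif (nat_lit 3) (nat_lit 0) (BT.br (nat_lit 0) (nat_lit 0) [nat_lit 1, nat_lit 3] (BT.dead (nat_lit 56) (BT.img (nat_lit 1) (nat_lit 0) (BT.img (nat_lit 1) (nat_lit 0) (BT.img (nat_lit 1) (nat_lit 0) (BT.frm (nat_lit 1) (nat_lit 0x112f070a) (nat_lit 0x151907070212) [nat_lit 2, nat_lit 0, nat_lit 3] (BT.pln (nat_lit 0) (nat_lit 3) (BT.and (nat_lit 0) (nat_lit 7) (BT.cnt (nat_lit 0)))))))) (BT.kid (nat_lit 0) (nat_lit 9) (BT.frm (nat_lit 0) (nat_lit 0) (nat_lit 0) [nat_lit 0] (BT.pln (nat_lit 0) (nat_lit 1) (BT.dif (nat_lit 3) (nat_lit 0) (BT.pln (nat_lit 2) (nat_lit 2) (BT.dif (nat_lit 1) (nat_lit 0) (BT.img (nat_lit 1) (nat_lit 5) (BT.img (nat_lit 1) (nat_lit 0) (BT.img (nat_lit 1) (nat_lit 0) (BT.frm (nat_lit 2) (nat_lit 0x112f070a) (nat_lit 0x112f070a) [nat_lit 1, nat_lit 2, nat_lit 0, nat_lit 8] (BT.pln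 (nat_lit 0) (nat_lit 6) (BT.and (nat_lit 5) (nat_lit 0) (BT.pln (nat_lit 2) (nat_lit 5) (BT.dif (nat_lit 1) (nat_lit 0) (BT.pln (nat_lit 4) (nat_lit 4) (BT.dif (nat_lit 1) (nat_lit 0) (BT.pln (nat_lit 14) (nat_lit 3) (BT.dif (nat_lit 1) (nat_lit 0) (BT.br (nat_lit 0) (nat_lit 61) [nat_lit 5, nat_lit 7] (BT.dead (nat_lit 106) (BT.frm (nat_lit 3) (nat_lit 0x4342112f070a) (nat_lit 0x414441112f070a) [nat_lit 0, nat_lit 11, nat_lit 12, nat_lit 10, nat_lit 18] (BT.pln (nat_lit 0) (nat_lit 5) (BT.and (nat_lit 0) (nat_lit 22) (BT.cnt (nat_lit 0))))) (BT.kid (nat_lit 61) (nat_lit 1) (BT.img (nat_lit 1) (nat_lit 0) (BT.one (nat_lit 4) (nat_lit 0x45484342112f070a) (nat_lit 0x45484342112f070a) [nat_lit 0, nat_lit 1, nat_lit 12, nat_lit 13, nat_lit 11, nat_lit 19])) BT.nil)))))))))))))))))))) BT.nil)))))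

theorem yt_c96_cnt : Cnt 324 (grp 324 y_E0) [z_g1146] [z_g1146] 0 0 0 0 1458 :=
  BT.sound yt_c96_cnt_P Known.nil (t := yt_c96_cnt_t) (d := 0) (by decide +kernel)

theorem yt_c96_ge : 1458 ≤ Nat.card (grp 324 yt_c96_K) :=
  Ch.le_card_grp (k := 9) (L := (lab 324 9)) z_hn yt_c96_K_ok (c := (Ch.cons (nat_lit 0) [nat_lit 1, nat_lit 3] (Ch.cons (nat_lit 61) [nat_lit 5, nat_lit 7] Ch.nil))) (by decide +kernel)

theorem yt_c96_eq : (grp 324 y_E0) ⊓ Subgroup.centralizer {Net.toPerm 324 z_g1146} = grp 324 yt_c96_K :=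
  cent_eq yt_c96_sym yt_c96_cnt yt_c96_ge

theorem yt_c96_card : Nat.card ↥((grp 324 y_E0) ⊓ Subgroup.centralizer {Net.toPerm 324 z_g1146}) = 1458 :=
  card_cent yt_c96_sym yt_c96_cnt yt_c96_ge

theorem yt_c96_ord : orderOf (Net.toPerm 324 z_g1146) = 9 :=
  orderOf_net z_hn z_hk z_g1146_ok (by decide) (ps := [3]) (by set_option linter.unusedSimpArgs false in simp [Nat.primeFactorsList_ofNat]) (by decide +kernel)

theorem z_le1167 : grp 324 yt_c97_K ≤ grp 324 y_E0 :=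
  grp_le_of_memB z_hn z_hk y_E0_ok yt_c97_K_ok (ws := [nat_lit 0x3c2f1f19201a0f1208052e, nat_lit 0x333b2f281f19201c0f120707010515, nat_lit 0x33352619201a, nat_lit 0x3339271d1f]) (by decide +kernel)

theorem yt_c97_le : grp 324 yt_c97_K ≤ (grp 324 y_E0) :=
  (z_le1167.trans z_T111_s0.le)

theorem yt_c97_mem : Net.toPerm 324 z_g1162 ∈ (grp 324 y_E0) :=
  yt_c97_le (mem_grp_of_memB z_hn z_hk yt_c97_K_ok z_g1162_ok (w := (nat_lit 0x60802060802)) (by decide +kernel))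

theorem yt_c97_sym : Sym 324 (grp 324 y_E0) [z_g1162] yt_c97_K 0 :=
  Sym.of_lab z_hn z_hk (okE_cons.2 ⟨z_g1162_ok, okE_nil _⟩) yt_c97_K_ok yt_c97_le (kT := 0) (by decide +kernel)

noncomputable def yt_c97_cnt_L : List ℕ := [1, 4, z_T111_s1_O, 0, 0, 3, 16, z_T111_s167_O, 0, 0, 4, 10, z_T111_s168_O, 0, 0, 5, 12, z_T111_s169_O, 0, 0, 6, 15, z_T111_s170_O, 1, 0]

theorem yt_c97_cnt_P : Prob 324 9 (grp 324 y_E0) yt_c97_cnt_EG [z_g1162] [z_g1162] yt_c97_K yt_c97_cnt_L 0 0 :=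
  Sym.prob z_hn z_hk yt_c97_sym yt_c97_cnt_EG_ok (grp_cons_le z_g39_z_T111 (grp_cons_le zg1_z_T111 (grp_cons_le zg3_z_T111 (grp_cons_le z_g43_z_T111 (grp_cons_le z_g42_z_T111 (grp_cons_le zg2_z_T111 (grp_cons_le z_g44_z_T111 (grp_cons_le z_g54_z_T111 (grp_cons_le z_g55_z_T111 (grp_cons_le z_g49_z_T111 (grp_cons_le z_g50_z_T111 (grp_cons_le z_g51_z_T111 (grp_cons_le z_g62_z_T111 (grp_cons_le z_g58_z_T111 (grp_cons_le z_g59_z_T111 (grp_cons_le z_g65_z_T111 (grp_cons_le z_g66_z_T111 (grp_cons_le z_g67_z_T111 (grp_cons_le z_g77_z_T111 (grp_cons_le z_g78_z_T111 (grp_cons_le z_g72_z_T111 (grp_cons_le z_g73_z_T111 (grp_cons_le z_g74_z_T111 (grp_cons_le z_g81_z_T111 (grp_cons_le z_g82_z_T111 (grp_cons_le z_g87_z_T111 (grp_cons_le zg0_z_T111 (grp_cons_le z_g91_z_T111 (grp_cons_le z_g28_z_T111 (grp_cons_le z_g88_z_T111 (grp_cons_le z_g1152_z_T111 (grp_cons_le z_g1153_z_T111 (grp_cons_le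 z_g1154_z_T111 (grp_cons_le z_g1155_z_T111 (grp_cons_le z_g1150_z_T111 (grp_cons_le z_g1156_z_T111 (grp_nil_le _))))))))))))))))))))))))))))))))))))) (Frames.cons z_T111_s1_F (Frames.cons z_T111_s167_F (Frames.cons z_T111_s168_F (Frames.cons z_T111_s169_F (Frames.cons z_T111_s170_F Frames.nil))))) (okE_cons.2 ⟨z_g1162_ok, okE_nil _⟩) _

noncomputable def yt_c97_cnt_t : BT := (BT.fix (nat_lit 65793) (BT.dif (nat_lit 3) (nat_lit 0) (BT.br (nat_lit 0) (nat_lit 0) [nat_lit 1, nat_lit 3, nat_lit 5] (BT.dead (nat_lit 63) (BT.img (nat_lit 1) (nat_lit 0) (BT.img (nat_lit 1) (nat_lit 0) (BT.img (nat_lit 1) (nat_lit 0) (BT.frm (nat_lit 1) (nat_lit 0x112607) (nat_lit 0x19071501111d) [nat_lit 2, nat_lit 0, nat_lit 3] (BT.pln (nat_lit 0) (nat_lit 3) (BT.and (nat_lit 0) (nat_lit 7) (BT.cnt (nat_lit 0)))))))) (BT.dead (nat_lit 54) (BT.img (nat_lit 1) (nat_lit 0) (BT.img (nat_lit 1) (nat_lit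 0) (BT.img (nat_lit 1) (nat_lit 0) (BT.frm (nat_lit 1) (nat_lit 0x112607) (nat_lit 0x250115) [nat_lit 2, nat_lit 0, nat_lit 3] (BT.pln (nat_lit 0) (nat_lit 3) (BT.and (nat_lit 0) (nat_lit 7) (BT.cnt (nat_lit 0)))))))) (BT.kid (nat_lit 0) (nat_lit 9) (BT.frm (nat_lit 0) (nat_lit 0) (nat_lit 0) [nat_lit 0] (BT.pln (nat_lit 0) (nat_lit 1) (BT.dif (nat_lit 3) (nat_lit 0) (BT.pln (nat_lit 2) (nat_lit 2) (BT.dif (nat_lit 1) (nat_lit 0) (BT.img (nat_lit 1) (nat_lit 5) (BT.img (nat_lit 1) (nat_lit 0) (BT.img (nat_lit 1) (nat_lit 0) (BT.frm (nat_lit 2) (nat_lit 0x40112607) (nat_lit 0x40112607) [nat_lit 1, nat_lit 2, nat_lit 0, nat_lit 8] (BT.pln (nat_lit 0) (nat_lit 6) (BT.and (nat_lit 5) (nat_lit 0) (BT.pln (nat_lit 2) (nat_lit 5) (BT.dif (nat_lit 1) (nat_lit 0) (BT.pln (nat_lit 4) (nat_lit 4) (BT.dif (nat_lit 1) (nat_lit 0) (BT.pln (nat_lit 14) (nat_lit 3) (BT.dif (nat_lit 1) (nat_lit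 0) (BT.br (nat_lit 0) (nat_lit 106) [nat_lit 5, nat_lit 7] (BT.dead (nat_lit 133) (BT.frm (nat_lit 3) (nat_lit 0x44424340112607) (nat_lit 0x414440112607) [nat_lit 0, nat_lit 11, nat_lit 12, nat_lit 10, nat_lit 18] (BT.pln (nat_lit 0) (nat_lit 5) (BT.and (nat_lit 0) (nat_lit 22) (BT.cnt (nat_lit 0))))) (BT.kid (nat_lit 106) (nat_lit 1) (BT.img (nat_lit 1) (nat_lit 0) (BT.one (nat_lit 4) (nat_lit 0x4644424340112607) (nat_lit 0x4644424340112607) [nat_lit 0, nat_lit 1, nat_lit 12, nat_lit 13, nat_lit 11, nat_lit 19])) BT.nil)))))))))))))))))))) BT.nil))))))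

theorem yt_c97_cnt : Cnt 324 (grp 324 y_E0) [z_g1162] [z_g1162] 0 0 0 0 1458 :=
  BT.sound yt_c97_cnt_P Known.nil (t := yt_c97_cnt_t) (d := 0) (by decide +kernel)

theorem yt_c97_ge : 1458 ≤ Nat.card (grp 324 yt_c97_K) :=
  Ch.le_card_grp (k := 9) (L := (lab 324 9)) z_hn yt_c97_K_ok (c := (Ch.cons (nat_lit 0) [nat_lit 1, nat_lit 3] (Ch.cons (nat_lit 106) [nat_lit 5, nat_lit 7] Ch.nil))) (by decide +kernel)

theorem yt_c97_eq : (grp 324 y_E0) ⊓ Subgroup.centralizer {Net.toPerm 324 z_g1162} = grp 324 yt_c97_K :=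
  cent_eq yt_c97_sym yt_c97_cnt yt_c97_ge

theorem yt_c97_card : Nat.card ↥((grp 324 y_E0) ⊓ Subgroup.centralizer {Net.toPerm 324 z_g1162}) = 1458 :=
  card_cent yt_c97_sym yt_c97_cnt yt_c97_ge

theorem yt_c97_ord : orderOf (Net.toPerm 324 z_g1162) = 9 :=
  orderOf_net z_hn z_hk z_g1162_ok (by decide) (ps := [3]) (by set_option linter.unusedSimpArgs false in simp [Nat.primeFactorsList_ofNat]) (by decide +kernel)

theorem z_le1174 : grp 324 yt_c98_K ≤ grp 324 y_E0 :=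
  grp_le_of_memB z_hn z_hk y_E0_ok yt_c98_K_ok (ws := [nat_lit 0x33382f2b1f1b0715010a2f, nat_lit 0x35382619230f12010515, nat_lit 0x33392f25192212070c012602, nat_lit 0x2519221a1108021f, nat_lit 0x333b2f261f19231509050225]) (by decide +kernel)

theorem yt_c98_le : grp 324 yt_c98_K ≤ (grp 324 y_E0) :=
  (z_le1174.trans z_T111_s0.le)

theorem yt_c98_mem : Net.toPerm 324 z_g1168 ∈ (grp 324 y_E0) :=
  yt_c98_le (mem_grp_of_memB z_hn z_hk yt_c98_K_ok z_g1168_ok (w := (nat_lit 773)) (by decide +kernel))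

theorem yt_c98_sym : Sym 324 (grp 324 y_E0) [z_g1168] yt_c98_K 0 :=
  Sym.of_lab z_hn z_hk (okE_cons.2 ⟨z_g1168_ok, okE_nil _⟩) yt_c98_K_ok yt_c98_le (kT := 0) (by decide +kernel)

noncomputable def yt_c98_cnt_L : List ℕ := [1, 4, z_T111_s1_O, 0, 0, 4, 11, z_T111_s14_O, 0, 0, 6, 12, z_T111_s16_O, 0, 0, 7, 14, z_T111_s46_O, 0, 0, 8, 15, z_T111_s47_O, 0, 0, 9, 18, z_T111_s48_O, 1, 0]

theorem yt_c98_cnt_P : Prob 324 9 (grp 324 y_E0) yt_c98_cnt_EG [z_g1168] [z_g1168] yt_c98_K yt_c98_cnt_L 0 0 :=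
  Sym.prob z_hn z_hk yt_c98_sym yt_c98_cnt_EG_ok (grp_cons_le z_g39_z_T111 (grp_cons_le zg1_z_T111 (grp_cons_le zg3_z_T111 (grp_cons_le z_g43_z_T111 (grp_cons_le z_g42_z_T111 (grp_cons_le zg2_z_T111 (grp_cons_le z_g44_z_T111 (grp_cons_le z_g54_z_T111 (grp_cons_le z_g55_z_T111 (grp_cons_le z_g49_z_T111 (grp_cons_le z_g50_z_T111 (grp_cons_le z_g51_z_T111 (grp_cons_le z_g62_z_T111 (grp_cons_le z_g58_z_T111 (grp_cons_le z_g59_z_T111 (grp_cons_le z_g65_z_T111 (grp_cons_le z_g66_z_T111 (grp_cons_le z_g67_z_T111 (grp_cons_le z_g77_z_T111 (grp_cons_le z_g78_z_T111 (grp_cons_le z_g72_z_T111 (grp_cons_le z_g73_z_T111 (grp_cons_le z_g74_z_T111 (grp_cons_le z_g81_z_T111 (grp_cons_le z_g82_z_T111 (grp_cons_le z_g87_z_T111 (grp_cons_le zg0_z_T111 (grp_cons_le z_g91_z_T111 (grp_cons_le z_g28_z_T111 (grp_cons_le z_g88_z_T111 (grp_cons_le z_g174_z_T111 (grp_cons_le z_g175_z_T111 (grp_cons_le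 z_g176_z_T111 (grp_cons_le z_g177_z_T111 (grp_cons_le z_g30_z_T111 (grp_cons_le z_g178_z_T111 (grp_cons_le z_g126_z_T111 (grp_cons_le z_g127_z_T111 (grp_cons_le z_g128_z_T111 (grp_cons_le z_g129_z_T111 (grp_cons_le z_g130_z_T111 (grp_cons_le z_g131_z_T111 (grp_cons_le z_g132_z_T111 (grp_cons_le z_g133_z_T111 (grp_cons_le z_g134_z_T111 (grp_cons_le z_g135_z_T111 (grp_cons_le z_g361_z_T111 (grp_nil_le _)))))))))))))))))))))))))))))))))))))))))))))))) (Frames.cons z_T111_s1_F (Frames.cons z_T111_s14_F (Frames.cons z_T111_s16_F (Frames.cons z_T111_s46_F (Frames.cons z_T111_s47_F (Frames.cons z_T111_s48_F Frames.nil)))))) (okE_cons.2 ⟨z_g1168_ok, okE_nil _⟩) _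

noncomputable def yt_c98_cnt_t : BT := (BT.fix (nat_lit 1) (BT.br (nat_lit 0) (nat_lit 98) [nat_lit 1, nat_lit 7] (BT.kid (nat_lit 98) (nat_lit 162) (BT.frm (nat_lit 0) (nat_lit 65805) (nat_lit 65805) [nat_lit 0] (BT.pln (nat_lit 0) (nat_lit 2) (BT.br (nat_lit 0) (nat_lit 174) [nat_lit 3, nat_lit 5] (BT.kid (nat_lit 174) (nat_lit 6) (BT.pln (nat_lit 2) (nat_lit 1) (BT.img (nat_lit 1) (nat_lit 1) (BT.img (nat_lit 1) (nat_lit 0) (BT.frm (nat_lit 1) (nat_lit 0x3d3f5001010d) (nat_lit 0x3d3f5001010d) [nat_lit 0, nat_lit 1, nat_lit 3, nat_lit 6] (BT.pln (nat_lit 0) (nat_lit 4) (BT.dif (nat_lit 4) (nat_lit 0) (BT.fix (nat_lit 65793) (BT.dif (nat_lit 1) (nat_lit 0) (BT.img (nat_lit 1) (nat_lit 5) (BT.img (nat_lit 1) (nat_lit 0) (BT.img (nat_lit 1) (nat_lit 0) (BT.frm (nat_lit 2) (nat_lit 0x413f413d3f5001010d) (nat_lit 0x413f413d3f5001010d) [nat_lit 0, nat_lit 1, nat_lit 8, nat_lit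 9, nat_lit 11, nat_lit 14] (BT.pln (nat_lit 0) (nat_lit 6) (BT.dif (nat_lit 5) (nat_lit 0) (BT.br (nat_lit 0) (nat_lit 309) [nat_lit 7] (BT.kid (nat_lit 309) (nat_lit 3) (BT.pln (nat_lit 3) (nat_lit 9) (BT.and (nat_lit 3) (nat_lit 0) (BT.pln (nat_lit 5) (nat_lit 8) (BT.and (nat_lit 1) (nat_lit 0) (BT.pln (nat_lit 7) (nat_lit 7) (BT.dif (nat_lit 1) (nat_lit 0) (BT.dif (nat_lit 0) (nat_lit 20) (BT.frm (nat_lit 3) (nat_lit 0x43413f413d3f5001010d) (nat_lit 0x43413f413d3f5001010d) [nat_lit 13, nat_lit 11, nat_lit 12, nat_lit 19, nat_lit 20, nat_lit 22, nat_lit 25] (BT.pln (nat_lit 0) (nat_lit 10) (BT.and (nat_lit 2) (nat_lit 0) (BT.frm (nat_lit 4) (nat_lit 0x43413f413d3f5001010d) (nat_lit 0x43413f413d3f5001010d) [nat_lit 10, nat_lit 16, nat_lit 14, nat_lit 15, nat_lit 22, nat_lit 23, nat_lit 25, nat_lit 28] (BT.pln (nat_lit 0) (nat_lit 8) (BT.dif (nat_lit 2) (nat_lit 0) (BT.br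 (nat_lit 0) (nat_lit 78) [nat_lit 9] (BT.kid (nat_lit 78) (nat_lit 1) (BT.one (nat_lit 5) (nat_lit 0x4843413f413d3f5001010d) (nat_lit 0x4843413f413d3f5001010d) [nat_lit 0, nat_lit 14, nat_lit 20, nat_lit 18, nat_lit 19, nat_lit 26, nat_lit 27, nat_lit 29, nat_lit 32]) BT.nil))))))))))))))) BT.nil)))))))))))))))) BT.nil)))) BT.nil)))

theorem yt_c98_cnt : Cnt 324 (grp 324 y_E0) [z_g1168] [z_g1168] 0 0 0 0 1458 :=
  BT.sound yt_c98_cnt_P Known.nil (t := yt_c98_cnt_t) (d := 0) (by decide +kernel)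

theorem yt_c98_ge : 1458 ≤ Nat.card (grp 324 yt_c98_K) :=
  Ch.le_card_grp (k := 9) (L := (lab 324 9)) z_hn yt_c98_K_ok (c := (Ch.cons (nat_lit 98) [nat_lit 1] (Ch.cons (nat_lit 174) [nat_lit 3, nat_lit 5] (Ch.cons (nat_lit 309) [nat_lit 7] (Ch.cons (nat_lit 78) [nat_lit 9] Ch.nil))))) (by decide +kernel)

theorem yt_c98_eq : (grp 324 y_E0) ⊓ Subgroup.centralizer {Net.toPerm 324 z_g1168} = grp 324 yt_c98_K :=
  cent_eq yt_c98_sym yt_c98_cnt yt_c98_ge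

theorem yt_c98_card : Nat.card ↥((grp 324 y_E0) ⊓ Subgroup.centralizer {Net.toPerm 324 z_g1168}) = 1458 :=
  card_cent yt_c98_sym yt_c98_cnt yt_c98_ge

theorem yt_c98_ord : orderOf (Net.toPerm 324 z_g1168) = 9 :=
  orderOf_net z_hn z_hk z_g1168_ok (by decide) (ps := [3]) (by set_option linter.unusedSimpArgs false in simp [Nat.primeFactorsList_ofNat]) (by decide +kernel)

theorem z_le1179 : grp 324 yt_c99_K ≤ grp 324 y_E0 :=
  grp_le_of_memB z_hn z_hk y_E0_ok yt_c99_K_ok (ws := [nat_lit 0x33352f261f19210f07150210, nat_lit 0x342f2919201507070126, nat_lit 0x34392f281f191b1b, nat_lit 0x3327191c]) (by decide +kernel)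

theorem yt_c99_le : grp 324 yt_c99_K ≤ (grp 324 y_E0) :=
  (z_le1179.trans z_T111_s0.le)

theorem yt_c99_mem : Net.toPerm 324 z_g1175 ∈ (grp 324 y_E0) :=
  yt_c99_le (mem_grp_of_memB z_hn z_hk yt_c99_K_ok z_g1175_ok (w := (nat_lit 514)) (by decide +kernel))

theorem yt_c99_sym : Sym 324 (grp 324 y_E0) [z_g1175] yt_c99_K 0 :=
  Sym.of_lab z_hn z_hk (okE_cons.2 ⟨z_g1175_ok, okE_nil _⟩) yt_c99_K_ok yt_c99_le (kT := 0) (by decide +kernel)

theorem z_le1183 : grp 324 z_V1182 ≤ grp 324 z_V822 :=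
  grp_le_of_memB z_hn z_hk z_V822_ok z_V1182_ok (ws := [nat_lit 67074, nat_lit 0x7020801, nat_lit 0x603010401, nat_lit 0x507010502]) (by decide +kernel)

theorem z_T111_s171 : Stab 324 (grp 324 y_E0) [nat_lit 143, nat_lit 314, nat_lit 2, nat_lit 0] z_V1182 81 :=
  Stab.step (k := 9) (L := (lab 324 9)) z_hn z_T111_s123 z_V1182_ok z_le1183 (c := (Ch.cons (nat_lit 274) [nat_lit 1, nat_lit 3] (Ch.cons (nat_lit 193) [nat_lit 5, nat_lit 7] Ch.nil))) (by decide +kernel)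

theorem z_T111_s172 : Stab 324 (grp 324 y_E0) [nat_lit 274, nat_lit 143, nat_lit 314, nat_lit 2, nat_lit 0] z_V1184 9 :=
  Stab.step (k := 9) (L := (lab 324 9)) z_hn z_T111_s171 z_V1184_ok (grp_mono (List.subset_append_right [z_g1180, z_g1181] _)) (c := (Ch.cons (nat_lit 193) [nat_lit 1, nat_lit 3] Ch.nil)) (by decide +kernel)

theorem z_T111_s173 : Stab 324 (grp 324 y_E0) [nat_lit 193, nat_lit 274, nat_lit 143, nat_lit 314, nat_lit 2, nat_lit 0] z_V1185 1 :=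
  Stab.step (k := 9) (L := (lab 324 9)) z_hn z_T111_s172 z_V1185_ok (grp_mono (List.subset_append_right [z_g378, z_g377] _)) (c := Ch.nil) (by decide +kernel)

theorem z_g1180_z_T111 : Net.toPerm 324 z_g1180 ∈ (grp 324 y_E0) :=
  z_T111_s171.le (toPerm_mem_grp (E := z_V1182) (List.Mem.head _))

theorem z_g1181_z_T111 : Net.toPerm 324 z_g1181 ∈ (grp 324 y_E0) :=
  z_T111_s171.le (toPerm_mem_grp (E := z_V1182) (List.Mem.tail _ (List.Mem.head _)))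

noncomputable def z_T111_s173_O : ℕ := (nat_lit 0xfffffffffffffffff000000000000000000000000000000000000000000000000000000000000000000000000000000000ffffffffffffffffffffffffffffffff00000000000000000000000000000000f0000000000000000ffffffffffffffff0000000000000000ffffffffffffffff00000000000000000ffffffff00000000ffffffff00000000ffffffff00000000ffffffff00000000ffffffff000000000ffff0000ffff0000ffff0000ffff0000ffff0000ffff0000ffff0000ffff0000ffff0000ffff00000ff00ff00ff00ff00ff00ff00ff00ff00ff00ff00ff00ff00ff00ff00ff00ff00ff00ff00ff00ff000f0f0f0f0f0f0f0f0f0f0f0f0f0f0f0f0f0f0f0f0f0f0f0f0f0f0f0f0f0f0f0f0f0f0f0f0f0f0f0f0cccccccccccccccccccccccccccccccccccccccccccccccccccccccccccccccccccccccccccccccccaaaaaaaaaaaaaaaaaaaaaaaaaaaaaaaaaaaaaaaaaaaaaaaaaaaaaaaaaaaaaaaaaaaaaaaaaaaaaaaaa000000000000000000000000000000000000000000000000000000000000000000000000000000001000000000000000000000000000000000000000000000000000000000000000000000000000000004004000000000000000000000000000000000000000000000000000000000000000000000000000000000000000000000000000000000000000000000000000800000000000000000000000000000000000000000000000400000000000000000000000000000000000000000000000000000000000000000000000000000000000000000000000000002000000000000000000000000000000000000000000000000)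

theorem z_T111_s173_F : Frame 324 (grp 324 y_E0) 6 15 z_T111_s173_O 1 1 :=
  IsBase.frame z_T111_s173.isBase (by decide +kernel)

noncomputable def z_T111_s172_O : ℕ := (nat_lit 0x731000060106114028c00000040848a11980584238c0000000000000000000000000000000000000073100004000000000000000000000000000000000021804110032540110428100901226172002200004a7b69b5f9e1fdd2ff721210f4bc990260f21b90029d1dfdd93e7c35936b3a000000000000000ab08c2c752ae567b762b0094cc8818637713f877610c7338673366f182c84c808187ff72240000000ab0f88b8bb3b157a830dcc0d7ef3e94826dd86089672421e0e8c11cf7f7e28048159bc8dc27e80000aa04b0bcb5203f0b195cea5501a4029c47f67f7a9e55b2f762559f836a091d9dc5bf23939b9178000a10aa94fa02d24596f15f4aba6a3a4b2d221118498790b2a2a7ca1ebb353e6c8b4cd8ad13b8d57fe0890000000000000000000000000000000000000000000000000000000000000000000000000000000001000000000000000000000000000000000000000000000000000000000000000000000000000000004004000000000000000000000000000000000000000000000000000000000000000000000000000000000000000000000000000000000000000000000000000800000000000000000000000000000000000000000000000400000000000000000000000000000000000000000000000000000000000000000000)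

theorem z_T111_s172_F : Frame 324 (grp 324 y_E0) 5 12 z_T111_s172_O 0 1 :=
  Stab.frame z_hn z_T111_s172 (by decide +kernel)

noncomputable def z_T111_s171_O : ℕ := (nat_lit 0x20000004000410000000808912607280000800000100205000104200000000000000022ab07fbfb79f5fdeffddaff661290b4bc9e1000809fb3869d1ffcd99f2e3c8b29bb01b00000000000000094b7feb9f6350fb376081de38b87b70c406087b5cfb2669eff77cfcf454ce009e4fe18000000000008527f63aedb9467c1576a6c435de87009988517b47cad75255f606943a7a13bc60f1e667fa0022a009eb4346ef4c59766392eaef8ffe63b8219985610bcbd10b3b68d997d2f3117461cc621998580220a0981cfb83c8cdaf3cf47c594f04122d439990510d88ba332a429f5b66c4de10e8d2acf59f0d7fe0890000000000000000000000000000000000000000000000000000000000000000000000000000000001000000000000000000000000000000000000000000000000000000000000000000000000000000004004000000000000000000000000000000000000000000000000000000000000000000000000000000000000000000000000000000000000000000000000000800000000000000000000000000000000000)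

theorem z_T111_s171_F : Frame 324 (grp 324 y_E0) 4 10 z_T111_s171_O 0 1 :=
  Stab.frame z_hn z_T111_s171 (by decide +kernel)

noncomputable def yt_c99_cnt_L : List ℕ := [1, 4, z_T111_s1_O, 0, 0, 3, 20, z_T111_s123_O, 0, 0, 4, 10, z_T111_s171_O, 0, 0, 5, 12, z_T111_s172_O, 0, 0, 6, 15, z_T111_s173_O, 1, 0]

theorem yt_c99_cnt_P : Prob 324 9 (grp 324 y_E0) yt_c99_cnt_EG [z_g1175] [z_g1175] yt_c99_K yt_c99_cnt_L 0 0 :=
  Sym.prob z_hn z_hk yt_c99_sym yt_c99_cnt_EG_ok (grp_cons_le z_g39_z_T111 (grp_cons_le zg1_z_T111 (grp_cons_le zg3_z_T111 (grp_cons_le z_g43_z_T111 (grp_cons_le z_g42_z_T111 (grp_cons_le zg2_z_T111 (grp_cons_le z_g44_z_T111 (grp_cons_le z_g54_z_T111 (grp_cons_le z_g55_z_T111 (grp_cons_le z_g49_z_T111 (grp_cons_le z_g50_z_T111 (grp_cons_le z_g51_z_T111 (grp_cons_le z_g62_z_T111 (grp_cons_le z_g58_z_T111 (grp_cons_le z_g59_z_T111 (grp_cons_le z_g65_z_T111 (grp_cons_le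 z_g66_z_T111 (grp_cons_le z_g67_z_T111 (grp_cons_le z_g77_z_T111 (grp_cons_le z_g78_z_T111 (grp_cons_le z_g72_z_T111 (grp_cons_le z_g73_z_T111 (grp_cons_le z_g74_z_T111 (grp_cons_le z_g81_z_T111 (grp_cons_le z_g82_z_T111 (grp_cons_le z_g87_z_T111 (grp_cons_le zg0_z_T111 (grp_cons_le z_g91_z_T111 (grp_cons_le z_g28_z_T111 (grp_cons_le z_g88_z_T111 (grp_cons_le z_g818_z_T111 (grp_cons_le z_g819_z_T111 (grp_cons_le z_g820_z_T111 (grp_cons_le z_g821_z_T111 (grp_cons_le z_g1180_z_T111 (grp_cons_le z_g1181_z_T111 (grp_cons_le z_g378_z_T111 (grp_cons_le z_g377_z_T111 (grp_nil_le _))))))))))))))))))))))))))))))))))))))) (Frames.cons z_T111_s1_F (Frames.cons z_T111_s123_F (Frames.cons z_T111_s171_F (Frames.cons z_T111_s172_F (Frames.cons z_T111_s173_F Frames.nil))))) (okE_cons.2 ⟨z_g1175_ok, okE_nil _⟩) _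

noncomputable def yt_c99_cnt_t : BT := (BT.fix (nat_lit 65793) (BT.dif (nat_lit 3) (nat_lit 0) (BT.br (nat_lit 0) (nat_lit 0) [nat_lit 1, nat_lit 3, nat_lit 5] (BT.dead (nat_lit 35) (BT.img (nat_lit 1) (nat_lit 0) (BT.img (nat_lit 1) (nat_lit 0) (BT.img (nat_lit 1) (nat_lit 0) (BT.frm (nat_lit 1) (nat_lit 989960) (nat_lit 0x183c08010515) [nat_lit 2, nat_lit 0, nat_lit 3] (BT.pln (nat_lit 0) (nat_lit 3) (BT.and (nat_lit 0) (nat_lit 7) (BT.cnt (nat_lit 0)))))))) (BT.kid (nat_lit 0) (nat_lit 9) (BT.img (nat_lit 1) (nat_lit 0) (BT.img (nat_lit 1) (nat_lit 0) (BT.img (nat_lit 1) (nat_lit 0) (BT.frm (nat_lit 1) (nat_lit 989960) (nat_lit 989960) [nat_lit 2, nat_lit 0, nat_lit 3] (BT.pln (nat_lit 0) (nat_lit 10) (BT.dif (nat_lit 0) (nat_lit 7) (BT.br (nat_lit 0) (nat_lit 72) [] (BT.dead (nat_lit 284) (BT.frm (nat_lit 0) (nat_lit 0) (nat_lit 0) [nat_lit 7] (BT.pln (nat_lit 0) (nat_lit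 1) (BT.dif (nat_lit 0) (nat_lit 11) (BT.frm (nat_lit 2) (nat_lit 989960) (nat_lit 989960) [nat_lit 8, nat_lit 9, nat_lit 7, nat_lit 10] (BT.pln (nat_lit 0) (nat_lit 9) (BT.and (nat_lit 2) (nat_lit 0) (BT.br (nat_lit 0) (nat_lit 29) [nat_lit 5, nat_lit 7] (BT.dead (nat_lit 29) (BT.frm (nat_lit 4) (nat_lit 989960) (nat_lit 0x4c480f1b08) [nat_lit 0, nat_lit 7, nat_lit 12, nat_lit 13, nat_lit 11, nat_lit 14] (BT.pln (nat_lit 0) (nat_lit 6) (BT.img (nat_lit 1) (nat_lit 2) (BT.img (nat_lit 1) (nat_lit 0) (BT.and (nat_lit 2) (nat_lit 0) (BT.cnt (nat_lit 0))))))) BT.nil)))))))) (BT.dead (nat_lit 138) (BT.frm (nat_lit 0) (nat_lit 0) (nat_lit 0) [nat_lit 7] (BT.pln (nat_lit 0) (nat_lit 1) (BT.dif (nat_lit 0) (nat_lit 11) (BT.frm (nat_lit 2) (nat_lit 989960) (nat_lit 989960) [nat_lit 8, nat_lit 9, nat_lit 7, nat_lit 10] (BT.pln (nat_lit 0) (nat_lit 9) (BT.and (nat_lit 2) (nat_lit 0)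 (BT.br (nat_lit 0) (nat_lit 29) [nat_lit 5, nat_lit 7] (BT.dead (nat_lit 29) (BT.frm (nat_lit 4) (nat_lit 989960) (nat_lit 0x4b470f1b08) [nat_lit 0, nat_lit 7, nat_lit 12, nat_lit 13, nat_lit 11, nat_lit 14] (BT.pln (nat_lit 0) (nat_lit 6) (BT.img (nat_lit 1) (nat_lit 2) (BT.and (nat_lit 1) (nat_lit 0) (BT.cnt (nat_lit 0)))))) BT.nil)))))))) (BT.dead (nat_lit 274) (BT.frm (nat_lit 3) (nat_lit 989960) (nat_lit 0x46480f1b08) [nat_lit 0, nat_lit 5, nat_lit 6, nat_lit 4, nat_lit 7] (BT.pln (nat_lit 0) (nat_lit 5) (BT.img (nat_lit 1) (nat_lit 2) (BT.img (nat_lit 1) (nat_lit 0) (BT.img (nat_lit 1) (nat_lit 0) (BT.img (nat_lit 1) (nat_lit 0) (BT.img (nat_lit 1) (nat_lit 0) (BT.and (nat_lit 5) (nat_lit 0) (BT.cnt (nat_lit 0)))))))))) (BT.dead (nat_lit 147) (BT.frm (nat_lit 3) (nat_lit 989960) (nat_lit 0x46470f1b08) [nat_lit 0, nat_lit 5, nat_lit 6, nat_lit 4, nat_lit 7] (BT.pln (nat_lit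 0) (nat_lit 5) (BT.img (nat_lit 1) (nat_lit 2) (BT.img (nat_lit 1) (nat_lit 0) (BT.img (nat_lit 1) (nat_lit 0) (BT.img (nat_lit 1) (nat_lit 0) (BT.img (nat_lit 1) (nat_lit 0) (BT.and (nat_lit 5) (nat_lit 0) (BT.cnt (nat_lit 0)))))))))) (BT.dead (nat_lit 165) (BT.frm (nat_lit 3) (nat_lit 989960) (nat_lit 0x45480f1b08) [nat_lit 0, nat_lit 5, nat_lit 6, nat_lit 4, nat_lit 7] (BT.pln (nat_lit 0) (nat_lit 5) (BT.img (nat_lit 1) (nat_lit 2) (BT.img (nat_lit 1) (nat_lit 0) (BT.and (nat_lit 2) (nat_lit 0) (BT.cnt (nat_lit 0))))))) (BT.dead (nat_lit 154) (BT.frm (nat_lit 3) (nat_lit 989960) (nat_lit 0x45470f1b08) [nat_lit 0, nat_lit 5, nat_lit 6, nat_lit 4, nat_lit 7] (BT.pln (nat_lit 0) (nat_lit 5) (BT.img (nat_lit 1) (nat_lit 2) (BT.img (nat_lit 1) (nat_lit 0) (BT.and (nat_lit 2) (nat_lit 0) (BT.cnt (nat_lit 0))))))) (BT.dead (nat_lit 316) (BT.frm (nat_lit 3) (nat_lit 989960) (nat_lit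 0x460f1b08) [nat_lit 0, nat_lit 5, nat_lit 6, nat_lit 4, nat_lit 7] (BT.pln (nat_lit 0) (nat_lit 5) (BT.img (nat_lit 1) (nat_lit 2) (BT.img (nat_lit 1) (nat_lit 0) (BT.img (nat_lit 1) (nat_lit 0) (BT.img (nat_lit 1) (nat_lit 0) (BT.img (nat_lit 1) (nat_lit 0) (BT.and (nat_lit 5) (nat_lit 0) (BT.cnt (nat_lit 0)))))))))) (BT.dead (nat_lit 170) (BT.frm (nat_lit 3) (nat_lit 989960) (nat_lit 0x450f1b08) [nat_lit 0, nat_lit 5, nat_lit 6, nat_lit 4, nat_lit 7] (BT.pln (nat_lit 0) (nat_lit 5) (BT.img (nat_lit 1) (nat_lit 2) (BT.img (nat_lit 1) (nat_lit 0) (BT.and (nat_lit 2) (nat_lit 0) (BT.cnt (nat_lit 0))))))) (BT.kid (nat_lit 72) (nat_lit 9) (BT.frm (nat_lit 0) (nat_lit 0) (nat_lit 0) [nat_lit 7] (BT.pln (nat_lit 0) (nat_lit 1) (BT.dif (nat_lit 0) (nat_lit 11) (BT.frm (nat_lit 2) (nat_lit 989960) (nat_lit 989960) [nat_lit 8, nat_lit 9, nat_lit 7, nat_lit 10] (BT.pln (nat_lit 0)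 (nat_lit 9) (BT.and (nat_lit 2) (nat_lit 0) (BT.br (nat_lit 0) (nat_lit 29) [nat_lit 5, nat_lit 7] (BT.kid (nat_lit 29) (nat_lit 1) (BT.one (nat_lit 4) (nat_lit 989960) (nat_lit 989960) [nat_lit 0, nat_lit 7, nat_lit 12, nat_lit 13, nat_lit 11, nat_lit 14]) BT.nil)))))))) BT.nil)))))))))))))))) BT.nil)))))

theorem yt_c99_cnt : Cnt 324 (grp 324 y_E0) [z_g1175] [z_g1175] 0 0 0 0 1458 :=
  BT.sound yt_c99_cnt_P Known.nil (t := yt_c99_cnt_t) (d := 0) (by decide +kernel)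

theorem yt_c99_ge : 1458 ≤ Nat.card (grp 324 yt_c99_K) :=
  Ch.le_card_grp (k := 9) (L := (lab 324 9)) z_hn yt_c99_K_ok (c := (Ch.cons (nat_lit 0) [nat_lit 1, nat_lit 3] (Ch.cons (nat_lit 29) [nat_lit 5, nat_lit 7] Ch.nil))) (by decide +kernel)

theorem yt_c99_eq : (grp 324 y_E0) ⊓ Subgroup.centralizer {Net.toPerm 324 z_g1175} = grp 324 yt_c99_K :=
  cent_eq yt_c99_sym yt_c99_cnt yt_c99_ge

theorem yt_c99_card : Nat.card ↥((grp 324 y_E0) ⊓ Subgroup.centralizer {Net.toPerm 324 z_g1175}) = 1458 :=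
  card_cent yt_c99_sym yt_c99_cnt yt_c99_ge

theorem yt_c99_ord : orderOf (Net.toPerm 324 z_g1175) = 9 :=
  orderOf_net z_hn z_hk z_g1175_ok (by decide) (ps := [3]) (by set_option linter.unusedSimpArgs false in simp [Nat.primeFactorsList_ofNat]) (by decide +kernel)

theorem z_le1192 : grp 324 yt_c100_K ≤ grp 324 y_E0 :=
  grp_le_of_memB z_hn z_hk y_E0_ok yt_c100_K_ok (ws := [nat_lit 0x3428191912070a010515, nat_lit 0x382f2b191c09010a2f, nat_lit 0x392b19220f08010a2e, nat_lit 0x33392f2b1d1f013802, nat_lit 0x3825281a1e120901050a]) (by decide +kernel)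

theorem yt_c100_le : grp 324 yt_c100_K ≤ (grp 324 y_E0) :=
  (z_le1192.trans z_T111_s0.le)

theorem yt_c100_mem : Net.toPerm 324 z_g1186 ∈ (grp 324 y_E0) :=
  yt_c100_le (mem_grp_of_memB z_hn z_hk yt_c100_K_ok z_g1186_ok (w := (nat_lit 0x8090305)) (by decide +kernel))

theorem yt_c100_sym : Sym 324 (grp 324 y_E0) [z_g1186] yt_c100_K 0 :=
  Sym.of_lab z_hn z_hk (okE_cons.2 ⟨z_g1186_ok, okE_nil _⟩) yt_c100_K_ok yt_c100_le (kT := 0) (by decide +kernel)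

noncomputable def yt_c100_cnt_L : List ℕ := [1, 4, z_T111_s1_O, 0, 0, 4, 19, z_T111_s22_O, 0, 0, 9, 18, z_T111_s39_O, 1, 0]

theorem yt_c100_cnt_P : Prob 324 9 (grp 324 y_E0) yt_c100_cnt_EG [z_g1186] [z_g1186] yt_c100_K yt_c100_cnt_L 0 0 :=
  Sym.prob z_hn z_hk yt_c100_sym yt_c100_cnt_EG_ok (grp_cons_le z_g39_z_T111 (grp_cons_le zg1_z_T111 (grp_cons_le zg3_z_T111 (grp_cons_le z_g43_z_T111 (grp_cons_le z_g42_z_T111 (grp_cons_le zg2_z_T111 (grp_cons_le z_g44_z_T111 (grp_cons_le z_g54_z_T111 (grp_cons_le z_g55_z_T111 (grp_cons_le z_g49_z_T111 (grp_cons_le z_g50_z_T111 (grp_cons_le z_g51_z_T111 (grp_cons_le z_g62_z_T111 (grp_cons_le z_g58_z_T111 (grp_cons_le z_g59_z_T111 (grp_cons_le z_g65_z_T111 (grp_cons_le z_g66_z_T111 (grp_cons_le z_g67_z_T111 (grp_cons_le z_g77_z_T111 (grp_cons_le z_g78_z_T111 (grp_cons_le z_g72_z_T111 (grp_cons_le z_g73_z_T111 (grp_cons_le z_g74_z_T111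 (grp_cons_le z_g81_z_T111 (grp_cons_le z_g82_z_T111 (grp_cons_le z_g87_z_T111 (grp_cons_le zg0_z_T111 (grp_cons_le z_g91_z_T111 (grp_cons_le z_g28_z_T111 (grp_cons_le z_g88_z_T111 (grp_cons_le z_g324_z_T111 (grp_nil_le _)))))))))))))))))))))))))))))))) (Frames.cons z_T111_s1_F (Frames.cons z_T111_s22_F (Frames.cons z_T111_s39_F Frames.nil))) (okE_cons.2 ⟨z_g1186_ok, okE_nil _⟩) _

noncomputable def yt_c100_cnt_t : BT := (BT.fix (nat_lit 1) (BT.br (nat_lit 0) (nat_lit 67) [nat_lit 1, nat_lit 3] (BT.kid (nat_lit 67) (nat_lit 162) (BT.frm (nat_lit 0) (nat_lit 67601) (nat_lit 67601) [nat_lit 0] (BT.pln (nat_lit 0) (nat_lit 3) (BT.dif (nat_lit 0) (nat_lit 3) (BT.br (nat_lit 0) (nat_lit 303) [nat_lit 5] (BT.kid (nat_lit 303) (nat_lit 27) (BT.pln (nat_lit 3) (nat_lit 2) (BT.br (nat_lit 0) (nat_lit 108) [nat_lit 7, nat_lit 9] (BT.kid (nat_lit 108) (nat_lit 1) (BT.img (nat_lit 1) (nat_lit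 2) (BT.frm (nat_lit 1) (nat_lit 0x1d1f0715010811) (nat_lit 0x1d1f0715010811) [nat_lit 1, nat_lit 0, nat_lit 3, nat_lit 7] (BT.pln (nat_lit 0) (nat_lit 8) (BT.and (nat_lit 4) (nat_lit 0) (BT.img (nat_lit 1) (nat_lit 4) (BT.img (nat_lit 1) (nat_lit 0) (BT.dif (nat_lit 2) (nat_lit 0) (BT.pln (nat_lit 5) (nat_lit 7) (BT.and (nat_lit 9) (nat_lit 0) (BT.dif (nat_lit 0) (nat_lit 4) (BT.img (nat_lit 1) (nat_lit 4) (BT.img (nat_lit 1) (nat_lit 0) (BT.dif (nat_lit 2) (nat_lit 0) (BT.pln (nat_lit 11) (nat_lit 12) (BT.and (nat_lit 15) (nat_lit 0) (BT.pln (nat_lit 13) (nat_lit 10) (BT.and (nat_lit 17) (nat_lit 0) (BT.img (nat_lit 1) (nat_lit 0) (BT.and (nat_lit 19) (nat_lit 0) (BT.img (nat_lit 1) (nat_lit 0) (BT.and (nat_lit 21) (nat_lit 0) (BT.img (nat_lit 1) (nat_lit 0) (BT.and (nat_lit 7) (nat_lit 0) (BT.img (nat_lit 1) (nat_lit 0) (BT.and (nat_lit 11) (nat_lit 0) (BT.img (nat_lit 1)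 (nat_lit 0) (BT.and (nat_lit 19) (nat_lit 0) (BT.pln (nat_lit 25) (nat_lit 9) (BT.and (nat_lit 29) (nat_lit 0) (BT.dif (nat_lit 0) (nat_lit 7) (BT.one (nat_lit 2) (nat_lit 0x382f281d1f0715010811) (nat_lit 0x382f281d1f0715010811) [nat_lit 3, nat_lit 24, nat_lit 5, nat_lit 25, nat_lit 0, nat_lit 30, nat_lit 29, nat_lit 32, nat_lit 36]))))))))))))))))))))))))))))))) BT.nil))) BT.nil))))) BT.nil)))

theorem yt_c100_cnt : Cnt 324 (grp 324 y_E0) [z_g1186] [z_g1186] 0 0 0 0 1458 :=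
  BT.sound yt_c100_cnt_P Known.nil (t := yt_c100_cnt_t) (d := 0) (by decide +kernel)

theorem yt_c100_ge : 1458 ≤ Nat.card (grp 324 yt_c100_K) :=
  Ch.le_card_grp (k := 9) (L := (lab 324 9)) z_hn yt_c100_K_ok (c := (Ch.cons (nat_lit 67) [nat_lit 1] (Ch.cons (nat_lit 303) [nat_lit 3, nat_lit 5] (Ch.cons (nat_lit 108) [nat_lit 7, nat_lit 9] Ch.nil)))) (by decide +kernel)

theorem yt_c100_eq : (grp 324 y_E0) ⊓ Subgroup.centralizer {Net.toPerm 324 z_g1186} = grp 324 yt_c100_K :=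
  cent_eq yt_c100_sym yt_c100_cnt yt_c100_ge

theorem yt_c100_card : Nat.card ↥((grp 324 y_E0) ⊓ Subgroup.centralizer {Net.toPerm 324 z_g1186}) = 1458 :=
  card_cent yt_c100_sym yt_c100_cnt yt_c100_ge

theorem yt_c100_ord : orderOf (Net.toPerm 324 z_g1186) = 9 :=
  orderOf_net z_hn z_hk z_g1186_ok (by decide) (ps := [3]) (by set_option linter.unusedSimpArgs false in simp [Nat.primeFactorsList_ofNat]) (by decide +kernel)

theorem z_le1198 : grp 324 yt_c101_K ≤ grp 324 y_E0 :=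
  grp_le_of_memB z_hn z_hk y_E0_ok yt_c101_K_ok (ws := [nat_lit 0x353c291d0f010510, nat_lit 0x3538271a150715021202, nat_lit 0x333b25281b1a, nat_lit 0x382b1a]) (by decide +kernel)

theorem yt_c101_le : grp 324 yt_c101_K ≤ (grp 324 y_E0) :=
  (z_le1198.trans z_T111_s0.le)

theorem yt_c101_mem : Net.toPerm 324 z_g1193 ∈ (grp 324 y_E0) :=
  yt_c101_le (mem_grp_of_memB z_hn z_hk yt_c101_K_ok z_g1193_ok (w := (nat_lit 0x8060404)) (by decide +kernel))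

theorem yt_c101_sym : Sym 324 (grp 324 y_E0) [z_g1193] yt_c101_K 0 :=
  Sym.of_lab z_hn z_hk (okE_cons.2 ⟨z_g1193_ok, okE_nil _⟩) yt_c101_K_ok yt_c101_le (kT := 0) (by decide +kernel)

noncomputable def yt_c101_cnt_L : List ℕ := [1, 4, z_T111_s1_O, 0, 0, 4, 19, z_T111_s22_O, 0, 0, 9, 18, z_T111_s39_O, 1, 0]

theorem yt_c101_cnt_P : Prob 324 9 (grp 324 y_E0) yt_c101_cnt_EG [z_g1193] [z_g1193] yt_c101_K yt_c101_cnt_L 0 0 :=
  Sym.prob z_hn z_hk yt_c101_sym yt_c101_cnt_EG_ok (grp_cons_le z_g39_z_T111 (grp_cons_le zg1_z_T111 (grp_cons_le zg3_z_T111 (grp_cons_le z_g43_z_T111 (grp_cons_le z_g42_z_T111 (grp_cons_le zg2_z_T111 (grp_cons_le z_g44_z_T111 (grp_cons_le z_g54_z_T111 (grp_cons_le z_g55_z_T111 (grp_cons_le z_g49_z_T111 (grp_cons_le z_g50_z_T111 (grp_cons_le z_g51_z_T111 (grp_cons_le z_g62_z_T111 (grp_cons_le z_g58_z_T111 (grp_cons_le z_g59_z_T111 (grp_cons_le z_g65_z_T111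 (grp_cons_le z_g66_z_T111 (grp_cons_le z_g67_z_T111 (grp_cons_le z_g77_z_T111 (grp_cons_le z_g78_z_T111 (grp_cons_le z_g72_z_T111 (grp_cons_le z_g73_z_T111 (grp_cons_le z_g74_z_T111 (grp_cons_le z_g81_z_T111 (grp_cons_le z_g82_z_T111 (grp_cons_le z_g87_z_T111 (grp_cons_le zg0_z_T111 (grp_cons_le z_g91_z_T111 (grp_cons_le z_g28_z_T111 (grp_cons_le z_g88_z_T111 (grp_cons_le z_g324_z_T111 (grp_nil_le _)))))))))))))))))))))))))))))))) (Frames.cons z_T111_s1_F (Frames.cons z_T111_s22_F (Frames.cons z_T111_s39_F Frames.nil))) (okE_cons.2 ⟨z_g1193_ok, okE_nil _⟩) _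

noncomputable def yt_c101_cnt_t : BT := (BT.fix (nat_lit 1) (BT.br (nat_lit 0) (nat_lit 2) [nat_lit 1, nat_lit 3] (BT.kid (nat_lit 2) (nat_lit 162) (BT.frm (nat_lit 0) (nat_lit 75266) (nat_lit 75266) [nat_lit 0] (BT.pln (nat_lit 0) (nat_lit 3) (BT.dif (nat_lit 0) (nat_lit 3) (BT.br (nat_lit 0) (nat_lit 11) [nat_lit 3] (BT.kid (nat_lit 11) (nat_lit 27) (BT.pln (nat_lit 3) (nat_lit 2) (BT.br (nat_lit 0) (nat_lit 27) [nat_lit 5, nat_lit 7] (BT.kid (nat_lit 27) (nat_lit 1) (BT.img (nat_lit 1) (nat_lit 2) (BT.frm (nat_lit 1) (nat_lit 0x191b12012602) (nat_lit 0x191b12012602) [nat_lit 1, nat_lit 0, nat_lit 3, nat_lit 7] (BT.pln (nat_lit 0) (nat_lit 9) (BT.and (nat_lit 4) (nat_lit 0) (BT.pln (nat_lit 2) (nat_lit 10) (BT.and (nat_lit 6) (nat_lit 0) (BT.img (nat_lit 1) (nat_lit 0) (BT.and (nat_lit 8) (nat_lit 0) (BT.img (nat_lit 1) (nat_lit 0) (BT.and (nat_lit 10) (nat_lit 0) (BT.img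 (nat_lit 1) (nat_lit 0) (BT.and (nat_lit 7) (nat_lit 0) (BT.img (nat_lit 1) (nat_lit 0) (BT.and (nat_lit 14) (nat_lit 0) (BT.img (nat_lit 1) (nat_lit 14) (BT.dif (nat_lit 11) (nat_lit 4) (BT.img (nat_lit 1) (nat_lit 0) (BT.and (nat_lit 18) (nat_lit 0) (BT.img (nat_lit 1) (nat_lit 0) (BT.and (nat_lit 20) (nat_lit 0) (BT.img (nat_lit 1) (nat_lit 0) (BT.and (nat_lit 15) (nat_lit 0) (BT.img (nat_lit 1) (nat_lit 0) (BT.and (nat_lit 15) (nat_lit 0) (BT.img (nat_lit 1) (nat_lit 0) (BT.and (nat_lit 15) (nat_lit 0) (BT.img (nat_lit 1) (nat_lit 11) (BT.one (nat_lit 2) (nat_lit 0x2f26281f191b12012602) (nat_lit 0x2f26281f191b12012602) [nat_lit 13, nat_lit 12, nat_lit 1, nat_lit 0, nat_lit 11, nat_lit 27, nat_lit 26, nat_lit 29, nat_lit 33])))))))))))))))))))))))))))) BT.nil))) BT.nil))))) BT.nil)))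

theorem yt_c101_cnt : Cnt 324 (grp 324 y_E0) [z_g1193] [z_g1193] 0 0 0 0 1458 :=
  BT.sound yt_c101_cnt_P Known.nil (t := yt_c101_cnt_t) (d := 0) (by decide +kernel)

theorem yt_c101_ge : 1458 ≤ Nat.card (grp 324 yt_c101_K) :=
  Ch.le_card_grp (k := 9) (L := (lab 324 9)) z_hn yt_c101_K_ok (c := (Ch.cons (nat_lit 2) [nat_lit 1] (Ch.cons (nat_lit 11) [nat_lit 3] (Ch.cons (nat_lit 27) [nat_lit 5, nat_lit 7] Ch.nil)))) (by decide +kernel)

theorem yt_c101_eq : (grp 324 y_E0) ⊓ Subgroup.centralizer {Net.toPerm 324 z_g1193} = grp 324 yt_c101_K :=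
  cent_eq yt_c101_sym yt_c101_cnt yt_c101_ge

theorem yt_c101_card : Nat.card ↥((grp 324 y_E0) ⊓ Subgroup.centralizer {Net.toPerm 324 z_g1193}) = 1458 :=
  card_cent yt_c101_sym yt_c101_cnt yt_c101_ge

theorem yt_c101_ord : orderOf (Net.toPerm 324 z_g1193) = 9 :=
  orderOf_net z_hn z_hk z_g1193_ok (by decide) (ps := [3]) (by set_option linter.unusedSimpArgs false in simp [Nat.primeFactorsList_ofNat]) (by decide +kernel)

theorem z_le1202 : grp 324 yt_c102_K ≤ grp 324 y_E0 :=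
  grp_le_of_memB z_hn z_hk y_E0_ok yt_c102_K_ok (ws := [nat_lit 0x33352f26191f0f070c022f, nat_lit 0x372f2719201a07012305, nat_lit 0x352b19221a, nat_lit 0x33382f291b1a]) (by decide +kernel)

theorem yt_c102_le : grp 324 yt_c102_K ≤ (grp 324 y_E0) :=
  (z_le1202.trans z_T111_s0.le)

theorem yt_c102_mem : Net.toPerm 324 z_g1199 ∈ (grp 324 y_E0) :=
  yt_c102_le (mem_grp_of_memB z_hn z_hk yt_c102_K_ok z_g1199_ok (w := (nat_lit 0x60802020202)) (by decide +kernel))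

theorem yt_c102_sym : Sym 324 (grp 324 y_E0) [z_g1199] yt_c102_K 0 :=
  Sym.of_lab z_hn z_hk (okE_cons.2 ⟨z_g1199_ok, okE_nil _⟩) yt_c102_K_ok yt_c102_le (kT := 0) (by decide +kernel)

noncomputable def yt_c102_cnt_L : List ℕ := [1, 4, z_T111_s1_O, 0, 0, 3, 16, z_T111_s167_O, 0, 0, 4, 10, z_T111_s168_O, 0, 0, 5, 12, z_T111_s169_O, 0, 0, 6, 15, z_T111_s170_O, 1, 0]

theorem yt_c102_cnt_P : Prob 324 9 (grp 324 y_E0) yt_c102_cnt_EG [z_g1199] [z_g1199] yt_c102_K yt_c102_cnt_L 0 0 :=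
  Sym.prob z_hn z_hk yt_c102_sym yt_c102_cnt_EG_ok (grp_cons_le z_g39_z_T111 (grp_cons_le zg1_z_T111 (grp_cons_le zg3_z_T111 (grp_cons_le z_g43_z_T111 (grp_cons_le z_g42_z_T111 (grp_cons_le zg2_z_T111 (grp_cons_le z_g44_z_T111 (grp_cons_le z_g54_z_T111 (grp_cons_le z_g55_z_T111 (grp_cons_le z_g49_z_T111 (grp_cons_le z_g50_z_T111 (grp_cons_le z_g51_z_T111 (grp_cons_le z_g62_z_T111 (grp_cons_le z_g58_z_T111 (grp_cons_le z_g59_z_T111 (grp_cons_le z_g65_z_T111 (grp_cons_le z_g66_z_T111 (grp_cons_le z_g67_z_T111 (grp_cons_le z_g77_z_T111 (grp_cons_le z_g78_z_T111 (grp_cons_le z_g72_z_T111 (grp_cons_le z_g73_z_T111 (grp_cons_le z_g74_z_T111 (grp_cons_le z_g81_z_T111 (grp_cons_le z_g82_z_T111 (grp_cons_le z_g87_z_T111 (grp_cons_le zg0_z_T111 (grp_cons_le z_g91_z_T111 (grp_cons_le z_g28_z_T111 (grp_cons_le z_g88_z_T111 (grp_cons_le z_g1152_z_T111 (grp_cons_le z_g1153_z_T111 (grp_cons_le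 z_g1154_z_T111 (grp_cons_le z_g1155_z_T111 (grp_cons_le z_g1150_z_T111 (grp_cons_le z_g1156_z_T111 (grp_nil_le _))))))))))))))))))))))))))))))))))))) (Frames.cons z_T111_s1_F (Frames.cons z_T111_s167_F (Frames.cons z_T111_s168_F (Frames.cons z_T111_s169_F (Frames.cons z_T111_s170_F Frames.nil))))) (okE_cons.2 ⟨z_g1199_ok, okE_nil _⟩) _

noncomputable def yt_c102_cnt_t : BT := (BT.fix (nat_lit 65793) (BT.dif (nat_lit 3) (nat_lit 0) (BT.br (nat_lit 0) (nat_lit 0) [nat_lit 1, nat_lit 3] (BT.dead (nat_lit 48) (BT.img (nat_lit 1) (nat_lit 0) (BT.img (nat_lit 1) (nat_lit 0) (BT.img (nat_lit 1) (nat_lit 0) (BT.frm (nat_lit 1) (nat_lit 0xf19070c) (nat_lit 0x112f071501081b) [nat_lit 2, nat_lit 0, nat_lit 3] (BT.pln (nat_lit 0) (nat_lit 3) (BT.and (nat_lit 0) (nat_lit 7) (BT.cnt (nat_lit 0)))))))) (BT.kid (nat_lit 0) (nat_lit 9) (BT.frm (nat_lit 0) (nat_lit 0) (nat_lit 0) [nat_lit 0]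 (BT.pln (nat_lit 0) (nat_lit 1) (BT.dif (nat_lit 3) (nat_lit 0) (BT.pln (nat_lit 2) (nat_lit 2) (BT.dif (nat_lit 1) (nat_lit 0) (BT.img (nat_lit 1) (nat_lit 5) (BT.img (nat_lit 1) (nat_lit 0) (BT.img (nat_lit 1) (nat_lit 0) (BT.frm (nat_lit 2) (nat_lit 0x3d400f19070c) (nat_lit 0x3d400f19070c) [nat_lit 1, nat_lit 2, nat_lit 0, nat_lit 8] (BT.pln (nat_lit 0) (nat_lit 6) (BT.and (nat_lit 5) (nat_lit 0) (BT.pln (nat_lit 2) (nat_lit 5) (BT.dif (nat_lit 1) (nat_lit 0) (BT.pln (nat_lit 4) (nat_lit 4) (BT.dif (nat_lit 1) (nat_lit 0) (BT.pln (nat_lit 14) (nat_lit 3) (BT.dif (nat_lit 1) (nat_lit 0) (BT.br (nat_lit 0) (nat_lit 60) [nat_lit 5, nat_lit 7] (BT.dead (nat_lit 81) (BT.frm (nat_lit 3) (nat_lit 0x4442433d400f19070c) (nat_lit 0x433d400f19070c) [nat_lit 0, nat_lit 11, nat_lit 12, nat_lit 10, nat_lit 18] (BT.pln (nat_lit 0) (nat_lit 5) (BT.and (nat_lit 0) (nat_lit 22) (BT.cnt (nat_lit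 0))))) (BT.kid (nat_lit 60) (nat_lit 1) (BT.img (nat_lit 1) (nat_lit 0) (BT.one (nat_lit 4) (nat_lit 0x484442433d400f19070c) (nat_lit 0x484442433d400f19070c) [nat_lit 0, nat_lit 1, nat_lit 12, nat_lit 13, nat_lit 11, nat_lit 19])) BT.nil)))))))))))))))))))) BT.nil)))))

theorem yt_c102_cnt : Cnt 324 (grp 324 y_E0) [z_g1199] [z_g1199] 0 0 0 0 1458 :=
  BT.sound yt_c102_cnt_P Known.nil (t := yt_c102_cnt_t) (d := 0) (by decide +kernel)

theorem yt_c102_ge : 1458 ≤ Nat.card (grp 324 yt_c102_K) :=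
  Ch.le_card_grp (k := 9) (L := (lab 324 9)) z_hn yt_c102_K_ok (c := (Ch.cons (nat_lit 0) [nat_lit 1, nat_lit 3] (Ch.cons (nat_lit 60) [nat_lit 5, nat_lit 7] Ch.nil))) (by decide +kernel)

theorem yt_c102_eq : (grp 324 y_E0) ⊓ Subgroup.centralizer {Net.toPerm 324 z_g1199} = grp 324 yt_c102_K :=
  cent_eq yt_c102_sym yt_c102_cnt yt_c102_ge

theorem yt_c102_card : Nat.card ↥((grp 324 y_E0) ⊓ Subgroup.centralizer {Net.toPerm 324 z_g1199}) = 1458 :=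
  card_cent yt_c102_sym yt_c102_cnt yt_c102_ge

theorem yt_c102_ord : orderOf (Net.toPerm 324 z_g1199) = 9 :=
  orderOf_net z_hn z_hk z_g1199_ok (by decide) (ps := [3]) (by set_option linter.unusedSimpArgs false in simp [Nat.primeFactorsList_ofNat]) (by decide +kernel)

theorem z_le1207 : grp 324 yt_c103_K ≤ grp 324 y_E0 :=
  grp_le_of_memB z_hn z_hk y_E0_ok yt_c103_K_ok (ws := [nat_lit 0x343526281f191b1b11070701051f, nat_lit 0x342f1a1f15070c010509, nat_lit 0x33382f2b191c, nat_lit 0x333926281f1d]) (by decide +kernel)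

theorem yt_c103_le : grp 324 yt_c103_K ≤ (grp 324 y_E0) :=
  (z_le1207.trans z_T111_s0.le)

theorem yt_c103_mem : Net.toPerm 324 z_g1203 ∈ (grp 324 y_E0) :=
  yt_c103_le (mem_grp_of_memB z_hn z_hk yt_c103_K_ok z_g1203_ok (w := (nat_lit 0x608010703)) (by decide +kernel))

theorem yt_c103_sym : Sym 324 (grp 324 y_E0) [z_g1203] yt_c103_K 0 :=
  Sym.of_lab z_hn z_hk (okE_cons.2 ⟨z_g1203_ok, okE_nil _⟩) yt_c103_K_ok yt_c103_le (kT := 0) (by decide +kernel)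

theorem z_le1209 : grp 324 z_V1208 ≤ grp 324 z_V725 :=
  grp_le_of_memB z_hn z_hk z_V725_ok z_V1208_ok (ws := [nat_lit 7, nat_lit 1029, nat_lit 3]) (by decide +kernel)

theorem z_T111_s174 : Stab 324 (grp 324 y_E0) [nat_lit 22, nat_lit 24, nat_lit 15, nat_lit 18, nat_lit 14, nat_lit 2, nat_lit 0] z_V1208 18 :=
  Stab.step (k := 9) (L := (lab 324 9)) z_hn z_T111_s112 z_V1208_ok z_le1209 (c := (Ch.cons (nat_lit 90) [nat_lit 1, nat_lit 3, nat_lit 5] Ch.nil)) (by decide +kernel)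

theorem z_T111_s175 : Stab 324 (grp 324 y_E0) [nat_lit 90, nat_lit 22, nat_lit 24, nat_lit 15, nat_lit 18, nat_lit 14, nat_lit 2, nat_lit 0] z_V1210 1 :=
  Stab.step (k := 9) (L := (lab 324 9)) z_hn z_T111_s174 z_V1210_ok (grp_mono (List.subset_append_right [z_g91, z_g567, z_g493] _)) (c := Ch.nil) (by decide +kernel)

noncomputable def z_T111_s175_O : ℕ := (nat_lit 0xfffffffffffffffff000000000000000000000000000000000000000000000000000000000000000000000000000000000ffffffffffffffffffffffffffffffff00000000000000000000000000000000f0000000000000000ffffffffffffffff0000000000000000ffffffffffffffff00000000000000000ffffffff00000000ffffffff00000000ffffffff00000000ffffffff00000000ffffffff000000000ffff0000ffff0000ffff0000ffff0000ffff0000ffff0000ffff0000ffff0000ffff0000ffff00000ff00ff00ff00ff00ff00ff00ff00ff00ff00ff00ff00ff00ff00ff00ff00ff00ff00ff00ff00ff000f0f0f0f0f0f0f0f0f0f0f0f0f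0f0f0f0f0f0f0f0f0f0f0f0f0f0f0f0f0f0f0f0f0f0f0f0f0f0f0f0cccccccccccccccccccccccccccccccccccccccccccccccccccccccccccccccccccccccccccccccccaaaaaaaaaaaaaaaaaaaaaaaaaaaaaaaaaaaaaaaaaaaaaaaaaaaaaaaaaaaaaaaaaaaaaaaaaaaaaaaaa000000000000000000000000000000000000000000000000000000000000000000000000000000001000000000000000000000000000000000000000000000000000000000000000000000000000000004000000000000000000000000000000000000000000000000000000000000000000000000000004000000000000000000000000000000000000000000000000000000000000000000000000000000040000000000000000000000000000000000000000000000000000000000000000000000000000000008000000000000000000000000000000000000000000000000000000000000000000000000000001000000000000000000000000000000000000000000000000000000000000000000000000000000000400000000000000000000000000000000000000000000000000000000000000040000000000000000000000)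

theorem z_T111_s175_F : Frame 324 (grp 324 y_E0) 8 17 z_T111_s175_O 1 1 :=
  IsBase.frame z_T111_s175.isBase (by decide +kernel)

noncomputable def z_T111_s174_O : ℕ := (nat_lit 0x6b000000000004000000000000000104020000000000000000400000000000000010402000000000080b3ffa9fb3c6bdbfddd9fd3e7405e90b858e00000009fb3c6bdbfddd9fd3e7405e90b858e000000000b3e0075fcbf8b5dae6f1ee4bc59238b0a71e10000075fcbf8b5dae6f1ee4bc59238b0a71e10000040b21e01a1fb39542f4bf95af2eeb0d3053a14cc06881a1fb39542f4bf95af2eeb0d3053a14cc068828a1998f894b200da6f87fb37d3a268ba435930260f2f894b200da6f87fb37d3a268ba435930260f22291552000000000000000000000000000000000000000000000000000000000000000000000000000000001000000000000000000000000000000000000000000000000000000000000000000000000000000004000000000000000000000000000000000000000000000000000000000000000000000000000004000000000000000000000000000000000000000000000000000000000000000000000000000000040000000000000000000000000000000000000000000000000000000000000000000000000000000008000000000000000000000000000000000000000000000000000000000000000000000000000001000000000000000000000000000000000000000000000000000000000000000000000000000000000400000)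

theorem z_T111_s174_F : Frame 324 (grp 324 y_E0) 7 13 z_T111_s174_O 0 1 :=
  Stab.frame z_hn z_T111_s174 (by decide +kernel)

noncomputable def yt_c103_cnt_L : List ℕ := [1, 4, z_T111_s1_O, 0, 0, 6, 23, z_T111_s112_O, 0, 0, 7, 13, z_T111_s174_O, 0, 0, 8, 17, z_T111_s175_O, 1, 0]

theorem yt_c103_cnt_P : Prob 324 9 (grp 324 y_E0) yt_c103_cnt_EG [z_g1203] [z_g1203] yt_c103_K yt_c103_cnt_L 0 0 :=
  Sym.prob z_hn z_hk yt_c103_sym yt_c103_cnt_EG_ok (grp_cons_le z_g39_z_T111 (grp_cons_le zg1_z_T111 (grp_cons_le zg3_z_T111 (grp_cons_le z_g43_z_T111 (grp_cons_le z_g42_z_T111 (grp_cons_le zg2_z_T111 (grp_cons_le z_g44_z_T111 (grp_cons_le z_g54_z_T111 (grp_cons_le z_g55_z_T111 (grp_cons_le z_g49_z_T111 (grp_cons_le z_g50_z_T111 (grp_cons_le z_g51_z_T111 (grp_cons_le z_g62_z_T111 (grp_cons_le z_g58_z_T111 (grp_cons_le z_g59_z_T111 (grp_cons_le z_g65_z_T111 (grp_cons_le z_g66_z_T111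 (grp_cons_le z_g67_z_T111 (grp_cons_le z_g77_z_T111 (grp_cons_le z_g78_z_T111 (grp_cons_le z_g72_z_T111 (grp_cons_le z_g73_z_T111 (grp_cons_le z_g74_z_T111 (grp_cons_le z_g81_z_T111 (grp_cons_le z_g82_z_T111 (grp_cons_le z_g87_z_T111 (grp_cons_le zg0_z_T111 (grp_cons_le z_g91_z_T111 (grp_cons_le z_g28_z_T111 (grp_cons_le z_g88_z_T111 (grp_cons_le z_g720_z_T111 (grp_cons_le z_g721_z_T111 (grp_cons_le z_g493_z_T111 (grp_cons_le z_g722_z_T111 (grp_cons_le z_g34_z_T111 (grp_cons_le z_g549_z_T111 (grp_cons_le z_g33_z_T111 (grp_cons_le z_g550_z_T111 (grp_cons_le z_g551_z_T111 (grp_cons_le z_g548_z_T111 (grp_cons_le z_g567_z_T111 (grp_nil_le _)))))))))))))))))))))))))))))))))))))))))) (Frames.cons z_T111_s1_F (Frames.cons z_T111_s112_F (Frames.cons z_T111_s174_F (Frames.cons z_T111_s175_F Frames.nil)))) (okE_cons.2 ⟨z_g1203_ok, okE_nil _⟩) _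

noncomputable def yt_c103_cnt_t : BT := (BT.fix (nat_lit 65793) (BT.dif (nat_lit 3) (nat_lit 0) (BT.br (nat_lit 0) (nat_lit 0) [nat_lit 1, nat_lit 3] (BT.dead (nat_lit 48) (BT.frm (nat_lit 0) (nat_lit 0) (nat_lit 67611) [nat_lit 0] (BT.pln (nat_lit 0) (nat_lit 1) (BT.img (nat_lit 1) (nat_lit 2) (BT.and (nat_lit 1) (nat_lit 0) (BT.cnt (nat_lit 0)))))) (BT.dead (nat_lit 56) (BT.frm (nat_lit 0) (nat_lit 0) (nat_lit 530) [nat_lit 0] (BT.pln (nat_lit 0) (nat_lit 1) (BT.img (nat_lit 1) (nat_lit 2) (BT.and (nat_lit 1) (nat_lit 0) (BT.cnt (nat_lit 0)))))) (BT.kid (nat_lit 0) (nat_lit 9) (BT.frm (nat_lit 0) (nat_lit 0) (nat_lit 0) [nat_lit 0] (BT.pln (nat_lit 0) (nat_lit 2) (BT.dif (nat_lit 0) (nat_lit 4) (BT.img (nat_lit 1) (nat_lit 3) (BT.img (nat_lit 1) (nat_lit 0) (BT.img (nat_lit 1) (nat_lit 0) (BT.img (nat_lit 1) (nat_lit 0) (BT.img (nat_lit 1) (nat_lit 0) (BT.frm (nat_lit 1)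 (nat_lit 0x4f494f0f1f070a) (nat_lit 0x4f494f0f1f070a) [nat_lit 0, nat_lit 1, nat_lit 3, nat_lit 4, nat_lit 2, nat_lit 8] (BT.pln (nat_lit 0) (nat_lit 18) (BT.and (nat_lit 7) (nat_lit 0) (BT.br (nat_lit 0) (nat_lit 84) [] (BT.dead (nat_lit 150) (BT.pln (nat_lit 11) (nat_lit 1) (BT.dif (nat_lit 14) (nat_lit 0) (BT.dif (nat_lit 0) (nat_lit 12) (BT.pln (nat_lit 6) (nat_lit 6) (BT.and (nat_lit 1) (nat_lit 0) (BT.frm (nat_lit 2) (nat_lit 0x3f4f494f0f1f070a) (nat_lit 0x404f494f0f1f070a) [nat_lit 5, nat_lit 9, nat_lit 10, nat_lit 12, nat_lit 13, nat_lit 11, nat_lit 17] (BT.pln (nat_lit 0) (nat_lit 8) (BT.dif (nat_lit 2) (nat_lit 0) (BT.br (nat_lit 0) (nat_lit 83) [nat_lit 5, nat_lit 7] (BT.dead (nat_lit 53) (BT.frm (nat_lit 3) (nat_lit 0x37423f4f494f0f1f070a) (nat_lit 0x385142404f494f0f1f070a) [nat_lit 0, nat_lit 9, nat_lit 13, nat_lit 14, nat_lit 16, nat_lit 17, nat_lit 15, nat_lit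 21] (BT.pln (nat_lit 0) (nat_lit 8) (BT.img (nat_lit 1) (nat_lit 2) (BT.and (nat_lit 1) (nat_lit 0) (BT.cnt (nat_lit 0)))))) (BT.dead (nat_lit 80) (BT.frm (nat_lit 3) (nat_lit 0x37423f4f494f0f1f070a) (nat_lit 0x3841404f494f0f1f070a) [nat_lit 0, nat_lit 9, nat_lit 13, nat_lit 14, nat_lit 16, nat_lit 17, nat_lit 15, nat_lit 21] (BT.pln (nat_lit 0) (nat_lit 8) (BT.img (nat_lit 1) (nat_lit 2) (BT.and (nat_lit 1) (nat_lit 0) (BT.cnt (nat_lit 0)))))) BT.nil))))))))))) (BT.dead (nat_lit 69) (BT.pln (nat_lit 11) (nat_lit 1) (BT.dif (nat_lit 14) (nat_lit 0) (BT.dif (nat_lit 0) (nat_lit 12) (BT.pln (nat_lit 6) (nat_lit 6) (BT.and (nat_lit 1) (nat_lit 0) (BT.frm (nat_lit 2) (nat_lit 0x3f4f494f0f1f070a) (nat_lit 0x4f494f0f1f070a) [nat_lit 5, nat_lit 9, nat_lit 10, nat_lit 12, nat_lit 13, nat_lit 11, nat_lit 17] (BT.pln (nat_lit 0) (nat_lit 8) (BT.dif (nat_lit 2) (nat_lit 0) (BT.br (nat_lit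 0) (nat_lit 83) [nat_lit 5, nat_lit 7] (BT.dead (nat_lit 59) (BT.frm (nat_lit 3) (nat_lit 0x37423f4f494f0f1f070a) (nat_lit 0x514f494f0f1f070a) [nat_lit 0, nat_lit 9, nat_lit 13, nat_lit 14, nat_lit 16, nat_lit 17, nat_lit 15, nat_lit 21] (BT.pln (nat_lit 0) (nat_lit 8) (BT.img (nat_lit 1) (nat_lit 2) (BT.img (nat_lit 1) (nat_lit 0) (BT.img (nat_lit 1) (nat_lit 0) (BT.img (nat_lit 1) (nat_lit 0) (BT.img (nat_lit 1) (nat_lit 0) (BT.and (nat_lit 5) (nat_lit 0) (BT.cnt (nat_lit 0)))))))))) (BT.dead (nat_lit 57) (BT.frm (nat_lit 3) (nat_lit 0x37423f4f494f0f1f070a) (nat_lit 0x374f494f0f1f070a) [nat_lit 0, nat_lit 9, nat_lit 13, nat_lit 14, nat_lit 16, nat_lit 17, nat_lit 15, nat_lit 21] (BT.pln (nat_lit 0) (nat_lit 8) (BT.img (nat_lit 1) (nat_lit 2) (BT.and (nat_lit 1) (nat_lit 0) (BT.cnt (nat_lit 0)))))) BT.nil))))))))))) (BT.kid (nat_lit 84) (nat_lit 9) (BT.pln (nat_lit 11) (nat_lit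 1) (BT.dif (nat_lit 14) (nat_lit 0) (BT.dif (nat_lit 0) (nat_lit 12) (BT.pln (nat_lit 6) (nat_lit 6) (BT.and (nat_lit 1) (nat_lit 0) (BT.frm (nat_lit 2) (nat_lit 0x3f4f494f0f1f070a) (nat_lit 0x3f4f494f0f1f070a) [nat_lit 5, nat_lit 9, nat_lit 10, nat_lit 12, nat_lit 13, nat_lit 11, nat_lit 17] (BT.pln (nat_lit 0) (nat_lit 8) (BT.dif (nat_lit 2) (nat_lit 0) (BT.br (nat_lit 0) (nat_lit 83) [nat_lit 5, nat_lit 7] (BT.dead (nat_lit 106) (BT.frm (nat_lit 3) (nat_lit 0x37423f4f494f0f1f070a) (nat_lit 0x51413f4f494f0f1f070a) [nat_lit 0, nat_lit 9, nat_lit 13, nat_lit 14, nat_lit 16, nat_lit 17, nat_lit 15, nat_lit 21] (BT.pln (nat_lit 0) (nat_lit 8) (BT.img (nat_lit 1) (nat_lit 2) (BT.img (nat_lit 1) (nat_lit 0) (BT.and (nat_lit 2) (nat_lit 0) (BT.cnt (nat_lit 0))))))) (BT.kid (nat_lit 83) (nat_lit 1) (BT.one (nat_lit 3) (nat_lit 0x37423f4f494f0f1f070a) (nat_lit 0x37423f4f494f0f1f070a)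 [nat_lit 0, nat_lit 9, nat_lit 13, nat_lit 14, nat_lit 16, nat_lit 17, nat_lit 15, nat_lit 21]) BT.nil))))))))))) BT.nil))))))))))))))) BT.nil))))))

theorem yt_c103_cnt : Cnt 324 (grp 324 y_E0) [z_g1203] [z_g1203] 0 0 0 0 729 :=
  BT.sound yt_c103_cnt_P Known.nil (t := yt_c103_cnt_t) (d := 0) (by decide +kernel)

theorem yt_c103_ge : 729 ≤ Nat.card (grp 324 yt_c103_K) :=
  Ch.le_card_grp (k := 9) (L := (lab 324 9)) z_hn yt_c103_K_ok (c := (Ch.cons (nat_lit 0) [nat_lit 1, nat_lit 3] (Ch.cons (nat_lit 83) [nat_lit 5, nat_lit 7] Ch.nil))) (by decide +kernel)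

theorem yt_c103_eq : (grp 324 y_E0) ⊓ Subgroup.centralizer {Net.toPerm 324 z_g1203} = grp 324 yt_c103_K :=
  cent_eq yt_c103_sym yt_c103_cnt yt_c103_ge

theorem yt_c103_card : Nat.card ↥((grp 324 y_E0) ⊓ Subgroup.centralizer {Net.toPerm 324 z_g1203}) = 729 :=
  card_cent yt_c103_sym yt_c103_cnt yt_c103_ge

theorem yt_c103_ord : orderOf (Net.toPerm 324 z_g1203) = 9 :=
  orderOf_net z_hn z_hk z_g1203_ok (by decide) (ps := [3]) (by set_option linter.unusedSimpArgs false in simp [Nat.primeFactorsList_ofNat]) (by decide +kernel)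

theorem z_le1216 : grp 324 yt_c104_K ≤ grp 324 y_E0 :=
  grp_le_of_memB z_hn z_hk y_E0_ok yt_c104_K_ok (ws := [nat_lit 0x34352f26281f191f0715030b, nat_lit 0x381f1d1f15070a01070b, nat_lit 0x35382f262819221a, nat_lit 0x33392b1f191b1b]) (by decide +kernel)

theorem yt_c104_le : grp 324 yt_c104_K ≤ (grp 324 y_E0) :=
  (z_le1216.trans z_T111_s0.le)

theorem yt_c104_mem : Net.toPerm 324 z_g1211 ∈ (grp 324 y_E0) :=
  yt_c104_le (mem_grp_of_memB z_hn z_hk yt_c104_K_ok z_g1211_ok (w := (nat_lit 0x508030702)) (by decide +kernel))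

theorem yt_c104_sym : Sym 324 (grp 324 y_E0) [z_g1211] yt_c104_K 0 :=
  Sym.of_lab z_hn z_hk (okE_cons.2 ⟨z_g1211_ok, okE_nil _⟩) yt_c104_K_ok yt_c104_le (kT := 0) (by decide +kernel)

noncomputable def yt_c104_cnt_L : List ℕ := [1, 4, z_T111_s1_O, 0, 0, 3, 20, z_T111_s123_O, 0, 0, 4, 10, z_T111_s171_O, 0, 0, 5, 12, z_T111_s172_O, 0, 0, 6, 15, z_T111_s173_O, 1, 0]

theorem yt_c104_cnt_P : Prob 324 9 (grp 324 y_E0) yt_c104_cnt_EG [z_g1211] [z_g1211] yt_c104_K yt_c104_cnt_L 0 0 :=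
  Sym.prob z_hn z_hk yt_c104_sym yt_c104_cnt_EG_ok (grp_cons_le z_g39_z_T111 (grp_cons_le zg1_z_T111 (grp_cons_le zg3_z_T111 (grp_cons_le z_g43_z_T111 (grp_cons_le z_g42_z_T111 (grp_cons_le zg2_z_T111 (grp_cons_le z_g44_z_T111 (grp_cons_le z_g54_z_T111 (grp_cons_le z_g55_z_T111 (grp_cons_le z_g49_z_T111 (grp_cons_le z_g50_z_T111 (grp_cons_le z_g51_z_T111 (grp_cons_le z_g62_z_T111 (grp_cons_le z_g58_z_T111 (grp_cons_le z_g59_z_T111 (grp_cons_le z_g65_z_T111 (grp_cons_le z_g66_z_T111 (grp_cons_le z_g67_z_T111 (grp_cons_le z_g77_z_T111 (grp_cons_le z_g78_z_T111 (grp_cons_le z_g72_z_T111 (grp_cons_le z_g73_z_T111 (grp_cons_le z_g74_z_T111 (grp_cons_le z_g81_z_T111 (grp_cons_le z_g82_z_T111 (grp_cons_le z_g87_z_T111 (grp_cons_le zg0_z_T111 (grp_cons_le z_g91_z_T111 (grp_cons_le z_g28_z_T111 (grp_cons_le z_g88_z_T111 (grp_cons_le z_g818_z_T111 (grp_cons_le z_g819_z_T111 (grp_cons_le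 z_g820_z_T111 (grp_cons_le z_g821_z_T111 (grp_cons_le z_g1180_z_T111 (grp_cons_le z_g1181_z_T111 (grp_cons_le z_g378_z_T111 (grp_cons_le z_g377_z_T111 (grp_nil_le _))))))))))))))))))))))))))))))))))))))) (Frames.cons z_T111_s1_F (Frames.cons z_T111_s123_F (Frames.cons z_T111_s171_F (Frames.cons z_T111_s172_F (Frames.cons z_T111_s173_F Frames.nil))))) (okE_cons.2 ⟨z_g1211_ok, okE_nil _⟩) _

noncomputable def yt_c104_cnt_t : BT := (BT.fix (nat_lit 65793) (BT.dif (nat_lit 3) (nat_lit 0) (BT.br (nat_lit 0) (nat_lit 0) [nat_lit 1, nat_lit 3] (BT.dead (nat_lit 36) (BT.img (nat_lit 1) (nat_lit 0) (BT.img (nat_lit 1) (nat_lit 0) (BT.img (nat_lit 1) (nat_lit 0) (BT.frm (nat_lit 2) (nat_lit 0x3d1f300707) (nat_lit 0x3d1918070a01051f) [nat_lit 1, nat_lit 2, nat_lit 0, nat_lit 3] (BT.pln (nat_lit 0) (nat_lit 4) (BT.and (nat_lit 0) (nat_lit 7) (BT.cnt (nat_lit 0)))))))) (BT.dead (nat_lit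 28) (BT.img (nat_lit 1) (nat_lit 0) (BT.img (nat_lit 1) (nat_lit 0) (BT.img (nat_lit 1) (nat_lit 0) (BT.frm (nat_lit 1) (nat_lit 0x1f300707) (nat_lit 0x3908010d05) [nat_lit 2, nat_lit 0, nat_lit 3] (BT.pln (nat_lit 0) (nat_lit 3) (BT.and (nat_lit 0) (nat_lit 7) (BT.cnt (nat_lit 0)))))))) (BT.kid (nat_lit 0) (nat_lit 9) (BT.img (nat_lit 1) (nat_lit 0) (BT.img (nat_lit 1) (nat_lit 0) (BT.img (nat_lit 1) (nat_lit 0) (BT.frm (nat_lit 1) (nat_lit 0x1f300707) (nat_lit 0x1f300707) [nat_lit 2, nat_lit 0, nat_lit 3] (BT.pln (nat_lit 0) (nat_lit 10) (BT.dif (nat_lit 0) (nat_lit 7) (BT.br (nat_lit 0) (nat_lit 106) [] (BT.dead (nat_lit 116) (BT.frm (nat_lit 0) (nat_lit 0) (nat_lit 0) [nat_lit 7] (BT.pln (nat_lit 0) (nat_lit 1) (BT.dif (nat_lit 0) (nat_lit 11) (BT.frm (nat_lit 2) (nat_lit 0x3d1f300707) (nat_lit 0x3d1f300707) [nat_lit 8, nat_lit 9, nat_lit 7, nat_lit 10] (BT.pln (nat_lit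 0) (nat_lit 9) (BT.and (nat_lit 2) (nat_lit 0) (BT.br (nat_lit 0) (nat_lit 190) [nat_lit 5, nat_lit 7] (BT.dead (nat_lit 190) (BT.frm (nat_lit 4) (nat_lit 0x4c463d1f300707) (nat_lit 0x4b46483d1f300707) [nat_lit 0, nat_lit 7, nat_lit 12, nat_lit 13, nat_lit 11, nat_lit 14] (BT.pln (nat_lit 0) (nat_lit 6) (BT.img (nat_lit 1) (nat_lit 2) (BT.and (nat_lit 1) (nat_lit 0) (BT.cnt (nat_lit 0)))))) BT.nil)))))))) (BT.dead (nat_lit 320) (BT.frm (nat_lit 0) (nat_lit 0) (nat_lit 0) [nat_lit 7] (BT.pln (nat_lit 0) (nat_lit 1) (BT.dif (nat_lit 0) (nat_lit 11) (BT.frm (nat_lit 2) (nat_lit 0x3d1f300707) (nat_lit 0x3d1f300707) [nat_lit 8, nat_lit 9, nat_lit 7, nat_lit 10] (BT.pln (nat_lit 0) (nat_lit 9) (BT.and (nat_lit 2) (nat_lit 0) (BT.br (nat_lit 0) (nat_lit 190) [nat_lit 5, nat_lit 7] (BT.dead (nat_lit 190) (BT.frm (nat_lit 4) (nat_lit 0x4c463d1f300707) (nat_lit 0x46473d1f300707) [nat_lit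 0, nat_lit 7, nat_lit 12, nat_lit 13, nat_lit 11, nat_lit 14] (BT.pln (nat_lit 0) (nat_lit 6) (BT.img (nat_lit 1) (nat_lit 2) (BT.and (nat_lit 1) (nat_lit 0) (BT.cnt (nat_lit 0)))))) BT.nil)))))))) (BT.dead (nat_lit 278) (BT.frm (nat_lit 3) (nat_lit 0x463d1f300707) (nat_lit 0x45473d1f300707) [nat_lit 0, nat_lit 5, nat_lit 6, nat_lit 4, nat_lit 7] (BT.pln (nat_lit 0) (nat_lit 5) (BT.img (nat_lit 1) (nat_lit 2) (BT.and (nat_lit 1) (nat_lit 0) (BT.cnt (nat_lit 0)))))) (BT.dead (nat_lit 268) (BT.frm (nat_lit 3) (nat_lit 0x463d1f300707) (nat_lit 0x45483d1f300707) [nat_lit 0, nat_lit 5, nat_lit 6, nat_lit 4, nat_lit 7] (BT.pln (nat_lit 0) (nat_lit 5) (BT.img (nat_lit 1) (nat_lit 2) (BT.and (nat_lit 1) (nat_lit 0) (BT.cnt (nat_lit 0)))))) (BT.dead (nat_lit 312) (BT.frm (nat_lit 3) (nat_lit 0x463d1f300707) (nat_lit 0x473d1f300707) [nat_lit 0, nat_lit 5, nat_lit 6, nat_lit 4, nat_lit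 7] (BT.pln (nat_lit 0) (nat_lit 5) (BT.img (nat_lit 1) (nat_lit 2) (BT.and (nat_lit 1) (nat_lit 0) (BT.cnt (nat_lit 0)))))) (BT.dead (nat_lit 257) (BT.frm (nat_lit 3) (nat_lit 0x463d1f300707) (nat_lit 0x483d1f300707) [nat_lit 0, nat_lit 5, nat_lit 6, nat_lit 4, nat_lit 7] (BT.pln (nat_lit 0) (nat_lit 5) (BT.img (nat_lit 1) (nat_lit 2) (BT.and (nat_lit 1) (nat_lit 0) (BT.cnt (nat_lit 0)))))) (BT.dead (nat_lit 159) (BT.frm (nat_lit 3) (nat_lit 0x463d1f300707) (nat_lit 0x453d1f300707) [nat_lit 0, nat_lit 5, nat_lit 6, nat_lit 4, nat_lit 7] (BT.pln (nat_lit 0) (nat_lit 5) (BT.img (nat_lit 1) (nat_lit 2) (BT.and (nat_lit 1) (nat_lit 0) (BT.cnt (nat_lit 0)))))) (BT.dead (nat_lit 153) (BT.frm (nat_lit 3) (nat_lit 0x463d1f300707) (nat_lit 0x3d1f300707) [nat_lit 0, nat_lit 5, nat_lit 6, nat_lit 4, nat_lit 7] (BT.pln (nat_lit 0) (nat_lit 5) (BT.img (nat_lit 1) (nat_lit 2) (BT.and (nat_lit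 1) (nat_lit 0) (BT.cnt (nat_lit 0)))))) (BT.kid (nat_lit 106) (nat_lit 9) (BT.frm (nat_lit 0) (nat_lit 0) (nat_lit 0) [nat_lit 7] (BT.pln (nat_lit 0) (nat_lit 1) (BT.dif (nat_lit 0) (nat_lit 11) (BT.frm (nat_lit 2) (nat_lit 0x3d1f300707) (nat_lit 0x3d1f300707) [nat_lit 8, nat_lit 9, nat_lit 7, nat_lit 10] (BT.pln (nat_lit 0) (nat_lit 9) (BT.and (nat_lit 2) (nat_lit 0) (BT.br (nat_lit 0) (nat_lit 190) [nat_lit 5, nat_lit 7] (BT.kid (nat_lit 190) (nat_lit 1) (BT.one (nat_lit 4) (nat_lit 0x4c463d1f300707) (nat_lit 0x4c463d1f300707) [nat_lit 0, nat_lit 7, nat_lit 12, nat_lit 13, nat_lit 11, nat_lit 14]) BT.nil)))))))) BT.nil)))))))))))))))) BT.nil))))))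

theorem yt_c104_cnt : Cnt 324 (grp 324 y_E0) [z_g1211] [z_g1211] 0 0 0 0 729 :=
  BT.sound yt_c104_cnt_P Known.nil (t := yt_c104_cnt_t) (d := 0) (by decide +kernel)

theorem yt_c104_ge : 729 ≤ Nat.card (grp 324 yt_c104_K) :=
  Ch.le_card_grp (k := 9) (L := (lab 324 9)) z_hn yt_c104_K_ok (c := (Ch.cons (nat_lit 0) [nat_lit 1, nat_lit 3] (Ch.cons (nat_lit 190) [nat_lit 5, nat_lit 7] Ch.nil))) (by decide +kernel)

theorem yt_c104_eq : (grp 324 y_E0) ⊓ Subgroup.centralizer {Net.toPerm 324 z_g1211} = grp 324 yt_c104_K :=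
  cent_eq yt_c104_sym yt_c104_cnt yt_c104_ge

theorem yt_c104_card : Nat.card ↥((grp 324 y_E0) ⊓ Subgroup.centralizer {Net.toPerm 324 z_g1211}) = 729 :=
  card_cent yt_c104_sym yt_c104_cnt yt_c104_ge

theorem yt_c104_ord : orderOf (Net.toPerm 324 z_g1211) = 9 :=
  orderOf_net z_hn z_hk z_g1211_ok (by decide) (ps := [3]) (by set_option linter.unusedSimpArgs false in simp [Nat.primeFactorsList_ofNat]) (by decide +kernel)

theorem z_le1221 : grp 324 yt_c105_K ≤ grp 324 y_E0 :=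
  grp_le_of_memB z_hn z_hk y_E0_ok yt_c105_K_ok (ws := [nat_lit 0x33392b1f1b1a0f070a01050b, nat_lit 0x34352f261f1d0f120707031c, nat_lit 0x3b2f26281f191b1b12, nat_lit 0x333826]) (by decide +kernel)

theorem yt_c105_le : grp 324 yt_c105_K ≤ (grp 324 y_E0) :=
  (z_le1221.trans z_T111_s0.le)

theorem yt_c105_mem : Net.toPerm 324 z_g1217 ∈ (grp 324 y_E0) :=
  yt_c105_le (mem_grp_of_memB z_hn z_hk yt_c105_K_ok z_g1217_ok (w := (nat_lit 0x7050404)) (by decide +kernel))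

theorem yt_c105_sym : Sym 324 (grp 324 y_E0) [z_g1217] yt_c105_K 0 :=
  Sym.of_lab z_hn z_hk (okE_cons.2 ⟨z_g1217_ok, okE_nil _⟩) yt_c105_K_ok yt_c105_le (kT := 0) (by decide +kernel)

noncomputable def yt_c105_cnt_L : List ℕ := [1, 4, z_T111_s1_O, 0, 0, 6, 23, z_T111_s112_O, 0, 0, 7, 13, z_T111_s174_O, 0, 0, 8, 17, z_T111_s175_O, 1, 0]

theorem yt_c105_cnt_P : Prob 324 9 (grp 324 y_E0) yt_c105_cnt_EG [z_g1217] [z_g1217] yt_c105_K yt_c105_cnt_L 0 0 :=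
  Sym.prob z_hn z_hk yt_c105_sym yt_c105_cnt_EG_ok (grp_cons_le z_g39_z_T111 (grp_cons_le zg1_z_T111 (grp_cons_le zg3_z_T111 (grp_cons_le z_g43_z_T111 (grp_cons_le z_g42_z_T111 (grp_cons_le zg2_z_T111 (grp_cons_le z_g44_z_T111 (grp_cons_le z_g54_z_T111 (grp_cons_le z_g55_z_T111 (grp_cons_le z_g49_z_T111 (grp_cons_le z_g50_z_T111 (grp_cons_le z_g51_z_T111 (grp_cons_le z_g62_z_T111 (grp_cons_le z_g58_z_T111 (grp_cons_le z_g59_z_T111 (grp_cons_le z_g65_z_T111 (grp_cons_le z_g66_z_T111 (grp_cons_le z_g67_z_T111 (grp_cons_le z_g77_z_T111 (grp_cons_le z_g78_z_T111 (grp_cons_le z_g72_z_T111 (grp_cons_le z_g73_z_T111 (grp_cons_le z_g74_z_T111 (grp_cons_le z_g81_z_T111 (grp_cons_le z_g82_z_T111 (grp_cons_le z_g87_z_T111 (grp_cons_le zg0_z_T111 (grp_cons_le z_g91_z_T111 (grp_cons_le z_g28_z_T111 (grp_cons_le z_g88_z_T111 (grp_cons_le z_g720_z_T111 (grp_cons_le z_g721_z_T111 (grp_cons_le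 z_g493_z_T111 (grp_cons_le z_g722_z_T111 (grp_cons_le z_g34_z_T111 (grp_cons_le z_g549_z_T111 (grp_cons_le z_g33_z_T111 (grp_cons_le z_g550_z_T111 (grp_cons_le z_g551_z_T111 (grp_cons_le z_g548_z_T111 (grp_cons_le z_g567_z_T111 (grp_nil_le _)))))))))))))))))))))))))))))))))))))))))) (Frames.cons z_T111_s1_F (Frames.cons z_T111_s112_F (Frames.cons z_T111_s174_F (Frames.cons z_T111_s175_F Frames.nil)))) (okE_cons.2 ⟨z_g1217_ok, okE_nil _⟩) _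

noncomputable def yt_c105_cnt_t : BT := (BT.fix (nat_lit 65793) (BT.dif (nat_lit 3) (nat_lit 0) (BT.br (nat_lit 0) (nat_lit 0) [nat_lit 1, nat_lit 3, nat_lit 5] (BT.dead (nat_lit 57) (BT.frm (nat_lit 0) (nat_lit 0) (nat_lit 67343) [nat_lit 0] (BT.pln (nat_lit 0) (nat_lit 1) (BT.img (nat_lit 1) (nat_lit 2) (BT.and (nat_lit 1) (nat_lit 0) (BT.cnt (nat_lit 0)))))) (BT.dead (nat_lit 56) (BT.frm (nat_lit 0) (nat_lit 0) (nat_lit 530) [nat_lit 0] (BT.pln (nat_lit 0) (nat_lit 1) (BT.img (nat_lit 1) (nat_lit 2) (BT.and (nat_lit 1) (nat_lit 0) (BT.cnt (nat_lit 0)))))) (BT.kid (nat_lit 0) (nat_lit 9) (BT.frm (nat_lit 0) (nat_lit 0) (nat_lit 0) [nat_lit 0] (BT.pln (nat_lit 0) (nat_lit 2) (BT.dif (nat_lit 0) (nat_lit 4) (BT.img (nat_lit 1) (nat_lit 3) (BT.img (nat_lit 1) (nat_lit 0) (BT.img (nat_lit 1) (nat_lit 0) (BT.img (nat_lit 1) (nat_lit 0) (BT.img (nat_lit 1) (nat_lit 0) (BT.frm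 (nat_lit 1) (nat_lit 0x4f4f4710100707) (nat_lit 0x4f4f4710100707) [nat_lit 0, nat_lit 1, nat_lit 3, nat_lit 4, nat_lit 2, nat_lit 8] (BT.pln (nat_lit 0) (nat_lit 18) (BT.and (nat_lit 7) (nat_lit 0) (BT.br (nat_lit 0) (nat_lit 14) [nat_lit 5] (BT.kid (nat_lit 14) (nat_lit 3) (BT.pln (nat_lit 11) (nat_lit 1) (BT.dif (nat_lit 14) (nat_lit 0) (BT.dif (nat_lit 0) (nat_lit 12) (BT.pln (nat_lit 6) (nat_lit 6) (BT.and (nat_lit 1) (nat_lit 0) (BT.frm (nat_lit 2) (nat_lit 0x3f4f4f4710100707) (nat_lit 0x3f4f4f4710100707) [nat_lit 5, nat_lit 9, nat_lit 10, nat_lit 12, nat_lit 13, nat_lit 11, nat_lit 17] (BT.pln (nat_lit 0) (nat_lit 8) (BT.dif (nat_lit 2) (nat_lit 0) (BT.br (nat_lit 0) (nat_lit 57) [nat_lit 7] (BT.dead (nat_lit 66) (BT.frm (nat_lit 3) (nat_lit 0x37513f4f4f4710100707) (nat_lit 0x3751423f4f4f4710100707) [nat_lit 0, nat_lit 9, nat_lit 13, nat_lit 14, nat_lit 16, nat_lit 17,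 nat_lit 15, nat_lit 21] (BT.pln (nat_lit 0) (nat_lit 8) (BT.img (nat_lit 1) (nat_lit 2) (BT.img (nat_lit 1) (nat_lit 0) (BT.img (nat_lit 1) (nat_lit 0) (BT.img (nat_lit 1) (nat_lit 0) (BT.and (nat_lit 4) (nat_lit 0) (BT.cnt (nat_lit 0))))))))) (BT.dead (nat_lit 196) (BT.frm (nat_lit 3) (nat_lit 0x37513f4f4f4710100707) (nat_lit 0x38413f4f4f4710100707) [nat_lit 0, nat_lit 9, nat_lit 13, nat_lit 14, nat_lit 16, nat_lit 17, nat_lit 15, nat_lit 21] (BT.pln (nat_lit 0) (nat_lit 8) (BT.img (nat_lit 1) (nat_lit 2) (BT.img (nat_lit 1) (nat_lit 0) (BT.img (nat_lit 1) (nat_lit 0) (BT.img (nat_lit 1) (nat_lit 0) (BT.and (nat_lit 4) (nat_lit 0) (BT.cnt (nat_lit 0))))))))) (BT.dead (nat_lit 87) (BT.frm (nat_lit 3) (nat_lit 0x37513f4f4f4710100707) (nat_lit 0x51423f4f4f4710100707) [nat_lit 0, nat_lit 9, nat_lit 13, nat_lit 14, nat_lit 16, nat_lit 17, nat_lit 15, nat_lit 21] (BT.pln (nat_lit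 0) (nat_lit 8) (BT.img (nat_lit 1) (nat_lit 2) (BT.img (nat_lit 1) (nat_lit 0) (BT.img (nat_lit 1) (nat_lit 0) (BT.img (nat_lit 1) (nat_lit 0) (BT.and (nat_lit 4) (nat_lit 0) (BT.cnt (nat_lit 0))))))))) (BT.dead (nat_lit 92) (BT.frm (nat_lit 3) (nat_lit 0x37513f4f4f4710100707) (nat_lit 0x38423f4f4f4710100707) [nat_lit 0, nat_lit 9, nat_lit 13, nat_lit 14, nat_lit 16, nat_lit 17, nat_lit 15, nat_lit 21] (BT.pln (nat_lit 0) (nat_lit 8) (BT.img (nat_lit 1) (nat_lit 2) (BT.img (nat_lit 1) (nat_lit 0) (BT.and (nat_lit 2) (nat_lit 0) (BT.cnt (nat_lit 0))))))) (BT.dead (nat_lit 81) (BT.frm (nat_lit 3) (nat_lit 0x37513f4f4f4710100707) (nat_lit 0x383f4f4f4710100707) [nat_lit 0, nat_lit 9, nat_lit 13, nat_lit 14, nat_lit 16, nat_lit 17, nat_lit 15, nat_lit 21] (BT.pln (nat_lit 0) (nat_lit 8) (BT.img (nat_lit 1) (nat_lit 2) (BT.and (nat_lit 1) (nat_lit 0) (BT.cnt (nat_lit 0)))))) (BT.kid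 (nat_lit 57) (nat_lit 1) (BT.one (nat_lit 3) (nat_lit 0x37513f4f4f4710100707) (nat_lit 0x37513f4f4f4710100707) [nat_lit 0, nat_lit 9, nat_lit 13, nat_lit 14, nat_lit 16, nat_lit 17, nat_lit 15, nat_lit 21]) BT.nil))))))))))))))) BT.nil))))))))))))) BT.nil))))))

theorem yt_c105_cnt : Cnt 324 (grp 324 y_E0) [z_g1217] [z_g1217] 0 0 0 0 729 :=
  BT.sound yt_c105_cnt_P Known.nil (t := yt_c105_cnt_t) (d := 0) (by decide +kernel)

theorem yt_c105_ge : 729 ≤ Nat.card (grp 324 yt_c105_K) :=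
  Ch.le_card_grp (k := 9) (L := (lab 324 9)) z_hn yt_c105_K_ok (c := (Ch.cons (nat_lit 0) [nat_lit 1, nat_lit 3] (Ch.cons (nat_lit 14) [nat_lit 5] (Ch.cons (nat_lit 57) [nat_lit 7] Ch.nil)))) (by decide +kernel)

theorem yt_c105_eq : (grp 324 y_E0) ⊓ Subgroup.centralizer {Net.toPerm 324 z_g1217} = grp 324 yt_c105_K :=
  cent_eq yt_c105_sym yt_c105_cnt yt_c105_ge

theorem yt_c105_card : Nat.card ↥((grp 324 y_E0) ⊓ Subgroup.centralizer {Net.toPerm 324 z_g1217}) = 729 :=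
  card_cent yt_c105_sym yt_c105_cnt yt_c105_ge

theorem yt_c105_ord : orderOf (Net.toPerm 324 z_g1217) = 9 :=
  orderOf_net z_hn z_hk z_g1217_ok (by decide) (ps := [3]) (by set_option linter.unusedSimpArgs false in simp [Nat.primeFactorsList_ofNat]) (by decide +kernel)

theorem z_le1228 : grp 324 yt_c106_K ≤ grp 324 y_E0 :=
  grp_le_of_memB z_hn z_hk y_E0_ok yt_c106_K_ok (ws := [nat_lit 0x333926281f192115070701031d, nat_lit 0x35271c0f0715010834, nat_lit 0x34352f2628191e110707010522, nat_lit 0x34392f291f1d, nat_lit 0x333b2628191c]) (by decide +kernel)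

theorem yt_c106_le : grp 324 yt_c106_K ≤ (grp 324 y_E0) :=
  (z_le1228.trans z_T111_s0.le)

theorem yt_c106_mem : Net.toPerm 324 z_g1222 ∈ (grp 324 y_E0) :=
  yt_c106_le (mem_grp_of_memB z_hn z_hk yt_c106_K_ok z_g1222_ok (w := (nat_lit 0x80a0606)) (by decide +kernel))

theorem yt_c106_sym : Sym 324 (grp 324 y_E0) [z_g1222] yt_c106_K 0 :=
  Sym.of_lab z_hn z_hk (okE_cons.2 ⟨z_g1222_ok, okE_nil _⟩) yt_c106_K_ok yt_c106_le (kT := 0) (by decide +kernel)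

noncomputable def yt_c106_cnt_L : List ℕ := [1, 4, z_T111_s1_O, 0, 0, 4, 19, z_T111_s22_O, 0, 0, 9, 18, z_T111_s39_O, 1, 0]

theorem yt_c106_cnt_P : Prob 324 9 (grp 324 y_E0) yt_c106_cnt_EG [z_g1222] [z_g1222] yt_c106_K yt_c106_cnt_L 0 0 :=
  Sym.prob z_hn z_hk yt_c106_sym yt_c106_cnt_EG_ok (grp_cons_le z_g39_z_T111 (grp_cons_le zg1_z_T111 (grp_cons_le zg3_z_T111 (grp_cons_le z_g43_z_T111 (grp_cons_le z_g42_z_T111 (grp_cons_le zg2_z_T111 (grp_cons_le z_g44_z_T111 (grp_cons_le z_g54_z_T111 (grp_cons_le z_g55_z_T111 (grp_cons_le z_g49_z_T111 (grp_cons_le z_g50_z_T111 (grp_cons_le z_g51_z_T111 (grp_cons_le z_g62_z_T111 (grp_cons_le z_g58_z_T111 (grp_cons_le z_g59_z_T111 (grp_cons_le z_g65_z_T111 (grp_cons_le z_g66_z_T111 (grp_cons_le z_g67_z_T111 (grp_cons_le z_g77_z_T111 (grp_cons_le z_g78_z_T111 (grp_cons_le z_g72_z_T111 (grp_cons_le z_g73_z_T111 (grp_cons_le z_g74_z_T111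 (grp_cons_le z_g81_z_T111 (grp_cons_le z_g82_z_T111 (grp_cons_le z_g87_z_T111 (grp_cons_le zg0_z_T111 (grp_cons_le z_g91_z_T111 (grp_cons_le z_g28_z_T111 (grp_cons_le z_g88_z_T111 (grp_cons_le z_g324_z_T111 (grp_nil_le _)))))))))))))))))))))))))))))))) (Frames.cons z_T111_s1_F (Frames.cons z_T111_s22_F (Frames.cons z_T111_s39_F Frames.nil))) (okE_cons.2 ⟨z_g1222_ok, okE_nil _⟩) _

noncomputable def yt_c106_cnt_t : BT := (BT.fix (nat_lit 1) (BT.br (nat_lit 0) (nat_lit 50) [nat_lit 1, nat_lit 3] (BT.kid (nat_lit 50) (nat_lit 54) (BT.frm (nat_lit 0) (nat_lit 337154) (nat_lit 337154) [nat_lit 0] (BT.pln (nat_lit 0) (nat_lit 3) (BT.dif (nat_lit 0) (nat_lit 3) (BT.br (nat_lit 0) (nat_lit 38) [nat_lit 5] (BT.kid (nat_lit 38) (nat_lit 9) (BT.pln (nat_lit 3) (nat_lit 2) (BT.br (nat_lit 0) (nat_lit 44) [nat_lit 7, nat_lit 9] (BT.dead (nat_lit 218) (BT.img (nat_lit 1) (nat_lit 2) (BT.frm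 (nat_lit 1) (nat_lit 0x1a1f1508052502) (nat_lit 0x1b1a1508052502) [nat_lit 1, nat_lit 0, nat_lit 3, nat_lit 7] (BT.pln (nat_lit 0) (nat_lit 4) (BT.and (nat_lit 0) (nat_lit 10) (BT.cnt (nat_lit 0)))))) (BT.dead (nat_lit 29) (BT.img (nat_lit 1) (nat_lit 2) (BT.frm (nat_lit 1) (nat_lit 0x1a1f1508052502) (nat_lit 0x1b1508052502) [nat_lit 1, nat_lit 0, nat_lit 3, nat_lit 7] (BT.pln (nat_lit 0) (nat_lit 5) (BT.and (nat_lit 0) (nat_lit 10) (BT.cnt (nat_lit 0)))))) (BT.kid (nat_lit 44) (nat_lit 1) (BT.img (nat_lit 1) (nat_lit 0) (BT.img (nat_lit 1) (nat_lit 0) (BT.img (nat_lit 1) (nat_lit 0) (BT.img (nat_lit 1) (nat_lit 0) (BT.img (nat_lit 1) (nat_lit 6) (BT.frm (nat_lit 1) (nat_lit 0x1a1f1508052502) (nat_lit 0x1a1f1508052502) [nat_lit 5, nat_lit 0, nat_lit 7, nat_lit 11] (BT.pln (nat_lit 0) (nat_lit 10) (BT.and (nat_lit 8) (nat_lit 0) (BT.pln (nat_lit 2) (nat_lit 11) (BT.and (nat_lit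 10) (nat_lit 0) (BT.img (nat_lit 1) (nat_lit 0) (BT.and (nat_lit 12) (nat_lit 0) (BT.img (nat_lit 1) (nat_lit 0) (BT.and (nat_lit 14) (nat_lit 0) (BT.img (nat_lit 1) (nat_lit 0) (BT.and (nat_lit 7) (nat_lit 0) (BT.img (nat_lit 1) (nat_lit 0) (BT.and (nat_lit 18) (nat_lit 0) (BT.img (nat_lit 1) (nat_lit 0) (BT.and (nat_lit 20) (nat_lit 0) (BT.one (nat_lit 2) (nat_lit 0x2f291a1f1508052502) (nat_lit 0x2f291a1f1508052502) [nat_lit 16, nat_lit 19, nat_lit 0, nat_lit 18, nat_lit 17, nat_lit 20, nat_lit 15, nat_lit 22, nat_lit 26]))))))))))))))))))))) BT.nil))))) BT.nil))))) BT.nil)))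

theorem yt_c106_cnt : Cnt 324 (grp 324 y_E0) [z_g1222] [z_g1222] 0 0 0 0 486 :=
  BT.sound yt_c106_cnt_P Known.nil (t := yt_c106_cnt_t) (d := 0) (by decide +kernel)

theorem yt_c106_ge : 486 ≤ Nat.card (grp 324 yt_c106_K) :=
  Ch.le_card_grp (k := 9) (L := (lab 324 9)) z_hn yt_c106_K_ok (c := (Ch.cons (nat_lit 50) [nat_lit 1, nat_lit 3] (Ch.cons (nat_lit 38) [nat_lit 5] (Ch.cons (nat_lit 44) [nat_lit 7, nat_lit 9] Ch.nil)))) (by decide +kernel)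

theorem yt_c106_eq : (grp 324 y_E0) ⊓ Subgroup.centralizer {Net.toPerm 324 z_g1222} = grp 324 yt_c106_K :=
  cent_eq yt_c106_sym yt_c106_cnt yt_c106_ge

theorem yt_c106_card : Nat.card ↥((grp 324 y_E0) ⊓ Subgroup.centralizer {Net.toPerm 324 z_g1222}) = 486 :=
  card_cent yt_c106_sym yt_c106_cnt yt_c106_ge

theorem yt_c106_ord : orderOf (Net.toPerm 324 z_g1222) = 9 :=
  orderOf_net z_hn z_hk z_g1222_ok (by decide) (ps := [3]) (by set_option linter.unusedSimpArgs false in simp [Nat.primeFactorsList_ofNat]) (by decide +kernel)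

theorem z_le1233 : grp 324 yt_c107_K ≤ grp 324 y_E0 :=
  grp_le_of_memB z_hn z_hk y_E0_ok yt_c107_K_ok (ws := [nat_lit 0x3526281b1508010811, nat_lit 0x33392f2719221a013c02, nat_lit 0x333b25281b1a013802]) (by decide +kernel)

theorem yt_c107_le : grp 324 yt_c107_K ≤ (grp 324 y_E0) :=
  (z_le1233.trans z_T111_s0.le)

theorem yt_c107_mem : Net.toPerm 324 z_g1229 ∈ (grp 324 y_E0) :=
  yt_c107_le (mem_grp_of_memB z_hn z_hk yt_c107_K_ok z_g1229_ok (w := (nat_lit 0x3010301)) (by decide +kernel))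

theorem yt_c107_sym : Sym 324 (grp 324 y_E0) [z_g1229] yt_c107_K 0 :=
  Sym.of_lab z_hn z_hk (okE_cons.2 ⟨z_g1229_ok, okE_nil _⟩) yt_c107_K_ok yt_c107_le (kT := 0) (by decide +kernel)

theorem z_le1235 : grp 324 z_V1234 ≤ grp 324 z_V1184 :=
  grp_le_of_memB z_hn z_hk z_V1184_ok z_V1234_ok (ws := []) (by decide +kernel)

theorem z_T111_s176 : Stab 324 (grp 324 y_E0) [nat_lit 47, nat_lit 274, nat_lit 143, nat_lit 314, nat_lit 2, nat_lit 0] z_V1234 1 :=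
  Stab.step (k := 9) (L := (lab 324 9)) z_hn z_T111_s172 z_V1234_ok z_le1235 (c := Ch.nil) (by decide +kernel)

noncomputable def z_T111_s176_O : ℕ := (nat_lit 0xfffffffffffffffff000000000000000000000000000000000000000000000000000000000000000000000000000000000ffffffffffffffffffffffffffffffff00000000000000000000000000000000f0000000000000000ffffffffffffffff0000000000000000ffffffffffffffff00000000000000000ffffffff00000000ffffffff00000000ffffffff00000000ffffffff00000000ffffffff000000000ffff0000ffff0000ffff0000ffff0000ffff0000ffff0000ffff0000ffff0000ffff0000ffff00000ff00ff00ff00ff00ff00ff00ff00ff00ff00ff00ff00ff00ff00ff00ff00ff00ff00ff00ff00ff000f0f0f0f0f0f0f0f0f0f0f0f0f0f0f0f0f0f0f0f0f0f0f0f0f0f0f0f0f0f0f0f0f0f0f0f0f0f0f0f0cccccccccccccccccccccccccccccccccccccccccccccccccccccccccccccccccccccccccccccccccaaaaaaaaaaaaaaaaaaaaaaaaaaaaaaaaaaaaaaaaaaaaaaaaaaaaaaaaaaaaaaaaaaaaaaaaaa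aaaaaaa000000000000000000000000000000000000000000000000000000000000000000000000000000001000000000000000000000000000000000000000000000000000000000000000000000000000000004004000000000000000000000000000000000000000000000000000000000000000000000000000000000000000000000000000000000000000000000000000800000000000000000000000000000000000000000000000400000000000000000000000000000000000000000000000000000000000000000000000000000000000000000000000000000000000000000000000000000000000000000800000000000)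

theorem z_T111_s176_F : Frame 324 (grp 324 y_E0) 6 15 z_T111_s176_O 1 1 :=
  IsBase.frame z_T111_s176.isBase (by decide +kernel)

noncomputable def yt_c107_cnt_L : List ℕ := [1, 4, z_T111_s1_O, 0, 0, 3, 20, z_T111_s123_O, 0, 0, 4, 10, z_T111_s171_O, 0, 0, 5, 12, z_T111_s172_O, 0, 0, 6, 15, z_T111_s176_O, 1, 0]

theorem yt_c107_cnt_P : Prob 324 9 (grp 324 y_E0) yt_c107_cnt_EG [z_g1229] [z_g1229] yt_c107_K yt_c107_cnt_L 0 0 :=
  Sym.prob z_hn z_hk yt_c107_sym yt_c107_cnt_EG_ok (grp_cons_le z_g39_z_T111 (grp_cons_le zg1_z_T111 (grp_cons_le zg3_z_T111 (grp_cons_le z_g43_z_T111 (grp_cons_le z_g42_z_T111 (grp_cons_le zg2_z_T111 (grp_cons_le z_g44_z_T111 (grp_cons_le z_g54_z_T111 (grp_cons_le z_g55_z_T111 (grp_cons_le z_g49_z_T111 (grp_cons_le z_g50_z_T111 (grp_cons_le z_g51_z_T111 (grp_cons_le z_g62_z_T111 (grp_cons_le z_g58_z_T111 (grp_cons_le z_g59_z_T111 (grp_cons_le z_g65_z_T111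 (grp_cons_le z_g66_z_T111 (grp_cons_le z_g67_z_T111 (grp_cons_le z_g77_z_T111 (grp_cons_le z_g78_z_T111 (grp_cons_le z_g72_z_T111 (grp_cons_le z_g73_z_T111 (grp_cons_le z_g74_z_T111 (grp_cons_le z_g81_z_T111 (grp_cons_le z_g82_z_T111 (grp_cons_le z_g87_z_T111 (grp_cons_le zg0_z_T111 (grp_cons_le z_g91_z_T111 (grp_cons_le z_g28_z_T111 (grp_cons_le z_g88_z_T111 (grp_cons_le z_g818_z_T111 (grp_cons_le z_g819_z_T111 (grp_cons_le z_g820_z_T111 (grp_cons_le z_g821_z_T111 (grp_cons_le z_g1180_z_T111 (grp_cons_le z_g1181_z_T111 (grp_cons_le z_g378_z_T111 (grp_cons_le z_g377_z_T111 (grp_nil_le _))))))))))))))))))))))))))))))))))))))) (Frames.cons z_T111_s1_F (Frames.cons z_T111_s123_F (Frames.cons z_T111_s171_F (Frames.cons z_T111_s172_F (Frames.cons z_T111_s176_F Frames.nil))))) (okE_cons.2 ⟨z_g1229_ok, okE_nil _⟩) _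

noncomputable def yt_c107_cnt_t : BT := (BT.fix (nat_lit 65793) (BT.dif (nat_lit 3) (nat_lit 0) (BT.br (nat_lit 0) (nat_lit 1) [nat_lit 1, nat_lit 3] (BT.dead (nat_lit 27) (BT.img (nat_lit 1) (nat_lit 0) (BT.img (nat_lit 1) (nat_lit 0) (BT.img (nat_lit 1) (nat_lit 0) (BT.frm (nat_lit 2) (nat_lit 0x3e3f10191707070309) (nat_lit 0x101d0803082e) [nat_lit 1, nat_lit 2, nat_lit 0, nat_lit 3] (BT.pln (nat_lit 0) (nat_lit 4) (BT.frm (nat_lit 0) (nat_lit 777) (nat_lit 198702) [nat_lit 5] (BT.pln (nat_lit 0) (nat_lit 1) (BT.and (nat_lit 0) (nat_lit 9) (BT.img (nat_lit 1) (nat_lit 0) (BT.and (nat_lit 4) (nat_lit 0) (BT.cnt (nat_lit 0)))))))))))) (BT.dead (nat_lit 18) (BT.img (nat_lit 1) (nat_lit 0) (BT.img (nat_lit 1) (nat_lit 0) (BT.img (nat_lit 1) (nat_lit 0) (BT.frm (nat_lit 2) (nat_lit 0x3e3f10191707070309) (nat_lit 0x3d17220707030f) [nat_lit 1, nat_lit 2, nat_lit 0, nat_lit 3]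 (BT.pln (nat_lit 0) (nat_lit 4) (BT.and (nat_lit 0) (nat_lit 7) (BT.cnt (nat_lit 0)))))))) (BT.dead (nat_lit 28) (BT.img (nat_lit 1) (nat_lit 0) (BT.img (nat_lit 1) (nat_lit 0) (BT.img (nat_lit 1) (nat_lit 0) (BT.frm (nat_lit 1) (nat_lit 0x10191707070309) (nat_lit 0x102908010d05) [nat_lit 2, nat_lit 0, nat_lit 3] (BT.pln (nat_lit 0) (nat_lit 3) (BT.and (nat_lit 0) (nat_lit 7) (BT.cnt (nat_lit 0)))))))) (BT.dead (nat_lit 58) (BT.img (nat_lit 1) (nat_lit 0) (BT.img (nat_lit 1) (nat_lit 0) (BT.img (nat_lit 1) (nat_lit 0) (BT.frm (nat_lit 1) (nat_lit 0x10191707070309) (nat_lit 0x181e01031b) [nat_lit 2, nat_lit 0, nat_lit 3] (BT.pln (nat_lit 0) (nat_lit 3) (BT.and (nat_lit 0) (nat_lit 7) (BT.cnt (nat_lit 0)))))))) (BT.kid (nat_lit 1) (nat_lit 9) (BT.img (nat_lit 1) (nat_lit 0) (BT.img (nat_lit 1) (nat_lit 0) (BT.img (nat_lit 1) (nat_lit 0) (BT.frm (nat_lit 1) (nat_lit 0x10191707070309)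 (nat_lit 0x10191707070309) [nat_lit 2, nat_lit 0, nat_lit 3] (BT.pln (nat_lit 0) (nat_lit 10) (BT.dif (nat_lit 0) (nat_lit 7) (BT.br (nat_lit 0) (nat_lit 57) [] (BT.dead (nat_lit 66) (BT.frm (nat_lit 0) (nat_lit 777) (nat_lit 777) [nat_lit 7] (BT.pln (nat_lit 0) (nat_lit 1) (BT.dif (nat_lit 0) (nat_lit 11) (BT.frm (nat_lit 2) (nat_lit 0x3e3f10191707070309) (nat_lit 0x3e3f10191707070309) [nat_lit 8, nat_lit 9, nat_lit 7, nat_lit 10] (BT.pln (nat_lit 0) (nat_lit 7) (BT.and (nat_lit 2) (nat_lit 0) (BT.br (nat_lit 0) (nat_lit 199) [nat_lit 3, nat_lit 5] (BT.dead (nat_lit 199) (BT.frm (nat_lit 4) (nat_lit 0x494b453e3f10191707070309) (nat_lit 0x4a4b45483e3f10191707070309) [nat_lit 0, nat_lit 7, nat_lit 12, nat_lit 13, nat_lit 11, nat_lit 14] (BT.pln (nat_lit 0) (nat_lit 6) (BT.img (nat_lit 1) (nat_lit 2) (BT.img (nat_lit 1) (nat_lit 0) (BT.and (nat_lit 2) (nat_lit 0) (BT.cnt (nat_lit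 0))))))) BT.nil)))))))) (BT.dead (nat_lit 149) (BT.frm (nat_lit 0) (nat_lit 777) (nat_lit 777) [nat_lit 7] (BT.pln (nat_lit 0) (nat_lit 1) (BT.dif (nat_lit 0) (nat_lit 11) (BT.frm (nat_lit 2) (nat_lit 0x3e3f10191707070309) (nat_lit 0x3e3f10191707070309) [nat_lit 8, nat_lit 9, nat_lit 7, nat_lit 10] (BT.pln (nat_lit 0) (nat_lit 7) (BT.and (nat_lit 2) (nat_lit 0) (BT.br (nat_lit 0) (nat_lit 199) [nat_lit 3, nat_lit 5] (BT.dead (nat_lit 199) (BT.frm (nat_lit 4) (nat_lit 0x494b453e3f10191707070309) (nat_lit 0x4b45473e3f10191707070309) [nat_lit 0, nat_lit 7, nat_lit 12, nat_lit 13, nat_lit 11, nat_lit 14] (BT.pln (nat_lit 0) (nat_lit 6) (BT.img (nat_lit 1) (nat_lit 2) (BT.and (nat_lit 1) (nat_lit 0) (BT.cnt (nat_lit 0)))))) BT.nil)))))))) (BT.dead (nat_lit 141) (BT.frm (nat_lit 3) (nat_lit 0x453e3f10191707070309) (nat_lit 0x46473e3f10191707070309) [nat_lit 0, nat_lit 5, nat_lit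 6, nat_lit 4, nat_lit 7] (BT.pln (nat_lit 0) (nat_lit 5) (BT.img (nat_lit 1) (nat_lit 2) (BT.and (nat_lit 1) (nat_lit 0) (BT.cnt (nat_lit 0)))))) (BT.dead (nat_lit 90) (BT.frm (nat_lit 3) (nat_lit 0x453e3f10191707070309) (nat_lit 0x46483e3f10191707070309) [nat_lit 0, nat_lit 5, nat_lit 6, nat_lit 4, nat_lit 7] (BT.pln (nat_lit 0) (nat_lit 5) (BT.img (nat_lit 1) (nat_lit 2) (BT.and (nat_lit 1) (nat_lit 0) (BT.cnt (nat_lit 0)))))) (BT.dead (nat_lit 306) (BT.frm (nat_lit 3) (nat_lit 0x453e3f10191707070309) (nat_lit 0x483e3f10191707070309) [nat_lit 0, nat_lit 5, nat_lit 6, nat_lit 4, nat_lit 7] (BT.pln (nat_lit 0) (nat_lit 5) (BT.img (nat_lit 1) (nat_lit 2) (BT.and (nat_lit 1) (nat_lit 0) (BT.cnt (nat_lit 0)))))) (BT.dead (nat_lit 206) (BT.frm (nat_lit 3) (nat_lit 0x453e3f10191707070309) (nat_lit 0x463e3f10191707070309) [nat_lit 0, nat_lit 5, nat_lit 6, nat_lit 4, nat_lit 7] (BT.pln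 (nat_lit 0) (nat_lit 5) (BT.img (nat_lit 1) (nat_lit 2) (BT.and (nat_lit 1) (nat_lit 0) (BT.cnt (nat_lit 0)))))) (BT.dead (nat_lit 87) (BT.frm (nat_lit 3) (nat_lit 0x453e3f10191707070309) (nat_lit 0x473e3f10191707070309) [nat_lit 0, nat_lit 5, nat_lit 6, nat_lit 4, nat_lit 7] (BT.pln (nat_lit 0) (nat_lit 5) (BT.img (nat_lit 1) (nat_lit 2) (BT.and (nat_lit 1) (nat_lit 0) (BT.cnt (nat_lit 0)))))) (BT.dead (nat_lit 71) (BT.frm (nat_lit 3) (nat_lit 0x453e3f10191707070309) (nat_lit 0x3e3f10191707070309) [nat_lit 0, nat_lit 5, nat_lit 6, nat_lit 4, nat_lit 7] (BT.pln (nat_lit 0) (nat_lit 5) (BT.img (nat_lit 1) (nat_lit 2) (BT.and (nat_lit 1) (nat_lit 0) (BT.cnt (nat_lit 0)))))) (BT.kid (nat_lit 57) (nat_lit 9) (BT.frm (nat_lit 0) (nat_lit 777) (nat_lit 777) [nat_lit 7] (BT.pln (nat_lit 0) (nat_lit 1) (BT.dif (nat_lit 0) (nat_lit 11) (BT.frm (nat_lit 2) (nat_lit 0x3e3f10191707070309)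 (nat_lit 0x3e3f10191707070309) [nat_lit 8, nat_lit 9, nat_lit 7, nat_lit 10] (BT.pln (nat_lit 0) (nat_lit 7) (BT.and (nat_lit 2) (nat_lit 0) (BT.br (nat_lit 0) (nat_lit 199) [nat_lit 3, nat_lit 5] (BT.kid (nat_lit 199) (nat_lit 1) (BT.one (nat_lit 4) (nat_lit 0x494b453e3f10191707070309) (nat_lit 0x494b453e3f10191707070309) [nat_lit 0, nat_lit 7, nat_lit 12, nat_lit 13, nat_lit 11, nat_lit 14]) BT.nil)))))))) BT.nil)))))))))))))))) BT.nil))))))))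

theorem yt_c107_cnt : Cnt 324 (grp 324 y_E0) [z_g1229] [z_g1229] 0 0 0 0 486 :=
  BT.sound yt_c107_cnt_P Known.nil (t := yt_c107_cnt_t) (d := 0) (by decide +kernel)

theorem yt_c107_ge : 486 ≤ Nat.card (grp 324 yt_c107_K) :=
  Ch.le_card_grp (k := 9) (L := (lab 324 9)) z_hn yt_c107_K_ok (c := (Ch.cons (nat_lit 1) [nat_lit 1] (Ch.cons (nat_lit 199) [nat_lit 3, nat_lit 5] Ch.nil))) (by decide +kernel)

theorem yt_c107_eq : (grp 324 y_E0) ⊓ Subgroup.centralizer {Net.toPerm 324 z_g1229} = grp 324 yt_c107_K :=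
  cent_eq yt_c107_sym yt_c107_cnt yt_c107_ge

theorem yt_c107_card : Nat.card ↥((grp 324 y_E0) ⊓ Subgroup.centralizer {Net.toPerm 324 z_g1229}) = 486 :=
  card_cent yt_c107_sym yt_c107_cnt yt_c107_ge

theorem yt_c107_ord : orderOf (Net.toPerm 324 z_g1229) = 9 :=
  orderOf_net z_hn z_hk z_g1229_ok (by decide) (ps := [3]) (by set_option linter.unusedSimpArgs false in simp [Nat.primeFactorsList_ofNat]) (by decide +kernel)

theorem z_le1240 : grp 324 yt_c108_K ≤ grp 324 y_E0 :=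
  grp_le_of_memB z_hn z_hk y_E0_ok yt_c108_K_ok (ws := [nat_lit 0x342f26281f191f15080125, nat_lit 0x382f251f191b1b, nat_lit 0x392f2819221a]) (by decide +kernel)

theorem yt_c108_le : grp 324 yt_c108_K ≤ (grp 324 y_E0) :=
  (z_le1240.trans z_T111_s0.le)

theorem yt_c108_mem : Net.toPerm 324 z_g1236 ∈ (grp 324 y_E0) :=
  yt_c108_le (mem_grp_of_memB z_hn z_hk yt_c108_K_ok z_g1236_ok (w := (nat_lit 0x6010601)) (by decide +kernel))

theorem yt_c108_sym : Sym 324 (grp 324 y_E0) [z_g1236] yt_c108_K 0 :=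
  Sym.of_lab z_hn z_hk (okE_cons.2 ⟨z_g1236_ok, okE_nil _⟩) yt_c108_K_ok yt_c108_le (kT := 0) (by decide +kernel)

noncomputable def yt_c108_cnt_L : List ℕ := [1, 4, z_T111_s1_O, 0, 0, 3, 20, z_T111_s123_O, 0, 0, 4, 10, z_T111_s171_O, 0, 0, 5, 12, z_T111_s172_O, 0, 0, 6, 15, z_T111_s176_O, 1, 0]

theorem yt_c108_cnt_P : Prob 324 9 (grp 324 y_E0) yt_c108_cnt_EG [z_g1236] [z_g1236] yt_c108_K yt_c108_cnt_L 0 0 :=
  Sym.prob z_hn z_hk yt_c108_sym yt_c108_cnt_EG_ok (grp_cons_le z_g39_z_T111 (grp_cons_le zg1_z_T111 (grp_cons_le zg3_z_T111 (grp_cons_le z_g43_z_T111 (grp_cons_le z_g42_z_T111 (grp_cons_le zg2_z_T111 (grp_cons_le z_g44_z_T111 (grp_cons_le z_g54_z_T111 (grp_cons_le z_g55_z_T111 (grp_cons_le z_g49_z_T111 (grp_cons_le z_g50_z_T111 (grp_cons_le z_g51_z_T111 (grp_cons_le z_g62_z_T111 (grp_cons_le z_g58_z_T111 (grp_cons_le z_g59_z_T111 (grp_cons_le z_g65_z_T111 (grp_cons_le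 z_g66_z_T111 (grp_cons_le z_g67_z_T111 (grp_cons_le z_g77_z_T111 (grp_cons_le z_g78_z_T111 (grp_cons_le z_g72_z_T111 (grp_cons_le z_g73_z_T111 (grp_cons_le z_g74_z_T111 (grp_cons_le z_g81_z_T111 (grp_cons_le z_g82_z_T111 (grp_cons_le z_g87_z_T111 (grp_cons_le zg0_z_T111 (grp_cons_le z_g91_z_T111 (grp_cons_le z_g28_z_T111 (grp_cons_le z_g88_z_T111 (grp_cons_le z_g818_z_T111 (grp_cons_le z_g819_z_T111 (grp_cons_le z_g820_z_T111 (grp_cons_le z_g821_z_T111 (grp_cons_le z_g1180_z_T111 (grp_cons_le z_g1181_z_T111 (grp_cons_le z_g378_z_T111 (grp_cons_le z_g377_z_T111 (grp_nil_le _))))))))))))))))))))))))))))))))))))))) (Frames.cons z_T111_s1_F (Frames.cons z_T111_s123_F (Frames.cons z_T111_s171_F (Frames.cons z_T111_s172_F (Frames.cons z_T111_s176_F Frames.nil))))) (okE_cons.2 ⟨z_g1236_ok, okE_nil _⟩) _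

noncomputable def yt_c108_cnt_t : BT := (BT.fix (nat_lit 65793) (BT.dif (nat_lit 3) (nat_lit 0) (BT.br (nat_lit 0) (nat_lit 0) [nat_lit 1, nat_lit 3] (BT.dead (nat_lit 1) (BT.img (nat_lit 1) (nat_lit 0) (BT.img (nat_lit 1) (nat_lit 0) (BT.img (nat_lit 1) (nat_lit 0) (BT.frm (nat_lit 2) (nat_lit 0x3f0f070c) (nat_lit 0x3e3f2807150309) [nat_lit 1, nat_lit 2, nat_lit 0, nat_lit 3] (BT.pln (nat_lit 0) (nat_lit 4) (BT.and (nat_lit 0) (nat_lit 7) (BT.cnt (nat_lit 0)))))))) (BT.dead (nat_lit 47) (BT.img (nat_lit 1) (nat_lit 0) (BT.img (nat_lit 1) (nat_lit 0) (BT.img (nat_lit 1) (nat_lit 0) (BT.frm (nat_lit 1) (nat_lit 984844) (nat_lit 0x260715020302) [nat_lit 2, nat_lit 0, nat_lit 3] (BT.pln (nat_lit 0) (nat_lit 3) (BT.and (nat_lit 0) (nat_lit 7) (BT.cnt (nat_lit 0)))))))) (BT.dead (nat_lit 36) (BT.img (nat_lit 1) (nat_lit 0) (BT.img (nat_lit 1) (nat_lit 0) (BT.img (nat_lit 1) (nat_lit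 0) (BT.frm (nat_lit 1) (nat_lit 984844) (nat_lit 0x20230801051f) [nat_lit 2, nat_lit 0, nat_lit 3] (BT.pln (nat_lit 0) (nat_lit 3) (BT.and (nat_lit 0) (nat_lit 7) (BT.cnt (nat_lit 0)))))))) (BT.dead (nat_lit 18) (BT.img (nat_lit 1) (nat_lit 0) (BT.img (nat_lit 1) (nat_lit 0) (BT.img (nat_lit 1) (nat_lit 0) (BT.frm (nat_lit 2) (nat_lit 0x3f0f070c) (nat_lit 0x3d1d2908030f) [nat_lit 1, nat_lit 2, nat_lit 0, nat_lit 3] (BT.pln (nat_lit 0) (nat_lit 4) (BT.and (nat_lit 0) (nat_lit 7) (BT.cnt (nat_lit 0)))))))) (BT.kid (nat_lit 0) (nat_lit 9) (BT.img (nat_lit 1) (nat_lit 0) (BT.img (nat_lit 1) (nat_lit 0) (BT.img (nat_lit 1) (nat_lit 0) (BT.frm (nat_lit 1) (nat_lit 984844) (nat_lit 984844) [nat_lit 2, nat_lit 0, nat_lit 3] (BT.pln (nat_lit 0) (nat_lit 10) (BT.dif (nat_lit 0) (nat_lit 7) (BT.br (nat_lit 0) (nat_lit 81) [] (BT.dead (nat_lit 314) (BT.frm (nat_lit 0) (nat_lit 0) (nat_lit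 0) [nat_lit 7] (BT.pln (nat_lit 0) (nat_lit 1) (BT.dif (nat_lit 0) (nat_lit 11) (BT.frm (nat_lit 2) (nat_lit 0x3f0f070c) (nat_lit 0x3f0f070c) [nat_lit 8, nat_lit 9, nat_lit 7, nat_lit 10] (BT.pln (nat_lit 0) (nat_lit 7) (BT.and (nat_lit 2) (nat_lit 0) (BT.br (nat_lit 0) (nat_lit 34) [nat_lit 3, nat_lit 5] (BT.dead (nat_lit 34) (BT.frm (nat_lit 4) (nat_lit 0x4b46473f0f070c) (nat_lit 0x4a4b46483f0f070c) [nat_lit 0, nat_lit 7, nat_lit 12, nat_lit 13, nat_lit 11, nat_lit 14] (BT.pln (nat_lit 0) (nat_lit 6) (BT.img (nat_lit 1) (nat_lit 2) (BT.img (nat_lit 1) (nat_lit 0) (BT.img (nat_lit 1) (nat_lit 0) (BT.img (nat_lit 1) (nat_lit 0) (BT.img (nat_lit 1) (nat_lit 0) (BT.and (nat_lit 5) (nat_lit 0) (BT.cnt (nat_lit 0)))))))))) BT.nil)))))))) (BT.dead (nat_lit 110) (BT.frm (nat_lit 0) (nat_lit 0) (nat_lit 0) [nat_lit 7] (BT.pln (nat_lit 0) (nat_lit 1) (BT.dif (nat_lit 0) (nat_lit 11)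 (BT.frm (nat_lit 2) (nat_lit 0x3f0f070c) (nat_lit 0x3f0f070c) [nat_lit 8, nat_lit 9, nat_lit 7, nat_lit 10] (BT.pln (nat_lit 0) (nat_lit 7) (BT.and (nat_lit 2) (nat_lit 0) (BT.br (nat_lit 0) (nat_lit 34) [nat_lit 3, nat_lit 5] (BT.dead (nat_lit 34) (BT.frm (nat_lit 4) (nat_lit 0x4b46473f0f070c) (nat_lit 0x494b463f0f070c) [nat_lit 0, nat_lit 7, nat_lit 12, nat_lit 13, nat_lit 11, nat_lit 14] (BT.pln (nat_lit 0) (nat_lit 6) (BT.img (nat_lit 1) (nat_lit 2) (BT.img (nat_lit 1) (nat_lit 0) (BT.and (nat_lit 2) (nat_lit 0) (BT.cnt (nat_lit 0))))))) BT.nil)))))))) (BT.dead (nat_lit 203) (BT.frm (nat_lit 3) (nat_lit 0x46473f0f070c) (nat_lit 0x45483f0f070c) [nat_lit 0, nat_lit 5, nat_lit 6, nat_lit 4, nat_lit 7] (BT.pln (nat_lit 0) (nat_lit 5) (BT.img (nat_lit 1) (nat_lit 2) (BT.and (nat_lit 1) (nat_lit 0) (BT.cnt (nat_lit 0)))))) (BT.dead (nat_lit 196) (BT.frm (nat_lit 3) (nat_lit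 0x46473f0f070c) (nat_lit 0x45473f0f070c) [nat_lit 0, nat_lit 5, nat_lit 6, nat_lit 4, nat_lit 7] (BT.pln (nat_lit 0) (nat_lit 5) (BT.img (nat_lit 1) (nat_lit 2) (BT.and (nat_lit 1) (nat_lit 0) (BT.cnt (nat_lit 0)))))) (BT.dead (nat_lit 215) (BT.frm (nat_lit 3) (nat_lit 0x46473f0f070c) (nat_lit 0x453f0f070c) [nat_lit 0, nat_lit 5, nat_lit 6, nat_lit 4, nat_lit 7] (BT.pln (nat_lit 0) (nat_lit 5) (BT.img (nat_lit 1) (nat_lit 2) (BT.and (nat_lit 1) (nat_lit 0) (BT.cnt (nat_lit 0)))))) (BT.dead (nat_lit 155) (BT.frm (nat_lit 3) (nat_lit 0x46473f0f070c) (nat_lit 0x483f0f070c) [nat_lit 0, nat_lit 5, nat_lit 6, nat_lit 4, nat_lit 7] (BT.pln (nat_lit 0) (nat_lit 5) (BT.img (nat_lit 1) (nat_lit 2) (BT.and (nat_lit 1) (nat_lit 0) (BT.cnt (nat_lit 0)))))) (BT.dead (nat_lit 92) (BT.frm (nat_lit 3) (nat_lit 0x46473f0f070c) (nat_lit 0x473f0f070c) [nat_lit 0, nat_lit 5, nat_lit 6, nat_lit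 4, nat_lit 7] (BT.pln (nat_lit 0) (nat_lit 5) (BT.img (nat_lit 1) (nat_lit 2) (BT.and (nat_lit 1) (nat_lit 0) (BT.cnt (nat_lit 0)))))) (BT.dead (nat_lit 293) (BT.frm (nat_lit 3) (nat_lit 0x46473f0f070c) (nat_lit 0x3f0f070c) [nat_lit 0, nat_lit 5, nat_lit 6, nat_lit 4, nat_lit 7] (BT.pln (nat_lit 0) (nat_lit 5) (BT.img (nat_lit 1) (nat_lit 2) (BT.and (nat_lit 1) (nat_lit 0) (BT.cnt (nat_lit 0)))))) (BT.kid (nat_lit 81) (nat_lit 9) (BT.frm (nat_lit 0) (nat_lit 0) (nat_lit 0) [nat_lit 7] (BT.pln (nat_lit 0) (nat_lit 1) (BT.dif (nat_lit 0) (nat_lit 11) (BT.frm (nat_lit 2) (nat_lit 0x3f0f070c) (nat_lit 0x3f0f070c) [nat_lit 8, nat_lit 9, nat_lit 7, nat_lit 10] (BT.pln (nat_lit 0) (nat_lit 7) (BT.and (nat_lit 2) (nat_lit 0) (BT.br (nat_lit 0) (nat_lit 34) [nat_lit 3, nat_lit 5] (BT.kid (nat_lit 34) (nat_lit 1) (BT.one (nat_lit 4) (nat_lit 0x4b46473f0f070c) (nat_lit 0x4b46473f0f070c)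 [nat_lit 0, nat_lit 7, nat_lit 12, nat_lit 13, nat_lit 11, nat_lit 14]) BT.nil)))))))) BT.nil)))))))))))))))) BT.nil))))))))

theorem yt_c108_cnt : Cnt 324 (grp 324 y_E0) [z_g1236] [z_g1236] 0 0 0 0 486 :=
  BT.sound yt_c108_cnt_P Known.nil (t := yt_c108_cnt_t) (d := 0) (by decide +kernel)

theorem yt_c108_ge : 486 ≤ Nat.card (grp 324 yt_c108_K) :=
  Ch.le_card_grp (k := 9) (L := (lab 324 9)) z_hn yt_c108_K_ok (c := (Ch.cons (nat_lit 0) [nat_lit 1] (Ch.cons (nat_lit 34) [nat_lit 3, nat_lit 5] Ch.nil))) (by decide +kernel)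

theorem yt_c108_eq : (grp 324 y_E0) ⊓ Subgroup.centralizer {Net.toPerm 324 z_g1236} = grp 324 yt_c108_K :=
  cent_eq yt_c108_sym yt_c108_cnt yt_c108_ge

theorem yt_c108_card : Nat.card ↥((grp 324 y_E0) ⊓ Subgroup.centralizer {Net.toPerm 324 z_g1236}) = 486 :=
  card_cent yt_c108_sym yt_c108_cnt yt_c108_ge

theorem yt_c108_ord : orderOf (Net.toPerm 324 z_g1236) = 9 :=
  orderOf_net z_hn z_hk z_g1236_ok (by decide) (ps := [3]) (by set_option linter.unusedSimpArgs false in simp [Nat.primeFactorsList_ofNat]) (by decide +kernel)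

theorem z_le1246 : grp 324 yt_c109_K ≤ grp 324 y_E0 :=
  grp_le_of_memB z_hn z_hk y_E0_ok yt_c109_K_ok (ws := [nat_lit 0x3c2f251f1b1a15070a030f, nat_lit 0x392f25281f191b0f09030e, nat_lit 0x37281a1f050207, nat_lit 0x3339262819201c12021202, nat_lit 0x3439191c11011101]) (by decide +kernel)

theorem yt_c109_le : grp 324 yt_c109_K ≤ (grp 324 y_E0) :=
  (z_le1246.trans z_T111_s0.le)

theorem yt_c109_mem : Net.toPerm 324 z_g1241 ∈ (grp 324 y_E0) :=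
  yt_c109_le (toPerm_mem_grp (E := yt_c109_K) (List.Mem.tail _ (List.Mem.head _)))

theorem yt_c109_sym : Sym 324 (grp 324 y_E0) [z_g1241] yt_c109_K 0 :=
  Sym.of_lab z_hn z_hk (okE_cons.2 ⟨z_g1241_ok, okE_nil _⟩) yt_c109_K_ok yt_c109_le (kT := 0) (by decide +kernel)

noncomputable def yt_c109_cnt_L : List ℕ := [1, 4, z_T111_s1_O, 0, 0, 4, 19, z_T111_s22_O, 0, 0, 9, 18, z_T111_s39_O, 1, 0]

theorem yt_c109_cnt_P : Prob 324 9 (grp 324 y_E0) yt_c109_cnt_EG [z_g1241] [z_g1241] yt_c109_K yt_c109_cnt_L 0 0 :=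
  Sym.prob z_hn z_hk yt_c109_sym yt_c109_cnt_EG_ok (grp_cons_le z_g39_z_T111 (grp_cons_le zg1_z_T111 (grp_cons_le zg3_z_T111 (grp_cons_le z_g43_z_T111 (grp_cons_le z_g42_z_T111 (grp_cons_le zg2_z_T111 (grp_cons_le z_g44_z_T111 (grp_cons_le z_g54_z_T111 (grp_cons_le z_g55_z_T111 (grp_cons_le z_g49_z_T111 (grp_cons_le z_g50_z_T111 (grp_cons_le z_g51_z_T111 (grp_cons_le z_g62_z_T111 (grp_cons_le z_g58_z_T111 (grp_cons_le z_g59_z_T111 (grp_cons_le z_g65_z_T111 (grp_cons_le z_g66_z_T111 (grp_cons_le z_g67_z_T111 (grp_cons_le z_g77_z_T111 (grp_cons_le z_g78_z_T111 (grp_cons_le z_g72_z_T111 (grp_cons_le z_g73_z_T111 (grp_cons_le z_g74_z_T111 (grp_cons_le z_g81_z_T111 (grp_cons_le z_g82_z_T111 (grp_cons_le z_g87_z_T111 (grp_cons_le zg0_z_T111 (grp_cons_le z_g91_z_T111 (grp_cons_le z_g28_z_T111 (grp_cons_le z_g88_z_T111 (grp_cons_le z_g324_z_T111 (grp_nil_le _))))))))))))))))))))))))))))))))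 (Frames.cons z_T111_s1_F (Frames.cons z_T111_s22_F (Frames.cons z_T111_s39_F Frames.nil))) (okE_cons.2 ⟨z_g1241_ok, okE_nil _⟩) _

noncomputable def yt_c109_cnt_t : BT := (BT.fix (nat_lit 1) (BT.br (nat_lit 0) (nat_lit 224) [nat_lit 1] (BT.kid (nat_lit 224) (nat_lit 54) (BT.frm (nat_lit 0) (nat_lit 66839) (nat_lit 66839) [nat_lit 0] (BT.pln (nat_lit 0) (nat_lit 3) (BT.dif (nat_lit 0) (nat_lit 3) (BT.br (nat_lit 0) (nat_lit 35) [nat_lit 5] (BT.kid (nat_lit 35) (nat_lit 9) (BT.pln (nat_lit 3) (nat_lit 2) (BT.br (nat_lit 0) (nat_lit 222) [nat_lit 7, nat_lit 9] (BT.dead (nat_lit 244) (BT.img (nat_lit 1) (nat_lit 2) (BT.frm (nat_lit 1) (nat_lit 0x192612070a010517) (nat_lit 0x1a2012070a010517) [nat_lit 1, nat_lit 0, nat_lit 3, nat_lit 7] (BT.pln (nat_lit 0) (nat_lit 10) (BT.img (nat_lit 1) (nat_lit 3) (BT.img (nat_lit 1) (nat_lit 0) (BT.img (nat_lit 1) (nat_lit 0) (BT.and (nat_lit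 3) (nat_lit 0) (BT.cnt (nat_lit 0))))))))) (BT.dead (nat_lit 47) (BT.img (nat_lit 1) (nat_lit 2) (BT.frm (nat_lit 1) (nat_lit 0x192612070a010517) (nat_lit 0x12070a010517) [nat_lit 1, nat_lit 0, nat_lit 3, nat_lit 7] (BT.pln (nat_lit 0) (nat_lit 9) (BT.img (nat_lit 1) (nat_lit 3) (BT.img (nat_lit 1) (nat_lit 0) (BT.img (nat_lit 1) (nat_lit 0) (BT.and (nat_lit 3) (nat_lit 0) (BT.cnt (nat_lit 0))))))))) (BT.kid (nat_lit 222) (nat_lit 1) (BT.img (nat_lit 1) (nat_lit 2) (BT.frm (nat_lit 1) (nat_lit 0x192612070a010517) (nat_lit 0x192612070a010517) [nat_lit 1, nat_lit 0, nat_lit 3, nat_lit 7] (BT.pln (nat_lit 0) (nat_lit 8) (BT.and (nat_lit 4) (nat_lit 0) (BT.img (nat_lit 1) (nat_lit 4) (BT.img (nat_lit 1) (nat_lit 0) (BT.dif (nat_lit 2) (nat_lit 0) (BT.pln (nat_lit 5) (nat_lit 7) (BT.and (nat_lit 9) (nat_lit 0) (BT.dif (nat_lit 0) (nat_lit 4) (BT.img (nat_lit 1) (nat_lit 4) (BT.img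 (nat_lit 1) (nat_lit 0) (BT.dif (nat_lit 2) (nat_lit 0) (BT.pln (nat_lit 11) (nat_lit 12) (BT.and (nat_lit 15) (nat_lit 0) (BT.pln (nat_lit 13) (nat_lit 11) (BT.and (nat_lit 17) (nat_lit 0) (BT.img (nat_lit 1) (nat_lit 0) (BT.and (nat_lit 19) (nat_lit 0) (BT.img (nat_lit 1) (nat_lit 0) (BT.and (nat_lit 21) (nat_lit 0) (BT.img (nat_lit 1) (nat_lit 0) (BT.and (nat_lit 7) (nat_lit 0) (BT.img (nat_lit 1) (nat_lit 0) (BT.and (nat_lit 11) (nat_lit 0) (BT.img (nat_lit 1) (nat_lit 0) (BT.and (nat_lit 19) (nat_lit 0) (BT.pln (nat_lit 25) (nat_lit 9) (BT.and (nat_lit 29) (nat_lit 0) (BT.dif (nat_lit 0) (nat_lit 7) (BT.one (nat_lit 2) (nat_lit 0x3d3b291f192612070a010517) (nat_lit 0x3d3b291f192612070a010517) [nat_lit 3, nat_lit 24, nat_lit 5, nat_lit 25, nat_lit 0, nat_lit 30, nat_lit 29, nat_lit 32, nat_lit 36]))))))))))))))))))))))))))))))) BT.nil))))) BT.nil))))) BT.nil)))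

theorem yt_c109_cnt : Cnt 324 (grp 324 y_E0) [z_g1241] [z_g1241] 0 0 0 0 162 :=
  BT.sound yt_c109_cnt_P Known.nil (t := yt_c109_cnt_t) (d := 0) (by decide +kernel)

theorem yt_c109_ge : 162 ≤ Nat.card (grp 324 yt_c109_K) :=
  Ch.le_card_grp (k := 9) (L := (lab 324 9)) z_hn yt_c109_K_ok (c := (Ch.cons (nat_lit 224) [nat_lit 1] (Ch.cons (nat_lit 35) [nat_lit 3, nat_lit 5] (Ch.cons (nat_lit 222) [nat_lit 7, nat_lit 9] Ch.nil)))) (by decide +kernel)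

theorem yt_c109_eq : (grp 324 y_E0) ⊓ Subgroup.centralizer {Net.toPerm 324 z_g1241} = grp 324 yt_c109_K :=
  cent_eq yt_c109_sym yt_c109_cnt yt_c109_ge

theorem yt_c109_card : Nat.card ↥((grp 324 y_E0) ⊓ Subgroup.centralizer {Net.toPerm 324 z_g1241}) = 162 :=
  card_cent yt_c109_sym yt_c109_cnt yt_c109_ge

theorem yt_c109_ord : orderOf (Net.toPerm 324 z_g1241) = 9 :=
  orderOf_net z_hn z_hk z_g1241_ok (by decide) (ps := [3]) (by set_option linter.unusedSimpArgs false in simp [Nat.primeFactorsList_ofNat]) (by decide +kernel)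

theorem z_le1250 : grp 324 yt_c110_K ≤ grp 324 y_E0 :=
  grp_le_of_memB z_hn z_hk y_E0_ok yt_c110_K_ok (ws := [nat_lit 0x33392f271f1d1f0f120701080e, nat_lit 0x333b27191e1208030d, nat_lit 0x3435281d1f013b02]) (by decide +kernel)

theorem yt_c110_le : grp 324 yt_c110_K ≤ (grp 324 y_E0) :=
  (z_le1250.trans z_T111_s0.le)

theorem yt_c110_mem : Net.toPerm 324 z_g1247 ∈ (grp 324 y_E0) :=
  yt_c110_le (toPerm_mem_grp (E := yt_c110_K) (List.Mem.head _))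

theorem yt_c110_sym : Sym 324 (grp 324 y_E0) [z_g1247] yt_c110_K 0 :=
  Sym.of_lab z_hn z_hk (okE_cons.2 ⟨z_g1247_ok, okE_nil _⟩) yt_c110_K_ok yt_c110_le (kT := 0) (by decide +kernel)

theorem z_le1253 : grp 324 z_V1252 ≤ grp 324 z_V379 :=
  grp_le_of_memB z_hn z_hk z_V379_ok z_V1252_ok (ws := [nat_lit 0xc0d080a0105, nat_lit 0xb0e0809, nat_lit 790024]) (by decide +kernel)

theorem z_T111_s177 : Stab 324 (grp 324 y_E0) [nat_lit 287, nat_lit 293, nat_lit 0] z_V1252 54 :=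
  Stab.step (k := 9) (L := (lab 324 9)) z_hn z_T111_s49 z_V1252_ok z_le1253 (c := (Ch.cons (nat_lit 128) [nat_lit 1] (Ch.cons (nat_lit 190) [nat_lit 3, nat_lit 5] Ch.nil))) (by decide +kernel)

theorem z_T111_s178 : Stab 324 (grp 324 y_E0) [nat_lit 128, nat_lit 287, nat_lit 293, nat_lit 0] z_V1254 9 :=
  Stab.step (k := 9) (L := (lab 324 9)) z_hn z_T111_s177 z_V1254_ok (grp_mono (List.subset_append_right [z_g1251] _)) (c := (Ch.cons (nat_lit 190) [nat_lit 1, nat_lit 3] Ch.nil)) (by decide +kernel)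

theorem z_T111_s179 : Stab 324 (grp 324 y_E0) [nat_lit 190, nat_lit 128, nat_lit 287, nat_lit 293, nat_lit 0] z_V1255 1 :=
  Stab.step (k := 9) (L := (lab 324 9)) z_hn z_T111_s178 z_V1255_ok (grp_mono (List.subset_append_right [z_g1239, z_g1238] _)) (c := Ch.nil) (by decide +kernel)

theorem z_g1251_z_T111 : Net.toPerm 324 z_g1251 ∈ (grp 324 y_E0) :=
  z_T111_s177.le (toPerm_mem_grp (E := z_V1252) (List.Mem.head _))

theorem z_g1239_z_T111 : Net.toPerm 324 z_g1239 ∈ (grp 324 y_E0) :=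
  z_T111_s177.le (toPerm_mem_grp (E := z_V1252) (List.Mem.tail _ (List.Mem.head _)))

theorem z_g1238_z_T111 : Net.toPerm 324 z_g1238 ∈ (grp 324 y_E0) :=
  z_T111_s177.le (toPerm_mem_grp (E := z_V1252) (List.Mem.tail _ (List.Mem.tail _ (List.Mem.head _))))

noncomputable def z_T111_s179_O : ℕ := (nat_lit 0xfffffffffffffffff000000000000000000000000000000000000000000000000000000000000000000000000000000000ffffffffffffffffffffffffffffffff00000000000000000000000000000000f0000000000000000ffffffffffffffff0000000000000000ffffffffffffffff00000000000000000ffffffff00000000ffffffff00000000ffffffff00000000ffffffff00000000ffffffff000000000ffff0000ffff0000ffff0000ffff0000ffff0000ffff0000ffff0000ffff0000ffff0000ffff00000ff00ff00ff00ff00ff00ff00ff00ff00ff00ff00ff00ff00ff00ff00ff00ff00ff00ff00ff00ff000f0f0f0f0f0f0f0f0f0f0f0f0f0f0f0f0f0f0f0f0f0f0f0f0f0f0f0f0f0f0f0f0f0f0f0f0f0f0f0f0ccccccccc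ccccccccccccccccccccccccccccccccccccccccccccccccccccccccccccccccccccccccaaaaaaaaaaaaaaaaaaaaaaaaaaaaaaaaaaaaaaaaaaaaaaaaaaaaaaaaaaaaaaaaaaaaaaaaaaaaaaaaa000000000000000000000000000000000000000000000000000000000000000000000000000000001000000020000000000000000000000000000000000000000000000000000000000000000000000000000000000800000000000000000000000000000000000000000000000000000000000000000000000000000000000000000000000000000000000000000000000100000000000000000000000000000000000000000000000000000000000000000400000000000000000000000000000000000000000000000)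

theorem z_T111_s179_F : Frame 324 (grp 324 y_E0) 5 14 z_T111_s179_O 1 1 :=
  IsBase.frame z_T111_s179.isBase (by decide +kernel)

noncomputable def z_T111_s178_O : ℕ := (nat_lit 0x4600408060800cb02508204b119188180000e98008009000000000000000000000000000000000000460040806080000000000000000000000000000000000142c0205182306a0a40402c4068800228001997b29151d4cfdf2777a32dbb528110260f21630868d0feed9bd7fb6b369310100000000000002b4e20cf324e02336fb9ed94cc0008f7ff1a6072901f71306176e762f0484c828ac6ff6c0000000002b4f6fb0d95901739eaf880d3678e09d86c59e0d6b43821609da905e0dff28068a58b893e67f200002b0165b497c249431c5eb27f69270ed86df667fa62c3caf7215058300d889fd77cbce6a1d9c0d802028467a7383c73b2568d48e494a62f8ed3a2999054ee7749fcd3a5e0a49121123870ad58b59b0d7fc2224000000000000000000000000000000000000000000000000000000000000000000000000000000001000000020000000000000000000000000000000000000000000000000000000000000000000000000000000000800000000000000000000000000000000000000000000000000000000000000000000000000000000000000000000000000000000000000000000000100000000000000000000000000000000)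

theorem z_T111_s178_F : Frame 324 (grp 324 y_E0) 4 11 z_T111_s178_O 0 1 :=
  Stab.frame z_hn z_T111_s178 (by decide +kernel)

noncomputable def yt_c110_cnt_L : List ℕ := [1, 4, z_T111_s1_O, 0, 0, 2, 11, z_T111_s49_O, 0, 0, 4, 11, z_T111_s178_O, 0, 0, 5, 14, z_T111_s179_O, 1, 0]

theorem yt_c110_cnt_P : Prob 324 9 (grp 324 y_E0) yt_c110_cnt_EG [z_g1247] [z_g1247] yt_c110_K yt_c110_cnt_L 0 0 :=
  Sym.prob z_hn z_hk yt_c110_sym yt_c110_cnt_EG_ok (grp_cons_le z_g39_z_T111 (grp_cons_le zg1_z_T111 (grp_cons_le zg3_z_T111 (grp_cons_le z_g43_z_T111 (grp_cons_le z_g42_z_T111 (grp_cons_le zg2_z_T111 (grp_cons_le z_g44_z_T111 (grp_cons_le z_g54_z_T111 (grp_cons_le z_g55_z_T111 (grp_cons_le z_g49_z_T111 (grp_cons_le z_g50_z_T111 (grp_cons_le z_g51_z_T111 (grp_cons_le z_g62_z_T111 (grp_cons_le z_g58_z_T111 (grp_cons_le z_g59_z_T111 (grp_cons_le z_g65_z_T111 (grp_cons_le z_g66_z_T111 (grp_cons_le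 z_g67_z_T111 (grp_cons_le z_g77_z_T111 (grp_cons_le z_g78_z_T111 (grp_cons_le z_g72_z_T111 (grp_cons_le z_g73_z_T111 (grp_cons_le z_g74_z_T111 (grp_cons_le z_g81_z_T111 (grp_cons_le z_g82_z_T111 (grp_cons_le z_g87_z_T111 (grp_cons_le zg0_z_T111 (grp_cons_le z_g91_z_T111 (grp_cons_le z_g28_z_T111 (grp_cons_le z_g88_z_T111 (grp_cons_le z_g1251_z_T111 (grp_cons_le z_g1239_z_T111 (grp_cons_le z_g1238_z_T111 (grp_cons_le z_g372_z_T111 (grp_cons_le z_g373_z_T111 (grp_cons_le z_g374_z_T111 (grp_cons_le z_g375_z_T111 (grp_cons_le z_g376_z_T111 (grp_cons_le z_g377_z_T111 (grp_cons_le z_g378_z_T111 (grp_nil_le _))))))))))))))))))))))))))))))))))))))))) (Frames.cons z_T111_s1_F (Frames.cons z_T111_s49_F (Frames.cons z_T111_s178_F (Frames.cons z_T111_s179_F Frames.nil)))) (okE_cons.2 ⟨z_g1247_ok, okE_nil _⟩) _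

noncomputable def yt_c110_cnt_t : BT := (BT.fix (nat_lit 65793) (BT.br (nat_lit 0) (nat_lit 39) [nat_lit 1, nat_lit 3] (BT.dead (nat_lit 59) (BT.img (nat_lit 1) (nat_lit 0) (BT.frm (nat_lit 1) (nat_lit 0x80b020701) (nat_lit 0xa35010d37) [nat_lit 0, nat_lit 1] (BT.pln (nat_lit 0) (nat_lit 9) (BT.dif (nat_lit 0) (nat_lit 4) (BT.br (nat_lit 0) (nat_lit 62) [nat_lit 1028] (BT.dead (nat_lit 178) (BT.frm (nat_lit 0) (nat_lit 132865) (nat_lit 68919) [nat_lit 5] (BT.pln (nat_lit 0) (nat_lit 1) (BT.img (nat_lit 1) (nat_lit 6) (BT.frm (nat_lit 2) (nat_lit 0x3e3e45484c080b020701) (nat_lit 0x3d3d3d44454a0a35010d37) [nat_lit 3, nat_lit 0, nat_lit 7, nat_lit 8] (BT.pln (nat_lit 0) (nat_lit 7) (BT.and (nat_lit 3) (nat_lit 0) (BT.pln (nat_lit 2) (nat_lit 5) (BT.and (nat_lit 1) (nat_lit 0) (BT.br (nat_lit 0) (nat_lit 199) [nat_lit 5] (BT.dead (nat_lit 163) (BT.frm (nat_lit 3) (nat_lit 0x40413e3e45484c080b020701)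 (nat_lit 0x40413d3d3d44454a0a35010d37) [nat_lit 0, nat_lit 9, nat_lit 6, nat_lit 13, nat_lit 14] (BT.pln (nat_lit 0) (nat_lit 5) (BT.img (nat_lit 1) (nat_lit 2) (BT.and (nat_lit 1) (nat_lit 0) (BT.cnt (nat_lit 0)))))) (BT.dead (nat_lit 94) (BT.frm (nat_lit 3) (nat_lit 0x40413e3e45484c080b020701) (nat_lit 0x413d3d3d44454a0a35010d37) [nat_lit 0, nat_lit 9, nat_lit 6, nat_lit 13, nat_lit 14] (BT.pln (nat_lit 0) (nat_lit 5) (BT.img (nat_lit 1) (nat_lit 2) (BT.and (nat_lit 1) (nat_lit 0) (BT.cnt (nat_lit 0)))))) (BT.dead (nat_lit 152) (BT.frm (nat_lit 3) (nat_lit 0x40413e3e45484c080b020701) (nat_lit 0x423d3d3d44454a0a35010d37) [nat_lit 0, nat_lit 9, nat_lit 6, nat_lit 13, nat_lit 14] (BT.pln (nat_lit 0) (nat_lit 5) (BT.img (nat_lit 1) (nat_lit 2) (BT.and (nat_lit 1) (nat_lit 0) (BT.cnt (nat_lit 0)))))) BT.nil)))))))))))) (BT.dead (nat_lit 36) (BT.frm (nat_lit 0) (nat_lit 132865)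 (nat_lit 68919) [nat_lit 5] (BT.pln (nat_lit 0) (nat_lit 1) (BT.img (nat_lit 1) (nat_lit 6) (BT.frm (nat_lit 2) (nat_lit 0x3e3e45484c080b020701) (nat_lit 0x3e3e44454a0a35010d37) [nat_lit 3, nat_lit 0, nat_lit 7, nat_lit 8] (BT.pln (nat_lit 0) (nat_lit 7) (BT.and (nat_lit 3) (nat_lit 0) (BT.pln (nat_lit 2) (nat_lit 5) (BT.and (nat_lit 1) (nat_lit 0) (BT.br (nat_lit 0) (nat_lit 199) [nat_lit 5] (BT.dead (nat_lit 318) (BT.frm (nat_lit 3) (nat_lit 0x40413e3e45484c080b020701) (nat_lit 0x3f413e3e44454a0a35010d37) [nat_lit 0, nat_lit 9, nat_lit 6, nat_lit 13, nat_lit 14] (BT.pln (nat_lit 0) (nat_lit 5) (BT.img (nat_lit 1) (nat_lit 2) (BT.img (nat_lit 1) (nat_lit 0) (BT.and (nat_lit 2) (nat_lit 0) (BT.cnt (nat_lit 0))))))) (BT.dead (nat_lit 302) (BT.frm (nat_lit 3) (nat_lit 0x40413e3e45484c080b020701) (nat_lit 0x3e3e44454a0a35010d37) [nat_lit 0, nat_lit 9, nat_lit 6, nat_lit 13, nat_lit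 14] (BT.pln (nat_lit 0) (nat_lit 5) (BT.img (nat_lit 1) (nat_lit 2) (BT.img (nat_lit 1) (nat_lit 0) (BT.img (nat_lit 1) (nat_lit 0) (BT.img (nat_lit 1) (nat_lit 0) (BT.img (nat_lit 1) (nat_lit 0) (BT.and (nat_lit 5) (nat_lit 0) (BT.cnt (nat_lit 0)))))))))) (BT.dead (nat_lit 168) (BT.frm (nat_lit 3) (nat_lit 0x40413e3e45484c080b020701) (nat_lit 0x413e3e44454a0a35010d37) [nat_lit 0, nat_lit 9, nat_lit 6, nat_lit 13, nat_lit 14] (BT.pln (nat_lit 0) (nat_lit 5) (BT.img (nat_lit 1) (nat_lit 2) (BT.and (nat_lit 1) (nat_lit 0) (BT.cnt (nat_lit 0)))))) BT.nil)))))))))))) BT.nil))))))) (BT.dead (nat_lit 86) (BT.img (nat_lit 1) (nat_lit 0) (BT.frm (nat_lit 1) (nat_lit 0x80b020701) (nat_lit 0x728012f) [nat_lit 0, nat_lit 1] (BT.pln (nat_lit 0) (nat_lit 9) (BT.dif (nat_lit 0) (nat_lit 4) (BT.br (nat_lit 0) (nat_lit 62) [nat_lit 1028] (BT.dead (nat_lit 118) (BT.img (nat_lit 1) (nat_lit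 4) (BT.frm (nat_lit 2) (nat_lit 0x3e3e45484c080b020701) (nat_lit 0x3d3d3d45490728012f) [nat_lit 1, nat_lit 0, nat_lit 5, nat_lit 6] (BT.pln (nat_lit 0) (nat_lit 4) (BT.img (nat_lit 1) (nat_lit 3) (BT.img (nat_lit 1) (nat_lit 0) (BT.img (nat_lit 1) (nat_lit 0) (BT.img (nat_lit 1) (nat_lit 0) (BT.and (nat_lit 4) (nat_lit 0) (BT.cnt (nat_lit 0)))))))))) (BT.dead (nat_lit 234) (BT.img (nat_lit 1) (nat_lit 4) (BT.frm (nat_lit 2) (nat_lit 0x3e3e45484c080b020701) (nat_lit 0x45490728012f) [nat_lit 1, nat_lit 0, nat_lit 5, nat_lit 6] (BT.pln (nat_lit 0) (nat_lit 4) (BT.img (nat_lit 1) (nat_lit 3) (BT.img (nat_lit 1) (nat_lit 0) (BT.img (nat_lit 1) (nat_lit 0) (BT.img (nat_lit 1) (nat_lit 0) (BT.and (nat_lit 4) (nat_lit 0) (BT.cnt (nat_lit 0)))))))))) BT.nil))))))) (BT.dead (nat_lit 53) (BT.img (nat_lit 1) (nat_lit 0) (BT.frm (nat_lit 1) (nat_lit 0x80b020701) (nat_lit 0x29010a05) [nat_lit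 0, nat_lit 1] (BT.pln (nat_lit 0) (nat_lit 9) (BT.dif (nat_lit 0) (nat_lit 4) (BT.br (nat_lit 0) (nat_lit 62) [nat_lit 1028] (BT.dead (nat_lit 131) (BT.img (nat_lit 1) (nat_lit 4) (BT.frm (nat_lit 2) (nat_lit 0x3e3e45484c080b020701) (nat_lit 0x3e3e484c29010a05) [nat_lit 1, nat_lit 0, nat_lit 5, nat_lit 6] (BT.pln (nat_lit 0) (nat_lit 4) (BT.img (nat_lit 1) (nat_lit 3) (BT.and (nat_lit 1) (nat_lit 0) (BT.cnt (nat_lit 0))))))) (BT.dead (nat_lit 223) (BT.img (nat_lit 1) (nat_lit 4) (BT.frm (nat_lit 2) (nat_lit 0x3e3e45484c080b020701) (nat_lit 0x3d484c29010a05) [nat_lit 1, nat_lit 0, nat_lit 5, nat_lit 6] (BT.pln (nat_lit 0) (nat_lit 4) (BT.img (nat_lit 1) (nat_lit 3) (BT.and (nat_lit 1) (nat_lit 0) (BT.cnt (nat_lit 0))))))) BT.nil))))))) (BT.dead (nat_lit 69) (BT.img (nat_lit 1) (nat_lit 0) (BT.frm (nat_lit 1) (nat_lit 0x80b020701) (nat_lit 0xd17010f01) [nat_lit 0, nat_lit 1]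 (BT.pln (nat_lit 0) (nat_lit 9) (BT.dif (nat_lit 0) (nat_lit 4) (BT.br (nat_lit 0) (nat_lit 62) [nat_lit 4] (BT.dead (nat_lit 73) (BT.img (nat_lit 1) (nat_lit 4) (BT.frm (nat_lit 2) (nat_lit 0x3e3e45484c080b020701) (nat_lit 0x3d434b450d17010f01) [nat_lit 1, nat_lit 0, nat_lit 5, nat_lit 6] (BT.pln (nat_lit 0) (nat_lit 4) (BT.img (nat_lit 1) (nat_lit 3) (BT.img (nat_lit 1) (nat_lit 0) (BT.img (nat_lit 1) (nat_lit 0) (BT.img (nat_lit 1) (nat_lit 0) (BT.and (nat_lit 4) (nat_lit 0) (BT.cnt (nat_lit 0)))))))))) BT.nil)))))) (BT.dead (nat_lit 79) (BT.img (nat_lit 1) (nat_lit 0) (BT.frm (nat_lit 1) (nat_lit 0x80b020701) (nat_lit 0x731011a) [nat_lit 0, nat_lit 1] (BT.pln (nat_lit 0) (nat_lit 9) (BT.dif (nat_lit 0) (nat_lit 4) (BT.br (nat_lit 0) (nat_lit 62) [nat_lit 3] (BT.dead (nat_lit 27) (BT.img (nat_lit 1) (nat_lit 4) (BT.frm (nat_lit 2) (nat_lit 0x3e3e45484c080b020701) (nat_lit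 0x3d3d3d45434f0731011a) [nat_lit 1, nat_lit 0, nat_lit 5, nat_lit 6] (BT.pln (nat_lit 0) (nat_lit 4) (BT.img (nat_lit 1) (nat_lit 3) (BT.and (nat_lit 1) (nat_lit 0) (BT.cnt (nat_lit 0))))))) BT.nil)))))) (BT.kid (nat_lit 39) (nat_lit 18) (BT.img (nat_lit 1) (nat_lit 0) (BT.frm (nat_lit 1) (nat_lit 0x80b020701) (nat_lit 0x80b020701) [nat_lit 0, nat_lit 1] (BT.pln (nat_lit 0) (nat_lit 9) (BT.dif (nat_lit 0) (nat_lit 4) (BT.br (nat_lit 0) (nat_lit 62) [nat_lit 3] (BT.kid (nat_lit 62) (nat_lit 3) (BT.frm (nat_lit 0) (nat_lit 132865) (nat_lit 132865) [nat_lit 5] (BT.pln (nat_lit 0) (nat_lit 1) (BT.img (nat_lit 1) (nat_lit 6) (BT.frm (nat_lit 2) (nat_lit 0x3e3e45484c080b020701) (nat_lit 0x3e3e45484c080b020701) [nat_lit 3, nat_lit 0, nat_lit 7, nat_lit 8] (BT.pln (nat_lit 0) (nat_lit 7) (BT.and (nat_lit 3) (nat_lit 0) (BT.pln (nat_lit 2) (nat_lit 5) (BT.and (nat_lit 1) (nat_lit 0)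 (BT.br (nat_lit 0) (nat_lit 199) [nat_lit 5] (BT.dead (nat_lit 198) (BT.frm (nat_lit 3) (nat_lit 0x40413e3e45484c080b020701) (nat_lit 0x3f413e3e45484c080b020701) [nat_lit 0, nat_lit 9, nat_lit 6, nat_lit 13, nat_lit 14] (BT.pln (nat_lit 0) (nat_lit 5) (BT.img (nat_lit 1) (nat_lit 2) (BT.img (nat_lit 1) (nat_lit 0) (BT.img (nat_lit 1) (nat_lit 0) (BT.img (nat_lit 1) (nat_lit 0) (BT.img (nat_lit 1) (nat_lit 0) (BT.and (nat_lit 5) (nat_lit 0) (BT.cnt (nat_lit 0)))))))))) (BT.dead (nat_lit 179) (BT.frm (nat_lit 3) (nat_lit 0x40413e3e45484c080b020701) (nat_lit 0x3f3e3e45484c080b020701) [nat_lit 0, nat_lit 9, nat_lit 6, nat_lit 13, nat_lit 14] (BT.pln (nat_lit 0) (nat_lit 5) (BT.img (nat_lit 1) (nat_lit 2) (BT.img (nat_lit 1) (nat_lit 0) (BT.and (nat_lit 2) (nat_lit 0) (BT.cnt (nat_lit 0))))))) (BT.kid (nat_lit 199) (nat_lit 1) (BT.one (nat_lit 3) (nat_lit 0x40413e3e45484c080b020701)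 (nat_lit 0x40413e3e45484c080b020701) [nat_lit 0, nat_lit 9, nat_lit 6, nat_lit 13, nat_lit 14]) BT.nil)))))))))))) BT.nil)))))) BT.nil))))))))

theorem yt_c110_cnt : Cnt 324 (grp 324 y_E0) [z_g1247] [z_g1247] 0 0 0 0 54 :=
  BT.sound yt_c110_cnt_P Known.nil (t := yt_c110_cnt_t) (d := 0) (by decide +kernel)

theorem yt_c110_ge : 54 ≤ Nat.card (grp 324 yt_c110_K) :=
  Ch.le_card_grp (k := 9) (L := (lab 324 9)) z_hn yt_c110_K_ok (c := (Ch.cons (nat_lit 39) [nat_lit 1] (Ch.cons (nat_lit 62) [nat_lit 3] (Ch.cons (nat_lit 199) [nat_lit 5] Ch.nil)))) (by decide +kernel)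

theorem yt_c110_eq : (grp 324 y_E0) ⊓ Subgroup.centralizer {Net.toPerm 324 z_g1247} = grp 324 yt_c110_K :=
  cent_eq yt_c110_sym yt_c110_cnt yt_c110_ge

theorem yt_c110_card : Nat.card ↥((grp 324 y_E0) ⊓ Subgroup.centralizer {Net.toPerm 324 z_g1247}) = 54 :=
  card_cent yt_c110_sym yt_c110_cnt yt_c110_ge

theorem yt_c110_ord : orderOf (Net.toPerm 324 z_g1247) = 9 :=
  orderOf_net z_hn z_hk z_g1247_ok (by decide) (ps := [3]) (by set_option linter.unusedSimpArgs false in simp [Nat.primeFactorsList_ofNat]) (by decide +kernel)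

theorem z_le1258 : grp 324 yt_c111_K ≤ grp 324 y_E0 :=
  grp_le_of_memB z_hn z_hk y_E0_ok yt_c111_K_ok (ws := [nat_lit 0x33353c271f191911070521, nat_lit 0x342f271b0f070a0221]) (by decide +kernel)

theorem yt_c111_le : grp 324 yt_c111_K ≤ (grp 324 y_E0) :=
  (z_le1258.trans z_T111_s0.le)

theorem yt_c111_mem : Net.toPerm 324 z_g1256 ∈ (grp 324 y_E0) :=
  yt_c111_le (toPerm_mem_grp (E := yt_c111_K) (List.Mem.head _))

theorem yt_c111_sym : Sym 324 (grp 324 y_E0) [z_g1256] yt_c111_K 0 :=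
  Sym.of_lab z_hn z_hk (okE_cons.2 ⟨z_g1256_ok, okE_nil _⟩) yt_c111_K_ok yt_c111_le (kT := 0) (by decide +kernel)

noncomputable def z_T111_s177_O : ℕ := (nat_lit 0x200000000000000000000000000000000000000000000000000000000000000000000000000000004000408060800c1020080008101000080000490008000140c02011001028000000240028000000a0185300100454814a2050020cb019988100000e3808204920310b15f8220420a414028406080022a14e3c883a5b1ab787d9cfc4fe13a8d6ae18000094bf7d99dc9d2f4ee17e796b8b42bd6400000000000003ccfb8551087e52cc41d1278e1b1ddd7fe7ff4730c3aacbf010c60bc1ce6019ce28bc078800000a08284fa24f62116fb5f52b4e20ac61f0200180b9d77832f87f874821d196c83e8ecf913faf70022a14000000000000000000000000000000000000000000000000000000000000000000000000000000001000000020000000000000000000000000000000000000000000000000000000000000000000000000000000000800000000000000000000000000000000000000000000000000000000000000000000000)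

theorem z_T111_s177_F : Frame 324 (grp 324 y_E0) 3 9 z_T111_s177_O 0 1 :=
  Stab.frame z_hn z_T111_s177 (by decide +kernel)

noncomputable def yt_c111_cnt_L : List ℕ := [1, 4, z_T111_s1_O, 0, 0, 2, 11, z_T111_s49_O, 0, 0, 3, 9, z_T111_s177_O, 0, 0, 4, 11, z_T111_s178_O, 0, 0, 5, 14, z_T111_s179_O, 1, 0]

theorem yt_c111_cnt_P : Prob 324 9 (grp 324 y_E0) yt_c111_cnt_EG [z_g1256] [z_g1256] yt_c111_K yt_c111_cnt_L 0 0 :=
  Sym.prob z_hn z_hk yt_c111_sym yt_c111_cnt_EG_ok (grp_cons_le z_g39_z_T111 (grp_cons_le zg1_z_T111 (grp_cons_le zg3_z_T111 (grp_cons_le z_g43_z_T111 (grp_cons_le z_g42_z_T111 (grp_cons_le zg2_z_T111 (grp_cons_le z_g44_z_T111 (grp_cons_le z_g54_z_T111 (grp_cons_le z_g55_z_T111 (grp_cons_le z_g49_z_T111 (grp_cons_le z_g50_z_T111 (grp_cons_le z_g51_z_T111 (grp_cons_le z_g62_z_T111 (grp_cons_le z_g58_z_T111 (grp_cons_le z_g59_z_T111 (grp_cons_le z_g65_z_T111 (grp_cons_le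 z_g66_z_T111 (grp_cons_le z_g67_z_T111 (grp_cons_le z_g77_z_T111 (grp_cons_le z_g78_z_T111 (grp_cons_le z_g72_z_T111 (grp_cons_le z_g73_z_T111 (grp_cons_le z_g74_z_T111 (grp_cons_le z_g81_z_T111 (grp_cons_le z_g82_z_T111 (grp_cons_le z_g87_z_T111 (grp_cons_le zg0_z_T111 (grp_cons_le z_g91_z_T111 (grp_cons_le z_g28_z_T111 (grp_cons_le z_g88_z_T111 (grp_cons_le z_g372_z_T111 (grp_cons_le z_g373_z_T111 (grp_cons_le z_g374_z_T111 (grp_cons_le z_g375_z_T111 (grp_cons_le z_g376_z_T111 (grp_cons_le z_g377_z_T111 (grp_cons_le z_g378_z_T111 (grp_cons_le z_g1251_z_T111 (grp_cons_le z_g1239_z_T111 (grp_cons_le z_g1238_z_T111 (grp_nil_le _))))))))))))))))))))))))))))))))))))))))) (Frames.cons z_T111_s1_F (Frames.cons z_T111_s49_F (Frames.cons z_T111_s177_F (Frames.cons z_T111_s178_F (Frames.cons z_T111_s179_F Frames.nil))))) (okE_cons.2 ⟨z_g1256_ok, okE_nil _⟩) _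

noncomputable def yt_c111_cnt_t : BT := (BT.br (nat_lit 2) (nat_lit 0) [nat_lit 1, nat_lit 3] (BT.dead (nat_lit 2) (BT.img (nat_lit 1) (nat_lit 0) (BT.img (nat_lit 1) (nat_lit 0) (BT.frm (nat_lit 2) (nat_lit 0x3f3d49081d) (nat_lit 0x3d423f0820012602) [nat_lit 0, nat_lit 1, nat_lit 2] (BT.pln (nat_lit 0) (nat_lit 3) (BT.frm (nat_lit 1) (nat_lit 2077) (nat_lit 0x820012602) [nat_lit 3, nat_lit 4] (BT.pln (nat_lit 0) (nat_lit 9) (BT.img (nat_lit 1) (nat_lit 0) (BT.img (nat_lit 1) (nat_lit 0) (BT.img (nat_lit 1) (nat_lit 0) (BT.and (nat_lit 5) (nat_lit 0) (BT.cnt (nat_lit 0)))))))))))) (BT.dead (nat_lit 1) (BT.img (nat_lit 1) (nat_lit 0) (BT.img (nat_lit 1) (nat_lit 0) (BT.frm (nat_lit 2) (nat_lit 0x3f3d49081d) (nat_lit 0x3f46081e0309) [nat_lit 0, nat_lit 1, nat_lit 2] (BT.pln (nat_lit 0) (nat_lit 3) (BT.frm (nat_lit 1) (nat_lit 2077) (nat_lit 0x81e0309) [nat_lit 3, nat_lit 4]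 (BT.pln (nat_lit 0) (nat_lit 9) (BT.img (nat_lit 1) (nat_lit 0) (BT.img (nat_lit 1) (nat_lit 0) (BT.img (nat_lit 1) (nat_lit 0) (BT.dif (nat_lit 3) (nat_lit 0) (BT.img (nat_lit 1) (nat_lit 0) (BT.and (nat_lit 7) (nat_lit 0) (BT.cnt (nat_lit 0)))))))))))))) (BT.dead (nat_lit 49) (BT.img (nat_lit 1) (nat_lit 0) (BT.frm (nat_lit 1) (nat_lit 2077) (nat_lit 0x718022105) [nat_lit 0, nat_lit 1] (BT.pln (nat_lit 0) (nat_lit 9) (BT.img (nat_lit 1) (nat_lit 0) (BT.img (nat_lit 1) (nat_lit 0) (BT.img (nat_lit 1) (nat_lit 0) (BT.pln (nat_lit 4) (nat_lit 5) (BT.and (nat_lit 1) (nat_lit 0) (BT.cnt (nat_lit 0)))))))))) (BT.dead (nat_lit 35) (BT.img (nat_lit 1) (nat_lit 0) (BT.frm (nat_lit 1) (nat_lit 2077) (nat_lit 0x733010515) [nat_lit 0, nat_lit 1] (BT.pln (nat_lit 0) (nat_lit 9) (BT.img (nat_lit 1) (nat_lit 0) (BT.img (nat_lit 1) (nat_lit 0) (BT.img (nat_lit 1) (nat_lit 0) (BT.pln (nat_lit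 4) (nat_lit 5) (BT.and (nat_lit 1) (nat_lit 0) (BT.cnt (nat_lit 0)))))))))) (BT.dead (nat_lit 34) (BT.img (nat_lit 1) (nat_lit 0) (BT.frm (nat_lit 1) (nat_lit 2077) (nat_lit 0xa2e05021a) [nat_lit 0, nat_lit 1] (BT.pln (nat_lit 0) (nat_lit 9) (BT.img (nat_lit 1) (nat_lit 0) (BT.img (nat_lit 1) (nat_lit 0) (BT.img (nat_lit 1) (nat_lit 0) (BT.pln (nat_lit 4) (nat_lit 5) (BT.and (nat_lit 1) (nat_lit 0) (BT.cnt (nat_lit 0)))))))))) (BT.dead (nat_lit 31) (BT.img (nat_lit 1) (nat_lit 0) (BT.frm (nat_lit 1) (nat_lit 2077) (nat_lit 0xa0e050210) [nat_lit 0, nat_lit 1] (BT.pln (nat_lit 0) (nat_lit 9) (BT.img (nat_lit 1) (nat_lit 0) (BT.img (nat_lit 1) (nat_lit 0) (BT.img (nat_lit 1) (nat_lit 0) (BT.pln (nat_lit 4) (nat_lit 5) (BT.and (nat_lit 1) (nat_lit 0) (BT.cnt (nat_lit 0)))))))))) (BT.dead (nat_lit 29) (BT.img (nat_lit 1) (nat_lit 0) (BT.frm (nat_lit 1) (nat_lit 2077) (nat_lit 0x2718050207)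 [nat_lit 0, nat_lit 1] (BT.pln (nat_lit 0) (nat_lit 9) (BT.img (nat_lit 1) (nat_lit 0) (BT.img (nat_lit 1) (nat_lit 0) (BT.img (nat_lit 1) (nat_lit 0) (BT.pln (nat_lit 4) (nat_lit 5) (BT.and (nat_lit 1) (nat_lit 0) (BT.cnt (nat_lit 0)))))))))) (BT.dead (nat_lit 36) (BT.img (nat_lit 1) (nat_lit 0) (BT.frm (nat_lit 1) (nat_lit 2077) (nat_lit 0x2d01051f) [nat_lit 0, nat_lit 1] (BT.pln (nat_lit 0) (nat_lit 9) (BT.img (nat_lit 1) (nat_lit 0) (BT.img (nat_lit 1) (nat_lit 0) (BT.img (nat_lit 1) (nat_lit 0) (BT.pln (nat_lit 4) (nat_lit 5) (BT.and (nat_lit 1) (nat_lit 0) (BT.cnt (nat_lit 0)))))))))) (BT.dead (nat_lit 68) (BT.frm (nat_lit 0) (nat_lit 0) (nat_lit 139013) [nat_lit 0] (BT.pln (nat_lit 0) (nat_lit 2) (BT.img (nat_lit 1) (nat_lit 2) (BT.img (nat_lit 1) (nat_lit 0) (BT.img (nat_lit 1) (nat_lit 0) (BT.and (nat_lit 3) (nat_lit 0) (BT.cnt (nat_lit 0)))))))) (BT.dead (nat_lit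 60) (BT.frm (nat_lit 0) (nat_lit 0) (nat_lit 67636) [nat_lit 0] (BT.pln (nat_lit 0) (nat_lit 2) (BT.img (nat_lit 1) (nat_lit 2) (BT.img (nat_lit 1) (nat_lit 0) (BT.img (nat_lit 1) (nat_lit 0) (BT.and (nat_lit 3) (nat_lit 0) (BT.cnt (nat_lit 0)))))))) (BT.dead (nat_lit 47) (BT.frm (nat_lit 0) (nat_lit 0) (nat_lit 131842) [nat_lit 0] (BT.pln (nat_lit 0) (nat_lit 2) (BT.img (nat_lit 1) (nat_lit 2) (BT.img (nat_lit 1) (nat_lit 0) (BT.img (nat_lit 1) (nat_lit 0) (BT.and (nat_lit 3) (nat_lit 0) (BT.cnt (nat_lit 0)))))))) (BT.dead (nat_lit 43) (BT.frm (nat_lit 0) (nat_lit 0) (nat_lit 76549) [nat_lit 0] (BT.pln (nat_lit 0) (nat_lit 2) (BT.img (nat_lit 1) (nat_lit 2) (BT.img (nat_lit 1) (nat_lit 0) (BT.img (nat_lit 1) (nat_lit 0) (BT.and (nat_lit 3) (nat_lit 0) (BT.cnt (nat_lit 0)))))))) (BT.dead (nat_lit 30) (BT.frm (nat_lit 0) (nat_lit 0) (nat_lit 66825) [nat_lit 0] (BT.pln (nat_lit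 0) (nat_lit 2) (BT.img (nat_lit 1) (nat_lit 2) (BT.img (nat_lit 1) (nat_lit 0) (BT.img (nat_lit 1) (nat_lit 0) (BT.and (nat_lit 3) (nat_lit 0) (BT.cnt (nat_lit 0)))))))) (BT.dead (nat_lit 28) (BT.frm (nat_lit 0) (nat_lit 0) (nat_lit 68869) [nat_lit 0] (BT.pln (nat_lit 0) (nat_lit 2) (BT.img (nat_lit 1) (nat_lit 2) (BT.img (nat_lit 1) (nat_lit 0) (BT.img (nat_lit 1) (nat_lit 0) (BT.and (nat_lit 3) (nat_lit 0) (BT.cnt (nat_lit 0)))))))) (BT.dead (nat_lit 21) (BT.frm (nat_lit 0) (nat_lit 0) (nat_lit 71173) [nat_lit 0] (BT.pln (nat_lit 0) (nat_lit 2) (BT.img (nat_lit 1) (nat_lit 2) (BT.img (nat_lit 1) (nat_lit 0) (BT.img (nat_lit 1) (nat_lit 0) (BT.and (nat_lit 3) (nat_lit 0) (BT.cnt (nat_lit 0)))))))) (BT.dead (nat_lit 19) (BT.frm (nat_lit 0) (nat_lit 0) (nat_lit 70917) [nat_lit 0] (BT.pln (nat_lit 0) (nat_lit 2) (BT.img (nat_lit 1) (nat_lit 2) (BT.img (nat_lit 1) (nat_lit 0)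 (BT.img (nat_lit 1) (nat_lit 0) (BT.and (nat_lit 3) (nat_lit 0) (BT.cnt (nat_lit 0)))))))) (BT.dead (nat_lit 18) (BT.frm (nat_lit 0) (nat_lit 0) (nat_lit 783) [nat_lit 0] (BT.pln (nat_lit 0) (nat_lit 2) (BT.img (nat_lit 1) (nat_lit 2) (BT.img (nat_lit 1) (nat_lit 0) (BT.img (nat_lit 1) (nat_lit 0) (BT.and (nat_lit 3) (nat_lit 0) (BT.cnt (nat_lit 0)))))))) (BT.kid (nat_lit 0) (nat_lit 1) (BT.frm (nat_lit 0) (nat_lit 0) (nat_lit 0) [nat_lit 0] (BT.pln (nat_lit 0) (nat_lit 1) (BT.img (nat_lit 1) (nat_lit 2) (BT.img (nat_lit 1) (nat_lit 0) (BT.frm (nat_lit 2) (nat_lit 0x3f3d49081d) (nat_lit 0x3f3d49081d) [nat_lit 0, nat_lit 1, nat_lit 4] (BT.pln (nat_lit 0) (nat_lit 4) (BT.and (nat_lit 4) (nat_lit 0) (BT.pln (nat_lit 2) (nat_lit 6) (BT.dif (nat_lit 1) (nat_lit 0) (BT.pln (nat_lit 4) (nat_lit 3) (BT.dif (nat_lit 1) (nat_lit 0) (BT.frm (nat_lit 1) (nat_lit 2077) (nat_lit 2077) [nat_lit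 8, nat_lit 11] (BT.pln (nat_lit 0) (nat_lit 9) (BT.img (nat_lit 1) (nat_lit 0) (BT.img (nat_lit 1) (nat_lit 0) (BT.img (nat_lit 1) (nat_lit 0) (BT.dif (nat_lit 3) (nat_lit 0) (BT.frm (nat_lit 3) (nat_lit 0x4c3f3d49081d) (nat_lit 0x4c3f3d49081d) [nat_lit 0, nat_lit 13, nat_lit 14, nat_lit 17] (BT.pln (nat_lit 0) (nat_lit 6) (BT.dif (nat_lit 8) (nat_lit 0) (BT.pln (nat_lit 8) (nat_lit 5) (BT.pln (nat_lit 3) (nat_lit 4) (BT.dif (nat_lit 1) (nat_lit 0) (BT.img (nat_lit 1) (nat_lit 21) (BT.and (nat_lit 0) (nat_lit 18) (BT.dif (nat_lit 0) (nat_lit 10) (BT.and (nat_lit 0) (nat_lit 16) (BT.pln (nat_lit 9) (nat_lit 5) (BT.and (nat_lit 1) (nat_lit 0) (BT.dif (nat_lit 18) (nat_lit 7) (BT.and (nat_lit 0) (nat_lit 11) (BT.dif (nat_lit 10) (nat_lit 3) (BT.dif (nat_lit 7) (nat_lit 13) (BT.and (nat_lit 22) (nat_lit 11) (BT.and (nat_lit 13) (nat_lit 15) (BT.pln (nat_lit 30) (nat_lit 7) (BT.and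 (nat_lit 12) (nat_lit 0) (BT.pln (nat_lit 32) (nat_lit 5) (BT.and (nat_lit 1) (nat_lit 0) (BT.and (nat_lit 0) (nat_lit 29) (BT.and (nat_lit 0) (nat_lit 18) (BT.img (nat_lit 1) (nat_lit 0) (BT.and (nat_lit 7) (nat_lit 0) (BT.img (nat_lit 1) (nat_lit 0) (BT.and (nat_lit 10) (nat_lit 0) (BT.img (nat_lit 1) (nat_lit 0) (BT.and (nat_lit 13) (nat_lit 0) (BT.img (nat_lit 1) (nat_lit 0) (BT.and (nat_lit 16) (nat_lit 0) (BT.img (nat_lit 1) (nat_lit 0) (BT.and (nat_lit 19) (nat_lit 0) (BT.img (nat_lit 1) (nat_lit 0) (BT.and (nat_lit 23) (nat_lit 0) (BT.img (nat_lit 1) (nat_lit 0) (BT.and (nat_lit 31) (nat_lit 0) (BT.img (nat_lit 1) (nat_lit 0) (BT.and (nat_lit 36) (nat_lit 0) (BT.one (nat_lit 4) (nat_lit 0x4d504c3f3d49081d) (nat_lit 0x4d504c3f3d49081d) [nat_lit 0, nat_lit 40, nat_lit 53, nat_lit 54, nat_lit 57])))))))))))))))))))))))))))))))))))))))))))))))))))))))))) BT.nil)))))))))))))))))))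

theorem yt_c111_cnt : Cnt 324 (grp 324 y_E0) [z_g1256] [z_g1256] 0 0 0 0 27 :=
  BT.sound yt_c111_cnt_P Known.nil (t := yt_c111_cnt_t) (d := 0) (by decide +kernel)

theorem yt_c111_ge : 27 ≤ Nat.card (grp 324 yt_c111_K) :=
  Ch.le_card_grp (k := 9) (L := (lab 324 9)) z_hn yt_c111_K_ok (c := (Ch.cons (nat_lit 0) [nat_lit 1, nat_lit 3] Ch.nil)) (by decide +kernel)

theorem yt_c111_eq : (grp 324 y_E0) ⊓ Subgroup.centralizer {Net.toPerm 324 z_g1256} = grp 324 yt_c111_K :=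
  cent_eq yt_c111_sym yt_c111_cnt yt_c111_ge

theorem yt_c111_card : Nat.card ↥((grp 324 y_E0) ⊓ Subgroup.centralizer {Net.toPerm 324 z_g1256}) = 27 :=
  card_cent yt_c111_sym yt_c111_cnt yt_c111_ge

theorem yt_c111_ord : orderOf (Net.toPerm 324 z_g1256) = 9 :=
  orderOf_net z_hn z_hk z_g1256_ok (by decide) (ps := [3]) (by set_option linter.unusedSimpArgs false in simp [Nat.primeFactorsList_ofNat]) (by decide +kernel)

theorem z_le1263 : grp 324 yt_c112_K ≤ grp 324 y_E0 :=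
  grp_le_of_memB z_hn z_hk y_E0_ok yt_c112_K_ok (ws := [nat_lit 0x3538291a1d120715021501, nat_lit 0x3328191b1b12012502, nat_lit 0x3435281a0f090308, nat_lit 0x372f251f1a120707031c]) (by decide +kernel)

theorem yt_c112_le : grp 324 yt_c112_K ≤ (grp 324 y_E0) :=
  (z_le1263.trans z_T111_s0.le)

theorem yt_c112_mem : Net.toPerm 324 z_g1259 ∈ (grp 324 y_E0) :=
  yt_c112_le (toPerm_mem_grp (E := yt_c112_K) (List.Mem.head _))

theorem yt_c112_sym : Sym 324 (grp 324 y_E0) [z_g1259] yt_c112_K 0 :=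
  Sym.of_lab z_hn z_hk (okE_cons.2 ⟨z_g1259_ok, okE_nil _⟩) yt_c112_K_ok yt_c112_le (kT := 0) (by decide +kernel)

noncomputable def yt_c112_cnt_L : List ℕ := [1, 4, z_T111_s1_O, 0, 0, 4, 11, z_T111_s104_O, 0, 0, 5, 10, z_T111_s105_O, 0, 0, 6, 13, z_T111_s106_O, 0, 0, 7, 16, z_T111_s107_O, 1, 0]

theorem yt_c112_cnt_P : Prob 324 9 (grp 324 y_E0) yt_c112_cnt_EG [z_g1259] [z_g1259] yt_c112_K yt_c112_cnt_L 0 0 :=
  Sym.prob z_hn z_hk yt_c112_sym yt_c112_cnt_EG_ok (grp_cons_le z_g39_z_T111 (grp_cons_le zg1_z_T111 (grp_cons_le zg3_z_T111 (grp_cons_le z_g43_z_T111 (grp_cons_le z_g42_z_T111 (grp_cons_le zg2_z_T111 (grp_cons_le z_g44_z_T111 (grp_cons_le z_g54_z_T111 (grp_cons_le z_g55_z_T111 (grp_cons_le z_g49_z_T111 (grp_cons_le z_g50_z_T111 (grp_cons_le z_g51_z_T111 (grp_cons_le z_g62_z_T111 (grp_cons_le z_g58_z_T111 (grp_cons_le z_g59_z_T111 (grp_cons_le z_g65_z_T111 (grp_cons_le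 z_g66_z_T111 (grp_cons_le z_g67_z_T111 (grp_cons_le z_g77_z_T111 (grp_cons_le z_g78_z_T111 (grp_cons_le z_g72_z_T111 (grp_cons_le z_g73_z_T111 (grp_cons_le z_g74_z_T111 (grp_cons_le z_g81_z_T111 (grp_cons_le z_g82_z_T111 (grp_cons_le z_g87_z_T111 (grp_cons_le zg0_z_T111 (grp_cons_le z_g91_z_T111 (grp_cons_le z_g28_z_T111 (grp_cons_le z_g88_z_T111 (grp_cons_le z_g672_z_T111 (grp_cons_le z_g673_z_T111 (grp_cons_le z_g674_z_T111 (grp_cons_le z_g675_z_T111 (grp_cons_le z_g676_z_T111 (grp_cons_le z_g677_z_T111 (grp_cons_le z_g126_z_T111 (grp_cons_le z_g127_z_T111 (grp_cons_le z_g128_z_T111 (grp_cons_le z_g129_z_T111 (grp_cons_le z_g130_z_T111 (grp_cons_le z_g131_z_T111 (grp_cons_le z_g132_z_T111 (grp_cons_le z_g133_z_T111 (grp_cons_le z_g134_z_T111 (grp_cons_le z_g135_z_T111 (grp_nil_le _))))))))))))))))))))))))))))))))))))))))))))))) (Frames.cons z_T111_s1_F (Frames.cons z_T111_s104_F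 (Frames.cons z_T111_s105_F (Frames.cons z_T111_s106_F (Frames.cons z_T111_s107_F Frames.nil))))) (okE_cons.2 ⟨z_g1259_ok, okE_nil _⟩) _

noncomputable def yt_c112_cnt_t : BT := (BT.fix (nat_lit 257) (BT.br (nat_lit 0) (nat_lit 8) [nat_lit 1] (BT.kid (nat_lit 8) (nat_lit 108) (BT.frm (nat_lit 0) (nat_lit 780) (nat_lit 780) [nat_lit 0] (BT.pln (nat_lit 0) (nat_lit 3) (BT.br (nat_lit 0) (nat_lit 1) [nat_lit 3] (BT.dead (nat_lit 10) (BT.pln (nat_lit 2) (nat_lit 1) (BT.fix (nat_lit 0x1010101) (BT.dif (nat_lit 1) (nat_lit 0) (BT.img (nat_lit 1) (nat_lit 3) (BT.dif (nat_lit 8) (nat_lit 7) (BT.frm (nat_lit 1) (nat_lit 0x4e490a030c) (nat_lit 0x3d4d0a030c) [nat_lit 1, nat_lit 5, nat_lit 0, nat_lit 8] (BT.pln (nat_lit 0) (nat_lit 4) (BT.dif (nat_lit 4) (nat_lit 0) (BT.br (nat_lit 0) (nat_lit 74) [nat_lit 1795, nat_lit 0x5070404] (BT.dead (nat_lit 42) (BT.frm (nat_lit 2) (nat_lit 0x404e490a030c)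 (nat_lit 0x3f443f3d4d0a030c) [nat_lit 0, nat_lit 5, nat_lit 9, nat_lit 4, nat_lit 12] (BT.pln (nat_lit 0) (nat_lit 5) (BT.img (nat_lit 1) (nat_lit 2) (BT.and (nat_lit 1) (nat_lit 0) (BT.cnt (nat_lit 0)))))) (BT.dead (nat_lit 74) (BT.frm (nat_lit 2) (nat_lit 0x404e490a030c) (nat_lit 0x3f3f413d4d0a030c) [nat_lit 0, nat_lit 5, nat_lit 9, nat_lit 4, nat_lit 12] (BT.pln (nat_lit 0) (nat_lit 5) (BT.img (nat_lit 1) (nat_lit 2) (BT.and (nat_lit 1) (nat_lit 0) (BT.cnt (nat_lit 0)))))) BT.nil))))))))))) (BT.kid (nat_lit 1) (nat_lit 18) (BT.pln (nat_lit 2) (nat_lit 1) (BT.fix (nat_lit 0x1010101) (BT.dif (nat_lit 1) (nat_lit 0) (BT.img (nat_lit 1) (nat_lit 3) (BT.dif (nat_lit 8) (nat_lit 7) (BT.frm (nat_lit 1) (nat_lit 0x4e490a030c) (nat_lit 0x4e490a030c) [nat_lit 1, nat_lit 5, nat_lit 0, nat_lit 8] (BT.pln (nat_lit 0) (nat_lit 4) (BT.dif (nat_lit 4) (nat_lit 0) (BT.br (nat_lit 0) (nat_lit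 74) [nat_lit 5, nat_lit 7] (BT.kid (nat_lit 74) (nat_lit 1) (BT.dif (nat_lit 16) (nat_lit 8) (BT.pln (nat_lit 12) (nat_lit 2) (BT.dif (nat_lit 1) (nat_lit 0) (BT.frm (nat_lit 2) (nat_lit 0x404e490a030c) (nat_lit 0x404e490a030c) [nat_lit 3, nat_lit 8, nat_lit 12, nat_lit 7, nat_lit 15] (BT.pln (nat_lit 0) (nat_lit 5) (BT.dif (nat_lit 2) (nat_lit 0) (BT.pln (nat_lit 2) (nat_lit 6) (BT.dif (nat_lit 1) (nat_lit 0) (BT.img (nat_lit 1) (nat_lit 8) (BT.frm (nat_lit 3) (nat_lit 0x4243404e490a030c) (nat_lit 0x4243404e490a030c) [nat_lit 0, nat_lit 9, nat_lit 14, nat_lit 18, nat_lit 13, nat_lit 21] (BT.pln (nat_lit 0) (nat_lit 7) (BT.dif (nat_lit 3) (nat_lit 0) (BT.pln (nat_lit 2) (nat_lit 9) (BT.and (nat_lit 1) (nat_lit 0) (BT.br (nat_lit 0) (nat_lit 98) [] (BT.dead (nat_lit 236) (BT.frm (nat_lit 4) (nat_lit 0x45474243404e490a030c) (nat_lit 0x46474243404e490a030c) [nat_lit 0, nat_lit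 6, nat_lit 15, nat_lit 20, nat_lit 24, nat_lit 19, nat_lit 27] (BT.pln (nat_lit 0) (nat_lit 7) (BT.img (nat_lit 1) (nat_lit 2) (BT.img (nat_lit 1) (nat_lit 0) (BT.img (nat_lit 1) (nat_lit 0) (BT.and (nat_lit 3) (nat_lit 0) (BT.cnt (nat_lit 0)))))))) (BT.dead (nat_lit 101) (BT.frm (nat_lit 4) (nat_lit 0x45474243404e490a030c) (nat_lit 0x45484243404e490a030c) [nat_lit 0, nat_lit 6, nat_lit 15, nat_lit 20, nat_lit 24, nat_lit 19, nat_lit 27] (BT.pln (nat_lit 0) (nat_lit 7) (BT.img (nat_lit 1) (nat_lit 2) (BT.img (nat_lit 1) (nat_lit 0) (BT.img (nat_lit 1) (nat_lit 0) (BT.and (nat_lit 3) (nat_lit 0) (BT.cnt (nat_lit 0)))))))) (BT.dead (nat_lit 299) (BT.frm (nat_lit 4) (nat_lit 0x45474243404e490a030c) (nat_lit 0x454243404e490a030c) [nat_lit 0, nat_lit 6, nat_lit 15, nat_lit 20, nat_lit 24, nat_lit 19, nat_lit 27] (BT.pln (nat_lit 0) (nat_lit 7) (BT.img (nat_lit 1) (nat_lit 2) (BT.img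 (nat_lit 1) (nat_lit 0) (BT.img (nat_lit 1) (nat_lit 0) (BT.img (nat_lit 1) (nat_lit 0) (BT.img (nat_lit 1) (nat_lit 0) (BT.and (nat_lit 5) (nat_lit 0) (BT.cnt (nat_lit 0)))))))))) (BT.dead (nat_lit 228) (BT.frm (nat_lit 4) (nat_lit 0x45474243404e490a030c) (nat_lit 0x484243404e490a030c) [nat_lit 0, nat_lit 6, nat_lit 15, nat_lit 20, nat_lit 24, nat_lit 19, nat_lit 27] (BT.pln (nat_lit 0) (nat_lit 7) (BT.img (nat_lit 1) (nat_lit 2) (BT.img (nat_lit 1) (nat_lit 0) (BT.img (nat_lit 1) (nat_lit 0) (BT.img (nat_lit 1) (nat_lit 0) (BT.img (nat_lit 1) (nat_lit 0) (BT.and (nat_lit 5) (nat_lit 0) (BT.cnt (nat_lit 0)))))))))) (BT.dead (nat_lit 271) (BT.frm (nat_lit 4) (nat_lit 0x45474243404e490a030c) (nat_lit 0x46484243404e490a030c) [nat_lit 0, nat_lit 6, nat_lit 15, nat_lit 20, nat_lit 24, nat_lit 19, nat_lit 27] (BT.pln (nat_lit 0) (nat_lit 7) (BT.img (nat_lit 1) (nat_lit 2) (BT.and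 (nat_lit 1) (nat_lit 0) (BT.cnt (nat_lit 0)))))) (BT.dead (nat_lit 114) (BT.frm (nat_lit 4) (nat_lit 0x45474243404e490a030c) (nat_lit 0x474243404e490a030c) [nat_lit 0, nat_lit 6, nat_lit 15, nat_lit 20, nat_lit 24, nat_lit 19, nat_lit 27] (BT.pln (nat_lit 0) (nat_lit 7) (BT.img (nat_lit 1) (nat_lit 2) (BT.img (nat_lit 1) (nat_lit 0) (BT.img (nat_lit 1) (nat_lit 0) (BT.and (nat_lit 3) (nat_lit 0) (BT.cnt (nat_lit 0)))))))) (BT.dead (nat_lit 292) (BT.frm (nat_lit 4) (nat_lit 0x45474243404e490a030c) (nat_lit 0x464243404e490a030c) [nat_lit 0, nat_lit 6, nat_lit 15, nat_lit 20, nat_lit 24, nat_lit 19, nat_lit 27] (BT.pln (nat_lit 0) (nat_lit 7) (BT.img (nat_lit 1) (nat_lit 2) (BT.and (nat_lit 1) (nat_lit 0) (BT.cnt (nat_lit 0)))))) (BT.dead (nat_lit 135) (BT.frm (nat_lit 4) (nat_lit 0x45474243404e490a030c) (nat_lit 0x4243404e490a030c) [nat_lit 0, nat_lit 6, nat_lit 15, nat_lit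 20, nat_lit 24, nat_lit 19, nat_lit 27] (BT.pln (nat_lit 0) (nat_lit 7) (BT.img (nat_lit 1) (nat_lit 2) (BT.and (nat_lit 1) (nat_lit 0) (BT.cnt (nat_lit 0)))))) (BT.kid (nat_lit 98) (nat_lit 1) (BT.one (nat_lit 4) (nat_lit 0x45474243404e490a030c) (nat_lit 0x45474243404e490a030c) [nat_lit 0, nat_lit 6, nat_lit 15, nat_lit 20, nat_lit 24, nat_lit 19, nat_lit 27]) BT.nil)))))))))))))))))))))))) BT.nil)))))))))) BT.nil))))) BT.nil)))

theorem yt_c112_cnt : Cnt 324 (grp 324 y_E0) [z_g1259] [z_g1259] 0 0 0 0 216 :=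
  BT.sound yt_c112_cnt_P Known.nil (t := yt_c112_cnt_t) (d := 0) (by decide +kernel)

theorem yt_c112_ge : 216 ≤ Nat.card (grp 324 yt_c112_K) :=
  Ch.le_card_grp (k := 9) (L := (lab 324 9)) z_hn yt_c112_K_ok (c := (Ch.cons (nat_lit 8) [nat_lit 1] (Ch.cons (nat_lit 1) [nat_lit 3] (Ch.cons (nat_lit 74) [nat_lit 5, nat_lit 7] Ch.nil)))) (by decide +kernel)

theorem yt_c112_eq : (grp 324 y_E0) ⊓ Subgroup.centralizer {Net.toPerm 324 z_g1259} = grp 324 yt_c112_K :=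
  cent_eq yt_c112_sym yt_c112_cnt yt_c112_ge

theorem yt_c112_card : Nat.card ↥((grp 324 y_E0) ⊓ Subgroup.centralizer {Net.toPerm 324 z_g1259}) = 216 :=
  card_cent yt_c112_sym yt_c112_cnt yt_c112_ge

theorem yt_c112_ord : orderOf (Net.toPerm 324 z_g1259) = 12 :=
  orderOf_net z_hn z_hk z_g1259_ok (by decide) (ps := [2, 3]) (by set_option linter.unusedSimpArgs false in simp [Nat.primeFactorsList_ofNat]) (by decide +kernel)

theorem z_le1267 : grp 324 yt_c113_K ≤ grp 324 y_E0 :=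
  grp_le_of_memB z_hn z_hk y_E0_ok yt_c113_K_ok (ws := [nat_lit 0x3719200f12070c0319, nat_lit 0x342f1f1a1e15070a021f05, nat_lit 0x352f291f191b1b11022d05]) (by decide +kernel)

theorem yt_c113_le : grp 324 yt_c113_K ≤ (grp 324 y_E0) :=
  (z_le1267.trans z_T111_s0.le)

theorem yt_c113_mem : Net.toPerm 324 z_g1264 ∈ (grp 324 y_E0) :=
  yt_c113_le (toPerm_mem_grp (E := yt_c113_K) (List.Mem.head _))

theorem yt_c113_sym : Sym 324 (grp 324 y_E0) [z_g1264] yt_c113_K 0 :=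
  Sym.of_lab z_hn z_hk (okE_cons.2 ⟨z_g1264_ok, okE_nil _⟩) yt_c113_K_ok yt_c113_le (kT := 0) (by decide +kernel)

noncomputable def yt_c113_cnt_L : List ℕ := [1, 4, z_T111_s1_O, 0, 0, 2, 9, z_T111_s41_O, 0, 0, 3, 15, z_T111_s42_O, 0, 0, 5, 12, z_T111_s44_O, 0, 0, 6, 15, z_T111_s45_O, 1, 0]

theorem yt_c113_cnt_P : Prob 324 9 (grp 324 y_E0) yt_c113_cnt_EG [z_g1264] [z_g1264] yt_c113_K yt_c113_cnt_L 0 0 :=
  Sym.prob z_hn z_hk yt_c113_sym yt_c113_cnt_EG_ok (grp_cons_le z_g39_z_T111 (grp_cons_le zg1_z_T111 (grp_cons_le zg3_z_T111 (grp_cons_le z_g43_z_T111 (grp_cons_le z_g42_z_T111 (grp_cons_le zg2_z_T111 (grp_cons_le z_g44_z_T111 (grp_cons_le z_g54_z_T111 (grp_cons_le z_g55_z_T111 (grp_cons_le z_g49_z_T111 (grp_cons_le z_g50_z_T111 (grp_cons_le z_g51_z_T111 (grp_cons_le z_g62_z_T111 (grp_cons_le z_g58_z_T111 (grp_cons_le z_g59_z_T111 (grp_cons_le z_g65_z_T111 (grp_cons_le z_g66_z_T111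 (grp_cons_le z_g67_z_T111 (grp_cons_le z_g77_z_T111 (grp_cons_le z_g78_z_T111 (grp_cons_le z_g72_z_T111 (grp_cons_le z_g73_z_T111 (grp_cons_le z_g74_z_T111 (grp_cons_le z_g81_z_T111 (grp_cons_le z_g82_z_T111 (grp_cons_le z_g87_z_T111 (grp_cons_le zg0_z_T111 (grp_cons_le z_g91_z_T111 (grp_cons_le z_g28_z_T111 (grp_cons_le z_g88_z_T111 (grp_cons_le z_g344_z_T111 (grp_cons_le z_g345_z_T111 (grp_cons_le z_g346_z_T111 (grp_cons_le z_g347_z_T111 (grp_nil_le _))))))))))))))))))))))))))))))))))) (Frames.cons z_T111_s1_F (Frames.cons z_T111_s41_F (Frames.cons z_T111_s42_F (Frames.cons z_T111_s44_F (Frames.cons z_T111_s45_F Frames.nil))))) (okE_cons.2 ⟨z_g1264_ok, okE_nil _⟩) _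

noncomputable def yt_c113_cnt_t : BT := (BT.fix (nat_lit 0x10101010101) (BT.fix (nat_lit 257) (BT.dif (nat_lit 1) (nat_lit 0) (BT.fix (nat_lit 65793) (BT.dif (nat_lit 1) (nat_lit 0) (BT.br (nat_lit 0) (nat_lit 126) [nat_lit 1] (BT.dead (nat_lit 171) (BT.img (nat_lit 1) (nat_lit 0) (BT.frm (nat_lit 1) (nat_lit 0x150525) (nat_lit 0x718010f35) [nat_lit 0, nat_lit 1] (BT.pln (nat_lit 0) (nat_lit 7) (BT.br (nat_lit 0) (nat_lit 127) [nat_lit 3, nat_lit 1284] (BT.dead (nat_lit 162) (BT.img (nat_lit 1) (nat_lit 3) (BT.img (nat_lit 1) (nat_lit 0) (BT.frm (nat_lit 3) (nat_lit 0x3f3f423d3f42150525) (nat_lit 0x4140413e420718010f35) [nat_lit 2, nat_lit 0, nat_lit 1, nat_lit 5, nat_lit 6] (BT.pln (nat_lit 0) (nat_lit 5) (BT.img (nat_lit 1) (nat_lit 4) (BT.and (nat_lit 1) (nat_lit 0) (BT.cnt (nat_lit 0)))))))) BT.nil))))) (BT.kid (nat_lit 126) (nat_lit 24) (BT.img (nat_lit 1) (nat_lit 0)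 (BT.frm (nat_lit 1) (nat_lit 0x150525) (nat_lit 0x150525) [nat_lit 0, nat_lit 1] (BT.pln (nat_lit 0) (nat_lit 7) (BT.br (nat_lit 0) (nat_lit 127) [nat_lit 3, nat_lit 5] (BT.kid (nat_lit 127) (nat_lit 3) (BT.frm (nat_lit 0) (nat_lit 1317) (nat_lit 1317) [nat_lit 4] (BT.pln (nat_lit 0) (nat_lit 2) (BT.img (nat_lit 1) (nat_lit 5) (BT.frm (nat_lit 2) (nat_lit 0x3d3f42150525) (nat_lit 0x3d3f42150525) [nat_lit 0, nat_lit 6, nat_lit 7] (BT.pln (nat_lit 0) (nat_lit 7) (BT.and (nat_lit 3) (nat_lit 0) (BT.img (nat_lit 1) (nat_lit 6) (BT.dif (nat_lit 1) (nat_lit 0) (BT.img (nat_lit 1) (nat_lit 5) (BT.frm (nat_lit 3) (nat_lit 0x3f3f423d3f42150525) (nat_lit 0x3f3f423d3f42150525) [nat_lit 9, nat_lit 0, nat_lit 6, nat_lit 12, nat_lit 13] (BT.pln (nat_lit 0) (nat_lit 5) (BT.and (nat_lit 3) (nat_lit 0) (BT.br (nat_lit 0) (nat_lit 79) [nat_lit 5] (BT.kid (nat_lit 79) (nat_lit 1) (BT.one (nat_lit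 4) (nat_lit 0x443f3f423d3f42150525) (nat_lit 0x443f3f423d3f42150525) [nat_lit 0, nat_lit 13, nat_lit 4, nat_lit 10, nat_lit 16, nat_lit 17]) BT.nil)))))))))))))) BT.nil))))) BT.nil))))))))

theorem yt_c113_cnt : Cnt 324 (grp 324 y_E0) [z_g1264] [z_g1264] 0 0 0 0 144 :=
  BT.sound yt_c113_cnt_P Known.nil (t := yt_c113_cnt_t) (d := 0) (by decide +kernel)

theorem yt_c113_ge : 144 ≤ Nat.card (grp 324 yt_c113_K) :=
  Ch.le_card_grp (k := 9) (L := (lab 324 9)) z_hn yt_c113_K_ok (c := (Ch.cons (nat_lit 126) [nat_lit 1] (Ch.cons (nat_lit 127) [nat_lit 3] (Ch.cons (nat_lit 79) [nat_lit 5] Ch.nil)))) (by decide +kernel)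

theorem yt_c113_eq : (grp 324 y_E0) ⊓ Subgroup.centralizer {Net.toPerm 324 z_g1264} = grp 324 yt_c113_K :=
  cent_eq yt_c113_sym yt_c113_cnt yt_c113_ge

theorem yt_c113_card : Nat.card ↥((grp 324 y_E0) ⊓ Subgroup.centralizer {Net.toPerm 324 z_g1264}) = 144 :=
  card_cent yt_c113_sym yt_c113_cnt yt_c113_ge

theorem yt_c113_ord : orderOf (Net.toPerm 324 z_g1264) = 12 :=
  orderOf_net z_hn z_hk z_g1264_ok (by decide) (ps := [2, 3]) (by set_option linter.unusedSimpArgs false in simp [Nat.primeFactorsList_ofNat]) (by decide +kernel)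

theorem z_le1271 : grp 324 yt_c114_K ≤ grp 324 y_E0 :=
  grp_le_of_memB z_hn z_hk y_E0_ok yt_c114_K_ok (ws := [nat_lit 0x3c261d1f0f120707010510, nat_lit 0x332f271a250f070c012602, nat_lit 0x34392f2628191b1b0f120707010d05]) (by decide +kernel)

theorem yt_c114_le : grp 324 yt_c114_K ≤ (grp 324 y_E0) :=
  (z_le1271.trans z_T111_s0.le)

theorem yt_c114_mem : Net.toPerm 324 z_g1268 ∈ (grp 324 y_E0) :=
  yt_c114_le (toPerm_mem_grp (E := yt_c114_K) (List.Mem.head _))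

theorem yt_c114_sym : Sym 324 (grp 324 y_E0) [z_g1268] yt_c114_K 0 :=
  Sym.of_lab z_hn z_hk (okE_cons.2 ⟨z_g1268_ok, okE_nil _⟩) yt_c114_K_ok yt_c114_le (kT := 0) (by decide +kernel)

noncomputable def yt_c114_cnt_L : List ℕ := [2, 9, z_T111_s41_O, 0, 0, 5, 12, z_T111_s44_O, 0, 0, 6, 15, z_T111_s45_O, 1, 0]

theorem yt_c114_cnt_P : Prob 324 9 (grp 324 y_E0) yt_c114_cnt_EG [z_g1268] [z_g1268] yt_c114_K yt_c114_cnt_L 0 0 :=
  Sym.prob z_hn z_hk yt_c114_sym yt_c114_cnt_EG_ok (grp_cons_le z_g43_z_T111 (grp_cons_le z_g42_z_T111 (grp_cons_le zg2_z_T111 (grp_cons_le z_g44_z_T111 (grp_cons_le z_g54_z_T111 (grp_cons_le z_g55_z_T111 (grp_cons_le z_g49_z_T111 (grp_cons_le z_g50_z_T111 (grp_cons_le z_g51_z_T111 (grp_cons_le z_g62_z_T111 (grp_cons_le z_g58_z_T111 (grp_cons_le z_g59_z_T111 (grp_cons_le z_g65_z_T111 (grp_cons_le z_g66_z_T111 (grp_cons_le z_g67_z_T111 (grp_cons_le z_g77_z_T111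 (grp_cons_le z_g78_z_T111 (grp_cons_le z_g72_z_T111 (grp_cons_le z_g73_z_T111 (grp_cons_le z_g74_z_T111 (grp_cons_le z_g81_z_T111 (grp_cons_le z_g82_z_T111 (grp_cons_le z_g87_z_T111 (grp_cons_le zg0_z_T111 (grp_cons_le z_g91_z_T111 (grp_cons_le z_g28_z_T111 (grp_cons_le z_g88_z_T111 (grp_cons_le z_g39_z_T111 (grp_cons_le zg1_z_T111 (grp_cons_le zg3_z_T111 (grp_cons_le z_g346_z_T111 (grp_cons_le z_g347_z_T111 (grp_cons_le z_g345_z_T111 (grp_cons_le z_g344_z_T111 (grp_nil_le _))))))))))))))))))))))))))))))))))) (Frames.cons z_T111_s41_F (Frames.cons z_T111_s44_F (Frames.cons z_T111_s45_F Frames.nil))) (okE_cons.2 ⟨z_g1268_ok, okE_nil _⟩) _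

noncomputable def yt_c114_cnt_t : BT := (BT.fix (nat_lit 0x10101010101) (BT.fix (nat_lit 65793) (BT.dif (nat_lit 1) (nat_lit 0) (BT.br (nat_lit 0) (nat_lit 53) [nat_lit 1, nat_lit 3] (BT.dead (nat_lit 71) (BT.img (nat_lit 1) (nat_lit 0) (BT.frm (nat_lit 0) (nat_lit 0x60337043b) (nat_lit 0x328370239) [nat_lit 0, nat_lit 1] (BT.pln (nat_lit 0) (nat_lit 7) (BT.br (nat_lit 0) (nat_lit 308) [nat_lit 6] (BT.dead (nat_lit 271) (BT.img (nat_lit 1) (nat_lit 3) (BT.img (nat_lit 1) (nat_lit 0) (BT.frm (nat_lit 1) (nat_lit 0x3d3d4244060337043b) (nat_lit 0x3d3d413d4343430328370239) [nat_lit 2, nat_lit 0, nat_lit 1, nat_lit 5, nat_lit 6] (BT.pln (nat_lit 0) (nat_lit 5) (BT.img (nat_lit 1) (nat_lit 4) (BT.and (nat_lit 1) (nat_lit 0) (BT.cnt (nat_lit 0)))))))) (BT.dead (nat_lit 299) (BT.img (nat_lit 1) (nat_lit 3) (BT.img (nat_lit 1) (nat_lit 0) (BT.frm (nat_lit 1) (nat_lit 0x3d3d4244060337043b)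 (nat_lit 0x3e413d4343430328370239) [nat_lit 2, nat_lit 0, nat_lit 1, nat_lit 5, nat_lit 6] (BT.pln (nat_lit 0) (nat_lit 5) (BT.img (nat_lit 1) (nat_lit 4) (BT.and (nat_lit 1) (nat_lit 0) (BT.cnt (nat_lit 0)))))))) BT.nil)))))) (BT.kid (nat_lit 53) (nat_lit 6) (BT.img (nat_lit 1) (nat_lit 0) (BT.frm (nat_lit 0) (nat_lit 0x60337043b) (nat_lit 0x60337043b) [nat_lit 0, nat_lit 1] (BT.pln (nat_lit 0) (nat_lit 7) (BT.br (nat_lit 0) (nat_lit 308) [nat_lit 5] (BT.dead (nat_lit 296) (BT.img (nat_lit 1) (nat_lit 3) (BT.img (nat_lit 1) (nat_lit 0) (BT.frm (nat_lit 1) (nat_lit 0x3d3d4244060337043b) (nat_lit 0x3d404244060337043b) [nat_lit 2, nat_lit 0, nat_lit 1, nat_lit 5, nat_lit 6] (BT.pln (nat_lit 0) (nat_lit 5) (BT.img (nat_lit 1) (nat_lit 4) (BT.img (nat_lit 1) (nat_lit 0) (BT.and (nat_lit 2) (nat_lit 0) (BT.cnt (nat_lit 0))))))))) (BT.kid (nat_lit 308) (nat_lit 1) (BT.img (nat_lit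 1) (nat_lit 0) (BT.img (nat_lit 1) (nat_lit 0) (BT.img (nat_lit 1) (nat_lit 0) (BT.img (nat_lit 1) (nat_lit 0) (BT.img (nat_lit 1) (nat_lit 0) (BT.img (nat_lit 1) (nat_lit 0) (BT.img (nat_lit 1) (nat_lit 0) (BT.img (nat_lit 1) (nat_lit 10) (BT.img (nat_lit 1) (nat_lit 0) (BT.one (nat_lit 2) (nat_lit 0x403d3d4244060337043b) (nat_lit 0x403d3d4244060337043b) [nat_lit 2, nat_lit 9, nat_lit 0, nat_lit 1, nat_lit 12, nat_lit 13])))))))))) BT.nil)))))) BT.nil))))))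

theorem yt_c114_cnt : Cnt 324 (grp 324 y_E0) [z_g1268] [z_g1268] 0 0 0 0 72 :=
  BT.sound yt_c114_cnt_P Known.nil (t := yt_c114_cnt_t) (d := 0) (by decide +kernel)

theorem yt_c114_ge : 72 ≤ Nat.card (grp 324 yt_c114_K) :=
  Ch.le_card_grp (k := 9) (L := (lab 324 9)) z_hn yt_c114_K_ok (c := (Ch.cons (nat_lit 53) [nat_lit 1, nat_lit 3] (Ch.cons (nat_lit 308) [nat_lit 5] Ch.nil))) (by decide +kernel)

theorem yt_c114_eq : (grp 324 y_E0) ⊓ Subgroup.centralizer {Net.toPerm 324 z_g1268} = grp 324 yt_c114_K :=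
  cent_eq yt_c114_sym yt_c114_cnt yt_c114_ge

theorem yt_c114_card : Nat.card ↥((grp 324 y_E0) ⊓ Subgroup.centralizer {Net.toPerm 324 z_g1268}) = 72 :=
  card_cent yt_c114_sym yt_c114_cnt yt_c114_ge

theorem yt_c114_ord : orderOf (Net.toPerm 324 z_g1268) = 12 :=
  orderOf_net z_hn z_hk z_g1268_ok (by decide) (ps := [2, 3]) (by set_option linter.unusedSimpArgs false in simp [Nat.primeFactorsList_ofNat]) (by decide +kernel)

theorem z_le1276 : grp 324 yt_c115_K ≤ grp 324 y_E0 :=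
  grp_le_of_memB z_hn z_hk y_E0_ok yt_c115_K_ok (ws := [nat_lit 0x352f281f19260f1209012905, nat_lit 0x3c26281d050212, nat_lit 0x3b2f251f1c030e, nat_lit 0x3339262819201a15010f35]) (by decide +kernel)

theorem yt_c115_le : grp 324 yt_c115_K ≤ (grp 324 y_E0) :=
  (z_le1276.trans z_T111_s0.le)

theorem yt_c115_mem : Net.toPerm 324 z_g1272 ∈ (grp 324 y_E0) :=
  yt_c115_le (toPerm_mem_grp (E := yt_c115_K) (List.Mem.head _))

theorem yt_c115_sym : Sym 324 (grp 324 y_E0) [z_g1272] yt_c115_K 0 :=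
  Sym.of_lab z_hn z_hk (okE_cons.2 ⟨z_g1272_ok, okE_nil _⟩) yt_c115_K_ok yt_c115_le (kT := 0) (by decide +kernel)

noncomputable def z_T111_s146_O : ℕ := (nat_lit 0x94204a56d82c00248003050a00480011800050804000000000000000104020000000000bdff3fe7ef29d091a905d279cb05c0b88059961000047fa7773ffafeb1dfef1449e3ae000000000000000000af7409ba48026c1eec844dc20b0beb4300001d58e1f8f77e9fb79d0e8840801cfffe0000003de22b47cd0ac134a020d3fa1b10ade46603267a6411d92655cd81fe04a02e6df99c41ffc017eec00bd9d14a948bf12ca7094d419cda1dfec9b42e5f74031c98937692f15bce63ecb947351f43e15f13d0b0622002e9f250e45b85717f43b2bbb316fa0a1b1f8230691e201fd2af3928de5878d99b31971b1ac0c711e06368d813c7c4250f5f68521f5feeb06b253ef259c332817a3d088a50fa542b57aad5e98b6a295a198000000000000000000000000000000000000000000000000000000000000000000000000000000001000000400000000000000000000000000000000000000000000000000000000000000000000000000000000000000000000000000000000000000000000000000000000000000000000000000004000000000000000000000000000000000000000000000000000000000000000000000000000000000000400000000000000000000000000000000000000000000000000000000000000000000000000000200000000000000000000000000000000000000000000000000000000000000000000000000000000000800)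

theorem z_T111_s146_F : Frame 324 (grp 324 y_E0) 6 13 z_T111_s146_O 0 1 :=
  Stab.frame z_hn z_T111_s146 (by decide +kernel)

noncomputable def yt_c115_cnt_L : List ℕ := [1, 4, z_T111_s1_O, 0, 0, 3, 8, z_T111_s13_O, 0, 0, 5, 10, z_T111_s15_O, 0, 0, 6, 13, z_T111_s146_O, 0, 0, 7, 15, z_T111_s147_O, 0, 0, 8, 17, z_T111_s148_O, 1, 0]

theorem yt_c115_cnt_P : Prob 324 9 (grp 324 y_E0) yt_c115_cnt_EG [z_g1272] [z_g1272] yt_c115_K yt_c115_cnt_L 0 0 :=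
  Sym.prob z_hn z_hk yt_c115_sym yt_c115_cnt_EG_ok (grp_cons_le z_g39_z_T111 (grp_cons_le zg1_z_T111 (grp_cons_le zg3_z_T111 (grp_cons_le z_g43_z_T111 (grp_cons_le z_g42_z_T111 (grp_cons_le zg2_z_T111 (grp_cons_le z_g44_z_T111 (grp_cons_le z_g54_z_T111 (grp_cons_le z_g55_z_T111 (grp_cons_le z_g49_z_T111 (grp_cons_le z_g50_z_T111 (grp_cons_le z_g51_z_T111 (grp_cons_le z_g62_z_T111 (grp_cons_le z_g58_z_T111 (grp_cons_le z_g59_z_T111 (grp_cons_le z_g65_z_T111 (grp_cons_le z_g66_z_T111 (grp_cons_le z_g67_z_T111 (grp_cons_le z_g77_z_T111 (grp_cons_le z_g78_z_T111 (grp_cons_le z_g72_z_T111 (grp_cons_le z_g73_z_T111 (grp_cons_le z_g74_z_T111 (grp_cons_le z_g81_z_T111 (grp_cons_le z_g82_z_T111 (grp_cons_le z_g87_z_T111 (grp_cons_le zg0_z_T111 (grp_cons_le z_g91_z_T111 (grp_cons_le z_g28_z_T111 (grp_cons_le z_g88_z_T111 (grp_cons_le z_g126_z_T111 (grp_cons_le z_g127_z_T111 (grp_cons_le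 z_g128_z_T111 (grp_cons_le z_g129_z_T111 (grp_cons_le z_g130_z_T111 (grp_cons_le z_g131_z_T111 (grp_cons_le z_g132_z_T111 (grp_cons_le z_g133_z_T111 (grp_cons_le z_g134_z_T111 (grp_cons_le z_g135_z_T111 (grp_cons_le z_g175_z_T111 (grp_cons_le z_g176_z_T111 (grp_cons_le z_g177_z_T111 (grp_cons_le z_g30_z_T111 (grp_cons_le z_g178_z_T111 (grp_cons_le z_g174_z_T111 (grp_cons_le z_g249_z_T111 (grp_nil_le _)))))))))))))))))))))))))))))))))))))))))))))))) (Frames.cons z_T111_s1_F (Frames.cons z_T111_s13_F (Frames.cons z_T111_s15_F (Frames.cons z_T111_s146_F (Frames.cons z_T111_s147_F (Frames.cons z_T111_s148_F Frames.nil)))))) (okE_cons.2 ⟨z_g1272_ok, okE_nil _⟩) _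

noncomputable def yt_c115_cnt_t : BT := (BT.fix (nat_lit 65793) (BT.fix (nat_lit 1) (BT.dif (nat_lit 1) (nat_lit 0) (BT.br (nat_lit 0) (nat_lit 64) [nat_lit 1, nat_lit 3] (BT.kid (nat_lit 64) (nat_lit 8) (BT.frm (nat_lit 0) (nat_lit 65827) (nat_lit 65827) [nat_lit 0] (BT.pln (nat_lit 0) (nat_lit 2) (BT.img (nat_lit 1) (nat_lit 2) (BT.img (nat_lit 1) (nat_lit 0) (BT.frm (nat_lit 1) (nat_lit 0x460e010123) (nat_lit 0x460e010123) [nat_lit 0, nat_lit 1, nat_lit 4] (BT.pln (nat_lit 0) (nat_lit 6) (BT.and (nat_lit 4) (nat_lit 0) (BT.br (nat_lit 0) (nat_lit 278) [nat_lit 5] (BT.dead (nat_lit 153) (BT.pln (nat_lit 7) (nat_lit 1) (BT.dif (nat_lit 11) (nat_lit 0) (BT.frm (nat_lit 2) (nat_lit 0x52535c460e010123) (nat_lit 0x515c460e010123) [nat_lit 2, nat_lit 0, nat_lit 6, nat_lit 7, nat_lit 10] (BT.pln (nat_lit 0) (nat_lit 5) (BT.img (nat_lit 1) (nat_lit 4) (BT.img (nat_lit 1) (nat_lit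 0) (BT.img (nat_lit 1) (nat_lit 0) (BT.and (nat_lit 3) (nat_lit 0) (BT.cnt (nat_lit 0)))))))))) (BT.kid (nat_lit 278) (nat_lit 2) (BT.pln (nat_lit 7) (nat_lit 1) (BT.dif (nat_lit 15) (nat_lit 0) (BT.dif (nat_lit 0) (nat_lit 8) (BT.dif (nat_lit 13) (nat_lit 2) (BT.frm (nat_lit 2) (nat_lit 0x52535c460e010123) (nat_lit 0x52535c460e010123) [nat_lit 4, nat_lit 0, nat_lit 8, nat_lit 9, nat_lit 12] (BT.pln (nat_lit 0) (nat_lit 8) (BT.and (nat_lit 3) (nat_lit 0) (BT.pln (nat_lit 2) (nat_lit 5) (BT.dif (nat_lit 1) (nat_lit 0) (BT.pln (nat_lit 4) (nat_lit 6) (BT.dif (nat_lit 1) (nat_lit 0) (BT.img (nat_lit 1) (nat_lit 11) (BT.frm (nat_lit 3) (nat_lit 0x52535c460e010123) (nat_lit 0x52535c460e010123) [nat_lit 0, nat_lit 12, nat_lit 8, nat_lit 16, nat_lit 17, nat_lit 20] (BT.pln (nat_lit 0) (nat_lit 8) (BT.dif (nat_lit 3) (nat_lit 0) (BT.pln (nat_lit 2) (nat_lit 6) (BT.and (nat_lit 1)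 (nat_lit 0) (BT.pln (nat_lit 24) (nat_lit 3) (BT.img (nat_lit 1) (nat_lit 0) (BT.img (nat_lit 1) (nat_lit 7) (BT.dif (nat_lit 1) (nat_lit 0) (BT.and (nat_lit 0) (nat_lit 5) (BT.pln (nat_lit 9) (nat_lit 7) (BT.and (nat_lit 1) (nat_lit 0) (BT.dif (nat_lit 6) (nat_lit 12) (BT.img (nat_lit 1) (nat_lit 5) (BT.img (nat_lit 1) (nat_lit 0) (BT.dif (nat_lit 2) (nat_lit 0) (BT.dif (nat_lit 29) (nat_lit 28) (BT.dif (nat_lit 0) (nat_lit 3) (BT.img (nat_lit 1) (nat_lit 3) (BT.img (nat_lit 1) (nat_lit 0) (BT.dif (nat_lit 2) (nat_lit 0) (BT.img (nat_lit 1) (nat_lit 1) (BT.img (nat_lit 1) (nat_lit 0) (BT.img (nat_lit 1) (nat_lit 0) (BT.dif (nat_lit 3) (nat_lit 0) (BT.and (nat_lit 0) (nat_lit 29) (BT.img (nat_lit 1) (nat_lit 0) (BT.and (nat_lit 11) (nat_lit 0) (BT.img (nat_lit 1) (nat_lit 0) (BT.dif (nat_lit 17) (nat_lit 0) (BT.frm (nat_lit 4) (nat_lit 0x52535c460e010123) (nat_lit 0x52535c460e010123)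 [nat_lit 0, nat_lit 30, nat_lit 42, nat_lit 38, nat_lit 46, nat_lit 47, nat_lit 50] (BT.pln (nat_lit 0) (nat_lit 7) (BT.and (nat_lit 27) (nat_lit 0) (BT.br (nat_lit 0) (nat_lit 194) [nat_lit 7] (BT.kid (nat_lit 194) (nat_lit 1) (BT.one (nat_lit 5) (nat_lit 0x52535c460e010123) (nat_lit 0x52535c460e010123) [nat_lit 0, nat_lit 4, nat_lit 34, nat_lit 46, nat_lit 42, nat_lit 50, nat_lit 51, nat_lit 54]) BT.nil))))))))))))))))))))))))))))))))))))))))))))))) BT.nil)))))))))) BT.nil)))))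

theorem yt_c115_cnt : Cnt 324 (grp 324 y_E0) [z_g1272] [z_g1272] 0 0 0 0 72 :=
  BT.sound yt_c115_cnt_P Known.nil (t := yt_c115_cnt_t) (d := 0) (by decide +kernel)

theorem yt_c115_ge : 72 ≤ Nat.card (grp 324 yt_c115_K) :=
  Ch.le_card_grp (k := 9) (L := (lab 324 9)) z_hn yt_c115_K_ok (c := (Ch.cons (nat_lit 64) [nat_lit 1, nat_lit 3] (Ch.cons (nat_lit 278) [nat_lit 5] (Ch.cons (nat_lit 194) [nat_lit 7] Ch.nil)))) (by decide +kernel)

theorem yt_c115_eq : (grp 324 y_E0) ⊓ Subgroup.centralizer {Net.toPerm 324 z_g1272} = grp 324 yt_c115_K :=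
  cent_eq yt_c115_sym yt_c115_cnt yt_c115_ge

theorem yt_c115_card : Nat.card ↥((grp 324 y_E0) ⊓ Subgroup.centralizer {Net.toPerm 324 z_g1272}) = 72 :=
  card_cent yt_c115_sym yt_c115_cnt yt_c115_ge

theorem yt_c115_ord : orderOf (Net.toPerm 324 z_g1272) = 12 :=
  orderOf_net z_hn z_hk z_g1272_ok (by decide) (ps := [2, 3]) (by set_option linter.unusedSimpArgs false in simp [Nat.primeFactorsList_ofNat]) (by decide +kernel)

theorem z_le1281 : grp 324 yt_c116_K ≤ grp 324 y_E0 :=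
  grp_le_of_memB z_hn z_hk y_E0_ok yt_c116_K_ok (ws := [nat_lit 0x2f281a251508010517, nat_lit 0x353c281c09010827, nat_lit 0x2628191c0f09030f, nat_lit 0x33382f2b191c013802]) (by decide +kernel)

theorem yt_c116_le : grp 324 yt_c116_K ≤ (grp 324 y_E0) :=
  (z_le1281.trans z_T111_s0.le)

theorem yt_c116_mem : Net.toPerm 324 z_g1277 ∈ (grp 324 y_E0) :=
  yt_c116_le (toPerm_mem_grp (E := yt_c116_K) (List.Mem.head _))

theorem yt_c116_sym : Sym 324 (grp 324 y_E0) [z_g1277] yt_c116_K 0 :=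
  Sym.of_lab z_hn z_hk (okE_cons.2 ⟨z_g1277_ok, okE_nil _⟩) yt_c116_K_ok yt_c116_le (kT := 0) (by decide +kernel)

noncomputable def z_T111_s64_O : ℕ := (nat_lit 0x1040200000000000000004000000000000000004000000000000000000000000000000000000000000000000000000000000000000000000000000000020000000000bafff7e7effb7bf7e5ebfd9aed045a90b8fcbe1000009b93ca149bfdd1bf7e3c186a8a21b40000000bac000099d7fa12d3f5c7b7762c187a8a0bb581000007e7cbfaf6e6ebfd9eed0558b01af4be100000b022a0097bb451c9f1d71a9bb1b68644f71a450bf8f70fab873c3d58f0588c58cea83ba4aa4e407088a22030e2c77097d89b1e2e19b62161ce4ad5ad59e8d628308f538ba184e48f597a7bab4da32a617228a0824000000000000000000000000000000000000000000000000000000000000000000000000000000001000000400000000000000000000000000000000000000000000000000000000000000000000000000000000000000000000000000000000000000000000000000000000000000000000000000004000000000000000000000000000000000000000000000000000000000000000000000000000000000100000000000000000000000000000000000000000000000000000000000000000000000000000000400000000000000000000000000000000000000000000000000000000000000000000000000000000000080000000000000000000000000000000000000000000000000000000000001000000000000000000000)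

theorem z_T111_s64_F : Frame 324 (grp 324 y_E0) 7 13 z_T111_s64_O 0 1 :=
  Stab.frame z_hn z_T111_s64 (by decide +kernel)

noncomputable def yt_c116_cnt_L : List ℕ := [1, 4, z_T111_s1_O, 0, 0, 4, 13, z_T111_s61_O, 0, 0, 6, 11, z_T111_s63_O, 0, 0, 7, 13, z_T111_s64_O, 0, 0, 8, 17, z_T111_s65_O, 1, 0]

theorem yt_c116_cnt_P : Prob 324 9 (grp 324 y_E0) yt_c116_cnt_EG [z_g1277] [z_g1277] yt_c116_K yt_c116_cnt_L 0 0 :=
  Sym.prob z_hn z_hk yt_c116_sym yt_c116_cnt_EG_ok (grp_cons_le z_g39_z_T111 (grp_cons_le zg1_z_T111 (grp_cons_le zg3_z_T111 (grp_cons_le z_g43_z_T111 (grp_cons_le z_g42_z_T111 (grp_cons_le zg2_z_T111 (grp_cons_le z_g44_z_T111 (grp_cons_le z_g54_z_T111 (grp_cons_le z_g55_z_T111 (grp_cons_le z_g49_z_T111 (grp_cons_le z_g50_z_T111 (grp_cons_le z_g51_z_T111 (grp_cons_le z_g62_z_T111 (grp_cons_le z_g58_z_T111 (grp_cons_le z_g59_z_T111 (grp_cons_le z_g65_z_T111 (grp_cons_le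 z_g66_z_T111 (grp_cons_le z_g67_z_T111 (grp_cons_le z_g77_z_T111 (grp_cons_le z_g78_z_T111 (grp_cons_le z_g72_z_T111 (grp_cons_le z_g73_z_T111 (grp_cons_le z_g74_z_T111 (grp_cons_le z_g81_z_T111 (grp_cons_le z_g82_z_T111 (grp_cons_le z_g87_z_T111 (grp_cons_le zg0_z_T111 (grp_cons_le z_g91_z_T111 (grp_cons_le z_g28_z_T111 (grp_cons_le z_g88_z_T111 (grp_cons_le z_g174_z_T111 (grp_cons_le z_g175_z_T111 (grp_cons_le z_g176_z_T111 (grp_cons_le z_g177_z_T111 (grp_cons_le z_g30_z_T111 (grp_cons_le z_g178_z_T111 (grp_cons_le z_g126_z_T111 (grp_cons_le z_g127_z_T111 (grp_cons_le z_g128_z_T111 (grp_cons_le z_g129_z_T111 (grp_cons_le z_g130_z_T111 (grp_cons_le z_g131_z_T111 (grp_cons_le z_g132_z_T111 (grp_cons_le z_g133_z_T111 (grp_cons_le z_g134_z_T111 (grp_cons_le z_g135_z_T111 (grp_cons_le z_g437_z_T111 (grp_cons_le z_g438_z_T111 (grp_cons_le z_g297_z_T111 (grp_cons_le z_g248_z_T111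 (grp_cons_le z_g247_z_T111 (grp_cons_le z_g436_z_T111 (grp_nil_le _))))))))))))))))))))))))))))))))))))))))))))))))))))) (Frames.cons z_T111_s1_F (Frames.cons z_T111_s61_F (Frames.cons z_T111_s63_F (Frames.cons z_T111_s64_F (Frames.cons z_T111_s65_F Frames.nil))))) (okE_cons.2 ⟨z_g1277_ok, okE_nil _⟩) _

noncomputable def yt_c116_cnt_t : BT := (BT.fix (nat_lit 257) (BT.br (nat_lit 0) (nat_lit 139) [nat_lit 1] (BT.kid (nat_lit 139) (nat_lit 36) (BT.frm (nat_lit 0) (nat_lit 515) (nat_lit 515) [nat_lit 0] (BT.pln (nat_lit 0) (nat_lit 2) (BT.fix (nat_lit 0x1010101) (BT.dif (nat_lit 1) (nat_lit 0) (BT.fix (nat_lit 65793) (BT.dif (nat_lit 1) (nat_lit 0) (BT.br (nat_lit 0) (nat_lit 83) [nat_lit 3] (BT.dead (nat_lit 164) (BT.img (nat_lit 1) (nat_lit 0) (BT.dif (nat_lit 9) (nat_lit 8) (BT.frm (nat_lit 1) (nat_lit 0x50110203) (nat_lit 0x3f41524c110203) [nat_lit 1, nat_lit 2, nat_lit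 0, nat_lit 9] (BT.pln (nat_lit 0) (nat_lit 8) (BT.img (nat_lit 1) (nat_lit 3) (BT.and (nat_lit 1) (nat_lit 0) (BT.cnt (nat_lit 0)))))))) (BT.kid (nat_lit 83) (nat_lit 6) (BT.pln (nat_lit 6) (nat_lit 3) (BT.and (nat_lit 5) (nat_lit 0) (BT.img (nat_lit 1) (nat_lit 2) (BT.dif (nat_lit 11) (nat_lit 10) (BT.frm (nat_lit 1) (nat_lit 0x50110203) (nat_lit 0x50110203) [nat_lit 1, nat_lit 4, nat_lit 0, nat_lit 11] (BT.pln (nat_lit 0) (nat_lit 6) (BT.dif (nat_lit 4) (nat_lit 0) (BT.br (nat_lit 0) (nat_lit 100) [nat_lit 5] (BT.kid (nat_lit 100) (nat_lit 3) (BT.pln (nat_lit 14) (nat_lit 1) (BT.dif (nat_lit 0) (nat_lit 13) (BT.img (nat_lit 1) (nat_lit 7) (BT.frm (nat_lit 2) (nat_lit 0x6750110203) (nat_lit 0x6750110203) [nat_lit 3, nat_lit 0, nat_lit 8, nat_lit 11, nat_lit 7, nat_lit 18] (BT.pln (nat_lit 0) (nat_lit 6) (BT.dif (nat_lit 3) (nat_lit 0) (BT.img (nat_lit 1) (nat_lit 6) (BT.frm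 (nat_lit 3) (nat_lit 0x6750110203) (nat_lit 0x6750110203) [nat_lit 0, nat_lit 7, nat_lit 4, nat_lit 12, nat_lit 15, nat_lit 11, nat_lit 22] (BT.pln (nat_lit 0) (nat_lit 7) (BT.dif (nat_lit 3) (nat_lit 0) (BT.br (nat_lit 0) (nat_lit 262) [nat_lit 7] (BT.dead (nat_lit 123) (BT.frm (nat_lit 4) (nat_lit 0x666750110203) (nat_lit 0x63656750110203) [nat_lit 0, nat_lit 4, nat_lit 11, nat_lit 8, nat_lit 16, nat_lit 19, nat_lit 15, nat_lit 26] (BT.pln (nat_lit 0) (nat_lit 8) (BT.img (nat_lit 1) (nat_lit 2) (BT.img (nat_lit 1) (nat_lit 0) (BT.img (nat_lit 1) (nat_lit 0) (BT.img (nat_lit 1) (nat_lit 0) (BT.img (nat_lit 1) (nat_lit 0) (BT.img (nat_lit 1) (nat_lit 0) (BT.img (nat_lit 1) (nat_lit 0) (BT.and (nat_lit 7) (nat_lit 0) (BT.cnt (nat_lit 0)))))))))))) (BT.dead (nat_lit 246) (BT.frm (nat_lit 4) (nat_lit 0x666750110203) (nat_lit 0x64656750110203) [nat_lit 0, nat_lit 4, nat_lit 11,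 nat_lit 8, nat_lit 16, nat_lit 19, nat_lit 15, nat_lit 26] (BT.pln (nat_lit 0) (nat_lit 8) (BT.img (nat_lit 1) (nat_lit 2) (BT.img (nat_lit 1) (nat_lit 0) (BT.img (nat_lit 1) (nat_lit 0) (BT.and (nat_lit 3) (nat_lit 0) (BT.cnt (nat_lit 0)))))))) (BT.kid (nat_lit 262) (nat_lit 1) (BT.one (nat_lit 4) (nat_lit 0x666750110203) (nat_lit 0x666750110203) [nat_lit 0, nat_lit 4, nat_lit 11, nat_lit 8, nat_lit 16, nat_lit 19, nat_lit 15, nat_lit 26]) BT.nil)))))))))))))) BT.nil))))))))) BT.nil))))))))) BT.nil)))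

theorem yt_c116_cnt : Cnt 324 (grp 324 y_E0) [z_g1277] [z_g1277] 0 0 0 0 72 :=
  BT.sound yt_c116_cnt_P Known.nil (t := yt_c116_cnt_t) (d := 0) (by decide +kernel)

theorem yt_c116_ge : 72 ≤ Nat.card (grp 324 yt_c116_K) :=
  Ch.le_card_grp (k := 9) (L := (lab 324 9)) z_hn yt_c116_K_ok (c := (Ch.cons (nat_lit 139) [nat_lit 1] (Ch.cons (nat_lit 83) [nat_lit 3] (Ch.cons (nat_lit 100) [nat_lit 5] (Ch.cons (nat_lit 262) [nat_lit 7] Ch.nil))))) (by decide +kernel)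

theorem yt_c116_eq : (grp 324 y_E0) ⊓ Subgroup.centralizer {Net.toPerm 324 z_g1277} = grp 324 yt_c116_K :=
  cent_eq yt_c116_sym yt_c116_cnt yt_c116_ge

theorem yt_c116_card : Nat.card ↥((grp 324 y_E0) ⊓ Subgroup.centralizer {Net.toPerm 324 z_g1277}) = 72 :=
  card_cent yt_c116_sym yt_c116_cnt yt_c116_ge

theorem yt_c116_ord : orderOf (Net.toPerm 324 z_g1277) = 12 :=
  orderOf_net z_hn z_hk z_g1277_ok (by decide) (ps := [2, 3]) (by set_option linter.unusedSimpArgs false in simp [Nat.primeFactorsList_ofNat]) (by decide +kernel)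

theorem z_le1285 : grp 324 yt_c117_K ≤ grp 324 y_E0 :=
  grp_le_of_memB z_hn z_hk y_E0_ok yt_c117_K_ok (ws := [nat_lit 0x33353c2f291f19221107031f, nat_lit 0x33391f19090308, nat_lit 0x3b2f2b1f19201a1207010507, nat_lit 0x3b2f261f191c0f12070c050210]) (by decide +kernel)

theorem yt_c117_le : grp 324 yt_c117_K ≤ (grp 324 y_E0) :=
  (z_le1285.trans z_T111_s0.le)

theorem yt_c117_mem : Net.toPerm 324 z_g1282 ∈ (grp 324 y_E0) :=
  yt_c117_le (toPerm_mem_grp (E := yt_c117_K) (List.Mem.head _))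

theorem yt_c117_sym : Sym 324 (grp 324 y_E0) [z_g1282] yt_c117_K 0 :=
  Sym.of_lab z_hn z_hk (okE_cons.2 ⟨z_g1282_ok, okE_nil _⟩) yt_c117_K_ok yt_c117_le (kT := 0) (by decide +kernel)

noncomputable def yt_c117_cnt_L : List ℕ := [1, 4, z_T111_s1_O, 0, 0, 4, 19, z_T111_s22_O, 0, 0, 5, 23, z_T111_s54_O, 0, 0, 6, 12, z_T111_s55_O, 0, 0, 7, 14, z_T111_s77_O, 0, 0, 8, 16, z_T111_s78_O, 0, 0, 9, 18, z_T111_s79_O, 1, 0]

theorem yt_c117_cnt_P : Prob 324 9 (grp 324 y_E0) yt_c117_cnt_EG [z_g1282] [z_g1282] yt_c117_K yt_c117_cnt_L 0 0 :=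
  Sym.prob z_hn z_hk yt_c117_sym yt_c117_cnt_EG_ok (grp_cons_le z_g39_z_T111 (grp_cons_le zg1_z_T111 (grp_cons_le zg3_z_T111 (grp_cons_le z_g43_z_T111 (grp_cons_le z_g42_z_T111 (grp_cons_le zg2_z_T111 (grp_cons_le z_g44_z_T111 (grp_cons_le z_g54_z_T111 (grp_cons_le z_g55_z_T111 (grp_cons_le z_g49_z_T111 (grp_cons_le z_g50_z_T111 (grp_cons_le z_g51_z_T111 (grp_cons_le z_g62_z_T111 (grp_cons_le z_g58_z_T111 (grp_cons_le z_g59_z_T111 (grp_cons_le z_g65_z_T111 (grp_cons_le z_g66_z_T111 (grp_cons_le z_g67_z_T111 (grp_cons_le z_g77_z_T111 (grp_cons_le z_g78_z_T111 (grp_cons_le z_g72_z_T111 (grp_cons_le z_g73_z_T111 (grp_cons_le z_g74_z_T111 (grp_cons_le z_g81_z_T111 (grp_cons_le z_g82_z_T111 (grp_cons_le z_g87_z_T111 (grp_cons_le zg0_z_T111 (grp_cons_le z_g91_z_T111 (grp_cons_le z_g28_z_T111 (grp_cons_le z_g88_z_T111 (grp_cons_le z_g391_z_T111 (grp_cons_le z_g392_z_T111 (grp_cons_le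 z_g135_z_T111 (grp_cons_le z_g393_z_T111 (grp_cons_le z_g394_z_T111 (grp_nil_le _)))))))))))))))))))))))))))))))))))) (Frames.cons z_T111_s1_F (Frames.cons z_T111_s22_F (Frames.cons z_T111_s54_F (Frames.cons z_T111_s55_F (Frames.cons z_T111_s77_F (Frames.cons z_T111_s78_F (Frames.cons z_T111_s79_F Frames.nil))))))) (okE_cons.2 ⟨z_g1282_ok, okE_nil _⟩) _

noncomputable def yt_c117_cnt_t : BT := (BT.fix (nat_lit 0x10101010101) (BT.fix (nat_lit 257) (BT.dif (nat_lit 1) (nat_lit 0) (BT.fix (nat_lit 65793) (BT.dif (nat_lit 1) (nat_lit 0) (BT.br (nat_lit 0) (nat_lit 82) [nat_lit 1] (BT.kid (nat_lit 82) (nat_lit 12) (BT.and (nat_lit 2) (nat_lit 4) (BT.br (nat_lit 0) (nat_lit 93) [nat_lit 3] (BT.kid (nat_lit 93) (nat_lit 4) (BT.frm (nat_lit 0) (nat_lit 77057) (nat_lit 77057) [nat_lit 2] (BT.pln (nat_lit 0) (nat_lit 2) (BT.dif (nat_lit 0) (nat_lit 8) (BT.img (nat_lit 1) (nat_lit 5)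 (BT.img (nat_lit 1) (nat_lit 0) (BT.frm (nat_lit 1) (nat_lit 0x1c0f12070c012d01) (nat_lit 0x1c0f12070c012d01) [nat_lit 5, nat_lit 0, nat_lit 1, nat_lit 7] (BT.pln (nat_lit 0) (nat_lit 8) (BT.and (nat_lit 13) (nat_lit 0) (BT.frm (nat_lit 2) (nat_lit 0x251c0f12070c012d01) (nat_lit 0x251c0f12070c012d01) [nat_lit 0, nat_lit 8, nat_lit 3, nat_lit 4, nat_lit 10] (BT.pln (nat_lit 0) (nat_lit 16) (BT.and (nat_lit 7) (nat_lit 0) (BT.br (nat_lit 0) (nat_lit 49) [nat_lit 5] (BT.kid (nat_lit 49) (nat_lit 2) (BT.pln (nat_lit 6) (nat_lit 6) (BT.pln (nat_lit 7) (nat_lit 7) (BT.and (nat_lit 20) (nat_lit 0) (BT.frm (nat_lit 3) (nat_lit 0x251c0f12070c012d01) (nat_lit 0x251c0f12070c012d01) [nat_lit 0, nat_lit 7, nat_lit 15, nat_lit 10, nat_lit 11, nat_lit 17] (BT.pln (nat_lit 0) (nat_lit 7) (BT.dif (nat_lit 4) (nat_lit 0) (BT.frm (nat_lit 4) (nat_lit 0x251c0f12070c012d01) (nat_lit 0x251c0f12070c012d01)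 [nat_lit 6, nat_lit 3, nat_lit 10, nat_lit 18, nat_lit 13, nat_lit 14, nat_lit 20] (BT.pln (nat_lit 0) (nat_lit 7) (BT.dif (nat_lit 2) (nat_lit 0) (BT.dif (nat_lit 18) (nat_lit 9) (BT.and (nat_lit 0) (nat_lit 8) (BT.img (nat_lit 1) (nat_lit 11) (BT.dif (nat_lit 1) (nat_lit 0) (BT.pln (nat_lit 16) (nat_lit 14) (BT.and (nat_lit 23) (nat_lit 0) (BT.img (nat_lit 1) (nat_lit 0) (BT.and (nat_lit 3) (nat_lit 0) (BT.dif (nat_lit 7) (nat_lit 15) (BT.and (nat_lit 0) (nat_lit 4) (BT.pln (nat_lit 12) (nat_lit 9) (BT.and (nat_lit 1) (nat_lit 0) (BT.img (nat_lit 1) (nat_lit 0) (BT.and (nat_lit 5) (nat_lit 0) (BT.frm (nat_lit 5) (nat_lit 0x43251c0f12070c012d01) (nat_lit 0x43251c0f12070c012d01) [nat_lit 0, nat_lit 23, nat_lit 20, nat_lit 27, nat_lit 35, nat_lit 30, nat_lit 31, nat_lit 37] (BT.pln (nat_lit 0) (nat_lit 10) (BT.and (nat_lit 16) (nat_lit 0) (BT.br (nat_lit 0) (nat_lit 79) [nat_lit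 7] (BT.kid (nat_lit 79) (nat_lit 1) (BT.one (nat_lit 6) (nat_lit 0x43251c0f12070c012d01) (nat_lit 0x43251c0f12070c012d01) [nat_lit 0, nat_lit 4, nat_lit 27, nat_lit 24, nat_lit 31, nat_lit 39, nat_lit 34, nat_lit 35, nat_lit 41]) BT.nil)))))))))))))))))))))))))))) BT.nil))))))))))))) BT.nil))) BT.nil)))))))

theorem yt_c117_cnt : Cnt 324 (grp 324 y_E0) [z_g1282] [z_g1282] 0 0 0 0 72 :=
  BT.sound yt_c117_cnt_P Known.nil (t := yt_c117_cnt_t) (d := 0) (by decide +kernel)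

theorem yt_c117_ge : 72 ≤ Nat.card (grp 324 yt_c117_K) :=
  Ch.le_card_grp (k := 9) (L := (lab 324 9)) z_hn yt_c117_K_ok (c := (Ch.cons (nat_lit 82) [nat_lit 1] (Ch.cons (nat_lit 93) [nat_lit 3] (Ch.cons (nat_lit 49) [nat_lit 5] (Ch.cons (nat_lit 79) [nat_lit 7] Ch.nil))))) (by decide +kernel)

theorem yt_c117_eq : (grp 324 y_E0) ⊓ Subgroup.centralizer {Net.toPerm 324 z_g1282} = grp 324 yt_c117_K :=
  cent_eq yt_c117_sym yt_c117_cnt yt_c117_ge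

theorem yt_c117_card : Nat.card ↥((grp 324 y_E0) ⊓ Subgroup.centralizer {Net.toPerm 324 z_g1282}) = 72 :=
  card_cent yt_c117_sym yt_c117_cnt yt_c117_ge

theorem yt_c117_ord : orderOf (Net.toPerm 324 z_g1282) = 12 :=
  orderOf_net z_hn z_hk z_g1282_ok (by decide) (ps := [2, 3]) (by set_option linter.unusedSimpArgs false in simp [Nat.primeFactorsList_ofNat]) (by decide +kernel)

theorem z_le1291 : grp 324 yt_c118_K ≤ grp 324 y_E0 :=
  grp_le_of_memB z_hn z_hk y_E0_ok yt_c118_K_ok (ws := [nat_lit 0x332f2628192211070c030d, nat_lit 0x33353c2f251f1920150707012502, nat_lit 0x33392919200707012502, nat_lit 0x342f2b191c, nat_lit 0x3c2f2619221a]) (by decide +kernel)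

theorem yt_c118_le : grp 324 yt_c118_K ≤ (grp 324 y_E0) :=
  (z_le1291.trans z_T111_s0.le)

theorem yt_c118_mem : Net.toPerm 324 z_g1286 ∈ (grp 324 y_E0) :=
  yt_c118_le (toPerm_mem_grp (E := yt_c118_K) (List.Mem.head _))

theorem yt_c118_sym : Sym 324 (grp 324 y_E0) [z_g1286] yt_c118_K 0 :=
  Sym.of_lab z_hn z_hk (okE_cons.2 ⟨z_g1286_ok, okE_nil _⟩) yt_c118_K_ok yt_c118_le (kT := 0) (by decide +kernel)

theorem z_le1297 : grp 324 z_V1296 ≤ grp 324 z_V138 :=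
  grp_le_of_memB z_hn z_hk z_V138_ok z_V1296_ok (ws := [nat_lit 0xd1109050104, nat_lit 0x110b07, nat_lit 854791, nat_lit 921863, nat_lit 921610]) (by decide +kernel)

theorem z_T111_s180 : Stab 324 (grp 324 y_E0) [nat_lit 7, nat_lit 84, nat_lit 298, nat_lit 0] z_V1296 648 :=
  Stab.step (k := 9) (L := (lab 324 9)) z_hn z_T111_s3 z_V1296_ok z_le1297 (c := (Ch.cons (nat_lit 150) [nat_lit 1] (Ch.cons (nat_lit 234) [nat_lit 3, nat_lit 5] (Ch.cons (nat_lit 43) [nat_lit 7, nat_lit 9] Ch.nil)))) (by decide +kernel)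

theorem z_T111_s181 : Stab 324 (grp 324 y_E0) [nat_lit 150, nat_lit 7, nat_lit 84, nat_lit 298, nat_lit 0] z_V1298 324 :=
  Stab.step (k := 9) (L := (lab 324 9)) z_hn z_T111_s180 z_V1298_ok (grp_mono (List.subset_append_right [z_g1292] _)) (c := (Ch.cons (nat_lit 234) [nat_lit 1, nat_lit 3] (Ch.cons (nat_lit 43) [nat_lit 5, nat_lit 7] Ch.nil))) (by decide +kernel)

theorem z_T111_s182 : Stab 324 (grp 324 y_E0) [nat_lit 234, nat_lit 150, nat_lit 7, nat_lit 84, nat_lit 298, nat_lit 0] z_V1299 9 :=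
  Stab.step (k := 9) (L := (lab 324 9)) z_hn z_T111_s181 z_V1299_ok (grp_mono (List.subset_append_right [z_g1293, z_g1294] _)) (c := (Ch.cons (nat_lit 43) [nat_lit 1, nat_lit 3] Ch.nil)) (by decide +kernel)

theorem z_T111_s183 : Stab 324 (grp 324 y_E0) [nat_lit 43, nat_lit 234, nat_lit 150, nat_lit 7, nat_lit 84, nat_lit 298, nat_lit 0] z_V1300 1 :=
  Stab.step (k := 9) (L := (lab 324 9)) z_hn z_T111_s182 z_V1300_ok (grp_mono (List.subset_append_right [z_g376, z_g1295] _)) (c := Ch.nil) (by decide +kernel)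

theorem z_g1293_z_T111 : Net.toPerm 324 z_g1293 ∈ (grp 324 y_E0) :=
  z_T111_s181.le (toPerm_mem_grp (E := z_V1298) (List.Mem.head _))

theorem z_g1294_z_T111 : Net.toPerm 324 z_g1294 ∈ (grp 324 y_E0) :=
  z_T111_s181.le (toPerm_mem_grp (E := z_V1298) (List.Mem.tail _ (List.Mem.head _)))

theorem z_g1295_z_T111 : Net.toPerm 324 z_g1295 ∈ (grp 324 y_E0) :=
  z_T111_s181.le (toPerm_mem_grp (E := z_V1298) (List.Mem.tail _ (List.Mem.tail _ (List.Mem.tail _ (List.Mem.head _)))))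

theorem z_g1292_z_T111 : Net.toPerm 324 z_g1292 ∈ (grp 324 y_E0) :=
  z_T111_s180.le (toPerm_mem_grp (E := z_V1296) (List.Mem.head _))

noncomputable def z_T111_s183_O : ℕ := (nat_lit 0xfffffffffffffffff000000000000000000000000000000000000000000000000000000000000000000000000000000000ffffffffffffffffffffffffffffffff00000000000000000000000000000000f0000000000000000ffffffffffffffff0000000000000000ffffffffffffffff00000000000000000ffffffff00000000ffffffff00000000ffffffff00000000ffffffff00000000ffffffff000000000ffff0000ffff0000ffff0000ffff0000ffff0000ffff0000ffff0000ffff0000ffff0000ffff00000ff00ff00ff00ff00ff00ff00ff00ff00ff00ff00ff00ff00ff00ff00ff00ff00ff00ff00ff00ff000f0f0f0f0f0f0f0f0f0f0f0f0f0f0f0f0f0f0f0f0f0f0f0f0f0f0f0f0f0f0f0f0f0f0f0f0f0f0f0f0cccccccccccccccccccccccccccccccccccccccccccccccccccccccccccccccccccccccccccccccccaaaaaaaaaaaaaaaaaaaaaaaaaaaaaaaaaaaaaaaaaaaaaaaaa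aaaaaaaaaaaaaaaaaaaaaaaaaaaaaaaa000000000000000000000000000000000000000000000000000000000000000000000000000000001000000400000000000000000000000000000000000000000000000000000000000000000000000000000000000000000000000000000000000000000000000000000000000001000000000000000000000000000000000000000000000000000000000000000000000000000000000000000000000000000080000000000000000000000000000000000000000000040000000000000000000000000000000000000000000000000000000000040000000000000000000000000000000000000000000000000000000000000000000000000000000000000000000000000000000000000000000000000000000080000000000)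

theorem z_T111_s183_F : Frame 324 (grp 324 y_E0) 7 16 z_T111_s183_O 1 1 :=
  IsBase.frame z_T111_s183.isBase (by decide +kernel)

noncomputable def z_T111_s182_O : ℕ := (nat_lit 0x804008028001006050401012000000000000000000000000000000000000000000000000000000000000000000000000000000000402808810000080400802800100605040104240280881000008022a201db7b6995fdccf9d273721294b6b8991260f29ff08e8f9fedd9fd7e3483293b010000000000000014f67fff3ee4373712ac894c80c1aefff126072f35ff33461367712acc85cc2c0aeff60000000000014e2cc31a572823ee5daa5c7a57ebf4b7cffe7f0803489388f9880e017e394f8050b48fc0788802001406a8cf8f1c2838788d5271214f6004cf59f8d11973832799c476c207d9ea47eb6a393bf9770002814e7a34c1c971250c14bcbaa307b49e4bc666fa8f2b0d3cad58f04ac953e6ccf1dc92d0a60f2ffc2210000000000000000000000000000000000000000000000000000000000000000000000000000000001000000400000000000000000000000000000000000000000000000000000000000000000000000000000000000000000000000000000000000000000000000000000000000001000000000000000000000000000000000000000000000000000000000000000000000000000000000000000000000000000080000000000000000000000000000000000000000000040000000000000000000000000000000000000000000000000000000000040000000000000000000000000000000000000000000000000000000000)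

theorem z_T111_s182_F : Frame 324 (grp 324 y_E0) 6 13 z_T111_s182_O 0 1 :=
  Stab.frame z_hn z_T111_s182 (by decide +kernel)

noncomputable def z_T111_s180_O : ℕ := (nat_lit 0x40000000000000000000000000000000000000000000000000000000000000000000000000000000000000000000000000020000000000000000000000000002000000000000000040000000000000000000000000000000000000000000000000000000000000400000000000000000000000000000000000000200000000000000000000000000000000000000010000000000000000000000000000000000000000000000000008000000000000000000000000000000000000000000000000000000000000000000000000000000000020800000000000000000000000000000000000000000000000000000000000000000000000000000002200000000000000000000000000000000000000000000000000000000000000000000000000000000014000000000000000000000000000000000000000000000000000000000000000000000000007fdd54a80447002c001062010000040000a05810000000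000820202000404040148200840a0000000000000000000820202000404040148200840a000000080447002c001062010000040000a058100000000000074bb059916162981a28041210b01c060000000b00820409c8d01e0c3c0808800030000000000000000b00820409c8d01e0c3c0808800030000000074bb059916162981a28041210b01c060000000000000000000000000000000000000000000000000000000000000000000000000000000000000000000001000000400000000000000000000000000000000000000000000000000000000000000000000000000000000000000000000000000000000000000000000000000000000000001000000000000000000000000000000000000000000000000000000000000000000000000000000000000000000000000000080)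

theorem z_T111_s180_F : Frame 324 (grp 324 y_E0) 4 17 z_T111_s180_O 0 1 :=
  Stab.frame z_hn z_T111_s180 (by decide +kernel)

noncomputable def yt_c118_cnt_L : List ℕ := [1, 4, z_T111_s1_O, 0, 0, 4, 17, z_T111_s180_O, 0, 0, 6, 13, z_T111_s182_O, 0, 0, 7, 16, z_T111_s183_O, 1, 0]

theorem yt_c118_cnt_P : Prob 324 9 (grp 324 y_E0) yt_c118_cnt_EG [z_g1286] [z_g1286] yt_c118_K yt_c118_cnt_L 0 0 :=
  Sym.prob z_hn z_hk yt_c118_sym yt_c118_cnt_EG_ok (grp_cons_le z_g39_z_T111 (grp_cons_le zg1_z_T111 (grp_cons_le zg3_z_T111 (grp_cons_le z_g43_z_T111 (grp_cons_le z_g42_z_T111 (grp_cons_le zg2_z_T111 (grp_cons_le z_g44_z_T111 (grp_cons_le z_g54_z_T111 (grp_cons_le z_g55_z_T111 (grp_cons_le z_g49_z_T111 (grp_cons_le z_g50_z_T111 (grp_cons_le z_g51_z_T111 (grp_cons_le z_g62_z_T111 (grp_cons_le z_g58_z_T111 (grp_cons_le z_g59_z_T111 (grp_cons_le z_g65_z_T111 (grp_cons_le z_g66_z_T111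 (grp_cons_le z_g67_z_T111 (grp_cons_le z_g77_z_T111 (grp_cons_le z_g78_z_T111 (grp_cons_le z_g72_z_T111 (grp_cons_le z_g73_z_T111 (grp_cons_le z_g74_z_T111 (grp_cons_le z_g81_z_T111 (grp_cons_le z_g82_z_T111 (grp_cons_le z_g87_z_T111 (grp_cons_le zg0_z_T111 (grp_cons_le z_g91_z_T111 (grp_cons_le z_g28_z_T111 (grp_cons_le z_g88_z_T111 (grp_cons_le z_g127_z_T111 (grp_cons_le z_g128_z_T111 (grp_cons_le z_g129_z_T111 (grp_cons_le z_g130_z_T111 (grp_cons_le z_g131_z_T111 (grp_cons_le z_g132_z_T111 (grp_cons_le z_g133_z_T111 (grp_cons_le z_g134_z_T111 (grp_cons_le z_g135_z_T111 (grp_cons_le z_g126_z_T111 (grp_cons_le z_g1293_z_T111 (grp_cons_le z_g1294_z_T111 (grp_cons_le z_g376_z_T111 (grp_cons_le z_g1295_z_T111 (grp_cons_le z_g1292_z_T111 (grp_nil_le _)))))))))))))))))))))))))))))))))))))))))))))) (Frames.cons z_T111_s1_F (Frames.cons z_T111_s180_F (Frames.cons z_T111_s182_F (Frames.cons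 z_T111_s183_F Frames.nil)))) (okE_cons.2 ⟨z_g1286_ok, okE_nil _⟩) _

noncomputable def yt_c118_cnt_t : BT := (BT.fix (nat_lit 257) (BT.br (nat_lit 0) (nat_lit 2) [nat_lit 1] (BT.kid (nat_lit 2) (nat_lit 36) (BT.frm (nat_lit 0) (nat_lit 75266) (nat_lit 75266) [nat_lit 0] (BT.pln (nat_lit 0) (nat_lit 2) (BT.fix (nat_lit 0x10101010101) (BT.dif (nat_lit 1) (nat_lit 0) (BT.br (nat_lit 0) (nat_lit 19) [nat_lit 3, nat_lit 5] (BT.dead (nat_lit 22) (BT.img (nat_lit 1) (nat_lit 0) (BT.dif (nat_lit 7) (nat_lit 6) (BT.frm (nat_lit 1) (nat_lit 0x3d504008012602) (nat_lit 0x5008012602) [nat_lit 1, nat_lit 2, nat_lit 0, nat_lit 7] (BT.pln (nat_lit 0) (nat_lit 14) (BT.and (nat_lit 5) (nat_lit 0) (BT.br (nat_lit 0) (nat_lit 22) [nat_lit 590597] (BT.dead (nat_lit 20) (BT.pln (nat_lit 3) (nat_lit 7) (BT.fix (nat_lit 0x1010101) (BT.dif (nat_lit 1) (nat_lit 0) (BT.br (nat_lit 0) (nat_lit 56) [nat_lit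 7, nat_lit 2058] (BT.dead (nat_lit 56) (BT.frm (nat_lit 2) (nat_lit 0x5356543d504008012602) (nat_lit 0x515458595008012602) [nat_lit 0, nat_lit 4, nat_lit 9, nat_lit 10, nat_lit 8, nat_lit 15] (BT.pln (nat_lit 0) (nat_lit 6) (BT.img (nat_lit 1) (nat_lit 2) (BT.img (nat_lit 1) (nat_lit 0) (BT.img (nat_lit 1) (nat_lit 0) (BT.img (nat_lit 1) (nat_lit 0) (BT.and (nat_lit 4) (nat_lit 0) (BT.cnt (nat_lit 0))))))))) (BT.dead (nat_lit 81) (BT.frm (nat_lit 2) (nat_lit 0x5356543d504008012602) (nat_lit 0x5355595008012602) [nat_lit 0, nat_lit 4, nat_lit 9, nat_lit 10, nat_lit 8, nat_lit 15] (BT.pln (nat_lit 0) (nat_lit 6) (BT.img (nat_lit 1) (nat_lit 2) (BT.and (nat_lit 1) (nat_lit 0) (BT.cnt (nat_lit 0)))))) BT.nil)))))) BT.nil))))))) (BT.dead (nat_lit 26) (BT.img (nat_lit 1) (nat_lit 0) (BT.dif (nat_lit 7) (nat_lit 6) (BT.frm (nat_lit 1) (nat_lit 0x3d504008012602) (nat_lit 0x3f3f4f3f4f08012602)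 [nat_lit 1, nat_lit 2, nat_lit 0, nat_lit 7] (BT.pln (nat_lit 0) (nat_lit 14) (BT.and (nat_lit 5) (nat_lit 0) (BT.br (nat_lit 0) (nat_lit 22) [nat_lit 3] (BT.dead (nat_lit 19) (BT.pln (nat_lit 3) (nat_lit 7) (BT.fix (nat_lit 0x1010101) (BT.dif (nat_lit 1) (nat_lit 0) (BT.br (nat_lit 0) (nat_lit 56) [nat_lit 10, nat_lit 7] (BT.dead (nat_lit 56) (BT.frm (nat_lit 2) (nat_lit 0x5356543d504008012602) (nat_lit 0x515356533f3f4f3f4f08012602) [nat_lit 0, nat_lit 4, nat_lit 9, nat_lit 10, nat_lit 8, nat_lit 15] (BT.pln (nat_lit 0) (nat_lit 6) (BT.img (nat_lit 1) (nat_lit 2) (BT.img (nat_lit 1) (nat_lit 0) (BT.and (nat_lit 2) (nat_lit 0) (BT.cnt (nat_lit 0))))))) (BT.dead (nat_lit 81) (BT.frm (nat_lit 2) (nat_lit 0x5356543d504008012602) (nat_lit 0x5355543f3f4f3f4f08012602) [nat_lit 0, nat_lit 4, nat_lit 9, nat_lit 10, nat_lit 8, nat_lit 15] (BT.pln (nat_lit 0) (nat_lit 6) (BT.img (nat_lit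 1) (nat_lit 2) (BT.and (nat_lit 1) (nat_lit 0) (BT.cnt (nat_lit 0)))))) BT.nil)))))) BT.nil))))))) (BT.kid (nat_lit 19) (nat_lit 9) (BT.img (nat_lit 1) (nat_lit 0) (BT.dif (nat_lit 7) (nat_lit 6) (BT.frm (nat_lit 1) (nat_lit 0x3d504008012602) (nat_lit 0x3d504008012602) [nat_lit 1, nat_lit 2, nat_lit 0, nat_lit 7] (BT.pln (nat_lit 0) (nat_lit 14) (BT.and (nat_lit 5) (nat_lit 0) (BT.br (nat_lit 0) (nat_lit 22) [] (BT.dead (nat_lit 23) (BT.pln (nat_lit 3) (nat_lit 7) (BT.fix (nat_lit 0x1010101) (BT.dif (nat_lit 1) (nat_lit 0) (BT.br (nat_lit 0) (nat_lit 56) [nat_lit 7, nat_lit 9] (BT.dead (nat_lit 81) (BT.frm (nat_lit 2) (nat_lit 0x5356543d504008012602) (nat_lit 0x515357593d504008012602) [nat_lit 0, nat_lit 4, nat_lit 9, nat_lit 10, nat_lit 8, nat_lit 15] (BT.pln (nat_lit 0) (nat_lit 6) (BT.img (nat_lit 1) (nat_lit 2) (BT.and (nat_lit 1) (nat_lit 0) (BT.cnt (nat_lit 0)))))) (BT.dead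 (nat_lit 56) (BT.frm (nat_lit 2) (nat_lit 0x5356543d504008012602) (nat_lit 0x5357593d504008012602) [nat_lit 0, nat_lit 4, nat_lit 9, nat_lit 10, nat_lit 8, nat_lit 15] (BT.pln (nat_lit 0) (nat_lit 6) (BT.img (nat_lit 1) (nat_lit 2) (BT.and (nat_lit 1) (nat_lit 0) (BT.cnt (nat_lit 0)))))) BT.nil)))))) (BT.kid (nat_lit 22) (nat_lit 9) (BT.pln (nat_lit 3) (nat_lit 7) (BT.fix (nat_lit 0x1010101) (BT.dif (nat_lit 1) (nat_lit 0) (BT.br (nat_lit 0) (nat_lit 56) [nat_lit 7, nat_lit 9] (BT.dead (nat_lit 81) (BT.frm (nat_lit 2) (nat_lit 0x5356543d504008012602) (nat_lit 0x515355543d504008012602) [nat_lit 0, nat_lit 4, nat_lit 9, nat_lit 10, nat_lit 8, nat_lit 15] (BT.pln (nat_lit 0) (nat_lit 6) (BT.img (nat_lit 1) (nat_lit 2) (BT.img (nat_lit 1) (nat_lit 0) (BT.and (nat_lit 2) (nat_lit 0) (BT.cnt (nat_lit 0))))))) (BT.kid (nat_lit 56) (nat_lit 1) (BT.pln (nat_lit 14) (nat_lit 1) (BT.frm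 (nat_lit 2) (nat_lit 0x5356543d504008012602) (nat_lit 0x5356543d504008012602) [nat_lit 1, nat_lit 5, nat_lit 10, nat_lit 11, nat_lit 9, nat_lit 16] (BT.pln (nat_lit 0) (nat_lit 6) (BT.dif (nat_lit 2) (nat_lit 0) (BT.pln (nat_lit 2) (nat_lit 8) (BT.dif (nat_lit 1) (nat_lit 0) (BT.br (nat_lit 0) (nat_lit 36) [] (BT.dead (nat_lit 188) (BT.frm (nat_lit 3) (nat_lit 0x575356543d504008012602) (nat_lit 0x55585356543d504008012602) [nat_lit 0, nat_lit 7, nat_lit 11, nat_lit 16, nat_lit 17, nat_lit 15, nat_lit 22] (BT.pln (nat_lit 0) (nat_lit 7) (BT.img (nat_lit 1) (nat_lit 2) (BT.img (nat_lit 1) (nat_lit 0) (BT.img (nat_lit 1) (nat_lit 0) (BT.img (nat_lit 1) (nat_lit 0) (BT.img (nat_lit 1) (nat_lit 0) (BT.and (nat_lit 5) (nat_lit 0) (BT.cnt (nat_lit 0)))))))))) (BT.dead (nat_lit 49) (BT.frm (nat_lit 3) (nat_lit 0x575356543d504008012602) (nat_lit 0x56585356543d504008012602) [nat_lit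 0, nat_lit 7, nat_lit 11, nat_lit 16, nat_lit 17, nat_lit 15, nat_lit 22] (BT.pln (nat_lit 0) (nat_lit 7) (BT.img (nat_lit 1) (nat_lit 2) (BT.img (nat_lit 1) (nat_lit 0) (BT.img (nat_lit 1) (nat_lit 0) (BT.and (nat_lit 3) (nat_lit 0) (BT.cnt (nat_lit 0)))))))) (BT.dead (nat_lit 187) (BT.frm (nat_lit 3) (nat_lit 0x575356543d504008012602) (nat_lit 0x555356543d504008012602) [nat_lit 0, nat_lit 7, nat_lit 11, nat_lit 16, nat_lit 17, nat_lit 15, nat_lit 22] (BT.pln (nat_lit 0) (nat_lit 7) (BT.img (nat_lit 1) (nat_lit 2) (BT.img (nat_lit 1) (nat_lit 0) (BT.img (nat_lit 1) (nat_lit 0) (BT.img (nat_lit 1) (nat_lit 0) (BT.img (nat_lit 1) (nat_lit 0) (BT.and (nat_lit 5) (nat_lit 0) (BT.cnt (nat_lit 0)))))))))) (BT.dead (nat_lit 191) (BT.frm (nat_lit 3) (nat_lit 0x575356543d504008012602) (nat_lit 0x55575356543d504008012602) [nat_lit 0, nat_lit 7, nat_lit 11, nat_lit 16, nat_lit 17, nat_lit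 15, nat_lit 22] (BT.pln (nat_lit 0) (nat_lit 7) (BT.img (nat_lit 1) (nat_lit 2) (BT.and (nat_lit 1) (nat_lit 0) (BT.cnt (nat_lit 0)))))) (BT.dead (nat_lit 222) (BT.frm (nat_lit 3) (nat_lit 0x575356543d504008012602) (nat_lit 0x56575356543d504008012602) [nat_lit 0, nat_lit 7, nat_lit 11, nat_lit 16, nat_lit 17, nat_lit 15, nat_lit 22] (BT.pln (nat_lit 0) (nat_lit 7) (BT.img (nat_lit 1) (nat_lit 2) (BT.and (nat_lit 1) (nat_lit 0) (BT.cnt (nat_lit 0)))))) (BT.dead (nat_lit 178) (BT.frm (nat_lit 3) (nat_lit 0x575356543d504008012602) (nat_lit 0x585356543d504008012602) [nat_lit 0, nat_lit 7, nat_lit 11, nat_lit 16, nat_lit 17, nat_lit 15, nat_lit 22] (BT.pln (nat_lit 0) (nat_lit 7) (BT.img (nat_lit 1) (nat_lit 2) (BT.img (nat_lit 1) (nat_lit 0) (BT.img (nat_lit 1) (nat_lit 0) (BT.and (nat_lit 3) (nat_lit 0) (BT.cnt (nat_lit 0)))))))) (BT.dead (nat_lit 192) (BT.frm (nat_lit 3) (nat_lit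 0x575356543d504008012602) (nat_lit 0x565356543d504008012602) [nat_lit 0, nat_lit 7, nat_lit 11, nat_lit 16, nat_lit 17, nat_lit 15, nat_lit 22] (BT.pln (nat_lit 0) (nat_lit 7) (BT.img (nat_lit 1) (nat_lit 2) (BT.and (nat_lit 1) (nat_lit 0) (BT.cnt (nat_lit 0)))))) (BT.dead (nat_lit 176) (BT.frm (nat_lit 3) (nat_lit 0x575356543d504008012602) (nat_lit 0x5356543d504008012602) [nat_lit 0, nat_lit 7, nat_lit 11, nat_lit 16, nat_lit 17, nat_lit 15, nat_lit 22] (BT.pln (nat_lit 0) (nat_lit 7) (BT.img (nat_lit 1) (nat_lit 2) (BT.img (nat_lit 1) (nat_lit 0) (BT.img (nat_lit 1) (nat_lit 0) (BT.and (nat_lit 3) (nat_lit 0) (BT.cnt (nat_lit 0)))))))) (BT.kid (nat_lit 36) (nat_lit 1) (BT.one (nat_lit 3) (nat_lit 0x575356543d504008012602) (nat_lit 0x575356543d504008012602) [nat_lit 0, nat_lit 7, nat_lit 11, nat_lit 16, nat_lit 17, nat_lit 15, nat_lit 22]) BT.nil)))))))))))))))) BT.nil))))))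 BT.nil)))))))) BT.nil)))))))) BT.nil)))

theorem yt_c118_cnt : Cnt 324 (grp 324 y_E0) [z_g1286] [z_g1286] 0 0 0 0 72 :=
  BT.sound yt_c118_cnt_P Known.nil (t := yt_c118_cnt_t) (d := 0) (by decide +kernel)

theorem yt_c118_ge : 72 ≤ Nat.card (grp 324 yt_c118_K) :=
  Ch.le_card_grp (k := 9) (L := (lab 324 9)) z_hn yt_c118_K_ok (c := (Ch.cons (nat_lit 2) [nat_lit 1] (Ch.cons (nat_lit 19) [nat_lit 3, nat_lit 5] (Ch.cons (nat_lit 56) [nat_lit 7, nat_lit 9] Ch.nil)))) (by decide +kernel)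

theorem yt_c118_eq : (grp 324 y_E0) ⊓ Subgroup.centralizer {Net.toPerm 324 z_g1286} = grp 324 yt_c118_K :=
  cent_eq yt_c118_sym yt_c118_cnt yt_c118_ge

theorem yt_c118_card : Nat.card ↥((grp 324 y_E0) ⊓ Subgroup.centralizer {Net.toPerm 324 z_g1286}) = 72 :=
  card_cent yt_c118_sym yt_c118_cnt yt_c118_ge

theorem yt_c118_ord : orderOf (Net.toPerm 324 z_g1286) = 12 :=
  orderOf_net z_hn z_hk z_g1286_ok (by decide) (ps := [2, 3]) (by set_option linter.unusedSimpArgs false in simp [Nat.primeFactorsList_ofNat]) (by decide +kernel)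

theorem z_le1304 : grp 324 yt_c119_K ≤ grp 324 y_E0 :=
  grp_le_of_memB z_hn z_hk y_E0_ok yt_c119_K_ok (ws := [nat_lit 0x34392f25281f1920110707010919, nat_lit 0x3327191f12010515, nat_lit 0x33353c2f271a1e07012b02, nat_lit 0x34352819201c012502]) (by decide +kernel)

theorem yt_c119_le : grp 324 yt_c119_K ≤ (grp 324 y_E0) :=
  (z_le1304.trans z_T111_s0.le)

theorem yt_c119_mem : Net.toPerm 324 z_g1301 ∈ (grp 324 y_E0) :=
  yt_c119_le (toPerm_mem_grp (E := yt_c119_K) (List.Mem.head _))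

theorem yt_c119_sym : Sym 324 (grp 324 y_E0) [z_g1301] yt_c119_K 0 :=
  Sym.of_lab z_hn z_hk (okE_cons.2 ⟨z_g1301_ok, okE_nil _⟩) yt_c119_K_ok yt_c119_le (kT := 0) (by decide +kernel)

noncomputable def yt_c119_cnt_L : List ℕ := [1, 4, z_T111_s1_O, 0, 0, 4, 13, z_T111_s61_O, 0, 0, 6, 11, z_T111_s63_O, 0, 0, 7, 13, z_T111_s64_O, 0, 0, 8, 17, z_T111_s65_O, 1, 0]

theorem yt_c119_cnt_P : Prob 324 9 (grp 324 y_E0) yt_c119_cnt_EG [z_g1301] [z_g1301] yt_c119_K yt_c119_cnt_L 0 0 :=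
  Sym.prob z_hn z_hk yt_c119_sym yt_c119_cnt_EG_ok (grp_cons_le z_g39_z_T111 (grp_cons_le zg1_z_T111 (grp_cons_le zg3_z_T111 (grp_cons_le z_g43_z_T111 (grp_cons_le z_g42_z_T111 (grp_cons_le zg2_z_T111 (grp_cons_le z_g44_z_T111 (grp_cons_le z_g54_z_T111 (grp_cons_le z_g55_z_T111 (grp_cons_le z_g49_z_T111 (grp_cons_le z_g50_z_T111 (grp_cons_le z_g51_z_T111 (grp_cons_le z_g62_z_T111 (grp_cons_le z_g58_z_T111 (grp_cons_le z_g59_z_T111 (grp_cons_le z_g65_z_T111 (grp_cons_le z_g66_z_T111 (grp_cons_le z_g67_z_T111 (grp_cons_le z_g77_z_T111 (grp_cons_le z_g78_z_T111 (grp_cons_le z_g72_z_T111 (grp_cons_le z_g73_z_T111 (grp_cons_le z_g74_z_T111 (grp_cons_le z_g81_z_T111 (grp_cons_le z_g82_z_T111 (grp_cons_le z_g87_z_T111 (grp_cons_le zg0_z_T111 (grp_cons_le z_g91_z_T111 (grp_cons_le z_g28_z_T111 (grp_cons_le z_g88_z_T111 (grp_cons_le z_g174_z_T111 (grp_cons_le z_g175_z_T111 (grp_cons_le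 z_g176_z_T111 (grp_cons_le z_g177_z_T111 (grp_cons_le z_g30_z_T111 (grp_cons_le z_g178_z_T111 (grp_cons_le z_g126_z_T111 (grp_cons_le z_g127_z_T111 (grp_cons_le z_g128_z_T111 (grp_cons_le z_g129_z_T111 (grp_cons_le z_g130_z_T111 (grp_cons_le z_g131_z_T111 (grp_cons_le z_g132_z_T111 (grp_cons_le z_g133_z_T111 (grp_cons_le z_g134_z_T111 (grp_cons_le z_g135_z_T111 (grp_cons_le z_g437_z_T111 (grp_cons_le z_g438_z_T111 (grp_cons_le z_g297_z_T111 (grp_cons_le z_g248_z_T111 (grp_cons_le z_g247_z_T111 (grp_cons_le z_g436_z_T111 (grp_nil_le _))))))))))))))))))))))))))))))))))))))))))))))))))))) (Frames.cons z_T111_s1_F (Frames.cons z_T111_s61_F (Frames.cons z_T111_s63_F (Frames.cons z_T111_s64_F (Frames.cons z_T111_s65_F Frames.nil))))) (okE_cons.2 ⟨z_g1301_ok, okE_nil _⟩) _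

noncomputable def yt_c119_cnt_t : BT := (BT.fix (nat_lit 257) (BT.br (nat_lit 0) (nat_lit 125) [nat_lit 1] (BT.kid (nat_lit 125) (nat_lit 36) (BT.frm (nat_lit 0) (nat_lit 67353) (nat_lit 67353) [nat_lit 0] (BT.pln (nat_lit 0) (nat_lit 2) (BT.fix (nat_lit 0x1010101) (BT.dif (nat_lit 1) (nat_lit 0) (BT.fix (nat_lit 65793) (BT.dif (nat_lit 1) (nat_lit 0) (BT.br (nat_lit 0) (nat_lit 80) [nat_lit 3] (BT.dead (nat_lit 144) (BT.img (nat_lit 1) (nat_lit 0) (BT.dif (nat_lit 9) (nat_lit 8) (BT.frm (nat_lit 1) (nat_lit 0x53081f010719) (nat_lit 0x3f3d49081f010719) [nat_lit 1, nat_lit 2, nat_lit 0, nat_lit 9] (BT.pln (nat_lit 0) (nat_lit 8) (BT.img (nat_lit 1) (nat_lit 3) (BT.and (nat_lit 1) (nat_lit 0) (BT.cnt (nat_lit 0)))))))) (BT.kid (nat_lit 80) (nat_lit 6) (BT.pln (nat_lit 6) (nat_lit 3) (BT.and (nat_lit 5) (nat_lit 0) (BT.img (nat_lit 1) (nat_lit 2) (BT.dif (nat_lit 11) (nat_lit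 10) (BT.frm (nat_lit 1) (nat_lit 0x53081f010719) (nat_lit 0x53081f010719) [nat_lit 1, nat_lit 4, nat_lit 0, nat_lit 11] (BT.pln (nat_lit 0) (nat_lit 6) (BT.dif (nat_lit 4) (nat_lit 0) (BT.br (nat_lit 0) (nat_lit 94) [nat_lit 5] (BT.kid (nat_lit 94) (nat_lit 3) (BT.pln (nat_lit 14) (nat_lit 1) (BT.img (nat_lit 1) (nat_lit 6) (BT.frm (nat_lit 2) (nat_lit 0x5d53081f010719) (nat_lit 0x5d53081f010719) [nat_lit 2, nat_lit 0, nat_lit 7, nat_lit 10, nat_lit 6, nat_lit 17] (BT.pln (nat_lit 0) (nat_lit 6) (BT.dif (nat_lit 3) (nat_lit 0) (BT.img (nat_lit 1) (nat_lit 5) (BT.frm (nat_lit 3) (nat_lit 0x5d53081f010719) (nat_lit 0x5d53081f010719) [nat_lit 0, nat_lit 6, nat_lit 4, nat_lit 11, nat_lit 14, nat_lit 10, nat_lit 21] (BT.pln (nat_lit 0) (nat_lit 7) (BT.dif (nat_lit 3) (nat_lit 0) (BT.br (nat_lit 0) (nat_lit 255) [nat_lit 7] (BT.dead (nat_lit 121) (BT.frm (nat_lit 4) (nat_lit 0x64655d53081f010719)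 (nat_lit 0x61655d53081f010719) [nat_lit 0, nat_lit 4, nat_lit 10, nat_lit 8, nat_lit 15, nat_lit 18, nat_lit 14, nat_lit 25] (BT.pln (nat_lit 0) (nat_lit 8) (BT.img (nat_lit 1) (nat_lit 2) (BT.and (nat_lit 1) (nat_lit 0) (BT.cnt (nat_lit 0)))))) (BT.dead (nat_lit 122) (BT.frm (nat_lit 4) (nat_lit 0x64655d53081f010719) (nat_lit 0x61665d53081f010719) [nat_lit 0, nat_lit 4, nat_lit 10, nat_lit 8, nat_lit 15, nat_lit 18, nat_lit 14, nat_lit 25] (BT.pln (nat_lit 0) (nat_lit 8) (BT.and (nat_lit 0) (nat_lit 22) (BT.cnt (nat_lit 0))))) (BT.dead (nat_lit 148) (BT.frm (nat_lit 4) (nat_lit 0x64655d53081f010719) (nat_lit 0x64665d53081f010719) [nat_lit 0, nat_lit 4, nat_lit 10, nat_lit 8, nat_lit 15, nat_lit 18, nat_lit 14, nat_lit 25] (BT.pln (nat_lit 0) (nat_lit 8) (BT.and (nat_lit 0) (nat_lit 22) (BT.cnt (nat_lit 0))))) (BT.dead (nat_lit 157) (BT.frm (nat_lit 4) (nat_lit 0x64655d53081f010719)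 (nat_lit 0x61635d53081f010719) [nat_lit 0, nat_lit 4, nat_lit 10, nat_lit 8, nat_lit 15, nat_lit 18, nat_lit 14, nat_lit 25] (BT.pln (nat_lit 0) (nat_lit 8) (BT.and (nat_lit 0) (nat_lit 22) (BT.cnt (nat_lit 0))))) (BT.dead (nat_lit 294) (BT.frm (nat_lit 4) (nat_lit 0x64655d53081f010719) (nat_lit 0x645d53081f010719) [nat_lit 0, nat_lit 4, nat_lit 10, nat_lit 8, nat_lit 15, nat_lit 18, nat_lit 14, nat_lit 25] (BT.pln (nat_lit 0) (nat_lit 8) (BT.and (nat_lit 0) (nat_lit 22) (BT.cnt (nat_lit 0))))) (BT.kid (nat_lit 255) (nat_lit 1) (BT.one (nat_lit 4) (nat_lit 0x64655d53081f010719) (nat_lit 0x64655d53081f010719) [nat_lit 0, nat_lit 4, nat_lit 10, nat_lit 8, nat_lit 15, nat_lit 18, nat_lit 14, nat_lit 25]) BT.nil)))))))))))))))) BT.nil))))))))) BT.nil))))))))) BT.nil)))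

theorem yt_c119_cnt : Cnt 324 (grp 324 y_E0) [z_g1301] [z_g1301] 0 0 0 0 72 :=
  BT.sound yt_c119_cnt_P Known.nil (t := yt_c119_cnt_t) (d := 0) (by decide +kernel)

theorem yt_c119_ge : 72 ≤ Nat.card (grp 324 yt_c119_K) :=
  Ch.le_card_grp (k := 9) (L := (lab 324 9)) z_hn yt_c119_K_ok (c := (Ch.cons (nat_lit 125) [nat_lit 1] (Ch.cons (nat_lit 80) [nat_lit 3] (Ch.cons (nat_lit 94) [nat_lit 5] (Ch.cons (nat_lit 255) [nat_lit 7] Ch.nil))))) (by decide +kernel)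

theorem yt_c119_eq : (grp 324 y_E0) ⊓ Subgroup.centralizer {Net.toPerm 324 z_g1301} = grp 324 yt_c119_K :=
  cent_eq yt_c119_sym yt_c119_cnt yt_c119_ge

theorem yt_c119_card : Nat.card ↥((grp 324 y_E0) ⊓ Subgroup.centralizer {Net.toPerm 324 z_g1301}) = 72 :=
  card_cent yt_c119_sym yt_c119_cnt yt_c119_ge

theorem yt_c119_ord : orderOf (Net.toPerm 324 z_g1301) = 12 :=
  orderOf_net z_hn z_hk z_g1301_ok (by decide) (ps := [2, 3]) (by set_option linter.unusedSimpArgs false in simp [Nat.primeFactorsList_ofNat]) (by decide +kernel)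

theorem z_le1309 : grp 324 yt_c120_K ≤ grp 324 y_E0 :=
  grp_le_of_memB z_hn z_hk y_E0_ok yt_c120_K_ok (ws := [nat_lit 0x34392f26281f1a1e0f070a051c, nat_lit 0x3338291f1c12070c05021a, nat_lit 0x33352b1f19201c0f07150502, nat_lit 0x372f26281d1f0f1208031f]) (by decide +kernel)

theorem yt_c120_le : grp 324 yt_c120_K ≤ (grp 324 y_E0) :=
  (z_le1309.trans z_T111_s0.le)

theorem yt_c120_mem : Net.toPerm 324 z_g1305 ∈ (grp 324 y_E0) :=
  yt_c120_le (toPerm_mem_grp (E := yt_c120_K) (List.Mem.head _))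

theorem yt_c120_sym : Sym 324 (grp 324 y_E0) [z_g1305] yt_c120_K 0 :=
  Sym.of_lab z_hn z_hk (okE_cons.2 ⟨z_g1305_ok, okE_nil _⟩) yt_c120_K_ok yt_c120_le (kT := 0) (by decide +kernel)

noncomputable def yt_c120_cnt_L : List ℕ := [1, 4, z_T111_s1_O, 0, 0, 2, 6, z_T111_s20_O, 0, 0, 5, 10, z_T111_s92_O, 0, 0, 6, 11, z_T111_s138_O, 0, 0, 9, 18, z_T111_s141_O, 1, 0]

theorem yt_c120_cnt_P : Prob 324 9 (grp 324 y_E0) yt_c120_cnt_EG [z_g1305] [z_g1305] yt_c120_K yt_c120_cnt_L 0 0 :=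
  Sym.prob z_hn z_hk yt_c120_sym yt_c120_cnt_EG_ok (grp_cons_le z_g39_z_T111 (grp_cons_le zg1_z_T111 (grp_cons_le zg3_z_T111 (grp_cons_le z_g43_z_T111 (grp_cons_le z_g42_z_T111 (grp_cons_le zg2_z_T111 (grp_cons_le z_g44_z_T111 (grp_cons_le z_g54_z_T111 (grp_cons_le z_g55_z_T111 (grp_cons_le z_g49_z_T111 (grp_cons_le z_g50_z_T111 (grp_cons_le z_g51_z_T111 (grp_cons_le z_g62_z_T111 (grp_cons_le z_g58_z_T111 (grp_cons_le z_g59_z_T111 (grp_cons_le z_g65_z_T111 (grp_cons_le z_g66_z_T111 (grp_cons_le z_g67_z_T111 (grp_cons_le z_g77_z_T111 (grp_cons_le z_g78_z_T111 (grp_cons_le z_g72_z_T111 (grp_cons_le z_g73_z_T111 (grp_cons_le z_g74_z_T111 (grp_cons_le z_g81_z_T111 (grp_cons_le z_g82_z_T111 (grp_cons_le z_g87_z_T111 (grp_cons_le zg0_z_T111 (grp_cons_le z_g91_z_T111 (grp_cons_le z_g28_z_T111 (grp_cons_le z_g88_z_T111 (grp_cons_le z_g605_z_T111 (grp_cons_le z_g606_z_T111 (grp_cons_le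 z_g607_z_T111 (grp_cons_le z_g608_z_T111 (grp_cons_le z_g609_z_T111 (grp_cons_le z_g610_z_T111 (grp_cons_le z_g260_z_T111 (grp_cons_le z_g548_z_T111 (grp_cons_le z_g34_z_T111 (grp_cons_le z_g549_z_T111 (grp_cons_le z_g33_z_T111 (grp_cons_le z_g550_z_T111 (grp_cons_le z_g551_z_T111 (grp_cons_le z_g915_z_T111 (grp_cons_le z_g913_z_T111 (grp_cons_le z_g914_z_T111 (grp_nil_le _))))))))))))))))))))))))))))))))))))))))))))))) (Frames.cons z_T111_s1_F (Frames.cons z_T111_s20_F (Frames.cons z_T111_s92_F (Frames.cons z_T111_s138_F (Frames.cons z_T111_s141_F Frames.nil))))) (okE_cons.2 ⟨z_g1305_ok, okE_nil _⟩) _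

noncomputable def yt_c120_cnt_t : BT := (BT.fix (nat_lit 0x10101010101) (BT.fix (nat_lit 257) (BT.dif (nat_lit 1) (nat_lit 0) (BT.br (nat_lit 0) (nat_lit 54) [nat_lit 1, nat_lit 3] (BT.kid (nat_lit 54) (nat_lit 6) (BT.img (nat_lit 1) (nat_lit 0) (BT.img (nat_lit 1) (nat_lit 0) (BT.frm (nat_lit 1) (nat_lit 524565) (nat_lit 524565) [nat_lit 0, nat_lit 2] (BT.pln (nat_lit 0) (nat_lit 4) (BT.and (nat_lit 5) (nat_lit 0) (BT.br (nat_lit 0) (nat_lit 111) [nat_lit 5] (BT.kid (nat_lit 111) (nat_lit 2) (BT.frm (nat_lit 0) (nat_lit 277) (nat_lit 277) [nat_lit 6] (BT.pln (nat_lit 0) (nat_lit 2) (BT.dif (nat_lit 0) (nat_lit 11) (BT.and (nat_lit 11) (nat_lit 1) (BT.pln (nat_lit 3) (nat_lit 3) (BT.and (nat_lit 0) (nat_lit 13) (BT.img (nat_lit 1) (nat_lit 0) (BT.dif (nat_lit 3) (nat_lit 0) (BT.img (nat_lit 1) (nat_lit 12) (BT.frm (nat_lit 2) (nat_lit 0x3e3f1a080115) (nat_lit 0x3e3f1a080115)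 [nat_lit 9, nat_lit 0, nat_lit 14, nat_lit 13, nat_lit 15] (BT.pln (nat_lit 0) (nat_lit 5) (BT.dif (nat_lit 3) (nat_lit 0) (BT.frm (nat_lit 3) (nat_lit 0x41463e3f1a080115) (nat_lit 0x41463e3f1a080115) [nat_lit 0, nat_lit 12, nat_lit 3, nat_lit 17, nat_lit 16, nat_lit 18] (BT.pln (nat_lit 0) (nat_lit 8) (BT.and (nat_lit 11) (nat_lit 0) (BT.br (nat_lit 0) (nat_lit 295) [nat_lit 7] (BT.kid (nat_lit 295) (nat_lit 1) (BT.img (nat_lit 1) (nat_lit 0) (BT.and (nat_lit 13) (nat_lit 6) (BT.one (nat_lit 4) (nat_lit 0x51575a41463e3f1a080115) (nat_lit 0x51575a41463e3f1a080115) [nat_lit 1, nat_lit 2, nat_lit 0, nat_lit 6, nat_lit 18, nat_lit 9, nat_lit 23, nat_lit 22, nat_lit 24]))) BT.nil))))))))))))))))) BT.nil))))))) BT.nil)))))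

theorem yt_c120_cnt : Cnt 324 (grp 324 y_E0) [z_g1305] [z_g1305] 0 0 0 0 72 :=
  BT.sound yt_c120_cnt_P Known.nil (t := yt_c120_cnt_t) (d := 0) (by decide +kernel)

theorem yt_c120_ge : 72 ≤ Nat.card (grp 324 yt_c120_K) :=
  Ch.le_card_grp (k := 9) (L := (lab 324 9)) z_hn yt_c120_K_ok (c := (Ch.cons (nat_lit 54) [nat_lit 1, nat_lit 3] (Ch.cons (nat_lit 111) [nat_lit 5] (Ch.cons (nat_lit 295) [nat_lit 7] Ch.nil)))) (by decide +kernel)

theorem yt_c120_eq : (grp 324 y_E0) ⊓ Subgroup.centralizer {Net.toPerm 324 z_g1305} = grp 324 yt_c120_K :=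
  cent_eq yt_c120_sym yt_c120_cnt yt_c120_ge

theorem yt_c120_card : Nat.card ↥((grp 324 y_E0) ⊓ Subgroup.centralizer {Net.toPerm 324 z_g1305}) = 72 :=
  card_cent yt_c120_sym yt_c120_cnt yt_c120_ge

theorem yt_c120_ord : orderOf (Net.toPerm 324 z_g1305) = 12 :=
  orderOf_net z_hn z_hk z_g1305_ok (by decide) (ps := [2, 3]) (by set_option linter.unusedSimpArgs false in simp [Nat.primeFactorsList_ofNat]) (by decide +kernel)

theorem z_le1314 : grp 324 yt_c121_K ≤ grp 324 y_E0 :=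
  grp_le_of_memB z_hn z_hk y_E0_ok yt_c121_K_ok (ws := [nat_lit 0x2f2528191b1b0f012101, nat_lit 0x3b262819210f12031f, nat_lit 0x353c2819230707020501, nat_lit 0x3726281f191b1b071501050d]) (by decide +kernel)

theorem yt_c121_le : grp 324 yt_c121_K ≤ (grp 324 y_E0) :=
  (z_le1314.trans z_T111_s0.le)

theorem yt_c121_mem : Net.toPerm 324 z_g1310 ∈ (grp 324 y_E0) :=
  yt_c121_le (toPerm_mem_grp (E := yt_c121_K) (List.Mem.head _))

theorem yt_c121_sym : Sym 324 (grp 324 y_E0) [z_g1310] yt_c121_K 0 :=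
  Sym.of_lab z_hn z_hk (okE_cons.2 ⟨z_g1310_ok, okE_nil _⟩) yt_c121_K_ok yt_c121_le (kT := 0) (by decide +kernel)

noncomputable def yt_c121_cnt_L : List ℕ := [1, 4, z_T111_s1_O, 0, 0, 4, 19, z_T111_s22_O, 0, 0, 5, 23, z_T111_s54_O, 0, 0, 6, 12, z_T111_s55_O, 0, 0, 7, 14, z_T111_s77_O, 0, 0, 8, 16, z_T111_s78_O, 0, 0, 9, 18, z_T111_s79_O, 1, 0]

theorem yt_c121_cnt_P : Prob 324 9 (grp 324 y_E0) yt_c121_cnt_EG [z_g1310] [z_g1310] yt_c121_K yt_c121_cnt_L 0 0 :=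
  Sym.prob z_hn z_hk yt_c121_sym yt_c121_cnt_EG_ok (grp_cons_le z_g39_z_T111 (grp_cons_le zg1_z_T111 (grp_cons_le zg3_z_T111 (grp_cons_le z_g43_z_T111 (grp_cons_le z_g42_z_T111 (grp_cons_le zg2_z_T111 (grp_cons_le z_g44_z_T111 (grp_cons_le z_g54_z_T111 (grp_cons_le z_g55_z_T111 (grp_cons_le z_g49_z_T111 (grp_cons_le z_g50_z_T111 (grp_cons_le z_g51_z_T111 (grp_cons_le z_g62_z_T111 (grp_cons_le z_g58_z_T111 (grp_cons_le z_g59_z_T111 (grp_cons_le z_g65_z_T111 (grp_cons_le z_g66_z_T111 (grp_cons_le z_g67_z_T111 (grp_cons_le z_g77_z_T111 (grp_cons_le z_g78_z_T111 (grp_cons_le z_g72_z_T111 (grp_cons_le z_g73_z_T111 (grp_cons_le z_g74_z_T111 (grp_cons_le z_g81_z_T111 (grp_cons_le z_g82_z_T111 (grp_cons_le z_g87_z_T111 (grp_cons_le zg0_z_T111 (grp_cons_le z_g91_z_T111 (grp_cons_le z_g28_z_T111 (grp_cons_le z_g88_z_T111 (grp_cons_le z_g391_z_T111 (grp_cons_le z_g392_z_T111 (grp_cons_le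 z_g135_z_T111 (grp_cons_le z_g393_z_T111 (grp_cons_le z_g394_z_T111 (grp_nil_le _)))))))))))))))))))))))))))))))))))) (Frames.cons z_T111_s1_F (Frames.cons z_T111_s22_F (Frames.cons z_T111_s54_F (Frames.cons z_T111_s55_F (Frames.cons z_T111_s77_F (Frames.cons z_T111_s78_F (Frames.cons z_T111_s79_F Frames.nil))))))) (okE_cons.2 ⟨z_g1310_ok, okE_nil _⟩) _

noncomputable def yt_c121_cnt_t : BT := (BT.fix (nat_lit 0x10101010101) (BT.fix (nat_lit 257) (BT.dif (nat_lit 1) (nat_lit 0) (BT.fix (nat_lit 65793) (BT.dif (nat_lit 1) (nat_lit 0) (BT.br (nat_lit 0) (nat_lit 89) [nat_lit 1] (BT.kid (nat_lit 89) (nat_lit 12) (BT.and (nat_lit 2) (nat_lit 4) (BT.br (nat_lit 0) (nat_lit 34) [nat_lit 3] (BT.kid (nat_lit 34) (nat_lit 4) (BT.frm (nat_lit 0) (nat_lit 66823) (nat_lit 66823) [nat_lit 2] (BT.pln (nat_lit 0) (nat_lit 2) (BT.dif (nat_lit 0) (nat_lit 8) (BT.img (nat_lit 1) (nat_lit 5)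 (BT.img (nat_lit 1) (nat_lit 0) (BT.frm (nat_lit 1) (nat_lit 0x191f11070a010507) (nat_lit 0x191f11070a010507) [nat_lit 5, nat_lit 0, nat_lit 1, nat_lit 7] (BT.pln (nat_lit 0) (nat_lit 8) (BT.and (nat_lit 13) (nat_lit 0) (BT.frm (nat_lit 2) (nat_lit 0x21191f11070a010507) (nat_lit 0x21191f11070a010507) [nat_lit 0, nat_lit 8, nat_lit 3, nat_lit 4, nat_lit 10] (BT.pln (nat_lit 0) (nat_lit 16) (BT.and (nat_lit 7) (nat_lit 0) (BT.br (nat_lit 0) (nat_lit 40) [nat_lit 5] (BT.kid (nat_lit 40) (nat_lit 2) (BT.pln (nat_lit 6) (nat_lit 6) (BT.pln (nat_lit 7) (nat_lit 7) (BT.and (nat_lit 20) (nat_lit 0) (BT.frm (nat_lit 3) (nat_lit 0x3e4021191f11070a010507) (nat_lit 0x3e4021191f11070a010507) [nat_lit 0, nat_lit 7, nat_lit 15, nat_lit 10, nat_lit 11, nat_lit 17] (BT.pln (nat_lit 0) (nat_lit 7) (BT.dif (nat_lit 4) (nat_lit 0) (BT.frm (nat_lit 4) (nat_lit 0x453e4021191f11070a010507) (nat_lit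 0x453e4021191f11070a010507) [nat_lit 6, nat_lit 3, nat_lit 10, nat_lit 18, nat_lit 13, nat_lit 14, nat_lit 20] (BT.pln (nat_lit 0) (nat_lit 7) (BT.dif (nat_lit 2) (nat_lit 0) (BT.dif (nat_lit 18) (nat_lit 9) (BT.and (nat_lit 0) (nat_lit 8) (BT.img (nat_lit 1) (nat_lit 11) (BT.dif (nat_lit 1) (nat_lit 0) (BT.pln (nat_lit 16) (nat_lit 14) (BT.and (nat_lit 23) (nat_lit 0) (BT.img (nat_lit 1) (nat_lit 0) (BT.and (nat_lit 3) (nat_lit 0) (BT.dif (nat_lit 7) (nat_lit 15) (BT.and (nat_lit 0) (nat_lit 4) (BT.pln (nat_lit 12) (nat_lit 9) (BT.and (nat_lit 1) (nat_lit 0) (BT.img (nat_lit 1) (nat_lit 0) (BT.and (nat_lit 5) (nat_lit 0) (BT.frm (nat_lit 5) (nat_lit 0x453e4021191f11070a010507) (nat_lit 0x453e4021191f11070a010507) [nat_lit 0, nat_lit 23, nat_lit 20, nat_lit 27, nat_lit 35, nat_lit 30, nat_lit 31, nat_lit 37] (BT.pln (nat_lit 0) (nat_lit 10) (BT.and (nat_lit 16) (nat_lit 0)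 (BT.br (nat_lit 0) (nat_lit 196) [nat_lit 7] (BT.kid (nat_lit 196) (nat_lit 1) (BT.one (nat_lit 6) (nat_lit 0x453e4021191f11070a010507) (nat_lit 0x453e4021191f11070a010507) [nat_lit 0, nat_lit 4, nat_lit 27, nat_lit 24, nat_lit 31, nat_lit 39, nat_lit 34, nat_lit 35, nat_lit 41]) BT.nil)))))))))))))))))))))))))))) BT.nil))))))))))))) BT.nil))) BT.nil)))))))

theorem yt_c121_cnt : Cnt 324 (grp 324 y_E0) [z_g1310] [z_g1310] 0 0 0 0 72 :=
  BT.sound yt_c121_cnt_P Known.nil (t := yt_c121_cnt_t) (d := 0) (by decide +kernel)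

theorem yt_c121_ge : 72 ≤ Nat.card (grp 324 yt_c121_K) :=
  Ch.le_card_grp (k := 9) (L := (lab 324 9)) z_hn yt_c121_K_ok (c := (Ch.cons (nat_lit 89) [nat_lit 1] (Ch.cons (nat_lit 34) [nat_lit 3] (Ch.cons (nat_lit 40) [nat_lit 5] (Ch.cons (nat_lit 196) [nat_lit 7] Ch.nil))))) (by decide +kernel)

theorem yt_c121_eq : (grp 324 y_E0) ⊓ Subgroup.centralizer {Net.toPerm 324 z_g1310} = grp 324 yt_c121_K :=
  cent_eq yt_c121_sym yt_c121_cnt yt_c121_ge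

theorem yt_c121_card : Nat.card ↥((grp 324 y_E0) ⊓ Subgroup.centralizer {Net.toPerm 324 z_g1310}) = 72 :=
  card_cent yt_c121_sym yt_c121_cnt yt_c121_ge

theorem yt_c121_ord : orderOf (Net.toPerm 324 z_g1310) = 12 :=
  orderOf_net z_hn z_hk z_g1310_ok (by decide) (ps := [2, 3]) (by set_option linter.unusedSimpArgs false in simp [Nat.primeFactorsList_ofNat]) (by decide +kernel)

theorem z_le1318 : grp 324 yt_c122_K ≤ grp 324 y_E0 :=
  grp_le_of_memB z_hn z_hk y_E0_ok yt_c122_K_ok (ws := [nat_lit 0x34352528191f0f07020302, nat_lit 0x33353c261f1d12013c02, nat_lit 0x333b191b120715021501, nat_lit 0x333919201a012502]) (by decide +kernel)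

theorem yt_c122_le : grp 324 yt_c122_K ≤ (grp 324 y_E0) :=
  (z_le1318.trans z_T111_s0.le)

theorem yt_c122_mem : Net.toPerm 324 z_g1315 ∈ (grp 324 y_E0) :=
  yt_c122_le (toPerm_mem_grp (E := yt_c122_K) (List.Mem.head _))

theorem yt_c122_sym : Sym 324 (grp 324 y_E0) [z_g1315] yt_c122_K 0 :=
  Sym.of_lab z_hn z_hk (okE_cons.2 ⟨z_g1315_ok, okE_nil _⟩) yt_c122_K_ok yt_c122_le (kT := 0) (by decide +kernel)

theorem z_le1320 : grp 324 z_V1319 ≤ grp 324 z_V298 :=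
  grp_le_of_memB z_hn z_hk z_V298_ok z_V1319_ok (ws := []) (by decide +kernel)

theorem z_T111_s184 : Stab 324 (grp 324 y_E0) [nat_lit 10, nat_lit 16, nat_lit 26, nat_lit 25, nat_lit 13, nat_lit 27, nat_lit 84, nat_lit 298, nat_lit 0] z_V1319 1 :=
  Stab.step (k := 9) (L := (lab 324 9)) z_hn z_T111_s33 z_V1319_ok z_le1320 (c := Ch.nil) (by decide +kernel)

noncomputable def z_T111_s184_O : ℕ := (nat_lit 0xfffffffffffffffff000000000000000000000000000000000000000000000000000000000000000000000000000000000ffffffffffffffffffffffffffffffff00000000000000000000000000000000f0000000000000000ffffffffffffffff0000000000000000ffffffffffffffff00000000000000000ffffffff00000000ffffffff00000000ffffffff00000000ffffffff00000000ffffffff000000000ffff0000ffff0000ffff0000ffff0000ffff0000ffff0000ffff0000ffff0000ffff0000ffff00000ff00ff00ff00ff00ff00ff00ff00ff00ff00ff00ff00ff00ff00ff00ff00ff00ff00f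f00ff00ff000f0f0f0f0f0f0f0f0f0f0f0f0f0f0f0f0f0f0f0f0f0f0f0f0f0f0f0f0f0f0f0f0f0f0f0f0f0f0f0f0cccccccccccccccccccccccccccccccccccccccccccccccccccccccccccccccccccccccccccccccccaaaaaaaaaaaaaaaaaaaaaaaaaaaaaaaaaaaaaaaaaaaaaaaaaaaaaaaaaaaaaaaaaaaaaaaaaaaaaaaaa000000000000000000000000000000000000000000000000000000000000000000000000000000001000000400000000000000000000000000000000000000000000000000000000000000000000000000000000000000000000000000000000000000000000000000000000000001000000000000000000000000000000000000000000000000000000000000000000000000000000000000000000000008000000000000000000000000000000000000000000000000000000000000000000000000000000000002000000000000000000000000000000000000000000000000000000000000000000000000000002000000000000000000000000000000000000000000000000000000000000000000000000000000004000000000000000000000000000000000000000000000000000000000000000000000000000000000010000000000000000000000000000000000000000000000000000000000000000000000000000000000400)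

theorem z_T111_s184_F : Frame 324 (grp 324 y_E0) 9 18 z_T111_s184_O 1 1 :=
  IsBase.frame z_T111_s184.isBase (by decide +kernel)

noncomputable def yt_c122_cnt_L : List ℕ := [1, 4, z_T111_s1_O, 0, 0, 4, 19, z_T111_s4_O, 0, 0, 6, 11, z_T111_s6_O, 0, 0, 9, 18, z_T111_s184_O, 1, 0]

theorem yt_c122_cnt_P : Prob 324 9 (grp 324 y_E0) yt_c122_cnt_EG [z_g1315] [z_g1315] yt_c122_K yt_c122_cnt_L 0 0 :=
  Sym.prob z_hn z_hk yt_c122_sym yt_c122_cnt_EG_ok (grp_cons_le z_g39_z_T111 (grp_cons_le zg1_z_T111 (grp_cons_le zg3_z_T111 (grp_cons_le z_g43_z_T111 (grp_cons_le z_g42_z_T111 (grp_cons_le zg2_z_T111 (grp_cons_le z_g44_z_T111 (grp_cons_le z_g54_z_T111 (grp_cons_le z_g55_z_T111 (grp_cons_le z_g49_z_T111 (grp_cons_le z_g50_z_T111 (grp_cons_le z_g51_z_T111 (grp_cons_le z_g62_z_T111 (grp_cons_le z_g58_z_T111 (grp_cons_le z_g59_z_T111 (grp_cons_le z_g65_z_T111 (grp_cons_le z_g66_z_T111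 (grp_cons_le z_g67_z_T111 (grp_cons_le z_g77_z_T111 (grp_cons_le z_g78_z_T111 (grp_cons_le z_g72_z_T111 (grp_cons_le z_g73_z_T111 (grp_cons_le z_g74_z_T111 (grp_cons_le z_g81_z_T111 (grp_cons_le z_g82_z_T111 (grp_cons_le z_g87_z_T111 (grp_cons_le zg0_z_T111 (grp_cons_le z_g91_z_T111 (grp_cons_le z_g28_z_T111 (grp_cons_le z_g88_z_T111 (grp_cons_le z_g127_z_T111 (grp_cons_le z_g128_z_T111 (grp_cons_le z_g129_z_T111 (grp_cons_le z_g130_z_T111 (grp_cons_le z_g131_z_T111 (grp_cons_le z_g132_z_T111 (grp_cons_le z_g133_z_T111 (grp_cons_le z_g134_z_T111 (grp_cons_le z_g135_z_T111 (grp_cons_le z_g126_z_T111 (grp_cons_le z_g297_z_T111 (grp_nil_le _)))))))))))))))))))))))))))))))))))))))))) (Frames.cons z_T111_s1_F (Frames.cons z_T111_s4_F (Frames.cons z_T111_s6_F (Frames.cons z_T111_s184_F Frames.nil)))) (okE_cons.2 ⟨z_g1315_ok, okE_nil _⟩) _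

noncomputable def yt_c122_cnt_t : BT := (BT.fix (nat_lit 257) (BT.br (nat_lit 0) (nat_lit 89) [nat_lit 1] (BT.kid (nat_lit 89) (nat_lit 18) (BT.frm (nat_lit 0) (nat_lit 66823) (nat_lit 66823) [nat_lit 0] (BT.pln (nat_lit 0) (nat_lit 2) (BT.fix (nat_lit 0x10101010101) (BT.dif (nat_lit 1) (nat_lit 0) (BT.fix (nat_lit 0x1010101) (BT.dif (nat_lit 1) (nat_lit 0) (BT.br (nat_lit 0) (nat_lit 37) [nat_lit 3, nat_lit 5] (BT.kid (nat_lit 37) (nat_lit 3) (BT.img (nat_lit 1) (nat_lit 0) (BT.img (nat_lit 1) (nat_lit 0) (BT.dif (nat_lit 10) (nat_lit 9) (BT.frm (nat_lit 1) (nat_lit 0x5040071f010507) (nat_lit 0x5040071f010507) [nat_lit 1, nat_lit 3, nat_lit 0, nat_lit 10] (BT.pln (nat_lit 0) (nat_lit 8) (BT.and (nat_lit 9) (nat_lit 0) (BT.br (nat_lit 0) (nat_lit 28) [nat_lit 7] (BT.dead (nat_lit 40) (BT.img (nat_lit 1) (nat_lit 5) (BT.frm (nat_lit 2) (nat_lit 0x43455040071f010507) (nat_lit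 0x43465040071f010507) [nat_lit 1, nat_lit 0, nat_lit 6, nat_lit 8, nat_lit 5, nat_lit 15] (BT.pln (nat_lit 0) (nat_lit 6) (BT.img (nat_lit 1) (nat_lit 3) (BT.img (nat_lit 1) (nat_lit 0) (BT.img (nat_lit 1) (nat_lit 0) (BT.img (nat_lit 1) (nat_lit 0) (BT.and (nat_lit 4) (nat_lit 0) (BT.cnt (nat_lit 0)))))))))) (BT.dead (nat_lit 30) (BT.img (nat_lit 1) (nat_lit 5) (BT.frm (nat_lit 2) (nat_lit 0x43455040071f010507) (nat_lit 0x5040071f010507) [nat_lit 1, nat_lit 0, nat_lit 6, nat_lit 8, nat_lit 5, nat_lit 15] (BT.pln (nat_lit 0) (nat_lit 6) (BT.img (nat_lit 1) (nat_lit 3) (BT.img (nat_lit 1) (nat_lit 0) (BT.and (nat_lit 2) (nat_lit 0) (BT.cnt (nat_lit 0)))))))) (BT.kid (nat_lit 28) (nat_lit 1) (BT.img (nat_lit 1) (nat_lit 0) (BT.img (nat_lit 1) (nat_lit 0) (BT.img (nat_lit 1) (nat_lit 0) (BT.img (nat_lit 1) (nat_lit 0) (BT.img (nat_lit 1) (nat_lit 9) (BT.one (nat_lit 3) (nat_lit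 0x514a4b43455040071f010507) (nat_lit 0x514a4b43455040071f010507) [nat_lit 2, nat_lit 4, nat_lit 1, nat_lit 5, nat_lit 0, nat_lit 10, nat_lit 12, nat_lit 9, nat_lit 19])))))) BT.nil)))))))))) BT.nil)))))))) BT.nil)))

theorem yt_c122_cnt : Cnt 324 (grp 324 y_E0) [z_g1315] [z_g1315] 0 0 0 0 36 :=
  BT.sound yt_c122_cnt_P Known.nil (t := yt_c122_cnt_t) (d := 0) (by decide +kernel)

theorem yt_c122_ge : 36 ≤ Nat.card (grp 324 yt_c122_K) :=
  Ch.le_card_grp (k := 9) (L := (lab 324 9)) z_hn yt_c122_K_ok (c := (Ch.cons (nat_lit 89) [nat_lit 1] (Ch.cons (nat_lit 37) [nat_lit 3, nat_lit 5] (Ch.cons (nat_lit 28) [nat_lit 7] Ch.nil)))) (by decide +kernel)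

theorem yt_c122_eq : (grp 324 y_E0) ⊓ Subgroup.centralizer {Net.toPerm 324 z_g1315} = grp 324 yt_c122_K :=
  cent_eq yt_c122_sym yt_c122_cnt yt_c122_ge

theorem yt_c122_card : Nat.card ↥((grp 324 y_E0) ⊓ Subgroup.centralizer {Net.toPerm 324 z_g1315}) = 36 :=
  card_cent yt_c122_sym yt_c122_cnt yt_c122_ge

theorem yt_c122_ord : orderOf (Net.toPerm 324 z_g1315) = 12 :=
  orderOf_net z_hn z_hk z_g1315_ok (by decide) (ps := [2, 3]) (by set_option linter.unusedSimpArgs false in simp [Nat.primeFactorsList_ofNat]) (by decide +kernel)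

theorem z_le1323 : grp 324 yt_c123_K ≤ grp 324 y_E0 :=
  grp_le_of_memB z_hn z_hk y_E0_ok yt_c123_K_ok (ws := [nat_lit 0x372f2619201a1508010a, nat_lit 0x333b262819070a021501]) (by decide +kernel)

theorem yt_c123_le : grp 324 yt_c123_K ≤ (grp 324 y_E0) :=
  (z_le1323.trans z_T111_s0.le)

theorem yt_c123_mem : Net.toPerm 324 z_g1321 ∈ (grp 324 y_E0) :=
  yt_c123_le (toPerm_mem_grp (E := yt_c123_K) (List.Mem.head _))

theorem yt_c123_sym : Sym 324 (grp 324 y_E0) [z_g1321] yt_c123_K 0 :=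
  Sym.of_lab z_hn z_hk (okE_cons.2 ⟨z_g1321_ok, okE_nil _⟩) yt_c123_K_ok yt_c123_le (kT := 0) (by decide +kernel)

noncomputable def yt_c123_cnt_L : List ℕ := [1, 4, z_T111_s1_O, 0, 0, 2, 9, z_T111_s41_O, 0, 0, 3, 15, z_T111_s42_O, 0, 0, 5, 12, z_T111_s44_O, 0, 0, 6, 15, z_T111_s45_O, 1, 0]

theorem yt_c123_cnt_P : Prob 324 9 (grp 324 y_E0) yt_c123_cnt_EG [z_g1321] [z_g1321] yt_c123_K yt_c123_cnt_L 0 0 :=
  Sym.prob z_hn z_hk yt_c123_sym yt_c123_cnt_EG_ok (grp_cons_le z_g39_z_T111 (grp_cons_le zg1_z_T111 (grp_cons_le zg3_z_T111 (grp_cons_le z_g43_z_T111 (grp_cons_le z_g42_z_T111 (grp_cons_le zg2_z_T111 (grp_cons_le z_g44_z_T111 (grp_cons_le z_g54_z_T111 (grp_cons_le z_g55_z_T111 (grp_cons_le z_g49_z_T111 (grp_cons_le z_g50_z_T111 (grp_cons_le z_g51_z_T111 (grp_cons_le z_g62_z_T111 (grp_cons_le z_g58_z_T111 (grp_cons_le z_g59_z_T111 (grp_cons_le z_g65_z_T111 (grp_cons_le z_g66_z_T111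 (grp_cons_le z_g67_z_T111 (grp_cons_le z_g77_z_T111 (grp_cons_le z_g78_z_T111 (grp_cons_le z_g72_z_T111 (grp_cons_le z_g73_z_T111 (grp_cons_le z_g74_z_T111 (grp_cons_le z_g81_z_T111 (grp_cons_le z_g82_z_T111 (grp_cons_le z_g87_z_T111 (grp_cons_le zg0_z_T111 (grp_cons_le z_g91_z_T111 (grp_cons_le z_g28_z_T111 (grp_cons_le z_g88_z_T111 (grp_cons_le z_g344_z_T111 (grp_cons_le z_g345_z_T111 (grp_cons_le z_g346_z_T111 (grp_cons_le z_g347_z_T111 (grp_nil_le _))))))))))))))))))))))))))))))))))) (Frames.cons z_T111_s1_F (Frames.cons z_T111_s41_F (Frames.cons z_T111_s42_F (Frames.cons z_T111_s44_F (Frames.cons z_T111_s45_F Frames.nil))))) (okE_cons.2 ⟨z_g1321_ok, okE_nil _⟩) _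

noncomputable def yt_c123_cnt_t : BT := (BT.fix (nat_lit 1) (BT.frm (nat_lit 0) (nat_lit 515) (nat_lit 515) [nat_lit 0] (BT.pln (nat_lit 0) (nat_lit 1) (BT.fix (nat_lit 0x10101010101) (BT.and (nat_lit 1) (nat_lit 0) (BT.fix (nat_lit 257) (BT.dif (nat_lit 1) (nat_lit 0) (BT.br (nat_lit 0) (nat_lit 286) [nat_lit 1] (BT.kid (nat_lit 286) (nat_lit 4) (BT.frm (nat_lit 1) (nat_lit 0x250203) (nat_lit 0x250203) [nat_lit 0, nat_lit 7] (BT.pln (nat_lit 0) (nat_lit 7) (BT.and (nat_lit 7) (nat_lit 0) (BT.br (nat_lit 0) (nat_lit 214) [nat_lit 3] (BT.dead (nat_lit 289) (BT.fix (nat_lit 65793) (BT.img (nat_lit 1) (nat_lit 5) (BT.frm (nat_lit 2) (nat_lit 0x3d3f42250203) (nat_lit 0x3d3f42250203) [nat_lit 0, nat_lit 6, nat_lit 13] (BT.pln (nat_lit 0) (nat_lit 12) (BT.and (nat_lit 3) (nat_lit 0) (BT.img (nat_lit 1) (nat_lit 0) (BT.and (nat_lit 5) (nat_lit 0) (BT.frm (nat_lit 3) (nat_lit 0x41433d3f42250203)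 (nat_lit 0x41443d3f42250203) [nat_lit 7, nat_lit 0, nat_lit 5, nat_lit 11, nat_lit 18] (BT.pln (nat_lit 0) (nat_lit 6) (BT.img (nat_lit 1) (nat_lit 9) (BT.and (nat_lit 1) (nat_lit 0) (BT.cnt (nat_lit 0))))))))))))) (BT.kid (nat_lit 214) (nat_lit 1) (BT.pln (nat_lit 10) (nat_lit 2) (BT.img (nat_lit 1) (nat_lit 5) (BT.frm (nat_lit 2) (nat_lit 0x3d3f42250203) (nat_lit 0x3d3f42250203) [nat_lit 0, nat_lit 6, nat_lit 13] (BT.pln (nat_lit 0) (nat_lit 7) (BT.and (nat_lit 3) (nat_lit 0) (BT.fix (nat_lit 65793) (BT.pln (nat_lit 3) (nat_lit 12) (BT.and (nat_lit 1) (nat_lit 0) (BT.img (nat_lit 1) (nat_lit 0) (BT.and (nat_lit 3) (nat_lit 0) (BT.frm (nat_lit 3) (nat_lit 0x41433d3f42250203) (nat_lit 0x41433d3f42250203) [nat_lit 10, nat_lit 0, nat_lit 8, nat_lit 14, nat_lit 21] (BT.pln (nat_lit 0) (nat_lit 5) (BT.and (nat_lit 7) (nat_lit 0) (BT.pln (nat_lit 2) (nat_lit 6) (BT.dif (nat_lit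 1) (nat_lit 0) (BT.pln (nat_lit 12) (nat_lit 3) (BT.and (nat_lit 15) (nat_lit 0) (BT.pln (nat_lit 6) (nat_lit 11) (BT.and (nat_lit 1) (nat_lit 0) (BT.dif (nat_lit 0) (nat_lit 5) (BT.pln (nat_lit 9) (nat_lit 7) (BT.dif (nat_lit 1) (nat_lit 0) (BT.img (nat_lit 1) (nat_lit 0) (BT.and (nat_lit 8) (nat_lit 0) (BT.one (nat_lit 4) (nat_lit 0x41433d3f42250203) (nat_lit 0x41433d3f42250203) [nat_lit 0, nat_lit 24, nat_lit 14, nat_lit 22, nat_lit 28, nat_lit 35]))))))))))))))))))))))))) BT.nil)))))) BT.nil)))))))))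

theorem yt_c123_cnt : Cnt 324 (grp 324 y_E0) [z_g1321] [z_g1321] 0 0 0 0 24 :=
  BT.sound yt_c123_cnt_P Known.nil (t := yt_c123_cnt_t) (d := 0) (by decide +kernel)

theorem yt_c123_ge : 24 ≤ Nat.card (grp 324 yt_c123_K) :=
  Ch.le_card_grp (k := 9) (L := (lab 324 9)) z_hn yt_c123_K_ok (c := (Ch.cons (nat_lit 286) [nat_lit 1] (Ch.cons (nat_lit 214) [nat_lit 3] Ch.nil))) (by decide +kernel)

theorem yt_c123_eq : (grp 324 y_E0) ⊓ Subgroup.centralizer {Net.toPerm 324 z_g1321} = grp 324 yt_c123_K :=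
  cent_eq yt_c123_sym yt_c123_cnt yt_c123_ge

theorem yt_c123_card : Nat.card ↥((grp 324 y_E0) ⊓ Subgroup.centralizer {Net.toPerm 324 z_g1321}) = 24 :=
  card_cent yt_c123_sym yt_c123_cnt yt_c123_ge

theorem yt_c123_ord : orderOf (Net.toPerm 324 z_g1321) = 12 :=
  orderOf_net z_hn z_hk z_g1321_ok (by decide) (ps := [2, 3]) (by set_option linter.unusedSimpArgs false in simp [Nat.primeFactorsList_ofNat]) (by decide +kernel)

theorem z_le1327 : grp 324 yt_c124_K ≤ grp 324 y_E0 :=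
  grp_le_of_memB z_hn z_hk y_E0_ok yt_c124_K_ok (ws := [nat_lit 0x3b29191f0f070c0116, nat_lit 0x34352f2819201c12021501, nat_lit 0x332f26281f191e0707013c02]) (by decide +kernel)

theorem yt_c124_le : grp 324 yt_c124_K ≤ (grp 324 y_E0) :=
  (z_le1327.trans z_T111_s0.le)

theorem yt_c124_mem : Net.toPerm 324 z_g1324 ∈ (grp 324 y_E0) :=
  yt_c124_le (toPerm_mem_grp (E := yt_c124_K) (List.Mem.head _))

theorem yt_c124_sym : Sym 324 (grp 324 y_E0) [z_g1324] yt_c124_K 0 :=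
  Sym.of_lab z_hn z_hk (okE_cons.2 ⟨z_g1324_ok, okE_nil _⟩) yt_c124_K_ok yt_c124_le (kT := 0) (by decide +kernel)

noncomputable def yt_c124_cnt_L : List ℕ := [2, 11, z_T111_s49_O, 0, 0, 4, 10, z_T111_s153_O, 0, 0, 5, 14, z_T111_s154_O, 1, 0]

theorem yt_c124_cnt_P : Prob 324 9 (grp 324 y_E0) yt_c124_cnt_EG [z_g1324] [z_g1324] yt_c124_K yt_c124_cnt_L 0 0 :=
  Sym.prob z_hn z_hk yt_c124_sym yt_c124_cnt_EG_ok (grp_cons_le z_g43_z_T111 (grp_cons_le z_g42_z_T111 (grp_cons_le zg2_z_T111 (grp_cons_le z_g44_z_T111 (grp_cons_le z_g54_z_T111 (grp_cons_le z_g55_z_T111 (grp_cons_le z_g49_z_T111 (grp_cons_le z_g50_z_T111 (grp_cons_le z_g51_z_T111 (grp_cons_le z_g62_z_T111 (grp_cons_le z_g58_z_T111 (grp_cons_le z_g59_z_T111 (grp_cons_le z_g65_z_T111 (grp_cons_le z_g66_z_T111 (grp_cons_le z_g67_z_T111 (grp_cons_le z_g77_z_T111 (grp_cons_le z_g78_z_T111 (grp_cons_le z_g72_z_T111 (grp_cons_le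 z_g73_z_T111 (grp_cons_le z_g74_z_T111 (grp_cons_le z_g81_z_T111 (grp_cons_le z_g82_z_T111 (grp_cons_le z_g87_z_T111 (grp_cons_le zg0_z_T111 (grp_cons_le z_g91_z_T111 (grp_cons_le z_g28_z_T111 (grp_cons_le z_g88_z_T111 (grp_cons_le z_g39_z_T111 (grp_cons_le zg1_z_T111 (grp_cons_le zg3_z_T111 (grp_cons_le z_g1038_z_T111 (grp_cons_le z_g1039_z_T111 (grp_cons_le z_g1040_z_T111 (grp_cons_le z_g372_z_T111 (grp_cons_le z_g373_z_T111 (grp_cons_le z_g374_z_T111 (grp_cons_le z_g375_z_T111 (grp_cons_le z_g376_z_T111 (grp_cons_le z_g377_z_T111 (grp_cons_le z_g378_z_T111 (grp_nil_le _))))))))))))))))))))))))))))))))))))))))) (Frames.cons z_T111_s49_F (Frames.cons z_T111_s153_F (Frames.cons z_T111_s154_F Frames.nil))) (okE_cons.2 ⟨z_g1324_ok, okE_nil _⟩) _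

noncomputable def yt_c124_cnt_t : BT := (BT.fix (nat_lit 0x10101010101) (BT.fix (nat_lit 65793) (BT.dif (nat_lit 1) (nat_lit 0) (BT.br (nat_lit 0) (nat_lit 28) [nat_lit 1, nat_lit 3] (BT.dead (nat_lit 70) (BT.img (nat_lit 1) (nat_lit 0) (BT.frm (nat_lit 0) (nat_lit 0x10b37073b) (nat_lit 0x210373b1c) [nat_lit 0, nat_lit 1] (BT.pln (nat_lit 0) (nat_lit 2) (BT.dif (nat_lit 0) (nat_lit 6) (BT.img (nat_lit 1) (nat_lit 3) (BT.img (nat_lit 1) (nat_lit 0) (BT.frm (nat_lit 1) (nat_lit 0x3d413d44010b37073b) (nat_lit 0x3d444d0210373b1c) [nat_lit 0, nat_lit 1, nat_lit 5, nat_lit 6] (BT.pln (nat_lit 0) (nat_lit 9) (BT.and (nat_lit 4) (nat_lit 0) (BT.pln (nat_lit 2) (nat_lit 4) (BT.dif (nat_lit 1) (nat_lit 0) (BT.br (nat_lit 0) (nat_lit 62) [nat_lit 5] (BT.dead (nat_lit 154) (BT.frm (nat_lit 2) (nat_lit 0x413d413d44010b37073b) (nat_lit 0x3f423d444d0210373b1c) [nat_lit 0, nat_lit 6, nat_lit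 7, nat_lit 11, nat_lit 12] (BT.pln (nat_lit 0) (nat_lit 5) (BT.img (nat_lit 1) (nat_lit 2) (BT.img (nat_lit 1) (nat_lit 0) (BT.img (nat_lit 1) (nat_lit 0) (BT.and (nat_lit 3) (nat_lit 0) (BT.cnt (nat_lit 0)))))))) (BT.dead (nat_lit 98) (BT.frm (nat_lit 2) (nat_lit 0x413d413d44010b37073b) (nat_lit 0x3f3f3d444d0210373b1c) [nat_lit 0, nat_lit 6, nat_lit 7, nat_lit 11, nat_lit 12] (BT.pln (nat_lit 0) (nat_lit 5) (BT.img (nat_lit 1) (nat_lit 2) (BT.img (nat_lit 1) (nat_lit 0) (BT.and (nat_lit 2) (nat_lit 0) (BT.cnt (nat_lit 0))))))) (BT.dead (nat_lit 242) (BT.frm (nat_lit 2) (nat_lit 0x413d413d44010b37073b) (nat_lit 0x423d444d0210373b1c) [nat_lit 0, nat_lit 6, nat_lit 7, nat_lit 11, nat_lit 12] (BT.pln (nat_lit 0) (nat_lit 5) (BT.img (nat_lit 1) (nat_lit 2) (BT.img (nat_lit 1) (nat_lit 0) (BT.and (nat_lit 2) (nat_lit 0) (BT.cnt (nat_lit 0))))))) (BT.dead (nat_lit 227) (BT.frm (nat_lit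 2) (nat_lit 0x413d413d44010b37073b) (nat_lit 0x3f3d444d0210373b1c) [nat_lit 0, nat_lit 6, nat_lit 7, nat_lit 11, nat_lit 12] (BT.pln (nat_lit 0) (nat_lit 5) (BT.img (nat_lit 1) (nat_lit 2) (BT.and (nat_lit 1) (nat_lit 0) (BT.cnt (nat_lit 0)))))) BT.nil)))))))))))))))) (BT.kid (nat_lit 28) (nat_lit 2) (BT.img (nat_lit 1) (nat_lit 0) (BT.frm (nat_lit 0) (nat_lit 0x10b37073b) (nat_lit 0x10b37073b) [nat_lit 0, nat_lit 1] (BT.pln (nat_lit 0) (nat_lit 2) (BT.dif (nat_lit 0) (nat_lit 6) (BT.img (nat_lit 1) (nat_lit 3) (BT.img (nat_lit 1) (nat_lit 0) (BT.frm (nat_lit 1) (nat_lit 0x3d413d44010b37073b) (nat_lit 0x3d413d44010b37073b) [nat_lit 0, nat_lit 1, nat_lit 5, nat_lit 6] (BT.pln (nat_lit 0) (nat_lit 9) (BT.and (nat_lit 4) (nat_lit 0) (BT.pln (nat_lit 2) (nat_lit 4) (BT.dif (nat_lit 1) (nat_lit 0) (BT.br (nat_lit 0) (nat_lit 62) [nat_lit 5] (BT.dead (nat_lit 300) (BT.frm (nat_lit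 2) (nat_lit 0x413d413d44010b37073b) (nat_lit 0x3f423d413d44010b37073b) [nat_lit 0, nat_lit 6, nat_lit 7, nat_lit 11, nat_lit 12] (BT.pln (nat_lit 0) (nat_lit 5) (BT.img (nat_lit 1) (nat_lit 2) (BT.and (nat_lit 1) (nat_lit 0) (BT.cnt (nat_lit 0)))))) (BT.dead (nat_lit 72) (BT.frm (nat_lit 2) (nat_lit 0x413d413d44010b37073b) (nat_lit 0x3f3f3d413d44010b37073b) [nat_lit 0, nat_lit 6, nat_lit 7, nat_lit 11, nat_lit 12] (BT.pln (nat_lit 0) (nat_lit 5) (BT.img (nat_lit 1) (nat_lit 2) (BT.and (nat_lit 1) (nat_lit 0) (BT.cnt (nat_lit 0)))))) (BT.dead (nat_lit 135) (BT.frm (nat_lit 2) (nat_lit 0x413d413d44010b37073b) (nat_lit 0x3f3d413d44010b37073b) [nat_lit 0, nat_lit 6, nat_lit 7, nat_lit 11, nat_lit 12] (BT.pln (nat_lit 0) (nat_lit 5) (BT.img (nat_lit 1) (nat_lit 2) (BT.and (nat_lit 1) (nat_lit 0) (BT.cnt (nat_lit 0)))))) (BT.kid (nat_lit 62) (nat_lit 1) (BT.one (nat_lit 2) (nat_lit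 0x413d413d44010b37073b) (nat_lit 0x413d413d44010b37073b) [nat_lit 0, nat_lit 6, nat_lit 7, nat_lit 11, nat_lit 12]) BT.nil)))))))))))))))) BT.nil))))))

theorem yt_c124_cnt : Cnt 324 (grp 324 y_E0) [z_g1324] [z_g1324] 0 0 0 0 24 :=
  BT.sound yt_c124_cnt_P Known.nil (t := yt_c124_cnt_t) (d := 0) (by decide +kernel)

theorem yt_c124_ge : 24 ≤ Nat.card (grp 324 yt_c124_K) :=
  Ch.le_card_grp (k := 9) (L := (lab 324 9)) z_hn yt_c124_K_ok (c := (Ch.cons (nat_lit 28) [nat_lit 1, nat_lit 3] (Ch.cons (nat_lit 62) [nat_lit 5] Ch.nil))) (by decide +kernel)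

theorem yt_c124_eq : (grp 324 y_E0) ⊓ Subgroup.centralizer {Net.toPerm 324 z_g1324} = grp 324 yt_c124_K :=
  cent_eq yt_c124_sym yt_c124_cnt yt_c124_ge

theorem yt_c124_card : Nat.card ↥((grp 324 y_E0) ⊓ Subgroup.centralizer {Net.toPerm 324 z_g1324}) = 24 :=
  card_cent yt_c124_sym yt_c124_cnt yt_c124_ge

theorem yt_c124_ord : orderOf (Net.toPerm 324 z_g1324) = 12 :=
  orderOf_net z_hn z_hk z_g1324_ok (by decide) (ps := [2, 3]) (by set_option linter.unusedSimpArgs false in simp [Nat.primeFactorsList_ofNat]) (by decide +kernel)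

theorem z_le1331 : grp 324 yt_c125_K ≤ grp 324 y_E0 :=
  grp_le_of_memB z_hn z_hk y_E0_ok yt_c125_K_ok (ws := [nat_lit 0x333b25281f19230f1209012b, nat_lit 0x371f1d1f1507010920, nat_lit 0x333825281f19200715010301]) (by decide +kernel)

theorem yt_c125_le : grp 324 yt_c125_K ≤ (grp 324 y_E0) :=
  (z_le1331.trans z_T111_s0.le)

theorem yt_c125_mem : Net.toPerm 324 z_g1328 ∈ (grp 324 y_E0) :=
  yt_c125_le (toPerm_mem_grp (E := yt_c125_K) (List.Mem.head _))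

theorem yt_c125_sym : Sym 324 (grp 324 y_E0) [z_g1328] yt_c125_K 0 :=
  Sym.of_lab z_hn z_hk (okE_cons.2 ⟨z_g1328_ok, okE_nil _⟩) yt_c125_K_ok yt_c125_le (kT := 0) (by decide +kernel)

theorem z_le1333 : grp 324 z_V1332 ≤ grp 324 z_V352 :=
  grp_le_of_memB z_hn z_hk z_V352_ok z_V1332_ok (ws := []) (by decide +kernel)

theorem z_T111_s185 : Stab 324 (grp 324 y_E0) [nat_lit 153, nat_lit 77, nat_lit 298, nat_lit 43, nat_lit 68, nat_lit 0] z_V1332 1 :=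
  Stab.step (k := 9) (L := (lab 324 9)) z_hn z_T111_s44 z_V1332_ok z_le1333 (c := Ch.nil) (by decide +kernel)

noncomputable def z_T111_s185_O : ℕ := (nat_lit 0xfffffffffffffffff000000000000000000000000000000000000000000000000000000000000000000000000000000000ffffffffffffffffffffffffffffffff00000000000000000000000000000000f0000000000000000ffffffffffffffff0000000000000000ffffffffffffffff00000000000000000ffffffff00000000ffffffff00000000ffffffff00000000ffffffff00000000ffffffff000000000ffff0000ffff0000ffff0000ffff0000ffff0000ffff0000ffff0000ffff0000ffff0000ffff00000ff00ff00ff00ff00ff00ff00ff00ff00ff00ff00ff00ff00ff00ff00ff00ff00ff00ff00ff00ff000f0f0f0f0f0f0f0f0f0f0f0f0f0f0f0f0f0f0f0f0f0f0f0f0f0f0f0f0f0f0f0f0f0f0f0f0f0f0f0f0cccccccccccccccccccccccccccccccccccccccccccccccccccccccccccccccccccccccccccccccccaaaaaaaaaaaaaaaaaaaaaaaaaaaaaaaaaaaaaaaaaaaaaaaaaaaaaaaaaaaaaaaaaaaaaaaaaaa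aaaaaa000000000000000000000000000000000000000000000000000000000000000000000000000000001000000000000000000000000000000000000000000000000000000000000000100000000000000000000000000000000000000000000000000000000000000000000000000000000000000080000000000000000400000000000000000000000000000000000000000000000000000000000000000000000000000000000000000000000000000000000000000000000000000000000000020000000000000000000000000000000000000000000000000000000000000200000000000000000000000000000000000000)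

theorem z_T111_s185_F : Frame 324 (grp 324 y_E0) 6 15 z_T111_s185_O 1 1 :=
  IsBase.frame z_T111_s185.isBase (by decide +kernel)

noncomputable def yt_c125_cnt_L : List ℕ := [1, 4, z_T111_s1_O, 0, 0, 3, 15, z_T111_s42_O, 0, 0, 5, 12, z_T111_s44_O, 0, 0, 6, 15, z_T111_s185_O, 1, 0]

theorem yt_c125_cnt_P : Prob 324 9 (grp 324 y_E0) yt_c125_cnt_EG [z_g1328] [z_g1328] yt_c125_K yt_c125_cnt_L 0 0 :=
  Sym.prob z_hn z_hk yt_c125_sym yt_c125_cnt_EG_ok (grp_cons_le z_g39_z_T111 (grp_cons_le zg1_z_T111 (grp_cons_le zg3_z_T111 (grp_cons_le z_g43_z_T111 (grp_cons_le z_g42_z_T111 (grp_cons_le zg2_z_T111 (grp_cons_le z_g44_z_T111 (grp_cons_le z_g54_z_T111 (grp_cons_le z_g55_z_T111 (grp_cons_le z_g49_z_T111 (grp_cons_le z_g50_z_T111 (grp_cons_le z_g51_z_T111 (grp_cons_le z_g62_z_T111 (grp_cons_le z_g58_z_T111 (grp_cons_le z_g59_z_T111 (grp_cons_le z_g65_z_T111 (grp_cons_le z_g66_z_T111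 (grp_cons_le z_g67_z_T111 (grp_cons_le z_g77_z_T111 (grp_cons_le z_g78_z_T111 (grp_cons_le z_g72_z_T111 (grp_cons_le z_g73_z_T111 (grp_cons_le z_g74_z_T111 (grp_cons_le z_g81_z_T111 (grp_cons_le z_g82_z_T111 (grp_cons_le z_g87_z_T111 (grp_cons_le zg0_z_T111 (grp_cons_le z_g91_z_T111 (grp_cons_le z_g28_z_T111 (grp_cons_le z_g88_z_T111 (grp_cons_le z_g344_z_T111 (grp_cons_le z_g345_z_T111 (grp_cons_le z_g346_z_T111 (grp_cons_le z_g347_z_T111 (grp_nil_le _))))))))))))))))))))))))))))))))))) (Frames.cons z_T111_s1_F (Frames.cons z_T111_s42_F (Frames.cons z_T111_s44_F (Frames.cons z_T111_s185_F Frames.nil)))) (okE_cons.2 ⟨z_g1328_ok, okE_nil _⟩) _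

noncomputable def yt_c125_cnt_t : BT := (BT.fix (nat_lit 1) (BT.frm (nat_lit 0) (nat_lit 65799) (nat_lit 65799) [nat_lit 0] (BT.pln (nat_lit 0) (nat_lit 1) (BT.fix (nat_lit 0x10101010101) (BT.dif (nat_lit 1) (nat_lit 0) (BT.br (nat_lit 0) (nat_lit 266) [nat_lit 1, nat_lit 3] (BT.kid (nat_lit 266) (nat_lit 3) (BT.dif (nat_lit 8) (nat_lit 2) (BT.dif (nat_lit 0) (nat_lit 4) (BT.pln (nat_lit 6) (nat_lit 2) (BT.dif (nat_lit 1) (nat_lit 0) (BT.img (nat_lit 1) (nat_lit 4) (BT.img (nat_lit 1) (nat_lit 0) (BT.img (nat_lit 1) (nat_lit 0) (BT.frm (nat_lit 1) (nat_lit 0x3e420718010107) (nat_lit 0x3e420718010107) [nat_lit 2, nat_lit 7, nat_lit 12] (BT.pln (nat_lit 0) (nat_lit 7) (BT.and (nat_lit 6) (nat_lit 0) (BT.img (nat_lit 1) (nat_lit 0) (BT.and (nat_lit 8) (nat_lit 0) (BT.pln (nat_lit 4) (nat_lit 3) (BT.and (nat_lit 10) (nat_lit 0) (BT.dif (nat_lit 0) (nat_lit 3) (BT.img (nat_lit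 1) (nat_lit 3) (BT.dif (nat_lit 1) (nat_lit 0) (BT.img (nat_lit 1) (nat_lit 0) (BT.and (nat_lit 8) (nat_lit 0) (BT.img (nat_lit 1) (nat_lit 0) (BT.and (nat_lit 8) (nat_lit 0) (BT.frm (nat_lit 2) (nat_lit 0x41414040443e420718010107) (nat_lit 0x41414040443e420718010107) [nat_lit 14, nat_lit 0, nat_lit 16, nat_lit 21, nat_lit 26] (BT.pln (nat_lit 0) (nat_lit 9) (BT.dif (nat_lit 19) (nat_lit 0) (BT.pln (nat_lit 2) (nat_lit 5) (BT.and (nat_lit 1) (nat_lit 0) (BT.pln (nat_lit 4) (nat_lit 6) (BT.and (nat_lit 1) (nat_lit 0) (BT.pln (nat_lit 6) (nat_lit 8) (BT.and (nat_lit 1) (nat_lit 0) (BT.pln (nat_lit 8) (nat_lit 10) (BT.dif (nat_lit 1) (nat_lit 0) (BT.br (nat_lit 0) (nat_lit 115) [nat_lit 5] (BT.kid (nat_lit 115) (nat_lit 1) (BT.one (nat_lit 3) (nat_lit 0x4341414040443e420718010107) (nat_lit 0x4341414040443e420718010107) [nat_lit 0, nat_lit 26, nat_lit 12, nat_lit 28, nat_lit 33,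 nat_lit 38]) BT.nil)))))))))))))))))))))))))))))))))) BT.nil)))))))

theorem yt_c125_cnt : Cnt 324 (grp 324 y_E0) [z_g1328] [z_g1328] 0 0 0 0 162 :=
  BT.sound yt_c125_cnt_P Known.nil (t := yt_c125_cnt_t) (d := 0) (by decide +kernel)

theorem yt_c125_ge : 162 ≤ Nat.card (grp 324 yt_c125_K) :=
  Ch.le_card_grp (k := 9) (L := (lab 324 9)) z_hn yt_c125_K_ok (c := (Ch.cons (nat_lit 266) [nat_lit 1, nat_lit 3] (Ch.cons (nat_lit 115) [nat_lit 5] Ch.nil))) (by decide +kernel)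

theorem yt_c125_eq : (grp 324 y_E0) ⊓ Subgroup.centralizer {Net.toPerm 324 z_g1328} = grp 324 yt_c125_K :=
  cent_eq yt_c125_sym yt_c125_cnt yt_c125_ge

theorem yt_c125_card : Nat.card ↥((grp 324 y_E0) ⊓ Subgroup.centralizer {Net.toPerm 324 z_g1328}) = 162 :=
  card_cent yt_c125_sym yt_c125_cnt yt_c125_ge

theorem yt_c125_ord : orderOf (Net.toPerm 324 z_g1328) = 18 :=
  orderOf_net z_hn z_hk z_g1328_ok (by decide) (ps := [2, 3]) (by set_option linter.unusedSimpArgs false in simp [Nat.primeFactorsList_ofNat]) (by decide +kernel)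

theorem z_le1338 : grp 324 yt_c126_K ≤ grp 324 y_E0 :=
  grp_le_of_memB z_hn z_hk y_E0_ok yt_c126_K_ok (ws := [nat_lit 0x352f291f1a2011090209, nat_lit 0x33392f291f190f070a050238, nat_lit 0x333525281f1d11011101, nat_lit 0x33353c2f2719221a]) (by decide +kernel)

theorem yt_c126_le : grp 324 yt_c126_K ≤ (grp 324 y_E0) :=
  (z_le1338.trans z_T111_s0.le)

theorem yt_c126_mem : Net.toPerm 324 z_g1334 ∈ (grp 324 y_E0) :=
  yt_c126_le (toPerm_mem_grp (E := yt_c126_K) (List.Mem.head _))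

theorem yt_c126_sym : Sym 324 (grp 324 y_E0) [z_g1334] yt_c126_K 0 :=
  Sym.of_lab z_hn z_hk (okE_cons.2 ⟨z_g1334_ok, okE_nil _⟩) yt_c126_K_ok yt_c126_le (kT := 0) (by decide +kernel)

noncomputable def yt_c126_cnt_L : List ℕ := [1, 4, z_T111_s1_O, 0, 0, 4, 10, z_T111_s58_O, 0, 0, 5, 12, z_T111_s59_O, 0, 0, 6, 15, z_T111_s60_O, 1, 0]

theorem yt_c126_cnt_P : Prob 324 9 (grp 324 y_E0) yt_c126_cnt_EG [z_g1334] [z_g1334] yt_c126_K yt_c126_cnt_L 0 0 :=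
  Sym.prob z_hn z_hk yt_c126_sym yt_c126_cnt_EG_ok (grp_cons_le z_g39_z_T111 (grp_cons_le zg1_z_T111 (grp_cons_le zg3_z_T111 (grp_cons_le z_g43_z_T111 (grp_cons_le z_g42_z_T111 (grp_cons_le zg2_z_T111 (grp_cons_le z_g44_z_T111 (grp_cons_le z_g54_z_T111 (grp_cons_le z_g55_z_T111 (grp_cons_le z_g49_z_T111 (grp_cons_le z_g50_z_T111 (grp_cons_le z_g51_z_T111 (grp_cons_le z_g62_z_T111 (grp_cons_le z_g58_z_T111 (grp_cons_le z_g59_z_T111 (grp_cons_le z_g65_z_T111 (grp_cons_le z_g66_z_T111 (grp_cons_le z_g67_z_T111 (grp_cons_le z_g77_z_T111 (grp_cons_le z_g78_z_T111 (grp_cons_le z_g72_z_T111 (grp_cons_le z_g73_z_T111 (grp_cons_le z_g74_z_T111 (grp_cons_le z_g81_z_T111 (grp_cons_le z_g82_z_T111 (grp_cons_le z_g87_z_T111 (grp_cons_le zg0_z_T111 (grp_cons_le z_g91_z_T111 (grp_cons_le z_g28_z_T111 (grp_cons_le z_g88_z_T111 (grp_cons_le z_g424_z_T111 (grp_cons_le z_g425_z_T111 (grp_cons_le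 z_g426_z_T111 (grp_cons_le z_g427_z_T111 (grp_nil_le _))))))))))))))))))))))))))))))))))) (Frames.cons z_T111_s1_F (Frames.cons z_T111_s58_F (Frames.cons z_T111_s59_F (Frames.cons z_T111_s60_F Frames.nil)))) (okE_cons.2 ⟨z_g1334_ok, okE_nil _⟩) _

noncomputable def yt_c126_cnt_t : BT := (BT.fix (nat_lit 1) (BT.frm (nat_lit 0) (nat_lit 285) (nat_lit 285) [nat_lit 0] (BT.pln (nat_lit 0) (nat_lit 3) (BT.fix (nat_lit 257) (BT.dif (nat_lit 1) (nat_lit 0) (BT.br (nat_lit 0) (nat_lit 229) [nat_lit 1] (BT.kid (nat_lit 229) (nat_lit 27) (BT.pln (nat_lit 4) (nat_lit 1) (BT.fix (nat_lit 0x10101010101) (BT.and (nat_lit 1) (nat_lit 0) (BT.dif (nat_lit 0) (nat_lit 5) (BT.br (nat_lit 0) (nat_lit 292) [nat_lit 3] (BT.dead (nat_lit 278) (BT.dif (nat_lit 13) (nat_lit 3) (BT.dif (nat_lit 0) (nat_lit 5) (BT.pln (nat_lit 11) (nat_lit 2) (BT.dif (nat_lit 1) (nat_lit 0) (BT.img (nat_lit 1) (nat_lit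 9) (BT.frm (nat_lit 1) (nat_lit 0x19331507011d) (nat_lit 0x191b1507011d) [nat_lit 5, nat_lit 0, nat_lit 10, nat_lit 15] (BT.pln (nat_lit 0) (nat_lit 4) (BT.dif (nat_lit 3) (nat_lit 0) (BT.pln (nat_lit 2) (nat_lit 5) (BT.dif (nat_lit 1) (nat_lit 0) (BT.br (nat_lit 0) (nat_lit 56) [nat_lit 5, nat_lit 8] (BT.dead (nat_lit 47) (BT.frm (nat_lit 2) (nat_lit 0x3f3e19331507011d) (nat_lit 0x3e3f3e191b1507011d) [nat_lit 0, nat_lit 11, nat_lit 6, nat_lit 16, nat_lit 21] (BT.pln (nat_lit 0) (nat_lit 5) (BT.img (nat_lit 1) (nat_lit 2) (BT.img (nat_lit 1) (nat_lit 0) (BT.img (nat_lit 1) (nat_lit 0) (BT.and (nat_lit 3) (nat_lit 0) (BT.cnt (nat_lit 0)))))))) (BT.dead (nat_lit 29) (BT.frm (nat_lit 2) (nat_lit 0x3f3e19331507011d) (nat_lit 0x3e403e191b1507011d) [nat_lit 0, nat_lit 11, nat_lit 6, nat_lit 16, nat_lit 21] (BT.pln (nat_lit 0) (nat_lit 5) (BT.img (nat_lit 1) (nat_lit 2) (BT.img (nat_lit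 1) (nat_lit 0) (BT.img (nat_lit 1) (nat_lit 0) (BT.and (nat_lit 3) (nat_lit 0) (BT.cnt (nat_lit 0)))))))) (BT.dead (nat_lit 1) (BT.frm (nat_lit 2) (nat_lit 0x3f3e19331507011d) (nat_lit 0x3d191b1507011d) [nat_lit 0, nat_lit 11, nat_lit 6, nat_lit 16, nat_lit 21] (BT.pln (nat_lit 0) (nat_lit 5) (BT.img (nat_lit 1) (nat_lit 2) (BT.img (nat_lit 1) (nat_lit 0) (BT.img (nat_lit 1) (nat_lit 0) (BT.and (nat_lit 3) (nat_lit 0) (BT.cnt (nat_lit 0)))))))) BT.nil)))))))))))))) (BT.dead (nat_lit 98) (BT.img (nat_lit 1) (nat_lit 5) (BT.frm (nat_lit 1) (nat_lit 0x19331507011d) (nat_lit 0x1a2b1507011d) [nat_lit 1, nat_lit 0, nat_lit 6, nat_lit 11] (BT.pln (nat_lit 0) (nat_lit 4) (BT.and (nat_lit 0) (nat_lit 10) (BT.cnt (nat_lit 0)))))) (BT.dead (nat_lit 268) (BT.img (nat_lit 1) (nat_lit 5) (BT.frm (nat_lit 1) (nat_lit 0x19331507011d) (nat_lit 0x391507011d) [nat_lit 1, nat_lit 0, nat_lit 6,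 nat_lit 11] (BT.pln (nat_lit 0) (nat_lit 4) (BT.and (nat_lit 0) (nat_lit 10) (BT.cnt (nat_lit 0)))))) (BT.kid (nat_lit 292) (nat_lit 9) (BT.dif (nat_lit 13) (nat_lit 3) (BT.dif (nat_lit 0) (nat_lit 5) (BT.pln (nat_lit 11) (nat_lit 2) (BT.dif (nat_lit 1) (nat_lit 0) (BT.img (nat_lit 1) (nat_lit 9) (BT.frm (nat_lit 1) (nat_lit 0x19331507011d) (nat_lit 0x19331507011d) [nat_lit 5, nat_lit 0, nat_lit 10, nat_lit 15] (BT.pln (nat_lit 0) (nat_lit 4) (BT.dif (nat_lit 3) (nat_lit 0) (BT.pln (nat_lit 2) (nat_lit 5) (BT.dif (nat_lit 1) (nat_lit 0) (BT.br (nat_lit 0) (nat_lit 56) [nat_lit 5, nat_lit 7] (BT.dead (nat_lit 83) (BT.pln (nat_lit 5) (nat_lit 6) (BT.and (nat_lit 0) (nat_lit 5) (BT.and (nat_lit 0) (nat_lit 4) (BT.frm (nat_lit 2) (nat_lit 0x3f3e19331507011d) (nat_lit 0x3e403d19331507011d) [nat_lit 3, nat_lit 14, nat_lit 9, nat_lit 19, nat_lit 24] (BT.pln (nat_lit 0) (nat_lit 7)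 (BT.dif (nat_lit 2) (nat_lit 0) (BT.pln (nat_lit 11) (nat_lit 7) (BT.dif (nat_lit 1) (nat_lit 0) (BT.pln (nat_lit 4) (nat_lit 10) (BT.pln (nat_lit 5) (nat_lit 8) (BT.and (nat_lit 1) (nat_lit 0) (BT.pln (nat_lit 7) (nat_lit 5) (BT.and (nat_lit 1) (nat_lit 0) (BT.pln (nat_lit 9) (nat_lit 6) (BT.and (nat_lit 1) (nat_lit 0) (BT.dif (nat_lit 0) (nat_lit 10) (BT.pln (nat_lit 12) (nat_lit 9) (BT.dif (nat_lit 1) (nat_lit 0) (BT.img (nat_lit 1) (nat_lit 0) (BT.and (nat_lit 11) (nat_lit 0) (BT.frm (nat_lit 3) (nat_lit 0x413f3e19331507011d) (nat_lit 0x42433e403d19331507011d) [nat_lit 0, nat_lit 20, nat_lit 31, nat_lit 26, nat_lit 36, nat_lit 41] (BT.pln (nat_lit 0) (nat_lit 6) (BT.img (nat_lit 1) (nat_lit 22) (BT.img (nat_lit 1) (nat_lit 0) (BT.and (nat_lit 2) (nat_lit 0) (BT.cnt (nat_lit 0))))))))))))))))))))))))))) (BT.dead (nat_lit 60) (BT.pln (nat_lit 5) (nat_lit 6) (BT.and (nat_lit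 0) (nat_lit 5) (BT.and (nat_lit 0) (nat_lit 4) (BT.frm (nat_lit 2) (nat_lit 0x3f3e19331507011d) (nat_lit 0x3e4019331507011d) [nat_lit 3, nat_lit 14, nat_lit 9, nat_lit 19, nat_lit 24] (BT.pln (nat_lit 0) (nat_lit 7) (BT.dif (nat_lit 2) (nat_lit 0) (BT.pln (nat_lit 11) (nat_lit 7) (BT.dif (nat_lit 1) (nat_lit 0) (BT.pln (nat_lit 4) (nat_lit 10) (BT.pln (nat_lit 5) (nat_lit 8) (BT.and (nat_lit 1) (nat_lit 0) (BT.pln (nat_lit 7) (nat_lit 5) (BT.and (nat_lit 1) (nat_lit 0) (BT.pln (nat_lit 9) (nat_lit 6) (BT.and (nat_lit 1) (nat_lit 0) (BT.dif (nat_lit 0) (nat_lit 10) (BT.pln (nat_lit 12) (nat_lit 9) (BT.dif (nat_lit 1) (nat_lit 0) (BT.img (nat_lit 1) (nat_lit 0) (BT.and (nat_lit 11) (nat_lit 0) (BT.frm (nat_lit 3) (nat_lit 0x413f3e19331507011d) (nat_lit 0x42433e4019331507011d) [nat_lit 0, nat_lit 20, nat_lit 31, nat_lit 26, nat_lit 36, nat_lit 41] (BT.pln (nat_lit 0) (nat_lit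 6) (BT.img (nat_lit 1) (nat_lit 22) (BT.img (nat_lit 1) (nat_lit 0) (BT.and (nat_lit 2) (nat_lit 0) (BT.cnt (nat_lit 0))))))))))))))))))))))))))) (BT.kid (nat_lit 56) (nat_lit 1) (BT.pln (nat_lit 5) (nat_lit 6) (BT.and (nat_lit 0) (nat_lit 5) (BT.and (nat_lit 0) (nat_lit 4) (BT.frm (nat_lit 2) (nat_lit 0x3f3e19331507011d) (nat_lit 0x3f3e19331507011d) [nat_lit 3, nat_lit 14, nat_lit 9, nat_lit 19, nat_lit 24] (BT.pln (nat_lit 0) (nat_lit 7) (BT.dif (nat_lit 2) (nat_lit 0) (BT.pln (nat_lit 11) (nat_lit 7) (BT.dif (nat_lit 1) (nat_lit 0) (BT.pln (nat_lit 4) (nat_lit 10) (BT.pln (nat_lit 5) (nat_lit 8) (BT.and (nat_lit 1) (nat_lit 0) (BT.pln (nat_lit 7) (nat_lit 5) (BT.and (nat_lit 1) (nat_lit 0) (BT.pln (nat_lit 9) (nat_lit 6) (BT.and (nat_lit 1) (nat_lit 0) (BT.dif (nat_lit 0) (nat_lit 10) (BT.pln (nat_lit 12) (nat_lit 9) (BT.dif (nat_lit 1) (nat_lit 0) (BT.img (nat_lit 1) (nat_lit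 0) (BT.and (nat_lit 11) (nat_lit 0) (BT.one (nat_lit 3) (nat_lit 0x413f3e19331507011d) (nat_lit 0x413f3e19331507011d) [nat_lit 0, nat_lit 20, nat_lit 31, nat_lit 26, nat_lit 36, nat_lit 41]))))))))))))))))))))) BT.nil)))))))))))))) BT.nil))))))))) BT.nil)))))))

theorem yt_c126_cnt : Cnt 324 (grp 324 y_E0) [z_g1334] [z_g1334] 0 0 0 0 162 :=
  BT.sound yt_c126_cnt_P Known.nil (t := yt_c126_cnt_t) (d := 0) (by decide +kernel)

theorem yt_c126_ge : 162 ≤ Nat.card (grp 324 yt_c126_K) :=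
  Ch.le_card_grp (k := 9) (L := (lab 324 9)) z_hn yt_c126_K_ok (c := (Ch.cons (nat_lit 229) [nat_lit 1] (Ch.cons (nat_lit 292) [nat_lit 3] (Ch.cons (nat_lit 56) [nat_lit 5, nat_lit 7] Ch.nil)))) (by decide +kernel)

theorem yt_c126_eq : (grp 324 y_E0) ⊓ Subgroup.centralizer {Net.toPerm 324 z_g1334} = grp 324 yt_c126_K :=
  cent_eq yt_c126_sym yt_c126_cnt yt_c126_ge

theorem yt_c126_card : Nat.card ↥((grp 324 y_E0) ⊓ Subgroup.centralizer {Net.toPerm 324 z_g1334}) = 162 :=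
  card_cent yt_c126_sym yt_c126_cnt yt_c126_ge

theorem yt_c126_ord : orderOf (Net.toPerm 324 z_g1334) = 18 :=
  orderOf_net z_hn z_hk z_g1334_ok (by decide) (ps := [2, 3]) (by set_option linter.unusedSimpArgs false in simp [Nat.primeFactorsList_ofNat]) (by decide +kernel)

theorem z_le1342 : grp 324 yt_c127_K ≤ grp 324 y_E0 :=
  grp_le_of_memB z_hn z_hk y_E0_ok yt_c127_K_ok (ws := [nat_lit 0x352f271f1a200f080301, nat_lit 0x34352f261f19191509010522, nat_lit 0x372f29191c, nat_lit 0x33353c2f271f191b1b]) (by decide +kernel)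

theorem yt_c127_le : grp 324 yt_c127_K ≤ (grp 324 y_E0) :=
  (z_le1342.trans z_T111_s0.le)

theorem yt_c127_mem : Net.toPerm 324 z_g1339 ∈ (grp 324 y_E0) :=
  yt_c127_le (toPerm_mem_grp (E := yt_c127_K) (List.Mem.head _))

theorem yt_c127_sym : Sym 324 (grp 324 y_E0) [z_g1339] yt_c127_K 0 :=
  Sym.of_lab z_hn z_hk (okE_cons.2 ⟨z_g1339_ok, okE_nil _⟩) yt_c127_K_ok yt_c127_le (kT := 0) (by decide +kernel)

noncomputable def yt_c127_cnt_L : List ℕ := [1, 4, z_T111_s1_O, 0, 0, 4, 10, z_T111_s58_O, 0, 0, 5, 12, z_T111_s59_O, 0, 0, 6, 15, z_T111_s60_O, 1, 0]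

theorem yt_c127_cnt_P : Prob 324 9 (grp 324 y_E0) yt_c127_cnt_EG [z_g1339] [z_g1339] yt_c127_K yt_c127_cnt_L 0 0 :=
  Sym.prob z_hn z_hk yt_c127_sym yt_c127_cnt_EG_ok (grp_cons_le z_g39_z_T111 (grp_cons_le zg1_z_T111 (grp_cons_le zg3_z_T111 (grp_cons_le z_g43_z_T111 (grp_cons_le z_g42_z_T111 (grp_cons_le zg2_z_T111 (grp_cons_le z_g44_z_T111 (grp_cons_le z_g54_z_T111 (grp_cons_le z_g55_z_T111 (grp_cons_le z_g49_z_T111 (grp_cons_le z_g50_z_T111 (grp_cons_le z_g51_z_T111 (grp_cons_le z_g62_z_T111 (grp_cons_le z_g58_z_T111 (grp_cons_le z_g59_z_T111 (grp_cons_le z_g65_z_T111 (grp_cons_le z_g66_z_T111 (grp_cons_le z_g67_z_T111 (grp_cons_le z_g77_z_T111 (grp_cons_le z_g78_z_T111 (grp_cons_le z_g72_z_T111 (grp_cons_le z_g73_z_T111 (grp_cons_le z_g74_z_T111 (grp_cons_le z_g81_z_T111 (grp_cons_le z_g82_z_T111 (grp_cons_le z_g87_z_T111 (grp_cons_le zg0_z_T111 (grp_cons_le z_g91_z_T111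 (grp_cons_le z_g28_z_T111 (grp_cons_le z_g88_z_T111 (grp_cons_le z_g424_z_T111 (grp_cons_le z_g425_z_T111 (grp_cons_le z_g426_z_T111 (grp_cons_le z_g427_z_T111 (grp_nil_le _))))))))))))))))))))))))))))))))))) (Frames.cons z_T111_s1_F (Frames.cons z_T111_s58_F (Frames.cons z_T111_s59_F (Frames.cons z_T111_s60_F Frames.nil)))) (okE_cons.2 ⟨z_g1339_ok, okE_nil _⟩) _

noncomputable def yt_c127_cnt_t : BT := (BT.fix (nat_lit 1) (BT.frm (nat_lit 0) (nat_lit 285) (nat_lit 285) [nat_lit 0] (BT.pln (nat_lit 0) (nat_lit 3) (BT.fix (nat_lit 257) (BT.dif (nat_lit 1) (nat_lit 0) (BT.br (nat_lit 0) (nat_lit 229) [nat_lit 1] (BT.kid (nat_lit 229) (nat_lit 27) (BT.pln (nat_lit 4) (nat_lit 1) (BT.fix (nat_lit 0x10101010101) (BT.and (nat_lit 1) (nat_lit 0) (BT.dif (nat_lit 0) (nat_lit 5) (BT.br (nat_lit 0) (nat_lit 292) [nat_lit 3] (BT.dead (nat_lit 116) (BT.dif (nat_lit 13) (nat_lit 3) (BT.dif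 (nat_lit 0) (nat_lit 5) (BT.pln (nat_lit 11) (nat_lit 2) (BT.dif (nat_lit 1) (nat_lit 0) (BT.img (nat_lit 1) (nat_lit 9) (BT.frm (nat_lit 1) (nat_lit 0x19331507011d) (nat_lit 0x221507011d) [nat_lit 5, nat_lit 0, nat_lit 10, nat_lit 15] (BT.pln (nat_lit 0) (nat_lit 4) (BT.dif (nat_lit 3) (nat_lit 0) (BT.pln (nat_lit 2) (nat_lit 5) (BT.dif (nat_lit 1) (nat_lit 0) (BT.br (nat_lit 0) (nat_lit 56) [nat_lit 6, nat_lit 8] (BT.dead (nat_lit 47) (BT.frm (nat_lit 2) (nat_lit 0x3f3e19331507011d) (nat_lit 0x3d3f3e40221507011d) [nat_lit 0, nat_lit 11, nat_lit 6, nat_lit 16, nat_lit 21] (BT.pln (nat_lit 0) (nat_lit 5) (BT.img (nat_lit 1) (nat_lit 2) (BT.img (nat_lit 1) (nat_lit 0) (BT.img (nat_lit 1) (nat_lit 0) (BT.and (nat_lit 3) (nat_lit 0) (BT.cnt (nat_lit 0)))))))) (BT.dead (nat_lit 29) (BT.frm (nat_lit 2) (nat_lit 0x3f3e19331507011d) (nat_lit 0x3f3d40221507011d) [nat_lit 0, nat_lit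 11, nat_lit 6, nat_lit 16, nat_lit 21] (BT.pln (nat_lit 0) (nat_lit 5) (BT.img (nat_lit 1) (nat_lit 2) (BT.img (nat_lit 1) (nat_lit 0) (BT.img (nat_lit 1) (nat_lit 0) (BT.and (nat_lit 3) (nat_lit 0) (BT.cnt (nat_lit 0)))))))) (BT.dead (nat_lit 1) (BT.frm (nat_lit 2) (nat_lit 0x3f3e19331507011d) (nat_lit 0x3e221507011d) [nat_lit 0, nat_lit 11, nat_lit 6, nat_lit 16, nat_lit 21] (BT.pln (nat_lit 0) (nat_lit 5) (BT.img (nat_lit 1) (nat_lit 2) (BT.img (nat_lit 1) (nat_lit 0) (BT.img (nat_lit 1) (nat_lit 0) (BT.and (nat_lit 3) (nat_lit 0) (BT.cnt (nat_lit 0)))))))) BT.nil)))))))))))))) (BT.dead (nat_lit 114) (BT.img (nat_lit 1) (nat_lit 5) (BT.frm (nat_lit 1) (nat_lit 0x19331507011d) (nat_lit 0x19341507011d) [nat_lit 1, nat_lit 0, nat_lit 6, nat_lit 11] (BT.pln (nat_lit 0) (nat_lit 4) (BT.and (nat_lit 0) (nat_lit 10) (BT.cnt (nat_lit 0)))))) (BT.dead (nat_lit 268) (BT.img (nat_lit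 1) (nat_lit 5) (BT.frm (nat_lit 1) (nat_lit 0x19331507011d) (nat_lit 0x391507011d) [nat_lit 1, nat_lit 0, nat_lit 6, nat_lit 11] (BT.pln (nat_lit 0) (nat_lit 4) (BT.and (nat_lit 0) (nat_lit 10) (BT.cnt (nat_lit 0)))))) (BT.kid (nat_lit 292) (nat_lit 9) (BT.dif (nat_lit 13) (nat_lit 3) (BT.dif (nat_lit 0) (nat_lit 5) (BT.pln (nat_lit 11) (nat_lit 2) (BT.dif (nat_lit 1) (nat_lit 0) (BT.img (nat_lit 1) (nat_lit 9) (BT.frm (nat_lit 1) (nat_lit 0x19331507011d) (nat_lit 0x19331507011d) [nat_lit 5, nat_lit 0, nat_lit 10, nat_lit 15] (BT.pln (nat_lit 0) (nat_lit 4) (BT.dif (nat_lit 3) (nat_lit 0) (BT.pln (nat_lit 2) (nat_lit 5) (BT.dif (nat_lit 1) (nat_lit 0) (BT.br (nat_lit 0) (nat_lit 56) [nat_lit 5, nat_lit 7] (BT.dead (nat_lit 83) (BT.pln (nat_lit 5) (nat_lit 6) (BT.and (nat_lit 0) (nat_lit 5) (BT.and (nat_lit 0) (nat_lit 4) (BT.frm (nat_lit 2) (nat_lit 0x3f3e19331507011d) (nat_lit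 0x3e403d19331507011d) [nat_lit 3, nat_lit 14, nat_lit 9, nat_lit 19, nat_lit 24] (BT.pln (nat_lit 0) (nat_lit 7) (BT.dif (nat_lit 2) (nat_lit 0) (BT.pln (nat_lit 11) (nat_lit 7) (BT.dif (nat_lit 1) (nat_lit 0) (BT.pln (nat_lit 4) (nat_lit 11) (BT.pln (nat_lit 5) (nat_lit 8) (BT.and (nat_lit 1) (nat_lit 0) (BT.pln (nat_lit 7) (nat_lit 5) (BT.dif (nat_lit 1) (nat_lit 0) (BT.pln (nat_lit 9) (nat_lit 6) (BT.dif (nat_lit 1) (nat_lit 0) (BT.and (nat_lit 0) (nat_lit 10) (BT.pln (nat_lit 12) (nat_lit 9) (BT.and (nat_lit 1) (nat_lit 0) (BT.img (nat_lit 1) (nat_lit 0) (BT.and (nat_lit 11) (nat_lit 0) (BT.frm (nat_lit 3) (nat_lit 0x423f3e19331507011d) (nat_lit 0x41433e403d19331507011d) [nat_lit 0, nat_lit 20, nat_lit 31, nat_lit 26, nat_lit 36, nat_lit 41] (BT.pln (nat_lit 0) (nat_lit 6) (BT.img (nat_lit 1) (nat_lit 22) (BT.img (nat_lit 1) (nat_lit 0) (BT.img (nat_lit 1) (nat_lit 0)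 (BT.img (nat_lit 1) (nat_lit 0) (BT.img (nat_lit 1) (nat_lit 0) (BT.and (nat_lit 5) (nat_lit 0) (BT.cnt (nat_lit 0)))))))))))))))))))))))))))))) (BT.dead (nat_lit 60) (BT.pln (nat_lit 5) (nat_lit 6) (BT.and (nat_lit 0) (nat_lit 5) (BT.and (nat_lit 0) (nat_lit 4) (BT.frm (nat_lit 2) (nat_lit 0x3f3e19331507011d) (nat_lit 0x3e4019331507011d) [nat_lit 3, nat_lit 14, nat_lit 9, nat_lit 19, nat_lit 24] (BT.pln (nat_lit 0) (nat_lit 7) (BT.dif (nat_lit 2) (nat_lit 0) (BT.pln (nat_lit 11) (nat_lit 7) (BT.dif (nat_lit 1) (nat_lit 0) (BT.pln (nat_lit 4) (nat_lit 11) (BT.pln (nat_lit 5) (nat_lit 8) (BT.and (nat_lit 1) (nat_lit 0) (BT.pln (nat_lit 7) (nat_lit 5) (BT.dif (nat_lit 1) (nat_lit 0) (BT.pln (nat_lit 9) (nat_lit 6) (BT.dif (nat_lit 1) (nat_lit 0) (BT.and (nat_lit 0) (nat_lit 10) (BT.pln (nat_lit 12) (nat_lit 9) (BT.and (nat_lit 1) (nat_lit 0) (BT.img (nat_lit 1) (nat_lit 0) (BT.and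 (nat_lit 11) (nat_lit 0) (BT.frm (nat_lit 3) (nat_lit 0x423f3e19331507011d) (nat_lit 0x42433e4019331507011d) [nat_lit 0, nat_lit 20, nat_lit 31, nat_lit 26, nat_lit 36, nat_lit 41] (BT.pln (nat_lit 0) (nat_lit 6) (BT.img (nat_lit 1) (nat_lit 22) (BT.img (nat_lit 1) (nat_lit 0) (BT.and (nat_lit 2) (nat_lit 0) (BT.cnt (nat_lit 0))))))))))))))))))))))))))) (BT.kid (nat_lit 56) (nat_lit 1) (BT.pln (nat_lit 5) (nat_lit 6) (BT.and (nat_lit 0) (nat_lit 5) (BT.and (nat_lit 0) (nat_lit 4) (BT.frm (nat_lit 2) (nat_lit 0x3f3e19331507011d) (nat_lit 0x3f3e19331507011d) [nat_lit 3, nat_lit 14, nat_lit 9, nat_lit 19, nat_lit 24] (BT.pln (nat_lit 0) (nat_lit 7) (BT.dif (nat_lit 2) (nat_lit 0) (BT.pln (nat_lit 11) (nat_lit 7) (BT.dif (nat_lit 1) (nat_lit 0) (BT.pln (nat_lit 4) (nat_lit 11) (BT.pln (nat_lit 5) (nat_lit 8) (BT.and (nat_lit 1) (nat_lit 0) (BT.pln (nat_lit 7) (nat_lit 5) (BT.dif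 (nat_lit 1) (nat_lit 0) (BT.pln (nat_lit 9) (nat_lit 6) (BT.dif (nat_lit 1) (nat_lit 0) (BT.and (nat_lit 0) (nat_lit 10) (BT.pln (nat_lit 12) (nat_lit 9) (BT.and (nat_lit 1) (nat_lit 0) (BT.img (nat_lit 1) (nat_lit 0) (BT.and (nat_lit 11) (nat_lit 0) (BT.one (nat_lit 3) (nat_lit 0x423f3e19331507011d) (nat_lit 0x423f3e19331507011d) [nat_lit 0, nat_lit 20, nat_lit 31, nat_lit 26, nat_lit 36, nat_lit 41]))))))))))))))))))))) BT.nil)))))))))))))) BT.nil))))))))) BT.nil)))))))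

theorem yt_c127_cnt : Cnt 324 (grp 324 y_E0) [z_g1339] [z_g1339] 0 0 0 0 162 :=
  BT.sound yt_c127_cnt_P Known.nil (t := yt_c127_cnt_t) (d := 0) (by decide +kernel)

theorem yt_c127_ge : 162 ≤ Nat.card (grp 324 yt_c127_K) :=
  Ch.le_card_grp (k := 9) (L := (lab 324 9)) z_hn yt_c127_K_ok (c := (Ch.cons (nat_lit 229) [nat_lit 1] (Ch.cons (nat_lit 292) [nat_lit 3] (Ch.cons (nat_lit 56) [nat_lit 5, nat_lit 7] Ch.nil)))) (by decide +kernel)

theorem yt_c127_eq : (grp 324 y_E0) ⊓ Subgroup.centralizer {Net.toPerm 324 z_g1339} = grp 324 yt_c127_K :=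
  cent_eq yt_c127_sym yt_c127_cnt yt_c127_ge

theorem yt_c127_card : Nat.card ↥((grp 324 y_E0) ⊓ Subgroup.centralizer {Net.toPerm 324 z_g1339}) = 162 :=
  card_cent yt_c127_sym yt_c127_cnt yt_c127_ge

theorem yt_c127_ord : orderOf (Net.toPerm 324 z_g1339) = 18 :=
  orderOf_net z_hn z_hk z_g1339_ok (by decide) (ps := [2, 3]) (by set_option linter.unusedSimpArgs false in simp [Nat.primeFactorsList_ofNat]) (by decide +kernel)

theorem z_le1345 : grp 324 yt_c128_K ≤ grp 324 y_E0 :=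
  grp_le_of_memB z_hn z_hk y_E0_ok yt_c128_K_ok (ws := [nat_lit 0x372f25191f0f12070c0117, nat_lit 0x33392f261f191207070103, nat_lit 0x35382b19221a12021202]) (by decide +kernel)

theorem yt_c128_le : grp 324 yt_c128_K ≤ (grp 324 y_E0) :=
  (z_le1345.trans z_T111_s0.le)

theorem yt_c128_mem : Net.toPerm 324 z_g1343 ∈ (grp 324 y_E0) :=
  yt_c128_le (toPerm_mem_grp (E := yt_c128_K) (List.Mem.head _))

theorem yt_c128_sym : Sym 324 (grp 324 y_E0) [z_g1343] yt_c128_K 0 :=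
  Sym.of_lab z_hn z_hk (okE_cons.2 ⟨z_g1343_ok, okE_nil _⟩) yt_c128_K_ok yt_c128_le (kT := 0) (by decide +kernel)

theorem z_le1350 : grp 324 z_V1349 ≤ grp 324 z_V1157 :=
  grp_le_of_memB z_hn z_hk z_V1157_ok z_V1349_ok (ws := [nat_lit 0xc0507060103, nat_lit 0x508060703, nat_lit 0x90b05080607, nat_lit 0x9080507]) (by decide +kernel)

theorem z_T111_s186 : Stab 324 (grp 324 y_E0) [nat_lit 29, nat_lit 189, nat_lit 2, nat_lit 0] z_V1349 54 :=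
  Stab.step (k := 9) (L := (lab 324 9)) z_hn z_T111_s167 z_V1349_ok z_le1350 (c := (Ch.cons (nat_lit 4) [nat_lit 1, nat_lit 3] (Ch.cons (nat_lit 274) [nat_lit 5, nat_lit 7] Ch.nil))) (by decide +kernel)

theorem z_T111_s187 : Stab 324 (grp 324 y_E0) [nat_lit 4, nat_lit 29, nat_lit 189, nat_lit 2, nat_lit 0] z_V1351 9 :=
  Stab.step (k := 9) (L := (lab 324 9)) z_hn z_T111_s186 z_V1351_ok (grp_mono (List.subset_append_right [z_g1346, z_g465] _)) (c := (Ch.cons (nat_lit 274) [nat_lit 1, nat_lit 3] Ch.nil)) (by decide +kernel)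

theorem z_T111_s188 : Stab 324 (grp 324 y_E0) [nat_lit 274, nat_lit 4, nat_lit 29, nat_lit 189, nat_lit 2, nat_lit 0] z_V1352 1 :=
  Stab.step (k := 9) (L := (lab 324 9)) z_hn z_T111_s187 z_V1352_ok (grp_mono (List.subset_append_right [z_g1347, z_g1348] _)) (c := Ch.nil) (by decide +kernel)

theorem z_g1346_z_T111 : Net.toPerm 324 z_g1346 ∈ (grp 324 y_E0) :=
  z_T111_s186.le (toPerm_mem_grp (E := z_V1349) (List.Mem.head _))

theorem z_g465_z_T111 : Net.toPerm 324 z_g465 ∈ (grp 324 y_E0) :=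
  z_T111_s186.le (toPerm_mem_grp (E := z_V1349) (List.Mem.tail _ (List.Mem.head _)))

theorem z_g1347_z_T111 : Net.toPerm 324 z_g1347 ∈ (grp 324 y_E0) :=
  z_T111_s186.le (toPerm_mem_grp (E := z_V1349) (List.Mem.tail _ (List.Mem.tail _ (List.Mem.head _))))

theorem z_g1348_z_T111 : Net.toPerm 324 z_g1348 ∈ (grp 324 y_E0) :=
  z_T111_s186.le (toPerm_mem_grp (E := z_V1349) (List.Mem.tail _ (List.Mem.tail _ (List.Mem.tail _ (List.Mem.head _)))))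

noncomputable def z_T111_s188_O : ℕ := (nat_lit 0xfffffffffffffffff000000000000000000000000000000000000000000000000000000000000000000000000000000000ffffffffffffffffffffffffffffffff00000000000000000000000000000000f0000000000000000ffffffffffffffff0000000000000000ffffffffffffffff00000000000000000ffffffff00000000ffffffff00000000ffffffff00000000ffffffff00000000ffffffff000000000ffff0000ffff0000ffff0000ffff0000ffff0000ffff0000ffff0000ffff0000ffff0000ffff00000ff00ff00ff00ff00ff00ff00ff00ff00ff00ff00ff00ff00ff00ff00ff00ff00ff00ff00ff00ff000f0f0f0f0f0f0f0f0f0f0f0f0f0f0f0f0f0f0f0f0f0f0f0f0f0f0f0f0f0f0f0f0f0f0f0f0f0f0f0f0cccccccccccccccccccccccccccccccccccccccccccccccccccccccccccccccccccccccccccccccccaaaaaaaaaaaaaaaaaaaaaaaaaaaaaaaaaaaaaaaaaaaaaaaaaaaaaaaaaaaaaaaaaaaaaaaaaaaaaaaaa000000000000000000000000000000000000000000000000000000000000000000000000000000001000000000000000000000000000000000000000000000000000000000000000000000000000000004000000000000000000000000000000000200000000000000000000000000000000000000000000000000000000000000000000000000000000000000000000000000000000000000000000000020000000000000000000000000000000000000000000000000000000000000000000000000000000000000010000000000000400000000000000000000000000000000000000000000000000000000000000000000)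

theorem z_T111_s188_F : Frame 324 (grp 324 y_E0) 6 15 z_T111_s188_O 1 1 :=
  IsBase.frame z_T111_s188.isBase (by decide +kernel)

noncomputable def z_T111_s187_O : ℕ := (nat_lit 0x400000000000010010442000123d900000000000000000000000000000000000000000000000000000000000000000000000000000000077000000400000000000010010442000123f9758022a0015f7b69b5f9c4fdd277621210b4b8981000f79fb08ecd9dedd93c7c35937b7f2000123000000000a0febff77cf477b730bc8144f84fa6c770000771317f2746b3c57db2e590c808087bf000f96000000a06e6c3dcf4642bec3cac9591b810b79ef7867ce94b091283f3e0a7d2ac585ec439f0e18f01580000a08a0382f5a0d198761d6eafcdf4d4ba02a50e3f21b4195829739e5bbe6e3517041cc7e4cf9c00220a0981cfb81cacdafbdf63ddb4b702325421485218d883e332e4a9d5a76e6db90ecd2ad12a8d17fe0880000000000000000000000000000000000000000000000000000000000000000000000000000000001000000000000000000000000000000000000000000000000000000000000000000000000000000004000000000000000000000000000000000200000000000000000000000000000000000000000000000000000000000000000000000000000000000000000000000000000000000000000000000020000000000000000000000000000000000000000000000000000000000000000000000000000000000000010)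

theorem z_T111_s187_F : Frame 324 (grp 324 y_E0) 5 12 z_T111_s187_O 0 1 :=
  Stab.frame z_hn z_T111_s187 (by decide +kernel)

noncomputable def yt_c128_cnt_L : List ℕ := [1, 4, z_T111_s1_O, 0, 0, 5, 12, z_T111_s187_O, 0, 0, 6, 15, z_T111_s188_O, 1, 0]

theorem yt_c128_cnt_P : Prob 324 9 (grp 324 y_E0) yt_c128_cnt_EG [z_g1343] [z_g1343] yt_c128_K yt_c128_cnt_L 0 0 :=
  Sym.prob z_hn z_hk yt_c128_sym yt_c128_cnt_EG_ok (grp_cons_le z_g39_z_T111 (grp_cons_le zg1_z_T111 (grp_cons_le zg3_z_T111 (grp_cons_le z_g43_z_T111 (grp_cons_le z_g42_z_T111 (grp_cons_le zg2_z_T111 (grp_cons_le z_g44_z_T111 (grp_cons_le z_g54_z_T111 (grp_cons_le z_g55_z_T111 (grp_cons_le z_g49_z_T111 (grp_cons_le z_g50_z_T111 (grp_cons_le z_g51_z_T111 (grp_cons_le z_g62_z_T111 (grp_cons_le z_g58_z_T111 (grp_cons_le z_g59_z_T111 (grp_cons_le z_g65_z_T111 (grp_cons_le z_g66_z_T111 (grp_cons_le z_g67_z_T111 (grp_cons_le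 z_g77_z_T111 (grp_cons_le z_g78_z_T111 (grp_cons_le z_g72_z_T111 (grp_cons_le z_g73_z_T111 (grp_cons_le z_g74_z_T111 (grp_cons_le z_g81_z_T111 (grp_cons_le z_g82_z_T111 (grp_cons_le z_g87_z_T111 (grp_cons_le zg0_z_T111 (grp_cons_le z_g91_z_T111 (grp_cons_le z_g28_z_T111 (grp_cons_le z_g88_z_T111 (grp_cons_le z_g1346_z_T111 (grp_cons_le z_g465_z_T111 (grp_cons_le z_g1347_z_T111 (grp_cons_le z_g1348_z_T111 (grp_cons_le z_g1152_z_T111 (grp_cons_le z_g1153_z_T111 (grp_cons_le z_g1154_z_T111 (grp_cons_le z_g1155_z_T111 (grp_cons_le z_g1150_z_T111 (grp_cons_le z_g1156_z_T111 (grp_nil_le _))))))))))))))))))))))))))))))))))))))))) (Frames.cons z_T111_s1_F (Frames.cons z_T111_s187_F (Frames.cons z_T111_s188_F Frames.nil))) (okE_cons.2 ⟨z_g1343_ok, okE_nil _⟩) _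

noncomputable def yt_c128_cnt_t : BT := (BT.fix (nat_lit 0x10101010101010101) (BT.fix (nat_lit 65793) (BT.dif (nat_lit 1) (nat_lit 0) (BT.br (nat_lit 0) (nat_lit 118) [nat_lit 1] (BT.kid (nat_lit 118) (nat_lit 6) (BT.frm (nat_lit 0) (nat_lit 297) (nat_lit 297) [nat_lit 0] (BT.pln (nat_lit 0) (nat_lit 3) (BT.dif (nat_lit 0) (nat_lit 5) (BT.br (nat_lit 0) (nat_lit 276) [nat_lit 3] (BT.dead (nat_lit 59) (BT.img (nat_lit 1) (nat_lit 4) (BT.img (nat_lit 1) (nat_lit 0) (BT.img (nat_lit 1) (nat_lit 0) (BT.frm (nat_lit 1) (nat_lit 0x40464d0f3c07150129) (nat_lit 0x3d3f464d0f3c07150129) [nat_lit 3, nat_lit 1, nat_lit 2, nat_lit 0, nat_lit 7] (BT.pln (nat_lit 0) (nat_lit 5) (BT.img (nat_lit 1) (nat_lit 5) (BT.img (nat_lit 1) (nat_lit 0) (BT.img (nat_lit 1) (nat_lit 0) (BT.img (nat_lit 1) (nat_lit 0) (BT.img (nat_lit 1) (nat_lit 0) (BT.img (nat_lit 1) (nat_lit 0) (BT.img (nat_lit 1)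 (nat_lit 0) (BT.and (nat_lit 7) (nat_lit 0) (BT.cnt (nat_lit 0))))))))))))))) (BT.dead (nat_lit 102) (BT.img (nat_lit 1) (nat_lit 4) (BT.img (nat_lit 1) (nat_lit 0) (BT.img (nat_lit 1) (nat_lit 0) (BT.frm (nat_lit 1) (nat_lit 0x40464d0f3c07150129) (nat_lit 0x3d464d0f3c07150129) [nat_lit 3, nat_lit 1, nat_lit 2, nat_lit 0, nat_lit 7] (BT.pln (nat_lit 0) (nat_lit 5) (BT.img (nat_lit 1) (nat_lit 5) (BT.and (nat_lit 1) (nat_lit 0) (BT.cnt (nat_lit 0))))))))) (BT.kid (nat_lit 276) (nat_lit 3) (BT.pln (nat_lit 3) (nat_lit 1) (BT.dif (nat_lit 11) (nat_lit 0) (BT.pln (nat_lit 5) (nat_lit 2) (BT.dif (nat_lit 1) (nat_lit 0) (BT.img (nat_lit 1) (nat_lit 8) (BT.img (nat_lit 1) (nat_lit 0) (BT.img (nat_lit 1) (nat_lit 0) (BT.frm (nat_lit 1) (nat_lit 0x40464d0f3c07150129) (nat_lit 0x40464d0f3c07150129) [nat_lit 7, nat_lit 1, nat_lit 2, nat_lit 0, nat_lit 11] (BT.pln (nat_lit 0) (nat_lit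 8) (BT.dif (nat_lit 5) (nat_lit 0) (BT.pln (nat_lit 2) (nat_lit 7) (BT.dif (nat_lit 1) (nat_lit 0) (BT.pln (nat_lit 4) (nat_lit 5) (BT.dif (nat_lit 1) (nat_lit 0) (BT.pln (nat_lit 6) (nat_lit 9) (BT.and (nat_lit 1) (nat_lit 0) (BT.br (nat_lit 0) (nat_lit 35) [nat_lit 5] (BT.dead (nat_lit 70) (BT.frm (nat_lit 2) (nat_lit 0x40464d0f3c07150129) (nat_lit 0x414340464d0f3c07150129) [nat_lit 0, nat_lit 17, nat_lit 11, nat_lit 12, nat_lit 10, nat_lit 21] (BT.pln (nat_lit 0) (nat_lit 6) (BT.img (nat_lit 1) (nat_lit 2) (BT.img (nat_lit 1) (nat_lit 0) (BT.img (nat_lit 1) (nat_lit 0) (BT.img (nat_lit 1) (nat_lit 0) (BT.img (nat_lit 1) (nat_lit 0) (BT.img (nat_lit 1) (nat_lit 0) (BT.img (nat_lit 1) (nat_lit 0) (BT.and (nat_lit 7) (nat_lit 0) (BT.cnt (nat_lit 0)))))))))))) (BT.dead (nat_lit 97) (BT.frm (nat_lit 2) (nat_lit 0x40464d0f3c07150129) (nat_lit 0x4340464d0f3c07150129) [nat_lit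 0, nat_lit 17, nat_lit 11, nat_lit 12, nat_lit 10, nat_lit 21] (BT.pln (nat_lit 0) (nat_lit 6) (BT.img (nat_lit 1) (nat_lit 2) (BT.img (nat_lit 1) (nat_lit 0) (BT.img (nat_lit 1) (nat_lit 0) (BT.img (nat_lit 1) (nat_lit 0) (BT.img (nat_lit 1) (nat_lit 0) (BT.img (nat_lit 1) (nat_lit 0) (BT.img (nat_lit 1) (nat_lit 0) (BT.img (nat_lit 1) (nat_lit 0) (BT.img (nat_lit 1) (nat_lit 0) (BT.and (nat_lit 9) (nat_lit 0) (BT.cnt (nat_lit 0)))))))))))))) (BT.kid (nat_lit 35) (nat_lit 1) (BT.one (nat_lit 2) (nat_lit 0x40464d0f3c07150129) (nat_lit 0x40464d0f3c07150129) [nat_lit 0, nat_lit 17, nat_lit 11, nat_lit 12, nat_lit 10, nat_lit 21]) BT.nil)))))))))))))))))))) BT.nil))))))) BT.nil)))))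

theorem yt_c128_cnt : Cnt 324 (grp 324 y_E0) [z_g1343] [z_g1343] 0 0 0 0 54 :=
  BT.sound yt_c128_cnt_P Known.nil (t := yt_c128_cnt_t) (d := 0) (by decide +kernel)

theorem yt_c128_ge : 54 ≤ Nat.card (grp 324 yt_c128_K) :=
  Ch.le_card_grp (k := 9) (L := (lab 324 9)) z_hn yt_c128_K_ok (c := (Ch.cons (nat_lit 118) [nat_lit 1] (Ch.cons (nat_lit 276) [nat_lit 3] (Ch.cons (nat_lit 35) [nat_lit 5] Ch.nil)))) (by decide +kernel)

theorem yt_c128_eq : (grp 324 y_E0) ⊓ Subgroup.centralizer {Net.toPerm 324 z_g1343} = grp 324 yt_c128_K :=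
  cent_eq yt_c128_sym yt_c128_cnt yt_c128_ge

theorem yt_c128_card : Nat.card ↥((grp 324 y_E0) ⊓ Subgroup.centralizer {Net.toPerm 324 z_g1343}) = 54 :=
  card_cent yt_c128_sym yt_c128_cnt yt_c128_ge

theorem yt_c128_ord : orderOf (Net.toPerm 324 z_g1343) = 18 :=
  orderOf_net z_hn z_hk z_g1343_ok (by decide) (ps := [2, 3]) (by set_option linter.unusedSimpArgs false in simp [Nat.primeFactorsList_ofNat]) (by decide +kernel)

theorem z_le1355 : grp 324 yt_c129_K ≤ grp 324 y_E0 :=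
  grp_le_of_memB z_hn z_hk y_E0_ok yt_c129_K_ok (ws := [nat_lit 0x33353c2f2b1b0f1208010e29, nat_lit 0x37261d1f, nat_lit 0x353819201a]) (by decide +kernel)

theorem yt_c129_le : grp 324 yt_c129_K ≤ (grp 324 y_E0) :=
  (z_le1355.trans z_T111_s0.le)

theorem yt_c129_mem : Net.toPerm 324 z_g1353 ∈ (grp 324 y_E0) :=
  yt_c129_le (toPerm_mem_grp (E := yt_c129_K) (List.Mem.head _))

theorem yt_c129_sym : Sym 324 (grp 324 y_E0) [z_g1353] yt_c129_K 0 :=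
  Sym.of_lab z_hn z_hk (okE_cons.2 ⟨z_g1353_ok, okE_nil _⟩) yt_c129_K_ok yt_c129_le (kT := 0) (by decide +kernel)

noncomputable def yt_c129_cnt_L : List ℕ := [1, 4, z_T111_s1_O, 0, 0, 4, 10, z_T111_s58_O, 0, 0, 6, 15, z_T111_s97_O, 1, 0]

theorem yt_c129_cnt_P : Prob 324 9 (grp 324 y_E0) yt_c129_cnt_EG [z_g1353] [z_g1353] yt_c129_K yt_c129_cnt_L 0 0 :=
  Sym.prob z_hn z_hk yt_c129_sym yt_c129_cnt_EG_ok (grp_cons_le z_g39_z_T111 (grp_cons_le zg1_z_T111 (grp_cons_le zg3_z_T111 (grp_cons_le z_g43_z_T111 (grp_cons_le z_g42_z_T111 (grp_cons_le zg2_z_T111 (grp_cons_le z_g44_z_T111 (grp_cons_le z_g54_z_T111 (grp_cons_le z_g55_z_T111 (grp_cons_le z_g49_z_T111 (grp_cons_le z_g50_z_T111 (grp_cons_le z_g51_z_T111 (grp_cons_le z_g62_z_T111 (grp_cons_le z_g58_z_T111 (grp_cons_le z_g59_z_T111 (grp_cons_le z_g65_z_T111 (grp_cons_le z_g66_z_T111 (grp_cons_le z_g67_z_T111 (grp_cons_le z_g77_z_T111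 (grp_cons_le z_g78_z_T111 (grp_cons_le z_g72_z_T111 (grp_cons_le z_g73_z_T111 (grp_cons_le z_g74_z_T111 (grp_cons_le z_g81_z_T111 (grp_cons_le z_g82_z_T111 (grp_cons_le z_g87_z_T111 (grp_cons_le zg0_z_T111 (grp_cons_le z_g91_z_T111 (grp_cons_le z_g28_z_T111 (grp_cons_le z_g88_z_T111 (grp_cons_le z_g638_z_T111 (grp_cons_le z_g639_z_T111 (grp_cons_le z_g424_z_T111 (grp_cons_le z_g425_z_T111 (grp_cons_le z_g426_z_T111 (grp_cons_le z_g427_z_T111 (grp_nil_le _))))))))))))))))))))))))))))))))))))) (Frames.cons z_T111_s1_F (Frames.cons z_T111_s58_F (Frames.cons z_T111_s97_F Frames.nil))) (okE_cons.2 ⟨z_g1353_ok, okE_nil _⟩) _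

noncomputable def yt_c129_cnt_t : BT := (BT.fix (nat_lit 1) (BT.frm (nat_lit 0) (nat_lit 295) (nat_lit 295) [nat_lit 0] (BT.pln (nat_lit 0) (nat_lit 3) (BT.fix (nat_lit 257) (BT.dif (nat_lit 1) (nat_lit 0) (BT.br (nat_lit 0) (nat_lit 304) [nat_lit 1] (BT.kid (nat_lit 304) (nat_lit 9) (BT.pln (nat_lit 4) (nat_lit 1) (BT.fix (nat_lit 0x10101010101) (BT.dif (nat_lit 1) (nat_lit 0) (BT.br (nat_lit 0) (nat_lit 282) [nat_lit 3, nat_lit 5] (BT.dead (nat_lit 135) (BT.img (nat_lit 1) (nat_lit 4) (BT.frm (nat_lit 1) (nat_lit 0x212b150127) (nat_lit 0x3b150127) [nat_lit 1, nat_lit 0, nat_lit 5, nat_lit 10] (BT.pln (nat_lit 0) (nat_lit 4) (BT.img (nat_lit 1) (nat_lit 3) (BT.img (nat_lit 1) (nat_lit 0) (BT.img (nat_lit 1) (nat_lit 0) (BT.img (nat_lit 1) (nat_lit 0) (BT.img (nat_lit 1) (nat_lit 0) (BT.img (nat_lit 1) (nat_lit 0) (BT.img (nat_lit 1) (nat_lit 0) (BT.img (nat_lit 1) (nat_lit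 0) (BT.img (nat_lit 1) (nat_lit 0) (BT.img (nat_lit 1) (nat_lit 0) (BT.img (nat_lit 1) (nat_lit 0) (BT.img (nat_lit 1) (nat_lit 0) (BT.img (nat_lit 1) (nat_lit 0) (BT.img (nat_lit 1) (nat_lit 0) (BT.img (nat_lit 1) (nat_lit 0) (BT.and (nat_lit 15) (nat_lit 0) (BT.cnt (nat_lit 0))))))))))))))))))))) (BT.dead (nat_lit 140) (BT.img (nat_lit 1) (nat_lit 4) (BT.frm (nat_lit 1) (nat_lit 0x212b150127) (nat_lit 0x191930150127) [nat_lit 1, nat_lit 0, nat_lit 5, nat_lit 10] (BT.pln (nat_lit 0) (nat_lit 4) (BT.img (nat_lit 1) (nat_lit 3) (BT.img (nat_lit 1) (nat_lit 0) (BT.img (nat_lit 1) (nat_lit 0) (BT.and (nat_lit 3) (nat_lit 0) (BT.cnt (nat_lit 0))))))))) (BT.dead (nat_lit 129) (BT.img (nat_lit 1) (nat_lit 4) (BT.frm (nat_lit 1) (nat_lit 0x212b150127) (nat_lit 0x1a34150127) [nat_lit 1, nat_lit 0, nat_lit 5, nat_lit 10] (BT.pln (nat_lit 0) (nat_lit 4) (BT.img (nat_lit 1) (nat_lit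 3) (BT.img (nat_lit 1) (nat_lit 0) (BT.img (nat_lit 1) (nat_lit 0) (BT.img (nat_lit 1) (nat_lit 0) (BT.img (nat_lit 1) (nat_lit 0) (BT.img (nat_lit 1) (nat_lit 0) (BT.and (nat_lit 6) (nat_lit 0) (BT.cnt (nat_lit 0)))))))))))) (BT.dead (nat_lit 312) (BT.img (nat_lit 1) (nat_lit 4) (BT.frm (nat_lit 1) (nat_lit 0x212b150127) (nat_lit 0x1c37150127) [nat_lit 1, nat_lit 0, nat_lit 5, nat_lit 10] (BT.pln (nat_lit 0) (nat_lit 4) (BT.and (nat_lit 0) (nat_lit 9) (BT.cnt (nat_lit 0)))))) (BT.dead (nat_lit 91) (BT.img (nat_lit 1) (nat_lit 4) (BT.frm (nat_lit 1) (nat_lit 0x212b150127) (nat_lit 0x2337150127) [nat_lit 1, nat_lit 0, nat_lit 5, nat_lit 10] (BT.pln (nat_lit 0) (nat_lit 4) (BT.and (nat_lit 0) (nat_lit 9) (BT.cnt (nat_lit 0)))))) (BT.kid (nat_lit 282) (nat_lit 1) (BT.img (nat_lit 1) (nat_lit 0) (BT.img (nat_lit 1) (nat_lit 0) (BT.img (nat_lit 1) (nat_lit 6) (BT.one (nat_lit 2)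 (nat_lit 0x3e4648212b150127) (nat_lit 0x3e4648212b150127) [nat_lit 1, nat_lit 2, nat_lit 3, nat_lit 0, nat_lit 7, nat_lit 12])))) BT.nil)))))))))) BT.nil)))))))

theorem yt_c129_cnt : Cnt 324 (grp 324 y_E0) [z_g1353] [z_g1353] 0 0 0 0 54 :=
  BT.sound yt_c129_cnt_P Known.nil (t := yt_c129_cnt_t) (d := 0) (by decide +kernel)

theorem yt_c129_ge : 54 ≤ Nat.card (grp 324 yt_c129_K) :=
  Ch.le_card_grp (k := 9) (L := (lab 324 9)) z_hn yt_c129_K_ok (c := (Ch.cons (nat_lit 304) [nat_lit 1] (Ch.cons (nat_lit 282) [nat_lit 3, nat_lit 5] Ch.nil))) (by decide +kernel)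

theorem yt_c129_eq : (grp 324 y_E0) ⊓ Subgroup.centralizer {Net.toPerm 324 z_g1353} = grp 324 yt_c129_K :=
  cent_eq yt_c129_sym yt_c129_cnt yt_c129_ge

theorem yt_c129_card : Nat.card ↥((grp 324 y_E0) ⊓ Subgroup.centralizer {Net.toPerm 324 z_g1353}) = 54 :=
  card_cent yt_c129_sym yt_c129_cnt yt_c129_ge

theorem yt_c129_ord : orderOf (Net.toPerm 324 z_g1353) = 18 :=
  orderOf_net z_hn z_hk z_g1353_ok (by decide) (ps := [2, 3]) (by set_option linter.unusedSimpArgs false in simp [Nat.primeFactorsList_ofNat]) (by decide +kernel)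

theorem z_le1359 : grp 324 yt_c130_K ≤ grp 324 y_E0 :=
  grp_le_of_memB z_hn z_hk y_E0_ok yt_c130_K_ok (ws := [nat_lit 0x34352f26281f1a2509011c07, nat_lit 0x342b191e0f010522, nat_lit 0x38262819201a022501]) (by decide +kernel)

theorem yt_c130_le : grp 324 yt_c130_K ≤ (grp 324 y_E0) :=
  (z_le1359.trans z_T111_s0.le)

theorem yt_c130_mem : Net.toPerm 324 z_g1356 ∈ (grp 324 y_E0) :=
  yt_c130_le (toPerm_mem_grp (E := yt_c130_K) (List.Mem.head _))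

theorem yt_c130_sym : Sym 324 (grp 324 y_E0) [z_g1356] yt_c130_K 0 :=
  Sym.of_lab z_hn z_hk (okE_cons.2 ⟨z_g1356_ok, okE_nil _⟩) yt_c130_K_ok yt_c130_le (kT := 0) (by decide +kernel)

noncomputable def yt_c130_cnt_L : List ℕ := [1, 4, z_T111_s1_O, 0, 0, 4, 10, z_T111_s124_O, 0, 0, 5, 12, z_T111_s125_O, 0, 0, 6, 15, z_T111_s126_O, 1, 0]

theorem yt_c130_cnt_P : Prob 324 9 (grp 324 y_E0) yt_c130_cnt_EG [z_g1356] [z_g1356] yt_c130_K yt_c130_cnt_L 0 0 :=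
  Sym.prob z_hn z_hk yt_c130_sym yt_c130_cnt_EG_ok (grp_cons_le z_g39_z_T111 (grp_cons_le zg1_z_T111 (grp_cons_le zg3_z_T111 (grp_cons_le z_g43_z_T111 (grp_cons_le z_g42_z_T111 (grp_cons_le zg2_z_T111 (grp_cons_le z_g44_z_T111 (grp_cons_le z_g54_z_T111 (grp_cons_le z_g55_z_T111 (grp_cons_le z_g49_z_T111 (grp_cons_le z_g50_z_T111 (grp_cons_le z_g51_z_T111 (grp_cons_le z_g62_z_T111 (grp_cons_le z_g58_z_T111 (grp_cons_le z_g59_z_T111 (grp_cons_le z_g65_z_T111 (grp_cons_le z_g66_z_T111 (grp_cons_le z_g67_z_T111 (grp_cons_le z_g77_z_T111 (grp_cons_le z_g78_z_T111 (grp_cons_le z_g72_z_T111 (grp_cons_le z_g73_z_T111 (grp_cons_le z_g74_z_T111 (grp_cons_le z_g81_z_T111 (grp_cons_le z_g82_z_T111 (grp_cons_le z_g87_z_T111 (grp_cons_le zg0_z_T111 (grp_cons_le z_g91_z_T111 (grp_cons_le z_g28_z_T111 (grp_cons_le z_g88_z_T111 (grp_cons_le z_g818_z_T111 (grp_cons_le z_g819_z_T111 (grp_cons_le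 z_g820_z_T111 (grp_cons_le z_g821_z_T111 (grp_nil_le _))))))))))))))))))))))))))))))))))) (Frames.cons z_T111_s1_F (Frames.cons z_T111_s124_F (Frames.cons z_T111_s125_F (Frames.cons z_T111_s126_F Frames.nil)))) (okE_cons.2 ⟨z_g1356_ok, okE_nil _⟩) _

noncomputable def yt_c130_cnt_t : BT := (BT.fix (nat_lit 0x10101010101010101) (BT.fix (nat_lit 65793) (BT.dif (nat_lit 1) (nat_lit 0) (BT.br (nat_lit 0) (nat_lit 138) [nat_lit 1] (BT.kid (nat_lit 138) (nat_lit 6) (BT.frm (nat_lit 0) (nat_lit 1337) (nat_lit 1337) [nat_lit 0] (BT.pln (nat_lit 0) (nat_lit 3) (BT.dif (nat_lit 0) (nat_lit 5) (BT.img (nat_lit 1) (nat_lit 3) (BT.img (nat_lit 1) (nat_lit 0) (BT.img (nat_lit 1) (nat_lit 0) (BT.frm (nat_lit 1) (nat_lit 0x3d4119170539) (nat_lit 0x3d4119170539) [nat_lit 1, nat_lit 2, nat_lit 0, nat_lit 6] (BT.pln (nat_lit 0) (nat_lit 4) (BT.dif (nat_lit 5) (nat_lit 0) (BT.br (nat_lit 0) (nat_lit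 316) [nat_lit 3] (BT.kid (nat_lit 316) (nat_lit 3) (BT.dif (nat_lit 16) (nat_lit 2) (BT.pln (nat_lit 4) (nat_lit 6) (BT.and (nat_lit 1) (nat_lit 0) (BT.pln (nat_lit 6) (nat_lit 5) (BT.dif (nat_lit 1) (nat_lit 0) (BT.pln (nat_lit 8) (nat_lit 7) (BT.and (nat_lit 1) (nat_lit 0) (BT.pln (nat_lit 10) (nat_lit 8) (BT.dif (nat_lit 1) (nat_lit 0) (BT.frm (nat_lit 2) (nat_lit 0x3d4119170539) (nat_lit 0x3d4119170539) [nat_lit 9, nat_lit 14, nat_lit 15, nat_lit 13, nat_lit 19] (BT.pln (nat_lit 0) (nat_lit 5) (BT.dif (nat_lit 2) (nat_lit 0) (BT.br (nat_lit 0) (nat_lit 27) [nat_lit 5] (BT.dead (nat_lit 217) (BT.frm (nat_lit 3) (nat_lit 0x423d4119170539) (nat_lit 0x41433d4119170539) [nat_lit 0, nat_lit 13, nat_lit 18, nat_lit 19, nat_lit 17, nat_lit 23] (BT.pln (nat_lit 0) (nat_lit 6) (BT.img (nat_lit 1) (nat_lit 2) (BT.and (nat_lit 1) (nat_lit 0) (BT.cnt (nat_lit 0)))))) (BT.dead (nat_lit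 69) (BT.frm (nat_lit 3) (nat_lit 0x423d4119170539) (nat_lit 0x443d4119170539) [nat_lit 0, nat_lit 13, nat_lit 18, nat_lit 19, nat_lit 17, nat_lit 23] (BT.pln (nat_lit 0) (nat_lit 6) (BT.img (nat_lit 1) (nat_lit 2) (BT.and (nat_lit 1) (nat_lit 0) (BT.cnt (nat_lit 0)))))) (BT.kid (nat_lit 27) (nat_lit 1) (BT.one (nat_lit 3) (nat_lit 0x423d4119170539) (nat_lit 0x423d4119170539) [nat_lit 0, nat_lit 13, nat_lit 18, nat_lit 19, nat_lit 17, nat_lit 23]) BT.nil)))))))))))))))) BT.nil))))))))))) BT.nil)))))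

theorem yt_c130_cnt : Cnt 324 (grp 324 y_E0) [z_g1356] [z_g1356] 0 0 0 0 54 :=
  BT.sound yt_c130_cnt_P Known.nil (t := yt_c130_cnt_t) (d := 0) (by decide +kernel)

theorem yt_c130_ge : 54 ≤ Nat.card (grp 324 yt_c130_K) :=
  Ch.le_card_grp (k := 9) (L := (lab 324 9)) z_hn yt_c130_K_ok (c := (Ch.cons (nat_lit 138) [nat_lit 1] (Ch.cons (nat_lit 316) [nat_lit 3] (Ch.cons (nat_lit 27) [nat_lit 5] Ch.nil)))) (by decide +kernel)

theorem yt_c130_eq : (grp 324 y_E0) ⊓ Subgroup.centralizer {Net.toPerm 324 z_g1356} = grp 324 yt_c130_K :=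
  cent_eq yt_c130_sym yt_c130_cnt yt_c130_ge

theorem yt_c130_card : Nat.card ↥((grp 324 y_E0) ⊓ Subgroup.centralizer {Net.toPerm 324 z_g1356}) = 54 :=
  card_cent yt_c130_sym yt_c130_cnt yt_c130_ge

theorem yt_c130_ord : orderOf (Net.toPerm 324 z_g1356) = 18 :=
  orderOf_net z_hn z_hk z_g1356_ok (by decide) (ps := [2, 3]) (by set_option linter.unusedSimpArgs false in simp [Nat.primeFactorsList_ofNat]) (by decide +kernel)

theorem z_le1363 : grp 324 yt_c131_K ≤ grp 324 y_E0 :=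
  grp_le_of_memB z_hn z_hk y_E0_ok yt_c131_K_ok (ws := [nat_lit 0x3925191912070c010f, nat_lit 0x33353c2f1f191c11070a011c, nat_lit 0x34392f2719221a013b02]) (by decide +kernel)

theorem yt_c131_le : grp 324 yt_c131_K ≤ (grp 324 y_E0) :=
  (z_le1363.trans z_T111_s0.le)

theorem yt_c131_mem : Net.toPerm 324 z_g1360 ∈ (grp 324 y_E0) :=
  yt_c131_le (toPerm_mem_grp (E := yt_c131_K) (List.Mem.head _))

theorem yt_c131_sym : Sym 324 (grp 324 y_E0) [z_g1360] yt_c131_K 0 :=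
  Sym.of_lab z_hn z_hk (okE_cons.2 ⟨z_g1360_ok, okE_nil _⟩) yt_c131_K_ok yt_c131_le (kT := 0) (by decide +kernel)

noncomputable def yt_c131_cnt_L : List ℕ := [1, 4, z_T111_s1_O, 0, 0, 5, 12, z_T111_s187_O, 0, 0, 6, 15, z_T111_s188_O, 1, 0]

theorem yt_c131_cnt_P : Prob 324 9 (grp 324 y_E0) yt_c131_cnt_EG [z_g1360] [z_g1360] yt_c131_K yt_c131_cnt_L 0 0 :=
  Sym.prob z_hn z_hk yt_c131_sym yt_c131_cnt_EG_ok (grp_cons_le z_g39_z_T111 (grp_cons_le zg1_z_T111 (grp_cons_le zg3_z_T111 (grp_cons_le z_g43_z_T111 (grp_cons_le z_g42_z_T111 (grp_cons_le zg2_z_T111 (grp_cons_le z_g44_z_T111 (grp_cons_le z_g54_z_T111 (grp_cons_le z_g55_z_T111 (grp_cons_le z_g49_z_T111 (grp_cons_le z_g50_z_T111 (grp_cons_le z_g51_z_T111 (grp_cons_le z_g62_z_T111 (grp_cons_le z_g58_z_T111 (grp_cons_le z_g59_z_T111 (grp_cons_le z_g65_z_T111 (grp_cons_le z_g66_z_T111 (grp_cons_le z_g67_z_T111 (grp_cons_le z_g77_z_T111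 (grp_cons_le z_g78_z_T111 (grp_cons_le z_g72_z_T111 (grp_cons_le z_g73_z_T111 (grp_cons_le z_g74_z_T111 (grp_cons_le z_g81_z_T111 (grp_cons_le z_g82_z_T111 (grp_cons_le z_g87_z_T111 (grp_cons_le zg0_z_T111 (grp_cons_le z_g91_z_T111 (grp_cons_le z_g28_z_T111 (grp_cons_le z_g88_z_T111 (grp_cons_le z_g1346_z_T111 (grp_cons_le z_g465_z_T111 (grp_cons_le z_g1347_z_T111 (grp_cons_le z_g1348_z_T111 (grp_cons_le z_g1152_z_T111 (grp_cons_le z_g1153_z_T111 (grp_cons_le z_g1154_z_T111 (grp_cons_le z_g1155_z_T111 (grp_cons_le z_g1150_z_T111 (grp_cons_le z_g1156_z_T111 (grp_nil_le _))))))))))))))))))))))))))))))))))))))))) (Frames.cons z_T111_s1_F (Frames.cons z_T111_s187_F (Frames.cons z_T111_s188_F Frames.nil))) (okE_cons.2 ⟨z_g1360_ok, okE_nil _⟩) _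

noncomputable def yt_c131_cnt_t : BT := (BT.fix (nat_lit 0x10101010101010101) (BT.fix (nat_lit 65793) (BT.dif (nat_lit 1) (nat_lit 0) (BT.br (nat_lit 0) (nat_lit 92) [nat_lit 1] (BT.kid (nat_lit 92) (nat_lit 6) (BT.frm (nat_lit 0) (nat_lit 65810) (nat_lit 65810) [nat_lit 0] (BT.pln (nat_lit 0) (nat_lit 3) (BT.dif (nat_lit 0) (nat_lit 5) (BT.br (nat_lit 0) (nat_lit 293) [nat_lit 3] (BT.dead (nat_lit 203) (BT.img (nat_lit 1) (nat_lit 4) (BT.img (nat_lit 1) (nat_lit 0) (BT.img (nat_lit 1) (nat_lit 0) (BT.frm (nat_lit 1) (nat_lit 0x3d454d2109010112) (nat_lit 0x3d40454d2109010112) [nat_lit 3, nat_lit 1, nat_lit 2, nat_lit 0, nat_lit 7] (BT.pln (nat_lit 0) (nat_lit 5) (BT.img (nat_lit 1) (nat_lit 5) (BT.and (nat_lit 1) (nat_lit 0) (BT.cnt (nat_lit 0))))))))) (BT.dead (nat_lit 110) (BT.img (nat_lit 1) (nat_lit 4) (BT.img (nat_lit 1) (nat_lit 0) (BT.img (nat_lit 1) (nat_lit 0) (BT.frm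 (nat_lit 1) (nat_lit 0x3d454d2109010112) (nat_lit 0x454d2109010112) [nat_lit 3, nat_lit 1, nat_lit 2, nat_lit 0, nat_lit 7] (BT.pln (nat_lit 0) (nat_lit 5) (BT.img (nat_lit 1) (nat_lit 5) (BT.and (nat_lit 1) (nat_lit 0) (BT.cnt (nat_lit 0))))))))) (BT.kid (nat_lit 293) (nat_lit 3) (BT.pln (nat_lit 3) (nat_lit 1) (BT.dif (nat_lit 11) (nat_lit 0) (BT.pln (nat_lit 5) (nat_lit 2) (BT.dif (nat_lit 1) (nat_lit 0) (BT.img (nat_lit 1) (nat_lit 8) (BT.img (nat_lit 1) (nat_lit 0) (BT.img (nat_lit 1) (nat_lit 0) (BT.frm (nat_lit 1) (nat_lit 0x3d454d2109010112) (nat_lit 0x3d454d2109010112) [nat_lit 7, nat_lit 1, nat_lit 2, nat_lit 0, nat_lit 11] (BT.pln (nat_lit 0) (nat_lit 8) (BT.dif (nat_lit 5) (nat_lit 0) (BT.pln (nat_lit 2) (nat_lit 7) (BT.dif (nat_lit 1) (nat_lit 0) (BT.pln (nat_lit 4) (nat_lit 5) (BT.dif (nat_lit 1) (nat_lit 0) (BT.pln (nat_lit 6) (nat_lit 9) (BT.and (nat_lit 1)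 (nat_lit 0) (BT.br (nat_lit 0) (nat_lit 48) [nat_lit 5] (BT.dead (nat_lit 55) (BT.frm (nat_lit 2) (nat_lit 0x443d454d2109010112) (nat_lit 0x433d454d2109010112) [nat_lit 0, nat_lit 17, nat_lit 11, nat_lit 12, nat_lit 10, nat_lit 21] (BT.pln (nat_lit 0) (nat_lit 6) (BT.img (nat_lit 1) (nat_lit 2) (BT.img (nat_lit 1) (nat_lit 0) (BT.img (nat_lit 1) (nat_lit 0) (BT.and (nat_lit 3) (nat_lit 0) (BT.cnt (nat_lit 0)))))))) (BT.dead (nat_lit 67) (BT.frm (nat_lit 2) (nat_lit 0x443d454d2109010112) (nat_lit 0x3d454d2109010112) [nat_lit 0, nat_lit 17, nat_lit 11, nat_lit 12, nat_lit 10, nat_lit 21] (BT.pln (nat_lit 0) (nat_lit 6) (BT.img (nat_lit 1) (nat_lit 2) (BT.img (nat_lit 1) (nat_lit 0) (BT.img (nat_lit 1) (nat_lit 0) (BT.img (nat_lit 1) (nat_lit 0) (BT.img (nat_lit 1) (nat_lit 0) (BT.and (nat_lit 5) (nat_lit 0) (BT.cnt (nat_lit 0)))))))))) (BT.kid (nat_lit 48) (nat_lit 1) (BT.one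 (nat_lit 2) (nat_lit 0x443d454d2109010112) (nat_lit 0x443d454d2109010112) [nat_lit 0, nat_lit 17, nat_lit 11, nat_lit 12, nat_lit 10, nat_lit 21]) BT.nil)))))))))))))))))))) BT.nil))))))) BT.nil)))))

theorem yt_c131_cnt : Cnt 324 (grp 324 y_E0) [z_g1360] [z_g1360] 0 0 0 0 54 :=
  BT.sound yt_c131_cnt_P Known.nil (t := yt_c131_cnt_t) (d := 0) (by decide +kernel)

theorem yt_c131_ge : 54 ≤ Nat.card (grp 324 yt_c131_K) :=
  Ch.le_card_grp (k := 9) (L := (lab 324 9)) z_hn yt_c131_K_ok (c := (Ch.cons (nat_lit 92) [nat_lit 1] (Ch.cons (nat_lit 293) [nat_lit 3] (Ch.cons (nat_lit 48) [nat_lit 5] Ch.nil)))) (by decide +kernel)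

theorem yt_c131_eq : (grp 324 y_E0) ⊓ Subgroup.centralizer {Net.toPerm 324 z_g1360} = grp 324 yt_c131_K :=
  cent_eq yt_c131_sym yt_c131_cnt yt_c131_ge

theorem yt_c131_card : Nat.card ↥((grp 324 y_E0) ⊓ Subgroup.centralizer {Net.toPerm 324 z_g1360}) = 54 :=
  card_cent yt_c131_sym yt_c131_cnt yt_c131_ge

theorem yt_c131_ord : orderOf (Net.toPerm 324 z_g1360) = 18 :=
  orderOf_net z_hn z_hk z_g1360_ok (by decide) (ps := [2, 3]) (by set_option linter.unusedSimpArgs false in simp [Nat.primeFactorsList_ofNat]) (by decide +kernel)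

theorem z_le1366 : grp 324 yt_c132_K ≤ grp 324 y_E0 :=
  grp_le_of_memB z_hn z_hk y_E0_ok yt_c132_K_ok (ws := [nat_lit 0x392f2628191e08010526, nat_lit 0x34392919221a013c02, nat_lit 0x3439191c11011101]) (by decide +kernel)

theorem yt_c132_le : grp 324 yt_c132_K ≤ (grp 324 y_E0) :=
  (z_le1366.trans z_T111_s0.le)

theorem yt_c132_mem : Net.toPerm 324 z_g1364 ∈ (grp 324 y_E0) :=
  yt_c132_le (toPerm_mem_grp (E := yt_c132_K) (List.Mem.head _))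

theorem yt_c132_sym : Sym 324 (grp 324 y_E0) [z_g1364] yt_c132_K 0 :=
  Sym.of_lab z_hn z_hk (okE_cons.2 ⟨z_g1364_ok, okE_nil _⟩) yt_c132_K_ok yt_c132_le (kT := 0) (by decide +kernel)

noncomputable def yt_c132_cnt_L : List ℕ := [1, 4, z_T111_s1_O, 0, 0, 4, 10, z_T111_s58_O, 0, 0, 6, 15, z_T111_s117_O, 1, 0]

theorem yt_c132_cnt_P : Prob 324 9 (grp 324 y_E0) yt_c132_cnt_EG [z_g1364] [z_g1364] yt_c132_K yt_c132_cnt_L 0 0 :=
  Sym.prob z_hn z_hk yt_c132_sym yt_c132_cnt_EG_ok (grp_cons_le z_g39_z_T111 (grp_cons_le zg1_z_T111 (grp_cons_le zg3_z_T111 (grp_cons_le z_g43_z_T111 (grp_cons_le z_g42_z_T111 (grp_cons_le zg2_z_T111 (grp_cons_le z_g44_z_T111 (grp_cons_le z_g54_z_T111 (grp_cons_le z_g55_z_T111 (grp_cons_le z_g49_z_T111 (grp_cons_le z_g50_z_T111 (grp_cons_le z_g51_z_T111 (grp_cons_le z_g62_z_T111 (grp_cons_le z_g58_z_T111 (grp_cons_le z_g59_z_T111 (grp_cons_le z_g65_z_T111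 (grp_cons_le z_g66_z_T111 (grp_cons_le z_g67_z_T111 (grp_cons_le z_g77_z_T111 (grp_cons_le z_g78_z_T111 (grp_cons_le z_g72_z_T111 (grp_cons_le z_g73_z_T111 (grp_cons_le z_g74_z_T111 (grp_cons_le z_g81_z_T111 (grp_cons_le z_g82_z_T111 (grp_cons_le z_g87_z_T111 (grp_cons_le zg0_z_T111 (grp_cons_le z_g91_z_T111 (grp_cons_le z_g28_z_T111 (grp_cons_le z_g88_z_T111 (grp_cons_le z_g638_z_T111 (grp_cons_le z_g639_z_T111 (grp_cons_le z_g424_z_T111 (grp_cons_le z_g425_z_T111 (grp_cons_le z_g426_z_T111 (grp_cons_le z_g427_z_T111 (grp_nil_le _))))))))))))))))))))))))))))))))))))) (Frames.cons z_T111_s1_F (Frames.cons z_T111_s58_F (Frames.cons z_T111_s117_F Frames.nil))) (okE_cons.2 ⟨z_g1364_ok, okE_nil _⟩) _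

noncomputable def yt_c132_cnt_t : BT := (BT.fix (nat_lit 1) (BT.frm (nat_lit 0) (nat_lit 66869) (nat_lit 66869) [nat_lit 0] (BT.pln (nat_lit 0) (nat_lit 3) (BT.fix (nat_lit 257) (BT.dif (nat_lit 1) (nat_lit 0) (BT.br (nat_lit 0) (nat_lit 35) [nat_lit 1] (BT.kid (nat_lit 35) (nat_lit 9) (BT.pln (nat_lit 4) (nat_lit 1) (BT.fix (nat_lit 0x10101010101) (BT.dif (nat_lit 1) (nat_lit 0) (BT.br (nat_lit 0) (nat_lit 25) [nat_lit 3, nat_lit 5] (BT.dead (nat_lit 31) (BT.img (nat_lit 1) (nat_lit 4) (BT.frm (nat_lit 1) (nat_lit 0x191b1a0f08010535) (nat_lit 0x2b0f08010535) [nat_lit 1, nat_lit 0, nat_lit 5, nat_lit 10] (BT.pln (nat_lit 0) (nat_lit 4) (BT.img (nat_lit 1) (nat_lit 3) (BT.img (nat_lit 1) (nat_lit 0) (BT.img (nat_lit 1) (nat_lit 0) (BT.img (nat_lit 1) (nat_lit 0) (BT.img (nat_lit 1) (nat_lit 0) (BT.img (nat_lit 1) (nat_lit 0) (BT.img (nat_lit 1) (nat_lit 0) (BT.img (nat_lit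 1) (nat_lit 0) (BT.img (nat_lit 1) (nat_lit 0) (BT.img (nat_lit 1) (nat_lit 0) (BT.img (nat_lit 1) (nat_lit 0) (BT.img (nat_lit 1) (nat_lit 0) (BT.img (nat_lit 1) (nat_lit 0) (BT.img (nat_lit 1) (nat_lit 0) (BT.img (nat_lit 1) (nat_lit 0) (BT.and (nat_lit 15) (nat_lit 0) (BT.cnt (nat_lit 0))))))))))))))))))))) (BT.dead (nat_lit 11) (BT.img (nat_lit 1) (nat_lit 4) (BT.frm (nat_lit 1) (nat_lit 0x191b1a0f08010535) (nat_lit 0x1c370f08010535) [nat_lit 1, nat_lit 0, nat_lit 5, nat_lit 10] (BT.pln (nat_lit 0) (nat_lit 4) (BT.img (nat_lit 1) (nat_lit 3) (BT.img (nat_lit 1) (nat_lit 0) (BT.img (nat_lit 1) (nat_lit 0) (BT.img (nat_lit 1) (nat_lit 0) (BT.img (nat_lit 1) (nat_lit 0) (BT.img (nat_lit 1) (nat_lit 0) (BT.and (nat_lit 6) (nat_lit 0) (BT.cnt (nat_lit 0)))))))))))) (BT.dead (nat_lit 217) (BT.img (nat_lit 1) (nat_lit 4) (BT.frm (nat_lit 1) (nat_lit 0x191b1a0f08010535) (nat_lit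 0x191e0f08010535) [nat_lit 1, nat_lit 0, nat_lit 5, nat_lit 10] (BT.pln (nat_lit 0) (nat_lit 4) (BT.img (nat_lit 1) (nat_lit 3) (BT.img (nat_lit 1) (nat_lit 0) (BT.img (nat_lit 1) (nat_lit 0) (BT.and (nat_lit 3) (nat_lit 0) (BT.cnt (nat_lit 0))))))))) (BT.dead (nat_lit 95) (BT.img (nat_lit 1) (nat_lit 4) (BT.frm (nat_lit 1) (nat_lit 0x191b1a0f08010535) (nat_lit 0x19230f08010535) [nat_lit 1, nat_lit 0, nat_lit 5, nat_lit 10] (BT.pln (nat_lit 0) (nat_lit 4) (BT.img (nat_lit 1) (nat_lit 3) (BT.img (nat_lit 1) (nat_lit 0) (BT.img (nat_lit 1) (nat_lit 0) (BT.and (nat_lit 3) (nat_lit 0) (BT.cnt (nat_lit 0))))))))) (BT.dead (nat_lit 29) (BT.img (nat_lit 1) (nat_lit 4) (BT.frm (nat_lit 1) (nat_lit 0x191b1a0f08010535) (nat_lit 0x380f08010535) [nat_lit 1, nat_lit 0, nat_lit 5, nat_lit 10] (BT.pln (nat_lit 0) (nat_lit 4) (BT.img (nat_lit 1) (nat_lit 3) (BT.img (nat_lit 1) (nat_lit 0)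 (BT.img (nat_lit 1) (nat_lit 0) (BT.and (nat_lit 3) (nat_lit 0) (BT.cnt (nat_lit 0))))))))) (BT.kid (nat_lit 25) (nat_lit 1) (BT.img (nat_lit 1) (nat_lit 0) (BT.img (nat_lit 1) (nat_lit 0) (BT.img (nat_lit 1) (nat_lit 6) (BT.one (nat_lit 2) (nat_lit 0x3e3f191b1a0f08010535) (nat_lit 0x3e3f191b1a0f08010535) [nat_lit 1, nat_lit 2, nat_lit 3, nat_lit 0, nat_lit 7, nat_lit 12])))) BT.nil)))))))))) BT.nil)))))))

theorem yt_c132_cnt : Cnt 324 (grp 324 y_E0) [z_g1364] [z_g1364] 0 0 0 0 54 :=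
  BT.sound yt_c132_cnt_P Known.nil (t := yt_c132_cnt_t) (d := 0) (by decide +kernel)

theorem yt_c132_ge : 54 ≤ Nat.card (grp 324 yt_c132_K) :=
  Ch.le_card_grp (k := 9) (L := (lab 324 9)) z_hn yt_c132_K_ok (c := (Ch.cons (nat_lit 35) [nat_lit 1] (Ch.cons (nat_lit 25) [nat_lit 3, nat_lit 5] Ch.nil))) (by decide +kernel)

theorem yt_c132_eq : (grp 324 y_E0) ⊓ Subgroup.centralizer {Net.toPerm 324 z_g1364} = grp 324 yt_c132_K :=
  cent_eq yt_c132_sym yt_c132_cnt yt_c132_ge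

theorem yt_c132_card : Nat.card ↥((grp 324 y_E0) ⊓ Subgroup.centralizer {Net.toPerm 324 z_g1364}) = 54 :=
  card_cent yt_c132_sym yt_c132_cnt yt_c132_ge

theorem yt_c132_ord : orderOf (Net.toPerm 324 z_g1364) = 18 :=
  orderOf_net z_hn z_hk z_g1364_ok (by decide) (ps := [2, 3]) (by set_option linter.unusedSimpArgs false in simp [Nat.primeFactorsList_ofNat]) (by decide +kernel)

theorem z_le1370 : grp 324 yt_c133_K ≤ grp 324 y_E0 :=
  grp_le_of_memB z_hn z_hk y_E0_ok yt_c133_K_ok (ws := [nat_lit 0x382f191201091e, nat_lit 0x33291f191e150715010509, nat_lit 0x33353c252819201c11011101]) (by decide +kernel)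

theorem yt_c133_le : grp 324 yt_c133_K ≤ (grp 324 y_E0) :=
  (z_le1370.trans z_T111_s0.le)

theorem yt_c133_mem : Net.toPerm 324 z_g1367 ∈ (grp 324 y_E0) :=
  yt_c133_le (toPerm_mem_grp (E := yt_c133_K) (List.Mem.head _))

theorem yt_c133_sym : Sym 324 (grp 324 y_E0) [z_g1367] yt_c133_K 0 :=
  Sym.of_lab z_hn z_hk (okE_cons.2 ⟨z_g1367_ok, okE_nil _⟩) yt_c133_K_ok yt_c133_le (kT := 0) (by decide +kernel)

noncomputable def yt_c133_cnt_L : List ℕ := [1, 4, z_T111_s1_O, 0, 0, 4, 10, z_T111_s124_O, 0, 0, 5, 12, z_T111_s125_O, 0, 0, 6, 15, z_T111_s126_O, 1, 0]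

theorem yt_c133_cnt_P : Prob 324 9 (grp 324 y_E0) yt_c133_cnt_EG [z_g1367] [z_g1367] yt_c133_K yt_c133_cnt_L 0 0 :=
  Sym.prob z_hn z_hk yt_c133_sym yt_c133_cnt_EG_ok (grp_cons_le z_g39_z_T111 (grp_cons_le zg1_z_T111 (grp_cons_le zg3_z_T111 (grp_cons_le z_g43_z_T111 (grp_cons_le z_g42_z_T111 (grp_cons_le zg2_z_T111 (grp_cons_le z_g44_z_T111 (grp_cons_le z_g54_z_T111 (grp_cons_le z_g55_z_T111 (grp_cons_le z_g49_z_T111 (grp_cons_le z_g50_z_T111 (grp_cons_le z_g51_z_T111 (grp_cons_le z_g62_z_T111 (grp_cons_le z_g58_z_T111 (grp_cons_le z_g59_z_T111 (grp_cons_le z_g65_z_T111 (grp_cons_le z_g66_z_T111 (grp_cons_le z_g67_z_T111 (grp_cons_le z_g77_z_T111 (grp_cons_le z_g78_z_T111 (grp_cons_le z_g72_z_T111 (grp_cons_le z_g73_z_T111 (grp_cons_le z_g74_z_T111 (grp_cons_le z_g81_z_T111 (grp_cons_le z_g82_z_T111 (grp_cons_le z_g87_z_T111 (grp_cons_le zg0_z_T111 (grp_cons_le z_g91_z_T111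 (grp_cons_le z_g28_z_T111 (grp_cons_le z_g88_z_T111 (grp_cons_le z_g818_z_T111 (grp_cons_le z_g819_z_T111 (grp_cons_le z_g820_z_T111 (grp_cons_le z_g821_z_T111 (grp_nil_le _))))))))))))))))))))))))))))))))))) (Frames.cons z_T111_s1_F (Frames.cons z_T111_s124_F (Frames.cons z_T111_s125_F (Frames.cons z_T111_s126_F Frames.nil)))) (okE_cons.2 ⟨z_g1367_ok, okE_nil _⟩) _

noncomputable def yt_c133_cnt_t : BT := (BT.fix (nat_lit 0x10101010101010101) (BT.fix (nat_lit 65793) (BT.dif (nat_lit 1) (nat_lit 0) (BT.br (nat_lit 0) (nat_lit 127) [nat_lit 1] (BT.kid (nat_lit 127) (nat_lit 6) (BT.frm (nat_lit 0) (nat_lit 1293) (nat_lit 1293) [nat_lit 0] (BT.pln (nat_lit 0) (nat_lit 3) (BT.dif (nat_lit 0) (nat_lit 5) (BT.img (nat_lit 1) (nat_lit 3) (BT.img (nat_lit 1) (nat_lit 0) (BT.img (nat_lit 1) (nat_lit 0) (BT.frm (nat_lit 1) (nat_lit 0x3d3d44181908050d) (nat_lit 0x3d3d44181908050d) [nat_lit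 1, nat_lit 2, nat_lit 0, nat_lit 6] (BT.pln (nat_lit 0) (nat_lit 4) (BT.dif (nat_lit 5) (nat_lit 0) (BT.br (nat_lit 0) (nat_lit 134) [nat_lit 3] (BT.kid (nat_lit 134) (nat_lit 3) (BT.dif (nat_lit 16) (nat_lit 2) (BT.pln (nat_lit 4) (nat_lit 6) (BT.and (nat_lit 1) (nat_lit 0) (BT.pln (nat_lit 6) (nat_lit 5) (BT.dif (nat_lit 1) (nat_lit 0) (BT.pln (nat_lit 8) (nat_lit 7) (BT.and (nat_lit 1) (nat_lit 0) (BT.pln (nat_lit 10) (nat_lit 8) (BT.dif (nat_lit 1) (nat_lit 0) (BT.frm (nat_lit 2) (nat_lit 0x3f3d3d44181908050d) (nat_lit 0x3f3d3d44181908050d) [nat_lit 9, nat_lit 14, nat_lit 15, nat_lit 13, nat_lit 19] (BT.pln (nat_lit 0) (nat_lit 5) (BT.dif (nat_lit 2) (nat_lit 0) (BT.br (nat_lit 0) (nat_lit 18) [nat_lit 5] (BT.dead (nat_lit 20) (BT.frm (nat_lit 3) (nat_lit 0x443f3d3d44181908050d) (nat_lit 0x42443f3d3d44181908050d) [nat_lit 0, nat_lit 13, nat_lit 18, nat_lit 19, nat_lit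 17, nat_lit 23] (BT.pln (nat_lit 0) (nat_lit 6) (BT.img (nat_lit 1) (nat_lit 2) (BT.img (nat_lit 1) (nat_lit 0) (BT.img (nat_lit 1) (nat_lit 0) (BT.img (nat_lit 1) (nat_lit 0) (BT.img (nat_lit 1) (nat_lit 0) (BT.img (nat_lit 1) (nat_lit 0) (BT.img (nat_lit 1) (nat_lit 0) (BT.img (nat_lit 1) (nat_lit 0) (BT.img (nat_lit 1) (nat_lit 0) (BT.img (nat_lit 1) (nat_lit 0) (BT.img (nat_lit 1) (nat_lit 0) (BT.and (nat_lit 11) (nat_lit 0) (BT.cnt (nat_lit 0)))))))))))))))) (BT.dead (nat_lit 19) (BT.frm (nat_lit 3) (nat_lit 0x443f3d3d44181908050d) (nat_lit 0x433f3d3d44181908050d) [nat_lit 0, nat_lit 13, nat_lit 18, nat_lit 19, nat_lit 17, nat_lit 23] (BT.pln (nat_lit 0) (nat_lit 6) (BT.img (nat_lit 1) (nat_lit 2) (BT.and (nat_lit 1) (nat_lit 0) (BT.cnt (nat_lit 0)))))) (BT.kid (nat_lit 18) (nat_lit 1) (BT.one (nat_lit 3) (nat_lit 0x443f3d3d44181908050d) (nat_lit 0x443f3d3d44181908050d)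 [nat_lit 0, nat_lit 13, nat_lit 18, nat_lit 19, nat_lit 17, nat_lit 23]) BT.nil)))))))))))))))) BT.nil))))))))))) BT.nil)))))

theorem yt_c133_cnt : Cnt 324 (grp 324 y_E0) [z_g1367] [z_g1367] 0 0 0 0 54 :=
  BT.sound yt_c133_cnt_P Known.nil (t := yt_c133_cnt_t) (d := 0) (by decide +kernel)

theorem yt_c133_ge : 54 ≤ Nat.card (grp 324 yt_c133_K) :=
  Ch.le_card_grp (k := 9) (L := (lab 324 9)) z_hn yt_c133_K_ok (c := (Ch.cons (nat_lit 127) [nat_lit 1] (Ch.cons (nat_lit 134) [nat_lit 3] (Ch.cons (nat_lit 18) [nat_lit 5] Ch.nil)))) (by decide +kernel)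

theorem yt_c133_eq : (grp 324 y_E0) ⊓ Subgroup.centralizer {Net.toPerm 324 z_g1367} = grp 324 yt_c133_K :=
  cent_eq yt_c133_sym yt_c133_cnt yt_c133_ge

theorem yt_c133_card : Nat.card ↥((grp 324 y_E0) ⊓ Subgroup.centralizer {Net.toPerm 324 z_g1367}) = 54 :=
  card_cent yt_c133_sym yt_c133_cnt yt_c133_ge

theorem yt_c133_ord : orderOf (Net.toPerm 324 z_g1367) = 18 :=
  orderOf_net z_hn z_hk z_g1367_ok (by decide) (ps := [2, 3]) (by set_option linter.unusedSimpArgs false in simp [Nat.primeFactorsList_ofNat]) (by decide +kernel)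

theorem z_le1374 : grp 324 yt_c134_K ≤ grp 324 y_E0 :=
  grp_le_of_memB z_hn z_hk y_E0_ok yt_c134_K_ok (ws := [nat_lit 0x333526281f192112070a01052b, nat_lit 0x352f251f192315070a011605, nat_lit 0x382519201c013b02]) (by decide +kernel)

theorem yt_c134_le : grp 324 yt_c134_K ≤ (grp 324 y_E0) :=
  (z_le1374.trans z_T111_s0.le)

theorem yt_c134_mem : Net.toPerm 324 z_g1371 ∈ (grp 324 y_E0) :=
  yt_c134_le (toPerm_mem_grp (E := yt_c134_K) (List.Mem.head _))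

theorem yt_c134_sym : Sym 324 (grp 324 y_E0) [z_g1371] yt_c134_K 0 :=
  Sym.of_lab z_hn z_hk (okE_cons.2 ⟨z_g1371_ok, okE_nil _⟩) yt_c134_K_ok yt_c134_le (kT := 0) (by decide +kernel)

noncomputable def yt_c134_cnt_L : List ℕ := [1, 4, z_T111_s1_O, 0, 0, 5, 12, z_T111_s187_O, 0, 0, 6, 15, z_T111_s188_O, 1, 0]

theorem yt_c134_cnt_P : Prob 324 9 (grp 324 y_E0) yt_c134_cnt_EG [z_g1371] [z_g1371] yt_c134_K yt_c134_cnt_L 0 0 :=
  Sym.prob z_hn z_hk yt_c134_sym yt_c134_cnt_EG_ok (grp_cons_le z_g39_z_T111 (grp_cons_le zg1_z_T111 (grp_cons_le zg3_z_T111 (grp_cons_le z_g43_z_T111 (grp_cons_le z_g42_z_T111 (grp_cons_le zg2_z_T111 (grp_cons_le z_g44_z_T111 (grp_cons_le z_g54_z_T111 (grp_cons_le z_g55_z_T111 (grp_cons_le z_g49_z_T111 (grp_cons_le z_g50_z_T111 (grp_cons_le z_g51_z_T111 (grp_cons_le z_g62_z_T111 (grp_cons_le z_g58_z_T111 (grp_cons_le z_g59_z_T111 (grp_cons_le z_g65_z_T111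 (grp_cons_le z_g66_z_T111 (grp_cons_le z_g67_z_T111 (grp_cons_le z_g77_z_T111 (grp_cons_le z_g78_z_T111 (grp_cons_le z_g72_z_T111 (grp_cons_le z_g73_z_T111 (grp_cons_le z_g74_z_T111 (grp_cons_le z_g81_z_T111 (grp_cons_le z_g82_z_T111 (grp_cons_le z_g87_z_T111 (grp_cons_le zg0_z_T111 (grp_cons_le z_g91_z_T111 (grp_cons_le z_g28_z_T111 (grp_cons_le z_g88_z_T111 (grp_cons_le z_g1346_z_T111 (grp_cons_le z_g465_z_T111 (grp_cons_le z_g1347_z_T111 (grp_cons_le z_g1348_z_T111 (grp_cons_le z_g1152_z_T111 (grp_cons_le z_g1153_z_T111 (grp_cons_le z_g1154_z_T111 (grp_cons_le z_g1155_z_T111 (grp_cons_le z_g1150_z_T111 (grp_cons_le z_g1156_z_T111 (grp_nil_le _))))))))))))))))))))))))))))))))))))))))) (Frames.cons z_T111_s1_F (Frames.cons z_T111_s187_F (Frames.cons z_T111_s188_F Frames.nil))) (okE_cons.2 ⟨z_g1371_ok, okE_nil _⟩) _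

noncomputable def yt_c134_cnt_t : BT := (BT.fix (nat_lit 0x10101010101010101) (BT.fix (nat_lit 65793) (BT.dif (nat_lit 1) (nat_lit 0) (BT.br (nat_lit 0) (nat_lit 1) [nat_lit 1] (BT.kid (nat_lit 1) (nat_lit 6) (BT.frm (nat_lit 0) (nat_lit 777) (nat_lit 777) [nat_lit 0] (BT.pln (nat_lit 0) (nat_lit 3) (BT.dif (nat_lit 0) (nat_lit 5) (BT.br (nat_lit 0) (nat_lit 8) [nat_lit 3] (BT.dead (nat_lit 10) (BT.img (nat_lit 1) (nat_lit 4) (BT.img (nat_lit 1) (nat_lit 0) (BT.img (nat_lit 1) (nat_lit 0) (BT.frm (nat_lit 1) (nat_lit 0x3d3f464b0f1f070c0309) (nat_lit 0x3d40464b0f1f070c0309) [nat_lit 3, nat_lit 1, nat_lit 2, nat_lit 0, nat_lit 7] (BT.pln (nat_lit 0) (nat_lit 5) (BT.img (nat_lit 1) (nat_lit 5) (BT.img (nat_lit 1) (nat_lit 0) (BT.img (nat_lit 1) (nat_lit 0) (BT.img (nat_lit 1) (nat_lit 0) (BT.img (nat_lit 1) (nat_lit 0) (BT.img (nat_lit 1) (nat_lit 0) (BT.img (nat_lit 1) (nat_lit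 0) (BT.and (nat_lit 7) (nat_lit 0) (BT.cnt (nat_lit 0))))))))))))))) (BT.dead (nat_lit 16) (BT.img (nat_lit 1) (nat_lit 4) (BT.img (nat_lit 1) (nat_lit 0) (BT.img (nat_lit 1) (nat_lit 0) (BT.frm (nat_lit 1) (nat_lit 0x3d3f464b0f1f070c0309) (nat_lit 0x3d464b0f1f070c0309) [nat_lit 3, nat_lit 1, nat_lit 2, nat_lit 0, nat_lit 7] (BT.pln (nat_lit 0) (nat_lit 5) (BT.img (nat_lit 1) (nat_lit 5) (BT.and (nat_lit 1) (nat_lit 0) (BT.cnt (nat_lit 0))))))))) (BT.kid (nat_lit 8) (nat_lit 3) (BT.pln (nat_lit 3) (nat_lit 1) (BT.dif (nat_lit 11) (nat_lit 0) (BT.pln (nat_lit 5) (nat_lit 2) (BT.dif (nat_lit 1) (nat_lit 0) (BT.img (nat_lit 1) (nat_lit 8) (BT.img (nat_lit 1) (nat_lit 0) (BT.img (nat_lit 1) (nat_lit 0) (BT.frm (nat_lit 1) (nat_lit 0x3d3f464b0f1f070c0309) (nat_lit 0x3d3f464b0f1f070c0309) [nat_lit 7, nat_lit 1, nat_lit 2, nat_lit 0, nat_lit 11] (BT.pln (nat_lit 0) (nat_lit 8) (BT.dif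 (nat_lit 5) (nat_lit 0) (BT.pln (nat_lit 2) (nat_lit 7) (BT.dif (nat_lit 1) (nat_lit 0) (BT.pln (nat_lit 4) (nat_lit 5) (BT.dif (nat_lit 1) (nat_lit 0) (BT.pln (nat_lit 6) (nat_lit 9) (BT.and (nat_lit 1) (nat_lit 0) (BT.br (nat_lit 0) (nat_lit 53) [nat_lit 5] (BT.dead (nat_lit 62) (BT.frm (nat_lit 2) (nat_lit 0x413d3f464b0f1f070c0309) (nat_lit 0x42443d3f464b0f1f070c0309) [nat_lit 0, nat_lit 17, nat_lit 11, nat_lit 12, nat_lit 10, nat_lit 21] (BT.pln (nat_lit 0) (nat_lit 6) (BT.img (nat_lit 1) (nat_lit 2) (BT.and (nat_lit 1) (nat_lit 0) (BT.cnt (nat_lit 0)))))) (BT.dead (nat_lit 129) (BT.frm (nat_lit 2) (nat_lit 0x413d3f464b0f1f070c0309) (nat_lit 0x433d3f464b0f1f070c0309) [nat_lit 0, nat_lit 17, nat_lit 11, nat_lit 12, nat_lit 10, nat_lit 21] (BT.pln (nat_lit 0) (nat_lit 6) (BT.img (nat_lit 1) (nat_lit 2) (BT.and (nat_lit 1) (nat_lit 0) (BT.cnt (nat_lit 0)))))) (BT.kid (nat_lit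 53) (nat_lit 1) (BT.one (nat_lit 2) (nat_lit 0x413d3f464b0f1f070c0309) (nat_lit 0x413d3f464b0f1f070c0309) [nat_lit 0, nat_lit 17, nat_lit 11, nat_lit 12, nat_lit 10, nat_lit 21]) BT.nil)))))))))))))))))))) BT.nil))))))) BT.nil)))))

theorem yt_c134_cnt : Cnt 324 (grp 324 y_E0) [z_g1371] [z_g1371] 0 0 0 0 54 :=
  BT.sound yt_c134_cnt_P Known.nil (t := yt_c134_cnt_t) (d := 0) (by decide +kernel)

theorem yt_c134_ge : 54 ≤ Nat.card (grp 324 yt_c134_K) :=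
  Ch.le_card_grp (k := 9) (L := (lab 324 9)) z_hn yt_c134_K_ok (c := (Ch.cons (nat_lit 1) [nat_lit 1] (Ch.cons (nat_lit 8) [nat_lit 3] (Ch.cons (nat_lit 53) [nat_lit 5] Ch.nil)))) (by decide +kernel)

theorem yt_c134_eq : (grp 324 y_E0) ⊓ Subgroup.centralizer {Net.toPerm 324 z_g1371} = grp 324 yt_c134_K :=
  cent_eq yt_c134_sym yt_c134_cnt yt_c134_ge

theorem yt_c134_card : Nat.card ↥((grp 324 y_E0) ⊓ Subgroup.centralizer {Net.toPerm 324 z_g1371}) = 54 :=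
  card_cent yt_c134_sym yt_c134_cnt yt_c134_ge

theorem yt_c134_ord : orderOf (Net.toPerm 324 z_g1371) = 18 :=
  orderOf_net z_hn z_hk z_g1371_ok (by decide) (ps := [2, 3]) (by set_option linter.unusedSimpArgs false in simp [Nat.primeFactorsList_ofNat]) (by decide +kernel)

theorem z_le1378 : grp 324 yt_c135_K ≤ grp 324 y_E0 :=
  grp_le_of_memB z_hn z_hk y_E0_ok yt_c135_K_ok (ws := [nat_lit 0x3925281a250f12070a011528, nat_lit 0x3c271f19201c0f07012e01, nat_lit 0x33353c2f262819221a013b02]) (by decide +kernel)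

theorem yt_c135_le : grp 324 yt_c135_K ≤ (grp 324 y_E0) :=
  (z_le1378.trans z_T111_s0.le)

theorem yt_c135_mem : Net.toPerm 324 z_g1375 ∈ (grp 324 y_E0) :=
  yt_c135_le (toPerm_mem_grp (E := yt_c135_K) (List.Mem.head _))

theorem yt_c135_sym : Sym 324 (grp 324 y_E0) [z_g1375] yt_c135_K 0 :=
  Sym.of_lab z_hn z_hk (okE_cons.2 ⟨z_g1375_ok, okE_nil _⟩) yt_c135_K_ok yt_c135_le (kT := 0) (by decide +kernel)

noncomputable def yt_c135_cnt_L : List ℕ := [1, 4, z_T111_s1_O, 0, 0, 4, 10, z_T111_s124_O, 0, 0, 5, 12, z_T111_s125_O, 0, 0, 6, 15, z_T111_s126_O, 1, 0]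

theorem yt_c135_cnt_P : Prob 324 9 (grp 324 y_E0) yt_c135_cnt_EG [z_g1375] [z_g1375] yt_c135_K yt_c135_cnt_L 0 0 :=
  Sym.prob z_hn z_hk yt_c135_sym yt_c135_cnt_EG_ok (grp_cons_le z_g39_z_T111 (grp_cons_le zg1_z_T111 (grp_cons_le zg3_z_T111 (grp_cons_le z_g43_z_T111 (grp_cons_le z_g42_z_T111 (grp_cons_le zg2_z_T111 (grp_cons_le z_g44_z_T111 (grp_cons_le z_g54_z_T111 (grp_cons_le z_g55_z_T111 (grp_cons_le z_g49_z_T111 (grp_cons_le z_g50_z_T111 (grp_cons_le z_g51_z_T111 (grp_cons_le z_g62_z_T111 (grp_cons_le z_g58_z_T111 (grp_cons_le z_g59_z_T111 (grp_cons_le z_g65_z_T111 (grp_cons_le z_g66_z_T111 (grp_cons_le z_g67_z_T111 (grp_cons_le z_g77_z_T111 (grp_cons_le z_g78_z_T111 (grp_cons_le z_g72_z_T111 (grp_cons_le z_g73_z_T111 (grp_cons_le z_g74_z_T111 (grp_cons_le z_g81_z_T111 (grp_cons_le z_g82_z_T111 (grp_cons_le z_g87_z_T111 (grp_cons_le zg0_z_T111 (grp_cons_le z_g91_z_T111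 (grp_cons_le z_g28_z_T111 (grp_cons_le z_g88_z_T111 (grp_cons_le z_g818_z_T111 (grp_cons_le z_g819_z_T111 (grp_cons_le z_g820_z_T111 (grp_cons_le z_g821_z_T111 (grp_nil_le _))))))))))))))))))))))))))))))))))) (Frames.cons z_T111_s1_F (Frames.cons z_T111_s124_F (Frames.cons z_T111_s125_F (Frames.cons z_T111_s126_F Frames.nil)))) (okE_cons.2 ⟨z_g1375_ok, okE_nil _⟩) _

noncomputable def yt_c135_cnt_t : BT := (BT.fix (nat_lit 0x10101010101010101) (BT.fix (nat_lit 65793) (BT.dif (nat_lit 1) (nat_lit 0) (BT.br (nat_lit 0) (nat_lit 31) [nat_lit 1] (BT.kid (nat_lit 31) (nat_lit 6) (BT.frm (nat_lit 0) (nat_lit 328208) (nat_lit 328208) [nat_lit 0] (BT.pln (nat_lit 0) (nat_lit 3) (BT.dif (nat_lit 0) (nat_lit 5) (BT.img (nat_lit 1) (nat_lit 3) (BT.img (nat_lit 1) (nat_lit 0) (BT.img (nat_lit 1) (nat_lit 0) (BT.frm (nat_lit 1) (nat_lit 0x3d410f290707050210) (nat_lit 0x3d410f290707050210)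 [nat_lit 1, nat_lit 2, nat_lit 0, nat_lit 6] (BT.pln (nat_lit 0) (nat_lit 4) (BT.dif (nat_lit 5) (nat_lit 0) (BT.br (nat_lit 0) (nat_lit 195) [nat_lit 3] (BT.kid (nat_lit 195) (nat_lit 3) (BT.dif (nat_lit 16) (nat_lit 2) (BT.pln (nat_lit 4) (nat_lit 6) (BT.and (nat_lit 1) (nat_lit 0) (BT.pln (nat_lit 6) (nat_lit 5) (BT.dif (nat_lit 1) (nat_lit 0) (BT.pln (nat_lit 8) (nat_lit 7) (BT.and (nat_lit 1) (nat_lit 0) (BT.pln (nat_lit 10) (nat_lit 8) (BT.dif (nat_lit 1) (nat_lit 0) (BT.frm (nat_lit 2) (nat_lit 0x3f3d410f290707050210) (nat_lit 0x3f3d410f290707050210) [nat_lit 9, nat_lit 14, nat_lit 15, nat_lit 13, nat_lit 19] (BT.pln (nat_lit 0) (nat_lit 5) (BT.dif (nat_lit 2) (nat_lit 0) (BT.br (nat_lit 0) (nat_lit 63) [nat_lit 5] (BT.dead (nat_lit 160) (BT.frm (nat_lit 3) (nat_lit 0x3f3d410f290707050210) (nat_lit 0x41443f3d410f290707050210) [nat_lit 0, nat_lit 13, nat_lit 18, nat_lit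 19, nat_lit 17, nat_lit 23] (BT.pln (nat_lit 0) (nat_lit 6) (BT.img (nat_lit 1) (nat_lit 2) (BT.img (nat_lit 1) (nat_lit 0) (BT.img (nat_lit 1) (nat_lit 0) (BT.img (nat_lit 1) (nat_lit 0) (BT.img (nat_lit 1) (nat_lit 0) (BT.and (nat_lit 5) (nat_lit 0) (BT.cnt (nat_lit 0)))))))))) (BT.dead (nat_lit 148) (BT.frm (nat_lit 3) (nat_lit 0x3f3d410f290707050210) (nat_lit 0x443f3d410f290707050210) [nat_lit 0, nat_lit 13, nat_lit 18, nat_lit 19, nat_lit 17, nat_lit 23] (BT.pln (nat_lit 0) (nat_lit 6) (BT.img (nat_lit 1) (nat_lit 2) (BT.img (nat_lit 1) (nat_lit 0) (BT.img (nat_lit 1) (nat_lit 0) (BT.img (nat_lit 1) (nat_lit 0) (BT.img (nat_lit 1) (nat_lit 0) (BT.img (nat_lit 1) (nat_lit 0) (BT.img (nat_lit 1) (nat_lit 0) (BT.and (nat_lit 7) (nat_lit 0) (BT.cnt (nat_lit 0)))))))))))) (BT.kid (nat_lit 63) (nat_lit 1) (BT.one (nat_lit 3) (nat_lit 0x3f3d410f290707050210) (nat_lit 0x3f3d410f290707050210)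 [nat_lit 0, nat_lit 13, nat_lit 18, nat_lit 19, nat_lit 17, nat_lit 23]) BT.nil)))))))))))))))) BT.nil))))))))))) BT.nil)))))

theorem yt_c135_cnt : Cnt 324 (grp 324 y_E0) [z_g1375] [z_g1375] 0 0 0 0 54 :=
  BT.sound yt_c135_cnt_P Known.nil (t := yt_c135_cnt_t) (d := 0) (by decide +kernel)

theorem yt_c135_ge : 54 ≤ Nat.card (grp 324 yt_c135_K) :=
  Ch.le_card_grp (k := 9) (L := (lab 324 9)) z_hn yt_c135_K_ok (c := (Ch.cons (nat_lit 31) [nat_lit 1] (Ch.cons (nat_lit 195) [nat_lit 3] (Ch.cons (nat_lit 63) [nat_lit 5] Ch.nil)))) (by decide +kernel)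

theorem yt_c135_eq : (grp 324 y_E0) ⊓ Subgroup.centralizer {Net.toPerm 324 z_g1375} = grp 324 yt_c135_K :=
  cent_eq yt_c135_sym yt_c135_cnt yt_c135_ge

theorem yt_c135_card : Nat.card ↥((grp 324 y_E0) ⊓ Subgroup.centralizer {Net.toPerm 324 z_g1375}) = 54 :=
  card_cent yt_c135_sym yt_c135_cnt yt_c135_ge

theorem yt_c135_ord : orderOf (Net.toPerm 324 z_g1375) = 18 :=
  orderOf_net z_hn z_hk z_g1375_ok (by decide) (ps := [2, 3]) (by set_option linter.unusedSimpArgs false in simp [Nat.primeFactorsList_ofNat]) (by decide +kernel)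

theorem z_le1381 : grp 324 yt_c136_K ≤ grp 324 y_E0 :=
  grp_le_of_memB z_hn z_hk y_E0_ok yt_c136_K_ok (ws := [nat_lit 0x2f27190f12090118, nat_lit 0x392f251f1921110707011101]) (by decide +kernel)

theorem yt_c136_le : grp 324 yt_c136_K ≤ (grp 324 y_E0) :=
  (z_le1381.trans z_T111_s0.le)

theorem yt_c136_mem : Net.toPerm 324 z_g1379 ∈ (grp 324 y_E0) :=
  yt_c136_le (toPerm_mem_grp (E := yt_c136_K) (List.Mem.head _))

theorem yt_c136_sym : Sym 324 (grp 324 y_E0) [z_g1379] yt_c136_K 0 :=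
  Sym.of_lab z_hn z_hk (okE_cons.2 ⟨z_g1379_ok, okE_nil _⟩) yt_c136_K_ok yt_c136_le (kT := 0) (by decide +kernel)

theorem z_le1386 : grp 324 z_V1385 ≤ grp 324 z_V181 :=
  grp_le_of_memB z_hn z_hk z_V181_ok z_V1385_ok (ws := [nat_lit 0x905030104, nat_lit 655875, nat_lit 257]) (by decide +kernel)

theorem z_T111_s189 : Stab 324 (grp 324 y_E0) [nat_lit 242, nat_lit 10, nat_lit 26, nat_lit 298, nat_lit 0] z_V1385 8 :=
  Stab.step (k := 9) (L := (lab 324 9)) z_hn z_T111_s14 z_V1385_ok z_le1386 (c := (Ch.cons (nat_lit 157) [nat_lit 1, nat_lit 3] (Ch.cons (nat_lit 251) [nat_lit 5] Ch.nil))) (by decide +kernel)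

theorem z_T111_s190 : Stab 324 (grp 324 y_E0) [nat_lit 157, nat_lit 242, nat_lit 10, nat_lit 26, nat_lit 298, nat_lit 0] z_V1387 2 :=
  Stab.step (k := 9) (L := (lab 324 9)) z_hn z_T111_s189 z_V1387_ok (grp_mono (List.subset_append_right [z_g1382, z_g1383] _)) (c := (Ch.cons (nat_lit 251) [nat_lit 1] Ch.nil)) (by decide +kernel)

theorem z_T111_s191 : Stab 324 (grp 324 y_E0) [nat_lit 251, nat_lit 157, nat_lit 242, nat_lit 10, nat_lit 26, nat_lit 298, nat_lit 0] z_V1388 1 :=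
  Stab.step (k := 9) (L := (lab 324 9)) z_hn z_T111_s190 z_V1388_ok (grp_mono (List.subset_append_right [z_g1384] _)) (c := Ch.nil) (by decide +kernel)

theorem z_g1382_z_T111 : Net.toPerm 324 z_g1382 ∈ (grp 324 y_E0) :=
  z_T111_s189.le (toPerm_mem_grp (E := z_V1385) (List.Mem.head _))

theorem z_g1383_z_T111 : Net.toPerm 324 z_g1383 ∈ (grp 324 y_E0) :=
  z_T111_s189.le (toPerm_mem_grp (E := z_V1385) (List.Mem.tail _ (List.Mem.head _)))

theorem z_g1384_z_T111 : Net.toPerm 324 z_g1384 ∈ (grp 324 y_E0) :=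
  z_T111_s189.le (toPerm_mem_grp (E := z_V1385) (List.Mem.tail _ (List.Mem.tail _ (List.Mem.head _))))

noncomputable def z_T111_s191_O : ℕ := (nat_lit 0xfffffffffffffffff000000000000000000000000000000000000000000000000000000000000000000000000000000000ffffffffffffffffffffffffffffffff00000000000000000000000000000000f0000000000000000ffffffffffffffff0000000000000000ffffffffffffffff00000000000000000ffffffff00000000ffffffff00000000ffffffff00000000ffffffff00000000ffffffff000000000ffff0000ffff0000ffff0000ffff0000ffff0000ffff0000ffff0000ffff0000ffff0000ffff00000ff00ff00ff00ff00ff00ff00ff00ff00ff00ff00ff00ff00ff00ff00ff00ff00ff00ff00ff00ff000f0f0f0f0f0f0f0f0f0f0f0f0f0f0f0f0f0f0f0f0f0f0f0f0f0f0f0f0f0f0f0f0f0f0f0f0f0f0f0f0cccccccccccccccccccccccccccccccccccccccccccccccccccccccccccccccccccccccccccccccccaaaaaaaaaaaaaaaaaaaaaaaaaaaaaaaaaaaaaaaaaaaaaaaaaaaaaaaaaaaaaaaaaaaaaaaaaaaaaaaaa0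00000000000000000000000000000000000000000000000000000000000000000000000000000001000000400000000000000000000000000000000000000000000000000000000000000000000000000000000000000000000000000000000000000000000000000000000000000000000000000004000000000000000000000000000000000000000000000000000000000000000000000000000000000000400000000000000000000004000000000000000000000000000000000000000000000000000000000000000000000000000000000000000000000000000002000000000000000000000000000000000000000000000000000000000800000000000000000000000000000000000000000000000000000000000000)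

theorem z_T111_s191_F : Frame 324 (grp 324 y_E0) 7 16 z_T111_s191_O 1 1 :=
  IsBase.frame z_T111_s191.isBase (by decide +kernel)

noncomputable def z_T111_s190_O : ℕ := (nat_lit 0x6eb0b68c4a0517282c1413c9218040000200004004000801000808c02008610000020145000000000104f0813359ac8d310eb2434866f93fcfd0fffb3d9fbe7fedfd7f728000000000000000000000000081afd182a6622076833fbc14cc6fdeffff2ffcff2cf8100020000017cfb79effff800000000000000000d0833b10ae087c303ac161e76bbed9dd800085003ffff8c2808c7fffdf780007fff77e8000000077b5fcb6fb9c274af040ac12c877b29360a7fc84d107ef8143ff08d7e7ca007f807cb08817bfc00006fee6e3585f3fc354f94347c086e0c7ee057a031b185e86d03e8ec07d076e178787a0cba1780133e0641b9720c532db661d11ab317e70f5720e475932d8639e63f314c3d51673746666648be0d62b3a318638b80bde8c972b809cc2d619544ef5f59f4d563d0515d4a6abab2b4ad245b555555299ca538a3a54000000000000000000000000000000000000000000000000000000000000000000000000000000001000000400000000000000000000000000000000000000000000000000000000000000000000000000000000000000000000000000000000000000000000000000000000000000000000000000004000000000000000000000000000000000000000000000000000000000000000000000000000000000000400000000000000000000004000000000000000000000000000000000000000000000000000000000000000000000000000000000000000000000000000002000000000000000000000000000000000000000)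

theorem z_T111_s190_F : Frame 324 (grp 324 y_E0) 6 14 z_T111_s190_O 0 1 :=
  Stab.frame z_hn z_T111_s190 (by decide +kernel)

noncomputable def z_T111_s189_O : ℕ := (nat_lit 0xca094880e141039281512082700400c0e00005106000815850808c02008610000020145000000000733f2b1511eaed8696e001a1888b94607100a7ae38ebf3e87897f33bc09298b4ff00000000000000093c3c2a7f389cac4443c8d631005eb9171e7f8e2d97995eb4af9dcf64756103d00fe380080000000082567ab7f0690fa0554635e500df4e83821800ec5fa36f885876d526792c63c8f0d9c7ff7f000000092453aa4308194f70f6d1a76ee33b70d8c100f85f71f3ea6fad38f090d7bb622cce7929064bfc000087ce958eb7a86084926b9e906dbe62ce0cdb0136a9fe9bd14ef61e258e999752aa95e9543a8022ab4000000000000000000000000000000000000000000000000000000000000000000000000000000001000000400000000000000000000000000000000000000000000000000000000000000000000000000000000000000000000000000000000000000000000000000000000000000000000000000004000000000000000000000000000000000000000000000000000000000000000000000000000000000000400000000000000000000004000000000000000000000000000000000000000000000000000000000000)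

theorem z_T111_s189_F : Frame 324 (grp 324 y_E0) 5 11 z_T111_s189_O 0 1 :=
  Stab.frame z_hn z_T111_s189 (by decide +kernel)

noncomputable def yt_c136_cnt_L : List ℕ := [1, 4, z_T111_s1_O, 0, 0, 5, 11, z_T111_s189_O, 0, 0, 6, 14, z_T111_s190_O, 0, 0, 7, 16, z_T111_s191_O, 1, 0]

theorem yt_c136_cnt_P : Prob 324 9 (grp 324 y_E0) yt_c136_cnt_EG [z_g1379] [z_g1379] yt_c136_K yt_c136_cnt_L 0 0 :=
  Sym.prob z_hn z_hk yt_c136_sym yt_c136_cnt_EG_ok (grp_cons_le z_g39_z_T111 (grp_cons_le zg1_z_T111 (grp_cons_le zg3_z_T111 (grp_cons_le z_g43_z_T111 (grp_cons_le z_g42_z_T111 (grp_cons_le zg2_z_T111 (grp_cons_le z_g44_z_T111 (grp_cons_le z_g54_z_T111 (grp_cons_le z_g55_z_T111 (grp_cons_le z_g49_z_T111 (grp_cons_le z_g50_z_T111 (grp_cons_le z_g51_z_T111 (grp_cons_le z_g62_z_T111 (grp_cons_le z_g58_z_T111 (grp_cons_le z_g59_z_T111 (grp_cons_le z_g65_z_T111 (grp_cons_le z_g66_z_T111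 (grp_cons_le z_g67_z_T111 (grp_cons_le z_g77_z_T111 (grp_cons_le z_g78_z_T111 (grp_cons_le z_g72_z_T111 (grp_cons_le z_g73_z_T111 (grp_cons_le z_g74_z_T111 (grp_cons_le z_g81_z_T111 (grp_cons_le z_g82_z_T111 (grp_cons_le z_g87_z_T111 (grp_cons_le zg0_z_T111 (grp_cons_le z_g91_z_T111 (grp_cons_le z_g28_z_T111 (grp_cons_le z_g88_z_T111 (grp_cons_le z_g175_z_T111 (grp_cons_le z_g176_z_T111 (grp_cons_le z_g177_z_T111 (grp_cons_le z_g30_z_T111 (grp_cons_le z_g178_z_T111 (grp_cons_le z_g174_z_T111 (grp_cons_le z_g126_z_T111 (grp_cons_le z_g127_z_T111 (grp_cons_le z_g128_z_T111 (grp_cons_le z_g129_z_T111 (grp_cons_le z_g130_z_T111 (grp_cons_le z_g131_z_T111 (grp_cons_le z_g132_z_T111 (grp_cons_le z_g133_z_T111 (grp_cons_le z_g134_z_T111 (grp_cons_le z_g135_z_T111 (grp_cons_le z_g1382_z_T111 (grp_cons_le z_g1383_z_T111 (grp_cons_le z_g1384_z_T111 (grp_nil_le _))))))))))))))))))))))))))))))))))))))))))))))))))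 (Frames.cons z_T111_s1_F (Frames.cons z_T111_s189_F (Frames.cons z_T111_s190_F (Frames.cons z_T111_s191_F Frames.nil)))) (okE_cons.2 ⟨z_g1379_ok, okE_nil _⟩) _

noncomputable def yt_c136_cnt_t : BT := (BT.fix (nat_lit 0x10101010101010101) (BT.fix (nat_lit 65793) (BT.dif (nat_lit 1) (nat_lit 0) (BT.br (nat_lit 0) (nat_lit 9) [nat_lit 1] (BT.dead (nat_lit 29) (BT.img (nat_lit 1) (nat_lit 0) (BT.frm (nat_lit 0) (nat_lit 79874) (nat_lit 328199) [nat_lit 1] (BT.pln (nat_lit 0) (nat_lit 2) (BT.and (nat_lit 5) (nat_lit 0) (BT.img (nat_lit 1) (nat_lit 3) (BT.img (nat_lit 1) (nat_lit 0) (BT.img (nat_lit 1) (nat_lit 0) (BT.img (nat_lit 1) (nat_lit 0) (BT.img (nat_lit 1) (nat_lit 0) (BT.frm (nat_lit 1) (nat_lit 0x4345494f17013802) (nat_lit 0x3f4243473d4952080b050207) [nat_lit 8, nat_lit 5, nat_lit 0, nat_lit 3, nat_lit 9] (BT.pln (nat_lit 0) (nat_lit 5) (BT.and (nat_lit 0) (nat_lit 13)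 (BT.cnt (nat_lit 0)))))))))))))) (BT.dead (nat_lit 68) (BT.img (nat_lit 1) (nat_lit 0) (BT.frm (nat_lit 0) (nat_lit 79874) (nat_lit 139013) [nat_lit 1] (BT.pln (nat_lit 0) (nat_lit 2) (BT.and (nat_lit 5) (nat_lit 0) (BT.img (nat_lit 1) (nat_lit 3) (BT.img (nat_lit 1) (nat_lit 0) (BT.img (nat_lit 1) (nat_lit 0) (BT.img (nat_lit 1) (nat_lit 0) (BT.img (nat_lit 1) (nat_lit 0) (BT.frm (nat_lit 1) (nat_lit 0x4345494f17013802) (nat_lit 0x3f41473d1b021f05) [nat_lit 8, nat_lit 5, nat_lit 0, nat_lit 3, nat_lit 9] (BT.pln (nat_lit 0) (nat_lit 5) (BT.and (nat_lit 0) (nat_lit 13) (BT.cnt (nat_lit 0)))))))))))))) (BT.kid (nat_lit 9) (nat_lit 2) (BT.dif (nat_lit 6) (nat_lit 3) (BT.frm (nat_lit 0) (nat_lit 79874) (nat_lit 79874) [nat_lit 1] (BT.pln (nat_lit 0) (nat_lit 1) (BT.dif (nat_lit 2) (nat_lit 0) (BT.pln (nat_lit 2) (nat_lit 2) (BT.dif (nat_lit 1) (nat_lit 0) (BT.pln (nat_lit 4) (nat_lit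 3) (BT.dif (nat_lit 1) (nat_lit 0) (BT.img (nat_lit 1) (nat_lit 8) (BT.and (nat_lit 11) (nat_lit 4) (BT.img (nat_lit 1) (nat_lit 1) (BT.img (nat_lit 1) (nat_lit 0) (BT.img (nat_lit 1) (nat_lit 0) (BT.img (nat_lit 1) (nat_lit 0) (BT.img (nat_lit 1) (nat_lit 0) (BT.frm (nat_lit 1) (nat_lit 0x4345494f17013802) (nat_lit 0x4345494f17013802) [nat_lit 6, nat_lit 5, nat_lit 0, nat_lit 3, nat_lit 15] (BT.pln (nat_lit 0) (nat_lit 6) (BT.dif (nat_lit 9) (nat_lit 0) (BT.pln (nat_lit 2) (nat_lit 5) (BT.dif (nat_lit 1) (nat_lit 0) (BT.pln (nat_lit 4) (nat_lit 7) (BT.dif (nat_lit 1) (nat_lit 0) (BT.pln (nat_lit 6) (nat_lit 9) (BT.and (nat_lit 1) (nat_lit 0) (BT.frm (nat_lit 2) (nat_lit 0x5d5f4345494f17013802) (nat_lit 0x5d5f4345494f17013802) [nat_lit 13, nat_lit 15, nat_lit 14, nat_lit 9, nat_lit 12, nat_lit 24] (BT.pln (nat_lit 0) (nat_lit 7) (BT.dif (nat_lit 2) (nat_lit 0) (BT.pln (nat_lit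 2) (nat_lit 8) (BT.and (nat_lit 1) (nat_lit 0) (BT.br (nat_lit 0) (nat_lit 155) [nat_lit 3] (BT.kid (nat_lit 155) (nat_lit 1) (BT.one (nat_lit 3) (nat_lit 0x615d5f4345494f17013802) (nat_lit 0x615d5f4345494f17013802) [nat_lit 0, nat_lit 19, nat_lit 21, nat_lit 20, nat_lit 15, nat_lit 18, nat_lit 30]) BT.nil))))))))))))))))))))))))))))))) BT.nil)))))))

theorem yt_c136_cnt : Cnt 324 (grp 324 y_E0) [z_g1379] [z_g1379] 0 0 0 0 18 :=
  BT.sound yt_c136_cnt_P Known.nil (t := yt_c136_cnt_t) (d := 0) (by decide +kernel)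

theorem yt_c136_ge : 18 ≤ Nat.card (grp 324 yt_c136_K) :=
  Ch.le_card_grp (k := 9) (L := (lab 324 9)) z_hn yt_c136_K_ok (c := (Ch.cons (nat_lit 9) [nat_lit 1] (Ch.cons (nat_lit 155) [nat_lit 3] Ch.nil))) (by decide +kernel)

theorem yt_c136_eq : (grp 324 y_E0) ⊓ Subgroup.centralizer {Net.toPerm 324 z_g1379} = grp 324 yt_c136_K :=
  cent_eq yt_c136_sym yt_c136_cnt yt_c136_ge

theorem yt_c136_card : Nat.card ↥((grp 324 y_E0) ⊓ Subgroup.centralizer {Net.toPerm 324 z_g1379}) = 18 :=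
  card_cent yt_c136_sym yt_c136_cnt yt_c136_ge

theorem yt_c136_ord : orderOf (Net.toPerm 324 z_g1379) = 18 :=
  orderOf_net z_hn z_hk z_g1379_ok (by decide) (ps := [2, 3]) (by set_option linter.unusedSimpArgs false in simp [Nat.primeFactorsList_ofNat]) (by decide +kernel)

theorem z_le1390 : grp 324 yt_c137_K ≤ grp 324 y_E0 :=
  grp_le_of_memB z_hn z_hk y_E0_ok yt_c137_K_ok (ws := [nat_lit 0x35381f191f11010516, nat_lit 0x3339251f19150715012502]) (by decide +kernel)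

theorem yt_c137_le : grp 324 yt_c137_K ≤ (grp 324 y_E0) :=
  (z_le1390.trans z_T111_s0.le)

theorem yt_c137_mem : Net.toPerm 324 z_g1389 ∈ (grp 324 y_E0) :=
  yt_c137_le (toPerm_mem_grp (E := yt_c137_K) (List.Mem.head _))

theorem yt_c137_sym : Sym 324 (grp 324 y_E0) [z_g1389] yt_c137_K 0 :=
  Sym.of_lab z_hn z_hk (okE_cons.2 ⟨z_g1389_ok, okE_nil _⟩) yt_c137_K_ok yt_c137_le (kT := 0) (by decide +kernel)

noncomputable def yt_c137_cnt_L : List ℕ := [2, 9, z_T111_s41_O, 0, 0, 5, 12, z_T111_s44_O, 0, 0, 6, 15, z_T111_s45_O, 1, 0]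

theorem yt_c137_cnt_P : Prob 324 9 (grp 324 y_E0) yt_c137_cnt_EG [z_g1389] [z_g1389] yt_c137_K yt_c137_cnt_L 0 0 :=
  Sym.prob z_hn z_hk yt_c137_sym yt_c137_cnt_EG_ok (grp_cons_le z_g43_z_T111 (grp_cons_le z_g42_z_T111 (grp_cons_le zg2_z_T111 (grp_cons_le z_g44_z_T111 (grp_cons_le z_g54_z_T111 (grp_cons_le z_g55_z_T111 (grp_cons_le z_g49_z_T111 (grp_cons_le z_g50_z_T111 (grp_cons_le z_g51_z_T111 (grp_cons_le z_g62_z_T111 (grp_cons_le z_g58_z_T111 (grp_cons_le z_g59_z_T111 (grp_cons_le z_g65_z_T111 (grp_cons_le z_g66_z_T111 (grp_cons_le z_g67_z_T111 (grp_cons_le z_g77_z_T111 (grp_cons_le z_g78_z_T111 (grp_cons_le z_g72_z_T111 (grp_cons_le z_g73_z_T111 (grp_cons_le z_g74_z_T111 (grp_cons_le z_g81_z_T111 (grp_cons_le z_g82_z_T111 (grp_cons_le z_g87_z_T111 (grp_cons_le zg0_z_T111 (grp_cons_le z_g91_z_T111 (grp_cons_le z_g28_z_T111 (grp_cons_le z_g88_z_T111 (grp_cons_le z_g39_z_T111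 (grp_cons_le zg1_z_T111 (grp_cons_le zg3_z_T111 (grp_cons_le z_g346_z_T111 (grp_cons_le z_g347_z_T111 (grp_cons_le z_g345_z_T111 (grp_cons_le z_g344_z_T111 (grp_nil_le _))))))))))))))))))))))))))))))))))) (Frames.cons z_T111_s41_F (Frames.cons z_T111_s44_F (Frames.cons z_T111_s45_F Frames.nil))) (okE_cons.2 ⟨z_g1389_ok, okE_nil _⟩) _

noncomputable def yt_c137_cnt_t : BT := (BT.fix (nat_lit 0x10101010101) (BT.fix (nat_lit 65793) (BT.dif (nat_lit 1) (nat_lit 0) (BT.br (nat_lit 0) (nat_lit 5) [nat_lit 1] (BT.kid (nat_lit 5) (nat_lit 4) (BT.img (nat_lit 1) (nat_lit 0) (BT.frm (nat_lit 0) (nat_lit 0x325373538) (nat_lit 0x325373538) [nat_lit 0, nat_lit 1] (BT.pln (nat_lit 0) (nat_lit 7) (BT.br (nat_lit 0) (nat_lit 38) [nat_lit 3] (BT.dead (nat_lit 195) (BT.img (nat_lit 1) (nat_lit 3) (BT.img (nat_lit 1) (nat_lit 0) (BT.frm (nat_lit 1) (nat_lit 0x3d41413e44440325373538) (nat_lit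 0x3e4041413e44440325373538) [nat_lit 2, nat_lit 0, nat_lit 1, nat_lit 5, nat_lit 6] (BT.pln (nat_lit 0) (nat_lit 5) (BT.img (nat_lit 1) (nat_lit 4) (BT.and (nat_lit 1) (nat_lit 0) (BT.cnt (nat_lit 0)))))))) (BT.kid (nat_lit 38) (nat_lit 1) (BT.img (nat_lit 1) (nat_lit 0) (BT.img (nat_lit 1) (nat_lit 4) (BT.img (nat_lit 1) (nat_lit 0) (BT.one (nat_lit 2) (nat_lit 0x3f3d41413e44440325373538) (nat_lit 0x3f3d41413e44440325373538) [nat_lit 2, nat_lit 3, nat_lit 0, nat_lit 1, nat_lit 6, nat_lit 7])))) BT.nil)))))) BT.nil)))))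

theorem yt_c137_cnt : Cnt 324 (grp 324 y_E0) [z_g1389] [z_g1389] 0 0 0 0 24 :=
  BT.sound yt_c137_cnt_P Known.nil (t := yt_c137_cnt_t) (d := 0) (by decide +kernel)

theorem yt_c137_ge : 24 ≤ Nat.card (grp 324 yt_c137_K) :=
  Ch.le_card_grp (k := 9) (L := (lab 324 9)) z_hn yt_c137_K_ok (c := (Ch.cons (nat_lit 5) [nat_lit 1] (Ch.cons (nat_lit 38) [nat_lit 3] Ch.nil))) (by decide +kernel)

theorem yt_c137_eq : (grp 324 y_E0) ⊓ Subgroup.centralizer {Net.toPerm 324 z_g1389} = grp 324 yt_c137_K :=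
  cent_eq yt_c137_sym yt_c137_cnt yt_c137_ge

theorem yt_c137_card : Nat.card ↥((grp 324 y_E0) ⊓ Subgroup.centralizer {Net.toPerm 324 z_g1389}) = 24 :=
  card_cent yt_c137_sym yt_c137_cnt yt_c137_ge

theorem yt_c137_ord : orderOf (Net.toPerm 324 z_g1389) = 24 :=
  orderOf_net z_hn z_hk z_g1389_ok (by decide) (ps := [2, 3]) (by set_option linter.unusedSimpArgs false in simp [Nat.primeFactorsList_ofNat]) (by decide +kernel)

theorem z_le1392 : grp 324 yt_c138_K ≤ grp 324 y_E0 :=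
  grp_le_of_memB z_hn z_hk y_E0_ok yt_c138_K_ok (ws := [nat_lit 0x3338271a200715012905, nat_lit 0x3339251f19150715012502]) (by decide +kernel)

theorem yt_c138_le : grp 324 yt_c138_K ≤ (grp 324 y_E0) :=
  (z_le1392.trans z_T111_s0.le)

theorem yt_c138_mem : Net.toPerm 324 z_g1391 ∈ (grp 324 y_E0) :=
  yt_c138_le (toPerm_mem_grp (E := yt_c138_K) (List.Mem.head _))

theorem yt_c138_sym : Sym 324 (grp 324 y_E0) [z_g1391] yt_c138_K 0 :=
  Sym.of_lab z_hn z_hk (okE_cons.2 ⟨z_g1391_ok, okE_nil _⟩) yt_c138_K_ok yt_c138_le (kT := 0) (by decide +kernel)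

noncomputable def yt_c138_cnt_L : List ℕ := [2, 9, z_T111_s41_O, 0, 0, 5, 12, z_T111_s44_O, 0, 0, 6, 15, z_T111_s45_O, 1, 0]

theorem yt_c138_cnt_P : Prob 324 9 (grp 324 y_E0) yt_c138_cnt_EG [z_g1391] [z_g1391] yt_c138_K yt_c138_cnt_L 0 0 :=
  Sym.prob z_hn z_hk yt_c138_sym yt_c138_cnt_EG_ok (grp_cons_le z_g43_z_T111 (grp_cons_le z_g42_z_T111 (grp_cons_le zg2_z_T111 (grp_cons_le z_g44_z_T111 (grp_cons_le z_g54_z_T111 (grp_cons_le z_g55_z_T111 (grp_cons_le z_g49_z_T111 (grp_cons_le z_g50_z_T111 (grp_cons_le z_g51_z_T111 (grp_cons_le z_g62_z_T111 (grp_cons_le z_g58_z_T111 (grp_cons_le z_g59_z_T111 (grp_cons_le z_g65_z_T111 (grp_cons_le z_g66_z_T111 (grp_cons_le z_g67_z_T111 (grp_cons_le z_g77_z_T111 (grp_cons_le z_g78_z_T111 (grp_cons_le z_g72_z_T111 (grp_cons_le z_g73_z_T111 (grp_cons_le z_g74_z_T111 (grp_cons_le z_g81_z_T111 (grp_cons_le z_g82_z_T111 (grp_cons_le z_g87_z_T111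 (grp_cons_le zg0_z_T111 (grp_cons_le z_g91_z_T111 (grp_cons_le z_g28_z_T111 (grp_cons_le z_g88_z_T111 (grp_cons_le z_g39_z_T111 (grp_cons_le zg1_z_T111 (grp_cons_le zg3_z_T111 (grp_cons_le z_g346_z_T111 (grp_cons_le z_g347_z_T111 (grp_cons_le z_g345_z_T111 (grp_cons_le z_g344_z_T111 (grp_nil_le _))))))))))))))))))))))))))))))))))) (Frames.cons z_T111_s41_F (Frames.cons z_T111_s44_F (Frames.cons z_T111_s45_F Frames.nil))) (okE_cons.2 ⟨z_g1391_ok, okE_nil _⟩) _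

noncomputable def yt_c138_cnt_t : BT := (BT.fix (nat_lit 0x10101010101) (BT.fix (nat_lit 65793) (BT.dif (nat_lit 1) (nat_lit 0) (BT.br (nat_lit 0) (nat_lit 5) [nat_lit 1] (BT.kid (nat_lit 5) (nat_lit 4) (BT.img (nat_lit 1) (nat_lit 0) (BT.frm (nat_lit 0) (nat_lit 0x2a373538) (nat_lit 0x2a373538) [nat_lit 0, nat_lit 1] (BT.pln (nat_lit 0) (nat_lit 7) (BT.br (nat_lit 0) (nat_lit 181) [nat_lit 3] (BT.dead (nat_lit 180) (BT.img (nat_lit 1) (nat_lit 3) (BT.img (nat_lit 1) (nat_lit 0) (BT.frm (nat_lit 1) (nat_lit 0x3e404243412a373538) (nat_lit 0x3d3f4243412a373538) [nat_lit 2, nat_lit 0, nat_lit 1, nat_lit 5, nat_lit 6] (BT.pln (nat_lit 0) (nat_lit 5) (BT.img (nat_lit 1) (nat_lit 4) (BT.and (nat_lit 1) (nat_lit 0) (BT.cnt (nat_lit 0)))))))) (BT.kid (nat_lit 181) (nat_lit 1) (BT.img (nat_lit 1) (nat_lit 0) (BT.img (nat_lit 1) (nat_lit 0) (BT.img (nat_lit 1) (nat_lit 0) (BT.img (nat_lit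 1) (nat_lit 0) (BT.img (nat_lit 1) (nat_lit 0) (BT.img (nat_lit 1) (nat_lit 0) (BT.img (nat_lit 1) (nat_lit 0) (BT.img (nat_lit 1) (nat_lit 0) (BT.img (nat_lit 1) (nat_lit 0) (BT.img (nat_lit 1) (nat_lit 0) (BT.img (nat_lit 1) (nat_lit 13) (BT.img (nat_lit 1) (nat_lit 0) (BT.one (nat_lit 2) (nat_lit 0x403e404243412a373538) (nat_lit 0x403e404243412a373538) [nat_lit 2, nat_lit 12, nat_lit 0, nat_lit 1, nat_lit 15, nat_lit 16]))))))))))))) BT.nil)))))) BT.nil)))))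

theorem yt_c138_cnt : Cnt 324 (grp 324 y_E0) [z_g1391] [z_g1391] 0 0 0 0 24 :=
  BT.sound yt_c138_cnt_P Known.nil (t := yt_c138_cnt_t) (d := 0) (by decide +kernel)

theorem yt_c138_ge : 24 ≤ Nat.card (grp 324 yt_c138_K) :=
  Ch.le_card_grp (k := 9) (L := (lab 324 9)) z_hn yt_c138_K_ok (c := (Ch.cons (nat_lit 5) [nat_lit 1] (Ch.cons (nat_lit 181) [nat_lit 3] Ch.nil))) (by decide +kernel)

theorem yt_c138_eq : (grp 324 y_E0) ⊓ Subgroup.centralizer {Net.toPerm 324 z_g1391} = grp 324 yt_c138_K :=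
  cent_eq yt_c138_sym yt_c138_cnt yt_c138_ge

theorem yt_c138_card : Nat.card ↥((grp 324 y_E0) ⊓ Subgroup.centralizer {Net.toPerm 324 z_g1391}) = 24 :=
  card_cent yt_c138_sym yt_c138_cnt yt_c138_ge

theorem yt_c138_ord : orderOf (Net.toPerm 324 z_g1391) = 24 :=
  orderOf_net z_hn z_hk z_g1391_ok (by decide) (ps := [2, 3]) (by set_option linter.unusedSimpArgs false in simp [Nat.primeFactorsList_ofNat]) (by decide +kernel)

theorem z_le1394 : grp 324 yt_c139_K ≤ grp 324 y_E0 :=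
  grp_le_of_memB z_hn z_hk y_E0_ok yt_c139_K_ok (ws := [nat_lit 0x382b1f1a1f120715010f0e, nat_lit 0x353c2f25281f192308013802]) (by decide +kernel)

theorem yt_c139_le : grp 324 yt_c139_K ≤ (grp 324 y_E0) :=
  (z_le1394.trans z_T111_s0.le)

theorem yt_c139_mem : Net.toPerm 324 z_g1393 ∈ (grp 324 y_E0) :=
  yt_c139_le (toPerm_mem_grp (E := yt_c139_K) (List.Mem.head _))

theorem yt_c139_sym : Sym 324 (grp 324 y_E0) [z_g1393] yt_c139_K 0 :=
  Sym.of_lab z_hn z_hk (okE_cons.2 ⟨z_g1393_ok, okE_nil _⟩) yt_c139_K_ok yt_c139_le (kT := 0) (by decide +kernel)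

noncomputable def yt_c139_cnt_L : List ℕ := [2, 11, z_T111_s49_O, 0, 0, 4, 10, z_T111_s153_O, 0, 0, 5, 14, z_T111_s154_O, 1, 0]

theorem yt_c139_cnt_P : Prob 324 9 (grp 324 y_E0) yt_c139_cnt_EG [z_g1393] [z_g1393] yt_c139_K yt_c139_cnt_L 0 0 :=
  Sym.prob z_hn z_hk yt_c139_sym yt_c139_cnt_EG_ok (grp_cons_le z_g43_z_T111 (grp_cons_le z_g42_z_T111 (grp_cons_le zg2_z_T111 (grp_cons_le z_g44_z_T111 (grp_cons_le z_g54_z_T111 (grp_cons_le z_g55_z_T111 (grp_cons_le z_g49_z_T111 (grp_cons_le z_g50_z_T111 (grp_cons_le z_g51_z_T111 (grp_cons_le z_g62_z_T111 (grp_cons_le z_g58_z_T111 (grp_cons_le z_g59_z_T111 (grp_cons_le z_g65_z_T111 (grp_cons_le z_g66_z_T111 (grp_cons_le z_g67_z_T111 (grp_cons_le z_g77_z_T111 (grp_cons_le z_g78_z_T111 (grp_cons_le z_g72_z_T111 (grp_cons_le z_g73_z_T111 (grp_cons_le z_g74_z_T111 (grp_cons_le z_g81_z_T111 (grp_cons_le z_g82_z_T111 (grp_cons_le z_g87_z_T111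 (grp_cons_le zg0_z_T111 (grp_cons_le z_g91_z_T111 (grp_cons_le z_g28_z_T111 (grp_cons_le z_g88_z_T111 (grp_cons_le z_g39_z_T111 (grp_cons_le zg1_z_T111 (grp_cons_le zg3_z_T111 (grp_cons_le z_g1038_z_T111 (grp_cons_le z_g1039_z_T111 (grp_cons_le z_g1040_z_T111 (grp_cons_le z_g372_z_T111 (grp_cons_le z_g373_z_T111 (grp_cons_le z_g374_z_T111 (grp_cons_le z_g375_z_T111 (grp_cons_le z_g376_z_T111 (grp_cons_le z_g377_z_T111 (grp_cons_le z_g378_z_T111 (grp_nil_le _))))))))))))))))))))))))))))))))))))))))) (Frames.cons z_T111_s49_F (Frames.cons z_T111_s153_F (Frames.cons z_T111_s154_F Frames.nil))) (okE_cons.2 ⟨z_g1393_ok, okE_nil _⟩) _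

noncomputable def yt_c139_cnt_t : BT := (BT.fix (nat_lit 0x10101010101) (BT.fix (nat_lit 65793) (BT.dif (nat_lit 1) (nat_lit 0) (BT.br (nat_lit 0) (nat_lit 5) [nat_lit 1] (BT.kid (nat_lit 5) (nat_lit 4) (BT.img (nat_lit 1) (nat_lit 0) (BT.frm (nat_lit 0) (nat_lit 0x212373538) (nat_lit 0x212373538) [nat_lit 0, nat_lit 1] (BT.pln (nat_lit 0) (nat_lit 2) (BT.img (nat_lit 1) (nat_lit 2) (BT.img (nat_lit 1) (nat_lit 0) (BT.frm (nat_lit 1) (nat_lit 0x3d42454e0212373538) (nat_lit 0x3d42454e0212373538) [nat_lit 0, nat_lit 1, nat_lit 4, nat_lit 5] (BT.pln (nat_lit 0) (nat_lit 5) (BT.dif (nat_lit 4) (nat_lit 0) (BT.pln (nat_lit 2) (nat_lit 6) (BT.dif (nat_lit 1) (nat_lit 0) (BT.br (nat_lit 0) (nat_lit 58) [nat_lit 3] (BT.dead (nat_lit 92) (BT.frm (nat_lit 2) (nat_lit 0x413d42454e0212373538) (nat_lit 0x3f3f3d42454e0212373538) [nat_lit 0, nat_lit 6, nat_lit 7, nat_lit 10, nat_lit 11]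 (BT.pln (nat_lit 0) (nat_lit 5) (BT.img (nat_lit 1) (nat_lit 2) (BT.and (nat_lit 1) (nat_lit 0) (BT.cnt (nat_lit 0)))))) (BT.kid (nat_lit 58) (nat_lit 1) (BT.one (nat_lit 2) (nat_lit 0x413d42454e0212373538) (nat_lit 0x413d42454e0212373538) [nat_lit 0, nat_lit 6, nat_lit 7, nat_lit 10, nat_lit 11]) BT.nil))))))))))))) BT.nil)))))

theorem yt_c139_cnt : Cnt 324 (grp 324 y_E0) [z_g1393] [z_g1393] 0 0 0 0 24 :=
  BT.sound yt_c139_cnt_P Known.nil (t := yt_c139_cnt_t) (d := 0) (by decide +kernel)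

theorem yt_c139_ge : 24 ≤ Nat.card (grp 324 yt_c139_K) :=
  Ch.le_card_grp (k := 9) (L := (lab 324 9)) z_hn yt_c139_K_ok (c := (Ch.cons (nat_lit 5) [nat_lit 1] (Ch.cons (nat_lit 58) [nat_lit 3] Ch.nil))) (by decide +kernel)

theorem yt_c139_eq : (grp 324 y_E0) ⊓ Subgroup.centralizer {Net.toPerm 324 z_g1393} = grp 324 yt_c139_K :=
  cent_eq yt_c139_sym yt_c139_cnt yt_c139_ge

theorem yt_c139_card : Nat.card ↥((grp 324 y_E0) ⊓ Subgroup.centralizer {Net.toPerm 324 z_g1393}) = 24 :=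
  card_cent yt_c139_sym yt_c139_cnt yt_c139_ge

theorem yt_c139_ord : orderOf (Net.toPerm 324 z_g1393) = 24 :=
  orderOf_net z_hn z_hk z_g1393_ok (by decide) (ps := [2, 3]) (by set_option linter.unusedSimpArgs false in simp [Nat.primeFactorsList_ofNat]) (by decide +kernel)

theorem z_le1396 : grp 324 yt_c140_K ≤ grp 324 y_E0 :=
  grp_le_of_memB z_hn z_hk y_E0_ok yt_c140_K_ok (ws := [nat_lit 0x353c1926070a010c, nat_lit 0x353c2f25281f192308013802]) (by decide +kernel)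

theorem yt_c140_le : grp 324 yt_c140_K ≤ (grp 324 y_E0) :=
  (z_le1396.trans z_T111_s0.le)

theorem yt_c140_mem : Net.toPerm 324 z_g1395 ∈ (grp 324 y_E0) :=
  yt_c140_le (toPerm_mem_grp (E := yt_c140_K) (List.Mem.head _))

theorem yt_c140_sym : Sym 324 (grp 324 y_E0) [z_g1395] yt_c140_K 0 :=
  Sym.of_lab z_hn z_hk (okE_cons.2 ⟨z_g1395_ok, okE_nil _⟩) yt_c140_K_ok yt_c140_le (kT := 0) (by decide +kernel)

noncomputable def yt_c140_cnt_L : List ℕ := [2, 11, z_T111_s49_O, 0, 0, 4, 10, z_T111_s153_O, 0, 0, 5, 14, z_T111_s154_O, 1, 0]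

theorem yt_c140_cnt_P : Prob 324 9 (grp 324 y_E0) yt_c140_cnt_EG [z_g1395] [z_g1395] yt_c140_K yt_c140_cnt_L 0 0 :=
  Sym.prob z_hn z_hk yt_c140_sym yt_c140_cnt_EG_ok (grp_cons_le z_g43_z_T111 (grp_cons_le z_g42_z_T111 (grp_cons_le zg2_z_T111 (grp_cons_le z_g44_z_T111 (grp_cons_le z_g54_z_T111 (grp_cons_le z_g55_z_T111 (grp_cons_le z_g49_z_T111 (grp_cons_le z_g50_z_T111 (grp_cons_le z_g51_z_T111 (grp_cons_le z_g62_z_T111 (grp_cons_le z_g58_z_T111 (grp_cons_le z_g59_z_T111 (grp_cons_le z_g65_z_T111 (grp_cons_le z_g66_z_T111 (grp_cons_le z_g67_z_T111 (grp_cons_le z_g77_z_T111 (grp_cons_le z_g78_z_T111 (grp_cons_le z_g72_z_T111 (grp_cons_le z_g73_z_T111 (grp_cons_le z_g74_z_T111 (grp_cons_le z_g81_z_T111 (grp_cons_le z_g82_z_T111 (grp_cons_le z_g87_z_T111 (grp_cons_le zg0_z_T111 (grp_cons_le z_g91_z_T111 (grp_cons_le z_g28_z_T111 (grp_cons_le z_g88_z_T111 (grp_cons_le z_g39_z_T111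 (grp_cons_le zg1_z_T111 (grp_cons_le zg3_z_T111 (grp_cons_le z_g1038_z_T111 (grp_cons_le z_g1039_z_T111 (grp_cons_le z_g1040_z_T111 (grp_cons_le z_g372_z_T111 (grp_cons_le z_g373_z_T111 (grp_cons_le z_g374_z_T111 (grp_cons_le z_g375_z_T111 (grp_cons_le z_g376_z_T111 (grp_cons_le z_g377_z_T111 (grp_cons_le z_g378_z_T111 (grp_nil_le _))))))))))))))))))))))))))))))))))))))))) (Frames.cons z_T111_s49_F (Frames.cons z_T111_s153_F (Frames.cons z_T111_s154_F Frames.nil))) (okE_cons.2 ⟨z_g1395_ok, okE_nil _⟩) _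

noncomputable def yt_c140_cnt_t : BT := (BT.fix (nat_lit 0x10101010101) (BT.fix (nat_lit 65793) (BT.dif (nat_lit 1) (nat_lit 0) (BT.br (nat_lit 0) (nat_lit 5) [nat_lit 1] (BT.kid (nat_lit 5) (nat_lit 4) (BT.img (nat_lit 1) (nat_lit 0) (BT.frm (nat_lit 0) (nat_lit 0xc18373538) (nat_lit 0xc18373538) [nat_lit 0, nat_lit 1] (BT.pln (nat_lit 0) (nat_lit 2) (BT.img (nat_lit 1) (nat_lit 2) (BT.img (nat_lit 1) (nat_lit 0) (BT.frm (nat_lit 1) (nat_lit 0x3d41454e0c18373538) (nat_lit 0x3d41454e0c18373538) [nat_lit 0, nat_lit 1, nat_lit 4, nat_lit 5] (BT.pln (nat_lit 0) (nat_lit 5) (BT.dif (nat_lit 4) (nat_lit 0) (BT.pln (nat_lit 2) (nat_lit 6) (BT.dif (nat_lit 1) (nat_lit 0) (BT.br (nat_lit 0) (nat_lit 57) [nat_lit 3] (BT.dead (nat_lit 145) (BT.frm (nat_lit 2) (nat_lit 0x403d41454e0c18373538) (nat_lit 0x3f423d41454e0c18373538) [nat_lit 0, nat_lit 6, nat_lit 7, nat_lit 10, nat_lit 11]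 (BT.pln (nat_lit 0) (nat_lit 5) (BT.img (nat_lit 1) (nat_lit 2) (BT.and (nat_lit 1) (nat_lit 0) (BT.cnt (nat_lit 0)))))) (BT.kid (nat_lit 57) (nat_lit 1) (BT.one (nat_lit 2) (nat_lit 0x403d41454e0c18373538) (nat_lit 0x403d41454e0c18373538) [nat_lit 0, nat_lit 6, nat_lit 7, nat_lit 10, nat_lit 11]) BT.nil))))))))))))) BT.nil)))))

theorem yt_c140_cnt : Cnt 324 (grp 324 y_E0) [z_g1395] [z_g1395] 0 0 0 0 24 :=
  BT.sound yt_c140_cnt_P Known.nil (t := yt_c140_cnt_t) (d := 0) (by decide +kernel)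

theorem yt_c140_ge : 24 ≤ Nat.card (grp 324 yt_c140_K) :=
  Ch.le_card_grp (k := 9) (L := (lab 324 9)) z_hn yt_c140_K_ok (c := (Ch.cons (nat_lit 5) [nat_lit 1] (Ch.cons (nat_lit 57) [nat_lit 3] Ch.nil))) (by decide +kernel)

theorem yt_c140_eq : (grp 324 y_E0) ⊓ Subgroup.centralizer {Net.toPerm 324 z_g1395} = grp 324 yt_c140_K :=
  cent_eq yt_c140_sym yt_c140_cnt yt_c140_ge

theorem yt_c140_card : Nat.card ↥((grp 324 y_E0) ⊓ Subgroup.centralizer {Net.toPerm 324 z_g1395}) = 24 :=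
  card_cent yt_c140_sym yt_c140_cnt yt_c140_ge

theorem yt_c140_ord : orderOf (Net.toPerm 324 z_g1395) = 24 :=
  orderOf_net z_hn z_hk z_g1395_ok (by decide) (ps := [2, 3]) (by set_option linter.unusedSimpArgs false in simp [Nat.primeFactorsList_ofNat]) (by decide +kernel)

noncomputable def yt_xs : List Net := [Net.nil, z_g112, z_g144, z_g164, z_g187, z_g206, z_g221, z_g239, z_g251, z_g262, z_g275, z_g287, z_g301, z_g315, z_g328, z_g338, z_g354, z_g366, z_g385, z_g400, z_g407, z_g416, z_g432, z_g445, z_g462, z_g476, z_g484, z_g490, z_g495, z_g502, z_g509, z_g521, z_g528, z_g540, z_g560, z_g571, z_g586, z_g596, z_g617, z_g628, z_g643, z_g663, z_g684, z_g541, z_g705, z_g713, z_g728, z_g737, z_g743, z_g753, z_g758, z_g769, z_g778, z_g790, z_g803, z_g811, z_g827, z_g834, z_g841, z_g847, z_g856, z_g868, z_g882, z_g894, z_g905, z_g921, z_g932, z_g938, z_g944, z_g954, z_g961, z_g969,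 z_g977, z_g983, z_g990, z_g996, z_g1004, z_g1010, z_g1020, z_g1026, z_g1032, z_g1045, z_g1051, z_g1057, z_g1070, z_g1076, z_g1088, z_g1092, z_g1095, z_g1100, z_g1105, z_g1122, z_g1126, z_g1131, z_g1136, z_g1141, z_g1146, z_g1162, z_g1168, z_g1175, z_g1186, z_g1193, z_g1199, z_g1203, z_g1211, z_g1217, z_g1222, z_g1229, z_g1236, z_g1241, z_g1247, z_g1256, z_g1259, z_g1264, z_g1268, z_g1272, z_g1277, z_g1282, z_g1286, z_g1301, z_g1305, z_g1310, z_g1315, z_g1321, z_g1324, z_g1328, z_g1334, z_g1339, z_g1343, z_g1353, z_g1356, z_g1360, z_g1364, z_g1367, z_g1371, z_g1375, z_g1379, z_g1389, z_g1391, z_g1393, z_g1395]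

noncomputable def yt_cs : List ℕ := [272097792, 839808, 62208, 41472, 10368, 7776, 7776, 2125764, 944784, 944784, 708588, 314928, 236196, 139968, 78732, 34992, 34992, 11664, 8748, 5832, 5832, 4374, 4374, 4374, 4374, 2916, 1458, 1458, 2304, 1728, 768, 576, 288, 288, 192, 34992, 26244, 17496, 8748, 8748, 5832, 3888, 3888, 3888, 3888, 3888, 2916, 1728, 1296, 1296, 1296, 1296, 1296, 1296, 972, 972, 972, 972, 972, 972, 864, 648, 648, 648, 648, 648, 486, 432, 432, 432, 324, 324, 324, 324, 324, 324, 216, 216, 216, 162, 144, 108, 108, 108, 108, 108, 54, 54, 54, 54, 192, 192, 192, 192, 32, 32, 1458, 1458, 1458, 1458, 1458, 1458, 1458, 729, 729, 729, 486, 486, 486, 162, 54, 27, 216, 144, 72, 72, 72, 72, 72, 72, 72, 72, 36, 24, 24, 162, 162, 162, 54, 54, 54, 54, 54, 54, 54, 54, 18, 24, 24, 24, 24]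

noncomputable def yt_os : List ℕ := [1, 2, 2, 2, 2, 2, 2, 3, 3, 3, 3, 3, 3, 3, 3, 3, 3, 3, 3, 3, 3, 3, 3, 3, 3, 3, 3, 3, 4, 4, 4, 4, 4, 4, 4, 6, 6, 6, 6, 6, 6, 6, 6, 6, 6, 6, 6, 6, 6, 6, 6, 6, 6, 6, 6, 6, 6, 6, 6, 6, 6, 6, 6, 6, 6, 6, 6, 6, 6, 6, 6, 6, 6, 6, 6, 6, 6, 6, 6, 6, 6, 6, 6, 6, 6, 6, 6, 6, 6, 6, 8, 8, 8, 8, 8, 8, 9, 9, 9, 9, 9, 9, 9, 9, 9, 9, 9, 9, 9, 9, 9, 9, 12, 12, 12, 12, 12, 12, 12, 12, 12, 12, 12, 12, 12, 18, 18, 18, 18, 18, 18, 18, 18, 18, 18, 18, 18, 24, 24, 24, 24]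

theorem yt_reps : Reps 324 (grp 324 y_E0) yt_xs yt_cs yt_os :=
  (Reps.cons rfl (one_mem _) (card_cent_nil y_card0) orderOf_one (Reps.cons z_g112_ok yt_c1_mem yt_c1_card yt_c1_ord (Reps.cons z_g144_ok yt_c2_mem yt_c2_card yt_c2_ord (Reps.cons z_g164_ok yt_c3_mem yt_c3_card yt_c3_ord (Reps.cons z_g187_ok yt_c4_mem yt_c4_card yt_c4_ord (Reps.cons z_g206_ok yt_c5_mem yt_c5_card yt_c5_ord (Reps.cons z_g221_ok yt_c6_mem yt_c6_card yt_c6_ord (Reps.cons z_g239_ok yt_c7_mem yt_c7_card yt_c7_ord (Reps.cons z_g251_ok yt_c8_mem yt_c8_card yt_c8_ord (Reps.cons z_g262_ok yt_c9_mem yt_c9_card yt_c9_ord (Reps.cons z_g275_ok yt_c10_mem yt_c10_card yt_c10_ord (Reps.cons z_g287_ok yt_c11_mem yt_c11_card yt_c11_ord (Reps.cons z_g301_ok yt_c12_mem yt_c12_card yt_c12_ord (Reps.cons z_g315_ok yt_c13_mem yt_c13_card yt_c13_ord (Reps.cons z_g328_ok yt_c14_mem yt_c14_card yt_c14_ord (Reps.cons z_g338_ok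 yt_c15_mem yt_c15_card yt_c15_ord (Reps.cons z_g354_ok yt_c16_mem yt_c16_card yt_c16_ord (Reps.cons z_g366_ok yt_c17_mem yt_c17_card yt_c17_ord (Reps.cons z_g385_ok yt_c18_mem yt_c18_card yt_c18_ord (Reps.cons z_g400_ok yt_c19_mem yt_c19_card yt_c19_ord (Reps.cons z_g407_ok yt_c20_mem yt_c20_card yt_c20_ord (Reps.cons z_g416_ok yt_c21_mem yt_c21_card yt_c21_ord (Reps.cons z_g432_ok yt_c22_mem yt_c22_card yt_c22_ord (Reps.cons z_g445_ok yt_c23_mem yt_c23_card yt_c23_ord (Reps.cons z_g462_ok yt_c24_mem yt_c24_card yt_c24_ord (Reps.cons z_g476_ok yt_c25_mem yt_c25_card yt_c25_ord (Reps.cons z_g484_ok yt_c26_mem yt_c26_card yt_c26_ord (Reps.cons z_g490_ok yt_c27_mem yt_c27_card yt_c27_ord (Reps.cons z_g495_ok yt_c28_mem yt_c28_card yt_c28_ord (Reps.cons z_g502_ok yt_c29_mem yt_c29_card yt_c29_ord (Reps.cons z_g509_ok yt_c30_mem yt_c30_card yt_c30_ord (Reps.cons z_g521_ok yt_c31_mem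 yt_c31_card yt_c31_ord (Reps.cons z_g528_ok yt_c32_mem yt_c32_card yt_c32_ord (Reps.cons z_g540_ok yt_c33_mem yt_c33_card yt_c33_ord (Reps.cons z_g560_ok yt_c34_mem yt_c34_card yt_c34_ord (Reps.cons z_g571_ok yt_c35_mem yt_c35_card yt_c35_ord (Reps.cons z_g586_ok yt_c36_mem yt_c36_card yt_c36_ord (Reps.cons z_g596_ok yt_c37_mem yt_c37_card yt_c37_ord (Reps.cons z_g617_ok yt_c38_mem yt_c38_card yt_c38_ord (Reps.cons z_g628_ok yt_c39_mem yt_c39_card yt_c39_ord (Reps.cons z_g643_ok yt_c40_mem yt_c40_card yt_c40_ord (Reps.cons z_g663_ok yt_c41_mem yt_c41_card yt_c41_ord (Reps.cons z_g684_ok yt_c42_mem yt_c42_card yt_c42_ord (Reps.cons z_g541_ok yt_c43_mem yt_c43_card yt_c43_ord (Reps.cons z_g705_ok yt_c44_mem yt_c44_card yt_c44_ord (Reps.cons z_g713_ok yt_c45_mem yt_c45_card yt_c45_ord (Reps.cons z_g728_ok yt_c46_mem yt_c46_card yt_c46_ord (Reps.cons z_g737_ok yt_c47_mem yt_c47_card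 yt_c47_ord (Reps.cons z_g743_ok yt_c48_mem yt_c48_card yt_c48_ord (Reps.cons z_g753_ok yt_c49_mem yt_c49_card yt_c49_ord (Reps.cons z_g758_ok yt_c50_mem yt_c50_card yt_c50_ord (Reps.cons z_g769_ok yt_c51_mem yt_c51_card yt_c51_ord (Reps.cons z_g778_ok yt_c52_mem yt_c52_card yt_c52_ord (Reps.cons z_g790_ok yt_c53_mem yt_c53_card yt_c53_ord (Reps.cons z_g803_ok yt_c54_mem yt_c54_card yt_c54_ord (Reps.cons z_g811_ok yt_c55_mem yt_c55_card yt_c55_ord (Reps.cons z_g827_ok yt_c56_mem yt_c56_card yt_c56_ord (Reps.cons z_g834_ok yt_c57_mem yt_c57_card yt_c57_ord (Reps.cons z_g841_ok yt_c58_mem yt_c58_card yt_c58_ord (Reps.cons z_g847_ok yt_c59_mem yt_c59_card yt_c59_ord (Reps.cons z_g856_ok yt_c60_mem yt_c60_card yt_c60_ord (Reps.cons z_g868_ok yt_c61_mem yt_c61_card yt_c61_ord (Reps.cons z_g882_ok yt_c62_mem yt_c62_card yt_c62_ord (Reps.cons z_g894_ok yt_c63_mem yt_c63_card yt_c63_ord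 (Reps.cons z_g905_ok yt_c64_mem yt_c64_card yt_c64_ord (Reps.cons z_g921_ok yt_c65_mem yt_c65_card yt_c65_ord (Reps.cons z_g932_ok yt_c66_mem yt_c66_card yt_c66_ord (Reps.cons z_g938_ok yt_c67_mem yt_c67_card yt_c67_ord (Reps.cons z_g944_ok yt_c68_mem yt_c68_card yt_c68_ord (Reps.cons z_g954_ok yt_c69_mem yt_c69_card yt_c69_ord (Reps.cons z_g961_ok yt_c70_mem yt_c70_card yt_c70_ord (Reps.cons z_g969_ok yt_c71_mem yt_c71_card yt_c71_ord (Reps.cons z_g977_ok yt_c72_mem yt_c72_card yt_c72_ord (Reps.cons z_g983_ok yt_c73_mem yt_c73_card yt_c73_ord (Reps.cons z_g990_ok yt_c74_mem yt_c74_card yt_c74_ord (Reps.cons z_g996_ok yt_c75_mem yt_c75_card yt_c75_ord (Reps.cons z_g1004_ok yt_c76_mem yt_c76_card yt_c76_ord (Reps.cons z_g1010_ok yt_c77_mem yt_c77_card yt_c77_ord (Reps.cons z_g1020_ok yt_c78_mem yt_c78_card yt_c78_ord (Reps.cons z_g1026_ok yt_c79_mem yt_c79_card yt_c79_ord (Reps.cons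 z_g1032_ok yt_c80_mem yt_c80_card yt_c80_ord (Reps.cons z_g1045_ok yt_c81_mem yt_c81_card yt_c81_ord (Reps.cons z_g1051_ok yt_c82_mem yt_c82_card yt_c82_ord (Reps.cons z_g1057_ok yt_c83_mem yt_c83_card yt_c83_ord (Reps.cons z_g1070_ok yt_c84_mem yt_c84_card yt_c84_ord (Reps.cons z_g1076_ok yt_c85_mem yt_c85_card yt_c85_ord (Reps.cons z_g1088_ok yt_c86_mem yt_c86_card yt_c86_ord (Reps.cons z_g1092_ok yt_c87_mem yt_c87_card yt_c87_ord (Reps.cons z_g1095_ok yt_c88_mem yt_c88_card yt_c88_ord (Reps.cons z_g1100_ok yt_c89_mem yt_c89_card yt_c89_ord (Reps.cons z_g1105_ok yt_c90_mem yt_c90_card yt_c90_ord (Reps.cons z_g1122_ok yt_c91_mem yt_c91_card yt_c91_ord (Reps.cons z_g1126_ok yt_c92_mem yt_c92_card yt_c92_ord (Reps.cons z_g1131_ok yt_c93_mem yt_c93_card yt_c93_ord (Reps.cons z_g1136_ok yt_c94_mem yt_c94_card yt_c94_ord (Reps.cons z_g1141_ok yt_c95_mem yt_c95_card yt_c95_ord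 (Reps.cons z_g1146_ok yt_c96_mem yt_c96_card yt_c96_ord (Reps.cons z_g1162_ok yt_c97_mem yt_c97_card yt_c97_ord (Reps.cons z_g1168_ok yt_c98_mem yt_c98_card yt_c98_ord (Reps.cons z_g1175_ok yt_c99_mem yt_c99_card yt_c99_ord (Reps.cons z_g1186_ok yt_c100_mem yt_c100_card yt_c100_ord (Reps.cons z_g1193_ok yt_c101_mem yt_c101_card yt_c101_ord (Reps.cons z_g1199_ok yt_c102_mem yt_c102_card yt_c102_ord (Reps.cons z_g1203_ok yt_c103_mem yt_c103_card yt_c103_ord (Reps.cons z_g1211_ok yt_c104_mem yt_c104_card yt_c104_ord (Reps.cons z_g1217_ok yt_c105_mem yt_c105_card yt_c105_ord (Reps.cons z_g1222_ok yt_c106_mem yt_c106_card yt_c106_ord (Reps.cons z_g1229_ok yt_c107_mem yt_c107_card yt_c107_ord (Reps.cons z_g1236_ok yt_c108_mem yt_c108_card yt_c108_ord (Reps.cons z_g1241_ok yt_c109_mem yt_c109_card yt_c109_ord (Reps.cons z_g1247_ok yt_c110_mem yt_c110_card yt_c110_ord (Reps.cons z_g1256_ok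 yt_c111_mem yt_c111_card yt_c111_ord (Reps.cons z_g1259_ok yt_c112_mem yt_c112_card yt_c112_ord (Reps.cons z_g1264_ok yt_c113_mem yt_c113_card yt_c113_ord (Reps.cons z_g1268_ok yt_c114_mem yt_c114_card yt_c114_ord (Reps.cons z_g1272_ok yt_c115_mem yt_c115_card yt_c115_ord (Reps.cons z_g1277_ok yt_c116_mem yt_c116_card yt_c116_ord (Reps.cons z_g1282_ok yt_c117_mem yt_c117_card yt_c117_ord (Reps.cons z_g1286_ok yt_c118_mem yt_c118_card yt_c118_ord (Reps.cons z_g1301_ok yt_c119_mem yt_c119_card yt_c119_ord (Reps.cons z_g1305_ok yt_c120_mem yt_c120_card yt_c120_ord (Reps.cons z_g1310_ok yt_c121_mem yt_c121_card yt_c121_ord (Reps.cons z_g1315_ok yt_c122_mem yt_c122_card yt_c122_ord (Reps.cons z_g1321_ok yt_c123_mem yt_c123_card yt_c123_ord (Reps.cons z_g1324_ok yt_c124_mem yt_c124_card yt_c124_ord (Reps.cons z_g1328_ok yt_c125_mem yt_c125_card yt_c125_ord (Reps.cons z_g1334_ok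 yt_c126_mem yt_c126_card yt_c126_ord (Reps.cons z_g1339_ok yt_c127_mem yt_c127_card yt_c127_ord (Reps.cons z_g1343_ok yt_c128_mem yt_c128_card yt_c128_ord (Reps.cons z_g1353_ok yt_c129_mem yt_c129_card yt_c129_ord (Reps.cons z_g1356_ok yt_c130_mem yt_c130_card yt_c130_ord (Reps.cons z_g1360_ok yt_c131_mem yt_c131_card yt_c131_ord (Reps.cons z_g1364_ok yt_c132_mem yt_c132_card yt_c132_ord (Reps.cons z_g1367_ok yt_c133_mem yt_c133_card yt_c133_ord (Reps.cons z_g1371_ok yt_c134_mem yt_c134_card yt_c134_ord (Reps.cons z_g1375_ok yt_c135_mem yt_c135_card yt_c135_ord (Reps.cons z_g1379_ok yt_c136_mem yt_c136_card yt_c136_ord (Reps.cons z_g1389_ok yt_c137_mem yt_c137_card yt_c137_ord (Reps.cons z_g1391_ok yt_c138_mem yt_c138_card yt_c138_ord (Reps.cons z_g1393_ok yt_c139_mem yt_c139_card yt_c139_ord (Reps.cons z_g1395_ok yt_c140_mem yt_c140_card yt_c140_ord Reps.nil)))))))))))))))))))))))))))))))))))))))))))))))))))))))))))))))))))))))))))))))))))))))))))))))))))))))))))))))))))))))))))))))))))))))))))))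

noncomputable def yt_nc6_5_cnt_L : List ℕ := [1, 4, z_T111_s1_O, 0, 0]

theorem yt_nc6_5_cnt_P : Prob 324 9 (grp 324 y_E0) yt_nc6_5_cnt_EG [z_g221] [z_g206] yt_c5_K yt_nc6_5_cnt_L 0 0 :=
  Sym.prob z_hn z_hk yt_c5_sym yt_nc6_5_cnt_EG_ok (grp_cons_le z_g39_z_T111 (grp_cons_le zg1_z_T111 (grp_cons_le zg3_z_T111 (grp_cons_le z_g43_z_T111 (grp_cons_le z_g42_z_T111 (grp_cons_le zg2_z_T111 (grp_cons_le z_g44_z_T111 (grp_cons_le z_g54_z_T111 (grp_cons_le z_g55_z_T111 (grp_cons_le z_g49_z_T111 (grp_cons_le z_g50_z_T111 (grp_cons_le z_g51_z_T111 (grp_cons_le z_g62_z_T111 (grp_cons_le z_g58_z_T111 (grp_cons_le z_g59_z_T111 (grp_cons_le z_g65_z_T111 (grp_cons_le z_g66_z_T111 (grp_cons_le z_g67_z_T111 (grp_cons_le z_g77_z_T111 (grp_cons_le z_g78_z_T111 (grp_cons_le z_g72_z_T111 (grp_cons_le z_g73_z_T111 (grp_cons_le z_g74_z_T111 (grp_cons_le z_g81_z_T111 (grp_cons_le z_g82_z_T111 (grp_cons_le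 z_g87_z_T111 (grp_cons_le zg0_z_T111 (grp_cons_le z_g91_z_T111 (grp_cons_le z_g28_z_T111 (grp_cons_le z_g88_z_T111 (grp_nil_le _))))))))))))))))))))))))))))))) (Frames.cons z_T111_s1_F Frames.nil) (okE_cons.2 ⟨z_g221_ok, okE_nil _⟩) _

noncomputable def yt_nc6_5_cnt_t : BT := (BT.fix (nat_lit 1) (BT.br (nat_lit 0) (nat_lit 92) [nat_lit 1, nat_lit 3, nat_lit 5] (BT.dead (nat_lit 56) (BT.frm (nat_lit 0) (nat_lit 65810) (nat_lit 530) [nat_lit 0] (BT.pln (nat_lit 0) (nat_lit 1) (BT.and (nat_lit 0) (nat_lit 3) (BT.cnt (nat_lit 0))))) BT.nil)))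

theorem yt_nc6_5_cnt : Cnt 324 (grp 324 y_E0) [z_g221] [z_g206] 0 0 0 0 0 :=
  BT.sound yt_nc6_5_cnt_P Known.nil (t := yt_nc6_5_cnt_t) (d := 0) (by decide +kernel)

theorem yt_nc6_5 : ¬ CjIn (grp 324 y_E0) (Net.toPerm 324 z_g221) (Net.toPerm 324 z_g206) :=
  not_cjIn yt_nc6_5_cnt

noncomputable def yt_nc23_22_cnt_L : List ℕ := [1, 4, z_T111_s1_O, 0, 0]

theorem yt_nc23_22_cnt_P : Prob 324 9 (grp 324 y_E0) yt_nc23_22_cnt_EG [z_g445] [z_g432] yt_c22_K yt_nc23_22_cnt_L 0 0 :=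
  Sym.prob z_hn z_hk yt_c22_sym yt_nc23_22_cnt_EG_ok (grp_cons_le z_g39_z_T111 (grp_cons_le zg1_z_T111 (grp_cons_le zg3_z_T111 (grp_cons_le z_g43_z_T111 (grp_cons_le z_g42_z_T111 (grp_cons_le zg2_z_T111 (grp_cons_le z_g44_z_T111 (grp_cons_le z_g54_z_T111 (grp_cons_le z_g55_z_T111 (grp_cons_le z_g49_z_T111 (grp_cons_le z_g50_z_T111 (grp_cons_le z_g51_z_T111 (grp_cons_le z_g62_z_T111 (grp_cons_le z_g58_z_T111 (grp_cons_le z_g59_z_T111 (grp_cons_le z_g65_z_T111 (grp_cons_le z_g66_z_T111 (grp_cons_le z_g67_z_T111 (grp_cons_le z_g77_z_T111 (grp_cons_le z_g78_z_T111 (grp_cons_le z_g72_z_T111 (grp_cons_le z_g73_z_T111 (grp_cons_le z_g74_z_T111 (grp_cons_le z_g81_z_T111 (grp_cons_le z_g82_z_T111 (grp_cons_le z_g87_z_T111 (grp_cons_le zg0_z_T111 (grp_cons_le z_g91_z_T111 (grp_cons_le z_g28_z_T111 (grp_cons_le z_g88_z_T111 (grp_nil_le _))))))))))))))))))))))))))))))) (Frames.cons z_T111_s1_F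 Frames.nil) (okE_cons.2 ⟨z_g445_ok, okE_nil _⟩) _

noncomputable def yt_nc23_22_cnt_t : BT := (BT.br (nat_lit 2) (nat_lit 0) [nat_lit 1, nat_lit 3] (BT.dead (nat_lit 27) (BT.frm (nat_lit 0) (nat_lit 0) (nat_lit 198702) [nat_lit 0] (BT.pln (nat_lit 0) (nat_lit 1) (BT.img (nat_lit 1) (nat_lit 2) (BT.and (nat_lit 1) (nat_lit 0) (BT.cnt (nat_lit 0)))))) (BT.dead (nat_lit 0) (BT.frm (nat_lit 0) (nat_lit 0) (nat_lit 0) [nat_lit 0] (BT.pln (nat_lit 0) (nat_lit 1) (BT.img (nat_lit 1) (nat_lit 2) (BT.and (nat_lit 1) (nat_lit 0) (BT.cnt (nat_lit 0)))))) BT.nil)))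

theorem yt_nc23_22_cnt : Cnt 324 (grp 324 y_E0) [z_g445] [z_g432] 0 0 0 0 0 :=
  BT.sound yt_nc23_22_cnt_P Known.nil (t := yt_nc23_22_cnt_t) (d := 0) (by decide +kernel)

theorem yt_nc23_22 : ¬ CjIn (grp 324 y_E0) (Net.toPerm 324 z_g445) (Net.toPerm 324 z_g432) :=
  not_cjIn yt_nc23_22_cnt

noncomputable def yt_nc24_22_cnt_L : List ℕ := [1, 4, z_T111_s1_O, 0, 0, 4, 13, z_T111_s61_O, 0, 0, 7, 13, z_T111_s72_O, 0, 0]

theorem yt_nc24_22_cnt_P : Prob 324 9 (grp 324 y_E0) yt_nc24_22_cnt_EG [z_g462] [z_g432] yt_c22_K yt_nc24_22_cnt_L 0 0 :=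
  Sym.prob z_hn z_hk yt_c22_sym yt_nc24_22_cnt_EG_ok (grp_cons_le z_g39_z_T111 (grp_cons_le zg1_z_T111 (grp_cons_le zg3_z_T111 (grp_cons_le z_g43_z_T111 (grp_cons_le z_g42_z_T111 (grp_cons_le zg2_z_T111 (grp_cons_le z_g44_z_T111 (grp_cons_le z_g54_z_T111 (grp_cons_le z_g55_z_T111 (grp_cons_le z_g49_z_T111 (grp_cons_le z_g50_z_T111 (grp_cons_le z_g51_z_T111 (grp_cons_le z_g62_z_T111 (grp_cons_le z_g58_z_T111 (grp_cons_le z_g59_z_T111 (grp_cons_le z_g65_z_T111 (grp_cons_le z_g66_z_T111 (grp_cons_le z_g67_z_T111 (grp_cons_le z_g77_z_T111 (grp_cons_le z_g78_z_T111 (grp_cons_le z_g72_z_T111 (grp_cons_le z_g73_z_T111 (grp_cons_le z_g74_z_T111 (grp_cons_le z_g81_z_T111 (grp_cons_le z_g82_z_T111 (grp_cons_le z_g87_z_T111 (grp_cons_le zg0_z_T111 (grp_cons_le z_g91_z_T111 (grp_cons_le z_g28_z_T111 (grp_cons_le z_g88_z_T111 (grp_cons_le z_g174_z_T111 (grp_cons_le z_g175_z_T111 (grp_cons_le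 z_g176_z_T111 (grp_cons_le z_g177_z_T111 (grp_cons_le z_g30_z_T111 (grp_cons_le z_g178_z_T111 (grp_cons_le z_g126_z_T111 (grp_cons_le z_g127_z_T111 (grp_cons_le z_g128_z_T111 (grp_cons_le z_g129_z_T111 (grp_cons_le z_g130_z_T111 (grp_cons_le z_g131_z_T111 (grp_cons_le z_g132_z_T111 (grp_cons_le z_g133_z_T111 (grp_cons_le z_g134_z_T111 (grp_cons_le z_g135_z_T111 (grp_cons_le z_g468_z_T111 (grp_cons_le z_g297_z_T111 (grp_cons_le z_g469_z_T111 (grp_cons_le z_g470_z_T111 (grp_cons_le z_g467_z_T111 (grp_cons_le z_g436_z_T111 (grp_cons_le z_g437_z_T111 (grp_cons_le z_g438_z_T111 (grp_cons_le z_g248_z_T111 (grp_cons_le z_g247_z_T111 (grp_nil_le _))))))))))))))))))))))))))))))))))))))))))))))))))))))))) (Frames.cons z_T111_s1_F (Frames.cons z_T111_s61_F (Frames.cons z_T111_s72_F Frames.nil))) (okE_cons.2 ⟨z_g462_ok, okE_nil _⟩) _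

noncomputable def yt_nc24_22_cnt_t : BT := (BT.br (nat_lit 2) (nat_lit 0) [nat_lit 1, nat_lit 3] (BT.dead (nat_lit 0) (BT.frm (nat_lit 0) (nat_lit 0) (nat_lit 0) [nat_lit 0] (BT.pln (nat_lit 0) (nat_lit 3) (BT.img (nat_lit 1) (nat_lit 0) (BT.img (nat_lit 1) (nat_lit 0) (BT.br (nat_lit 0) (nat_lit 14) [nat_lit 3] (BT.dead (nat_lit 24) (BT.img (nat_lit 1) (nat_lit 5) (BT.img (nat_lit 1) (nat_lit 0) (BT.frm (nat_lit 1) (nat_lit 0x3f424b511d) (nat_lit 0x3f424b5707) [nat_lit 2, nat_lit 0, nat_lit 1, nat_lit 7] (BT.pln (nat_lit 0) (nat_lit 9) (BT.and (nat_lit 5) (nat_lit 0) (BT.br (nat_lit 0) (nat_lit 6) [nat_lit 771] (BT.dead (nat_lit 18) (BT.img (nat_lit 1) (nat_lit 6) (BT.img (nat_lit 1) (nat_lit 0) (BT.frm (nat_lit 2) (nat_lit 0x3f424b511d) (nat_lit 0x653f424b5707) [nat_lit 2, nat_lit 0, nat_lit 1, nat_lit 8, nat_lit 6, nat_lit 7, nat_lit 13] (BT.pln (nat_lit 0) (nat_lit 7)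 (BT.img (nat_lit 1) (nat_lit 4) (BT.and (nat_lit 1) (nat_lit 0) (BT.cnt (nat_lit 0)))))))) BT.nil))))))) (BT.dead (nat_lit 25) (BT.img (nat_lit 1) (nat_lit 5) (BT.img (nat_lit 1) (nat_lit 0) (BT.frm (nat_lit 1) (nat_lit 0x3f424b511d) (nat_lit 0x3f414b5707) [nat_lit 2, nat_lit 0, nat_lit 1, nat_lit 7] (BT.pln (nat_lit 0) (nat_lit 6) (BT.img (nat_lit 1) (nat_lit 4) (BT.and (nat_lit 1) (nat_lit 0) (BT.cnt (nat_lit 0)))))))) BT.nil))))))) (BT.dead (nat_lit 27) (BT.frm (nat_lit 0) (nat_lit 0) (nat_lit 198702) [nat_lit 0] (BT.pln (nat_lit 0) (nat_lit 2) (BT.img (nat_lit 1) (nat_lit 2) (BT.and (nat_lit 1) (nat_lit 0) (BT.cnt (nat_lit 0)))))) BT.nil)))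

theorem yt_nc24_22_cnt : Cnt 324 (grp 324 y_E0) [z_g462] [z_g432] 0 0 0 0 0 :=
  BT.sound yt_nc24_22_cnt_P Known.nil (t := yt_nc24_22_cnt_t) (d := 0) (by decide +kernel)

theorem yt_nc24_22 : ¬ CjIn (grp 324 y_E0) (Net.toPerm 324 z_g462) (Net.toPerm 324 z_g432) :=
  not_cjIn yt_nc24_22_cnt

noncomputable def yt_nc24_23_cnt_L : List ℕ := [1, 4, z_T111_s1_O, 0, 0]

theorem yt_nc24_23_cnt_P : Prob 324 9 (grp 324 y_E0) yt_nc24_23_cnt_EG [z_g462] [z_g445] yt_c23_K yt_nc24_23_cnt_L 0 0 :=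
  Sym.prob z_hn z_hk yt_c23_sym yt_nc24_23_cnt_EG_ok (grp_cons_le z_g39_z_T111 (grp_cons_le zg1_z_T111 (grp_cons_le zg3_z_T111 (grp_cons_le z_g43_z_T111 (grp_cons_le z_g42_z_T111 (grp_cons_le zg2_z_T111 (grp_cons_le z_g44_z_T111 (grp_cons_le z_g54_z_T111 (grp_cons_le z_g55_z_T111 (grp_cons_le z_g49_z_T111 (grp_cons_le z_g50_z_T111 (grp_cons_le z_g51_z_T111 (grp_cons_le z_g62_z_T111 (grp_cons_le z_g58_z_T111 (grp_cons_le z_g59_z_T111 (grp_cons_le z_g65_z_T111 (grp_cons_le z_g66_z_T111 (grp_cons_le z_g67_z_T111 (grp_cons_le z_g77_z_T111 (grp_cons_le z_g78_z_T111 (grp_cons_le z_g72_z_T111 (grp_cons_le z_g73_z_T111 (grp_cons_le z_g74_z_T111 (grp_cons_le z_g81_z_T111 (grp_cons_le z_g82_z_T111 (grp_cons_le z_g87_z_T111 (grp_cons_le zg0_z_T111 (grp_cons_le z_g91_z_T111 (grp_cons_le z_g28_z_T111 (grp_cons_le z_g88_z_T111 (grp_nil_le _))))))))))))))))))))))))))))))) (Frames.cons z_T111_s1_F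 Frames.nil) (okE_cons.2 ⟨z_g462_ok, okE_nil _⟩) _

noncomputable def yt_nc24_23_cnt_t : BT := (BT.br (nat_lit 2) (nat_lit 0) [nat_lit 1, nat_lit 3, nat_lit 5] (BT.dead (nat_lit 94) (BT.frm (nat_lit 0) (nat_lit 0) (nat_lit 67872) [nat_lit 0] (BT.pln (nat_lit 0) (nat_lit 1) (BT.img (nat_lit 1) (nat_lit 2) (BT.and (nat_lit 1) (nat_lit 0) (BT.cnt (nat_lit 0)))))) (BT.dead (nat_lit 58) (BT.frm (nat_lit 0) (nat_lit 0) (nat_lit 66331) [nat_lit 0] (BT.pln (nat_lit 0) (nat_lit 1) (BT.img (nat_lit 1) (nat_lit 2) (BT.and (nat_lit 1) (nat_lit 0) (BT.cnt (nat_lit 0)))))) (BT.dead (nat_lit 121) (BT.frm (nat_lit 0) (nat_lit 0) (nat_lit 316) [nat_lit 0] (BT.pln (nat_lit 0) (nat_lit 1) (BT.img (nat_lit 1) (nat_lit 2) (BT.and (nat_lit 1) (nat_lit 0) (BT.cnt (nat_lit 0)))))) (BT.dead (nat_lit 54) (BT.frm (nat_lit 0) (nat_lit 0) (nat_lit 277) [nat_lit 0] (BT.pln (nat_lit 0) (nat_lit 1) (BT.img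 (nat_lit 1) (nat_lit 2) (BT.and (nat_lit 1) (nat_lit 0) (BT.cnt (nat_lit 0)))))) (BT.dead (nat_lit 1) (BT.frm (nat_lit 0) (nat_lit 0) (nat_lit 777) [nat_lit 0] (BT.pln (nat_lit 0) (nat_lit 1) (BT.img (nat_lit 1) (nat_lit 2) (BT.and (nat_lit 1) (nat_lit 0) (BT.cnt (nat_lit 0)))))) (BT.dead (nat_lit 0) (BT.frm (nat_lit 0) (nat_lit 0) (nat_lit 0) [nat_lit 0] (BT.pln (nat_lit 0) (nat_lit 1) (BT.img (nat_lit 1) (nat_lit 2) (BT.and (nat_lit 1) (nat_lit 0) (BT.cnt (nat_lit 0)))))) BT.nil)))))))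

theorem yt_nc24_23_cnt : Cnt 324 (grp 324 y_E0) [z_g462] [z_g445] 0 0 0 0 0 :=
  BT.sound yt_nc24_23_cnt_P Known.nil (t := yt_nc24_23_cnt_t) (d := 0) (by decide +kernel)

theorem yt_nc24_23 : ¬ CjIn (grp 324 y_E0) (Net.toPerm 324 z_g462) (Net.toPerm 324 z_g445) :=
  not_cjIn yt_nc24_23_cnt

noncomputable def yt_nc27_26_cnt_L : List ℕ := [1, 4, z_T111_s1_O, 0, 0]

theorem yt_nc27_26_cnt_P : Prob 324 9 (grp 324 y_E0) yt_nc27_26_cnt_EG [z_g490] [z_g484] yt_c26_K yt_nc27_26_cnt_L 0 0 :=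
  Sym.prob z_hn z_hk yt_c26_sym yt_nc27_26_cnt_EG_ok (grp_cons_le z_g39_z_T111 (grp_cons_le zg1_z_T111 (grp_cons_le zg3_z_T111 (grp_cons_le z_g43_z_T111 (grp_cons_le z_g42_z_T111 (grp_cons_le zg2_z_T111 (grp_cons_le z_g44_z_T111 (grp_cons_le z_g54_z_T111 (grp_cons_le z_g55_z_T111 (grp_cons_le z_g49_z_T111 (grp_cons_le z_g50_z_T111 (grp_cons_le z_g51_z_T111 (grp_cons_le z_g62_z_T111 (grp_cons_le z_g58_z_T111 (grp_cons_le z_g59_z_T111 (grp_cons_le z_g65_z_T111 (grp_cons_le z_g66_z_T111 (grp_cons_le z_g67_z_T111 (grp_cons_le z_g77_z_T111 (grp_cons_le z_g78_z_T111 (grp_cons_le z_g72_z_T111 (grp_cons_le z_g73_z_T111 (grp_cons_le z_g74_z_T111 (grp_cons_le z_g81_z_T111 (grp_cons_le z_g82_z_T111 (grp_cons_le z_g87_z_T111 (grp_cons_le zg0_z_T111 (grp_cons_le z_g91_z_T111 (grp_cons_le z_g28_z_T111 (grp_cons_le z_g88_z_T111 (grp_nil_le _))))))))))))))))))))))))))))))) (Frames.cons z_T111_s1_F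 Frames.nil) (okE_cons.2 ⟨z_g490_ok, okE_nil _⟩) _

noncomputable def yt_nc27_26_cnt_t : BT := (BT.br (nat_lit 2) (nat_lit 0) [nat_lit 1, nat_lit 3, nat_lit 5] (BT.dead (nat_lit 119) (BT.frm (nat_lit 0) (nat_lit 0) (nat_lit 65833) [nat_lit 0] (BT.pln (nat_lit 0) (nat_lit 2) (BT.img (nat_lit 1) (nat_lit 2) (BT.and (nat_lit 1) (nat_lit 0) (BT.cnt (nat_lit 0)))))) (BT.dead (nat_lit 97) (BT.frm (nat_lit 0) (nat_lit 0) (nat_lit 66833) [nat_lit 0] (BT.pln (nat_lit 0) (nat_lit 2) (BT.img (nat_lit 1) (nat_lit 2) (BT.and (nat_lit 1) (nat_lit 0) (BT.cnt (nat_lit 0)))))) (BT.dead (nat_lit 36) (BT.frm (nat_lit 0) (nat_lit 0) (nat_lit 66847) [nat_lit 0] (BT.pln (nat_lit 0) (nat_lit 2) (BT.img (nat_lit 1) (nat_lit 2) (BT.and (nat_lit 1) (nat_lit 0) (BT.cnt (nat_lit 0)))))) (BT.dead (nat_lit 35) (BT.frm (nat_lit 0) (nat_lit 0) (nat_lit 66837) [nat_lit 0] (BT.pln (nat_lit 0) (nat_lit 2) (BT.img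 (nat_lit 1) (nat_lit 2) (BT.and (nat_lit 1) (nat_lit 0) (BT.cnt (nat_lit 0)))))) (BT.dead (nat_lit 56) (BT.frm (nat_lit 0) (nat_lit 0) (nat_lit 530) [nat_lit 0] (BT.pln (nat_lit 0) (nat_lit 2) (BT.img (nat_lit 1) (nat_lit 2) (BT.and (nat_lit 1) (nat_lit 0) (BT.cnt (nat_lit 0)))))) (BT.dead (nat_lit 18) (BT.frm (nat_lit 0) (nat_lit 0) (nat_lit 783) [nat_lit 0] (BT.pln (nat_lit 0) (nat_lit 2) (BT.img (nat_lit 1) (nat_lit 2) (BT.and (nat_lit 1) (nat_lit 0) (BT.cnt (nat_lit 0)))))) (BT.dead (nat_lit 0) (BT.frm (nat_lit 0) (nat_lit 0) (nat_lit 0) [nat_lit 0] (BT.pln (nat_lit 0) (nat_lit 2) (BT.img (nat_lit 1) (nat_lit 2) (BT.and (nat_lit 1) (nat_lit 0) (BT.cnt (nat_lit 0)))))) BT.nil))))))))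

theorem yt_nc27_26_cnt : Cnt 324 (grp 324 y_E0) [z_g490] [z_g484] 0 0 0 0 0 :=
  BT.sound yt_nc27_26_cnt_P Known.nil (t := yt_nc27_26_cnt_t) (d := 0) (by decide +kernel)

theorem yt_nc27_26 : ¬ CjIn (grp 324 y_E0) (Net.toPerm 324 z_g490) (Net.toPerm 324 z_g484) :=
  not_cjIn yt_nc27_26_cnt

noncomputable def yt_nc33_32_cnt_L : List ℕ := [1, 4, z_T111_s1_O, 0, 0, 3, 9, z_T111_s80_O, 0, 0]

theorem yt_nc33_32_cnt_P : Prob 324 9 (grp 324 y_E0) yt_nc33_32_cnt_EG [z_g540] [z_g528] yt_c32_K yt_nc33_32_cnt_L 0 0 :=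
  Sym.prob z_hn z_hk yt_c32_sym yt_nc33_32_cnt_EG_ok (grp_cons_le z_g39_z_T111 (grp_cons_le zg1_z_T111 (grp_cons_le zg3_z_T111 (grp_cons_le z_g43_z_T111 (grp_cons_le z_g42_z_T111 (grp_cons_le zg2_z_T111 (grp_cons_le z_g44_z_T111 (grp_cons_le z_g54_z_T111 (grp_cons_le z_g55_z_T111 (grp_cons_le z_g49_z_T111 (grp_cons_le z_g50_z_T111 (grp_cons_le z_g51_z_T111 (grp_cons_le z_g62_z_T111 (grp_cons_le z_g58_z_T111 (grp_cons_le z_g59_z_T111 (grp_cons_le z_g65_z_T111 (grp_cons_le z_g66_z_T111 (grp_cons_le z_g67_z_T111 (grp_cons_le z_g77_z_T111 (grp_cons_le z_g78_z_T111 (grp_cons_le z_g72_z_T111 (grp_cons_le z_g73_z_T111 (grp_cons_le z_g74_z_T111 (grp_cons_le z_g81_z_T111 (grp_cons_le z_g82_z_T111 (grp_cons_le z_g87_z_T111 (grp_cons_le zg0_z_T111 (grp_cons_le z_g91_z_T111 (grp_cons_le z_g28_z_T111 (grp_cons_le z_g88_z_T111 (grp_nil_le _))))))))))))))))))))))))))))))) (Frames.cons z_T111_s1_F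 (Frames.cons z_T111_s80_F Frames.nil)) (okE_cons.2 ⟨z_g540_ok, okE_nil _⟩) _

noncomputable def yt_nc33_32_cnt_t : BT := (BT.fix (nat_lit 1) (BT.br (nat_lit 0) (nat_lit 47) [nat_lit 1] (BT.dead (nat_lit 109) (BT.frm (nat_lit 0) (nat_lit 131842) (nat_lit 69933) [nat_lit 0] (BT.pln (nat_lit 0) (nat_lit 3) (BT.and (nat_lit 3) (nat_lit 0) (BT.br (nat_lit 0) (nat_lit 68) [nat_lit 3] (BT.dead (nat_lit 130) (BT.pln (nat_lit 3) (nat_lit 2) (BT.and (nat_lit 6) (nat_lit 0) (BT.br (nat_lit 0) (nat_lit 93) [nat_lit 7] (BT.dead (nat_lit 171) (BT.frm (nat_lit 1) (nat_lit 0x1c020302) (nat_lit 0x120701112d) [nat_lit 0, nat_lit 3, nat_lit 7] (BT.pln (nat_lit 0) (nat_lit 5) (BT.and (nat_lit 0) (nat_lit 10) (BT.cnt (nat_lit 0))))) BT.nil)))) BT.nil))))) BT.nil)))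

theorem yt_nc33_32_cnt : Cnt 324 (grp 324 y_E0) [z_g540] [z_g528] 0 0 0 0 0 :=
  BT.sound yt_nc33_32_cnt_P Known.nil (t := yt_nc33_32_cnt_t) (d := 0) (by decide +kernel)

theorem yt_nc33_32 : ¬ CjIn (grp 324 y_E0) (Net.toPerm 324 z_g540) (Net.toPerm 324 z_g528) :=
  not_cjIn yt_nc33_32_cnt

noncomputable def yt_nc45_43_cnt_L : List ℕ := [1, 4, z_T111_s1_O, 0, 0]

theorem yt_nc45_43_cnt_P : Prob 324 9 (grp 324 y_E0) yt_nc45_43_cnt_EG [z_g713] [z_g541] yt_c43_K yt_nc45_43_cnt_L 0 0 :=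
  Sym.prob z_hn z_hk yt_c43_sym yt_nc45_43_cnt_EG_ok (grp_cons_le z_g39_z_T111 (grp_cons_le zg1_z_T111 (grp_cons_le zg3_z_T111 (grp_cons_le z_g43_z_T111 (grp_cons_le z_g42_z_T111 (grp_cons_le zg2_z_T111 (grp_cons_le z_g44_z_T111 (grp_cons_le z_g54_z_T111 (grp_cons_le z_g55_z_T111 (grp_cons_le z_g49_z_T111 (grp_cons_le z_g50_z_T111 (grp_cons_le z_g51_z_T111 (grp_cons_le z_g62_z_T111 (grp_cons_le z_g58_z_T111 (grp_cons_le z_g59_z_T111 (grp_cons_le z_g65_z_T111 (grp_cons_le z_g66_z_T111 (grp_cons_le z_g67_z_T111 (grp_cons_le z_g77_z_T111 (grp_cons_le z_g78_z_T111 (grp_cons_le z_g72_z_T111 (grp_cons_le z_g73_z_T111 (grp_cons_le z_g74_z_T111 (grp_cons_le z_g81_z_T111 (grp_cons_le z_g82_z_T111 (grp_cons_le z_g87_z_T111 (grp_cons_le zg0_z_T111 (grp_cons_le z_g91_z_T111 (grp_cons_le z_g28_z_T111 (grp_cons_le z_g88_z_T111 (grp_nil_le _))))))))))))))))))))))))))))))) (Frames.cons z_T111_s1_F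 Frames.nil) (okE_cons.2 ⟨z_g713_ok, okE_nil _⟩) _

noncomputable def yt_nc45_43_cnt_t : BT := (BT.fix (nat_lit 257) (BT.fix (nat_lit 1) (BT.dif (nat_lit 1) (nat_lit 0) (BT.br (nat_lit 0) (nat_lit 54) [nat_lit 1, nat_lit 5] (BT.dead (nat_lit 36) (BT.frm (nat_lit 0) (nat_lit 277) (nat_lit 66847) [nat_lit 0] (BT.pln (nat_lit 0) (nat_lit 1) (BT.and (nat_lit 0) (nat_lit 4) (BT.cnt (nat_lit 0))))) BT.nil)))))

theorem yt_nc45_43_cnt : Cnt 324 (grp 324 y_E0) [z_g713] [z_g541] 0 0 0 0 0 :=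
  BT.sound yt_nc45_43_cnt_P Known.nil (t := yt_nc45_43_cnt_t) (d := 0) (by decide +kernel)

theorem yt_nc45_43 : ¬ CjIn (grp 324 y_E0) (Net.toPerm 324 z_g713) (Net.toPerm 324 z_g541) :=
  not_cjIn yt_nc45_43_cnt

noncomputable def yt_nc52_50_cnt_L : List ℕ := [1, 4, z_T111_s1_O, 0, 0]

theorem yt_nc52_50_cnt_P : Prob 324 9 (grp 324 y_E0) yt_nc52_50_cnt_EG [z_g778] [z_g758] yt_c50_K yt_nc52_50_cnt_L 0 0 :=
  Sym.prob z_hn z_hk yt_c50_sym yt_nc52_50_cnt_EG_ok (grp_cons_le z_g39_z_T111 (grp_cons_le zg1_z_T111 (grp_cons_le zg3_z_T111 (grp_cons_le z_g43_z_T111 (grp_cons_le z_g42_z_T111 (grp_cons_le zg2_z_T111 (grp_cons_le z_g44_z_T111 (grp_cons_le z_g54_z_T111 (grp_cons_le z_g55_z_T111 (grp_cons_le z_g49_z_T111 (grp_cons_le z_g50_z_T111 (grp_cons_le z_g51_z_T111 (grp_cons_le z_g62_z_T111 (grp_cons_le z_g58_z_T111 (grp_cons_le z_g59_z_T111 (grp_cons_le z_g65_z_T111 (grp_cons_le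 z_g66_z_T111 (grp_cons_le z_g67_z_T111 (grp_cons_le z_g77_z_T111 (grp_cons_le z_g78_z_T111 (grp_cons_le z_g72_z_T111 (grp_cons_le z_g73_z_T111 (grp_cons_le z_g74_z_T111 (grp_cons_le z_g81_z_T111 (grp_cons_le z_g82_z_T111 (grp_cons_le z_g87_z_T111 (grp_cons_le zg0_z_T111 (grp_cons_le z_g91_z_T111 (grp_cons_le z_g28_z_T111 (grp_cons_le z_g88_z_T111 (grp_nil_le _))))))))))))))))))))))))))))))) (Frames.cons z_T111_s1_F Frames.nil) (okE_cons.2 ⟨z_g778_ok, okE_nil _⟩) _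

noncomputable def yt_nc52_50_cnt_t : BT := (BT.fix (nat_lit 65793) (BT.fix (nat_lit 1) (BT.dif (nat_lit 1) (nat_lit 0) (BT.br (nat_lit 0) (nat_lit 83) [nat_lit 1] (BT.dead (nat_lit 32) (BT.frm (nat_lit 0) (nat_lit 65840) (nat_lit 137473) [nat_lit 0] (BT.pln (nat_lit 0) (nat_lit 1) (BT.and (nat_lit 0) (nat_lit 4) (BT.cnt (nat_lit 0))))) BT.nil)))))

theorem yt_nc52_50_cnt : Cnt 324 (grp 324 y_E0) [z_g778] [z_g758] 0 0 0 0 0 :=
  BT.sound yt_nc52_50_cnt_P Known.nil (t := yt_nc52_50_cnt_t) (d := 0) (by decide +kernel)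

theorem yt_nc52_50 : ¬ CjIn (grp 324 y_E0) (Net.toPerm 324 z_g778) (Net.toPerm 324 z_g758) :=
  not_cjIn yt_nc52_50_cnt

noncomputable def yt_nc55_54_cnt_L : List ℕ := [1, 4, z_T111_s1_O, 0, 0]

theorem yt_nc55_54_cnt_P : Prob 324 9 (grp 324 y_E0) yt_nc55_54_cnt_EG [z_g811] [z_g803] yt_c54_K yt_nc55_54_cnt_L 0 0 :=
  Sym.prob z_hn z_hk yt_c54_sym yt_nc55_54_cnt_EG_ok (grp_cons_le z_g39_z_T111 (grp_cons_le zg1_z_T111 (grp_cons_le zg3_z_T111 (grp_cons_le z_g43_z_T111 (grp_cons_le z_g42_z_T111 (grp_cons_le zg2_z_T111 (grp_cons_le z_g44_z_T111 (grp_cons_le z_g54_z_T111 (grp_cons_le z_g55_z_T111 (grp_cons_le z_g49_z_T111 (grp_cons_le z_g50_z_T111 (grp_cons_le z_g51_z_T111 (grp_cons_le z_g62_z_T111 (grp_cons_le z_g58_z_T111 (grp_cons_le z_g59_z_T111 (grp_cons_le z_g65_z_T111 (grp_cons_le z_g66_z_T111 (grp_cons_le z_g67_z_T111 (grp_cons_le z_g77_z_T111 (grp_cons_le z_g78_z_T111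 (grp_cons_le z_g72_z_T111 (grp_cons_le z_g73_z_T111 (grp_cons_le z_g74_z_T111 (grp_cons_le z_g81_z_T111 (grp_cons_le z_g82_z_T111 (grp_cons_le z_g87_z_T111 (grp_cons_le zg0_z_T111 (grp_cons_le z_g91_z_T111 (grp_cons_le z_g28_z_T111 (grp_cons_le z_g88_z_T111 (grp_nil_le _))))))))))))))))))))))))))))))) (Frames.cons z_T111_s1_F Frames.nil) (okE_cons.2 ⟨z_g811_ok, okE_nil _⟩) _

noncomputable def yt_nc55_54_cnt_t : BT := (BT.fix (nat_lit 65793) (BT.fix (nat_lit 1) (BT.dif (nat_lit 1) (nat_lit 0) (BT.br (nat_lit 0) (nat_lit 138) [nat_lit 1, nat_lit 3] (BT.dead (nat_lit 118) (BT.frm (nat_lit 0) (nat_lit 1337) (nat_lit 297) [nat_lit 0] (BT.pln (nat_lit 0) (nat_lit 1) (BT.and (nat_lit 0) (nat_lit 4) (BT.cnt (nat_lit 0))))) BT.nil)))))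

theorem yt_nc55_54_cnt : Cnt 324 (grp 324 y_E0) [z_g811] [z_g803] 0 0 0 0 0 :=
  BT.sound yt_nc55_54_cnt_P Known.nil (t := yt_nc55_54_cnt_t) (d := 0) (by decide +kernel)

theorem yt_nc55_54 : ¬ CjIn (grp 324 y_E0) (Net.toPerm 324 z_g811) (Net.toPerm 324 z_g803) :=
  not_cjIn yt_nc55_54_cnt

noncomputable def yt_nc57_56_cnt_L : List ℕ := [1, 4, z_T111_s1_O, 0, 0]

theorem yt_nc57_56_cnt_P : Prob 324 9 (grp 324 y_E0) yt_nc57_56_cnt_EG [z_g834] [z_g827] yt_c56_K yt_nc57_56_cnt_L 0 0 :=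
  Sym.prob z_hn z_hk yt_c56_sym yt_nc57_56_cnt_EG_ok (grp_cons_le z_g39_z_T111 (grp_cons_le zg1_z_T111 (grp_cons_le zg3_z_T111 (grp_cons_le z_g43_z_T111 (grp_cons_le z_g42_z_T111 (grp_cons_le zg2_z_T111 (grp_cons_le z_g44_z_T111 (grp_cons_le z_g54_z_T111 (grp_cons_le z_g55_z_T111 (grp_cons_le z_g49_z_T111 (grp_cons_le z_g50_z_T111 (grp_cons_le z_g51_z_T111 (grp_cons_le z_g62_z_T111 (grp_cons_le z_g58_z_T111 (grp_cons_le z_g59_z_T111 (grp_cons_le z_g65_z_T111 (grp_cons_le z_g66_z_T111 (grp_cons_le z_g67_z_T111 (grp_cons_le z_g77_z_T111 (grp_cons_le z_g78_z_T111 (grp_cons_le z_g72_z_T111 (grp_cons_le z_g73_z_T111 (grp_cons_le z_g74_z_T111 (grp_cons_le z_g81_z_T111 (grp_cons_le z_g82_z_T111 (grp_cons_le z_g87_z_T111 (grp_cons_le zg0_z_T111 (grp_cons_le z_g91_z_T111 (grp_cons_le z_g28_z_T111 (grp_cons_le z_g88_z_T111 (grp_nil_le _))))))))))))))))))))))))))))))) (Frames.cons z_T111_s1_F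 Frames.nil) (okE_cons.2 ⟨z_g834_ok, okE_nil _⟩) _

noncomputable def yt_nc57_56_cnt_t : BT := (BT.fix (nat_lit 65793) (BT.fix (nat_lit 1) (BT.dif (nat_lit 1) (nat_lit 0) (BT.br (nat_lit 0) (nat_lit 124) [nat_lit 1, nat_lit 5] (BT.dead (nat_lit 71) (BT.frm (nat_lit 0) (nat_lit 65813) (nat_lit 67587) [nat_lit 0] (BT.pln (nat_lit 0) (nat_lit 1) (BT.and (nat_lit 0) (nat_lit 4) (BT.cnt (nat_lit 0))))) BT.nil)))))

theorem yt_nc57_56_cnt : Cnt 324 (grp 324 y_E0) [z_g834] [z_g827] 0 0 0 0 0 :=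
  BT.sound yt_nc57_56_cnt_P Known.nil (t := yt_nc57_56_cnt_t) (d := 0) (by decide +kernel)

theorem yt_nc57_56 : ¬ CjIn (grp 324 y_E0) (Net.toPerm 324 z_g834) (Net.toPerm 324 z_g827) :=
  not_cjIn yt_nc57_56_cnt

noncomputable def yt_nc58_54_cnt_L : List ℕ := [1, 4, z_T111_s1_O, 0, 0, 3, 11, z_T111_s21_O, 0, 0, 4, 10, z_T111_s58_O, 0, 0]

theorem yt_nc58_54_cnt_P : Prob 324 9 (grp 324 y_E0) yt_nc58_54_cnt_EG [z_g841] [z_g803] yt_c54_K yt_nc58_54_cnt_L 0 0 :=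
  Sym.prob z_hn z_hk yt_c54_sym yt_nc58_54_cnt_EG_ok (grp_cons_le z_g39_z_T111 (grp_cons_le zg1_z_T111 (grp_cons_le zg3_z_T111 (grp_cons_le z_g43_z_T111 (grp_cons_le z_g42_z_T111 (grp_cons_le zg2_z_T111 (grp_cons_le z_g44_z_T111 (grp_cons_le z_g54_z_T111 (grp_cons_le z_g55_z_T111 (grp_cons_le z_g49_z_T111 (grp_cons_le z_g50_z_T111 (grp_cons_le z_g51_z_T111 (grp_cons_le z_g62_z_T111 (grp_cons_le z_g58_z_T111 (grp_cons_le z_g59_z_T111 (grp_cons_le z_g65_z_T111 (grp_cons_le z_g66_z_T111 (grp_cons_le z_g67_z_T111 (grp_cons_le z_g77_z_T111 (grp_cons_le z_g78_z_T111 (grp_cons_le z_g72_z_T111 (grp_cons_le z_g73_z_T111 (grp_cons_le z_g74_z_T111 (grp_cons_le z_g81_z_T111 (grp_cons_le z_g82_z_T111 (grp_cons_le z_g87_z_T111 (grp_cons_le zg0_z_T111 (grp_cons_le z_g91_z_T111 (grp_cons_le z_g28_z_T111 (grp_cons_le z_g88_z_T111 (grp_nil_le _))))))))))))))))))))))))))))))) (Frames.cons z_T111_s1_F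 (Frames.cons z_T111_s21_F (Frames.cons z_T111_s58_F Frames.nil))) (okE_cons.2 ⟨z_g841_ok, okE_nil _⟩) _

noncomputable def yt_nc58_54_cnt_t : BT := (BT.fix (nat_lit 65793) (BT.fix (nat_lit 1) (BT.dif (nat_lit 1) (nat_lit 0) (BT.br (nat_lit 0) (nat_lit 136) [nat_lit 1, nat_lit 3] (BT.dead (nat_lit 118) (BT.frm (nat_lit 0) (nat_lit 1332) (nat_lit 297) [nat_lit 0] (BT.pln (nat_lit 0) (nat_lit 3) (BT.dif (nat_lit 0) (nat_lit 5) (BT.br (nat_lit 0) (nat_lit 295) [nat_lit 3] (BT.dead (nat_lit 59) (BT.pln (nat_lit 3) (nat_lit 1) (BT.and (nat_lit 6) (nat_lit 0) (BT.br (nat_lit 0) (nat_lit 148) [nat_lit 2565] (BT.dead (nat_lit 161) (BT.img (nat_lit 1) (nat_lit 7) (BT.frm (nat_lit 2) (nat_lit 0x192715080534) (nat_lit 0x1a2b1107150129) [nat_lit 1, nat_lit 4, nat_lit 0, nat_lit 8] (BT.pln (nat_lit 0) (nat_lit 4) (BT.fix (nat_lit 257) (BT.and (nat_lit 1) (nat_lit 0) (BT.cnt (nat_lit 0)))))))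 BT.nil)))) (BT.dead (nat_lit 276) (BT.img (nat_lit 1) (nat_lit 4) (BT.frm (nat_lit 1) (nat_lit 0x15080534) (nat_lit 0x1507150129) [nat_lit 1, nat_lit 0, nat_lit 5] (BT.pln (nat_lit 0) (nat_lit 5) (BT.img (nat_lit 1) (nat_lit 3) (BT.img (nat_lit 1) (nat_lit 0) (BT.img (nat_lit 1) (nat_lit 0) (BT.and (nat_lit 3) (nat_lit 0) (BT.cnt (nat_lit 0))))))))) (BT.dead (nat_lit 102) (BT.img (nat_lit 1) (nat_lit 4) (BT.frm (nat_lit 1) (nat_lit 0x15080534) (nat_lit 0x7150129) [nat_lit 1, nat_lit 0, nat_lit 5] (BT.pln (nat_lit 0) (nat_lit 5) (BT.img (nat_lit 1) (nat_lit 3) (BT.and (nat_lit 1) (nat_lit 0) (BT.cnt (nat_lit 0))))))) BT.nil))))))) BT.nil)))))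

theorem yt_nc58_54_cnt : Cnt 324 (grp 324 y_E0) [z_g841] [z_g803] 0 0 0 0 0 :=
  BT.sound yt_nc58_54_cnt_P Known.nil (t := yt_nc58_54_cnt_t) (d := 0) (by decide +kernel)

theorem yt_nc58_54 : ¬ CjIn (grp 324 y_E0) (Net.toPerm 324 z_g841) (Net.toPerm 324 z_g803) :=
  not_cjIn yt_nc58_54_cnt

noncomputable def yt_nc58_55_cnt_L : List ℕ := [1, 4, z_T111_s1_O, 0, 0]

theorem yt_nc58_55_cnt_P : Prob 324 9 (grp 324 y_E0) yt_nc58_55_cnt_EG [z_g841] [z_g811] yt_c55_K yt_nc58_55_cnt_L 0 0 :=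
  Sym.prob z_hn z_hk yt_c55_sym yt_nc58_55_cnt_EG_ok (grp_cons_le z_g39_z_T111 (grp_cons_le zg1_z_T111 (grp_cons_le zg3_z_T111 (grp_cons_le z_g43_z_T111 (grp_cons_le z_g42_z_T111 (grp_cons_le zg2_z_T111 (grp_cons_le z_g44_z_T111 (grp_cons_le z_g54_z_T111 (grp_cons_le z_g55_z_T111 (grp_cons_le z_g49_z_T111 (grp_cons_le z_g50_z_T111 (grp_cons_le z_g51_z_T111 (grp_cons_le z_g62_z_T111 (grp_cons_le z_g58_z_T111 (grp_cons_le z_g59_z_T111 (grp_cons_le z_g65_z_T111 (grp_cons_le z_g66_z_T111 (grp_cons_le z_g67_z_T111 (grp_cons_le z_g77_z_T111 (grp_cons_le z_g78_z_T111 (grp_cons_le z_g72_z_T111 (grp_cons_le z_g73_z_T111 (grp_cons_le z_g74_z_T111 (grp_cons_le z_g81_z_T111 (grp_cons_le z_g82_z_T111 (grp_cons_le z_g87_z_T111 (grp_cons_le zg0_z_T111 (grp_cons_le z_g91_z_T111 (grp_cons_le z_g28_z_T111 (grp_cons_le z_g88_z_T111 (grp_nil_le _))))))))))))))))))))))))))))))) (Frames.cons z_T111_s1_F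 Frames.nil) (okE_cons.2 ⟨z_g841_ok, okE_nil _⟩) _

noncomputable def yt_nc58_55_cnt_t : BT := (BT.fix (nat_lit 65793) (BT.fix (nat_lit 1) (BT.dif (nat_lit 1) (nat_lit 0) (BT.br (nat_lit 0) (nat_lit 136) [nat_lit 1] (BT.dead (nat_lit 138) (BT.frm (nat_lit 0) (nat_lit 1332) (nat_lit 1337) [nat_lit 0] (BT.pln (nat_lit 0) (nat_lit 1) (BT.and (nat_lit 0) (nat_lit 4) (BT.cnt (nat_lit 0))))) BT.nil)))))

theorem yt_nc58_55_cnt : Cnt 324 (grp 324 y_E0) [z_g841] [z_g811] 0 0 0 0 0 :=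
  BT.sound yt_nc58_55_cnt_P Known.nil (t := yt_nc58_55_cnt_t) (d := 0) (by decide +kernel)

theorem yt_nc58_55 : ¬ CjIn (grp 324 y_E0) (Net.toPerm 324 z_g841) (Net.toPerm 324 z_g811) :=
  not_cjIn yt_nc58_55_cnt

noncomputable def yt_nc59_54_cnt_L : List ℕ := [1, 4, z_T111_s1_O, 0, 0]

theorem yt_nc59_54_cnt_P : Prob 324 9 (grp 324 y_E0) yt_nc59_54_cnt_EG [z_g847] [z_g803] yt_c54_K yt_nc59_54_cnt_L 0 0 :=
  Sym.prob z_hn z_hk yt_c54_sym yt_nc59_54_cnt_EG_ok (grp_cons_le z_g39_z_T111 (grp_cons_le zg1_z_T111 (grp_cons_le zg3_z_T111 (grp_cons_le z_g43_z_T111 (grp_cons_le z_g42_z_T111 (grp_cons_le zg2_z_T111 (grp_cons_le z_g44_z_T111 (grp_cons_le z_g54_z_T111 (grp_cons_le z_g55_z_T111 (grp_cons_le z_g49_z_T111 (grp_cons_le z_g50_z_T111 (grp_cons_le z_g51_z_T111 (grp_cons_le z_g62_z_T111 (grp_cons_le z_g58_z_T111 (grp_cons_le z_g59_z_T111 (grp_cons_le z_g65_z_T111 (grp_cons_le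 z_g66_z_T111 (grp_cons_le z_g67_z_T111 (grp_cons_le z_g77_z_T111 (grp_cons_le z_g78_z_T111 (grp_cons_le z_g72_z_T111 (grp_cons_le z_g73_z_T111 (grp_cons_le z_g74_z_T111 (grp_cons_le z_g81_z_T111 (grp_cons_le z_g82_z_T111 (grp_cons_le z_g87_z_T111 (grp_cons_le zg0_z_T111 (grp_cons_le z_g91_z_T111 (grp_cons_le z_g28_z_T111 (grp_cons_le z_g88_z_T111 (grp_nil_le _))))))))))))))))))))))))))))))) (Frames.cons z_T111_s1_F Frames.nil) (okE_cons.2 ⟨z_g847_ok, okE_nil _⟩) _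

noncomputable def yt_nc59_54_cnt_t : BT := (BT.fix (nat_lit 65793) (BT.fix (nat_lit 1) (BT.dif (nat_lit 1) (nat_lit 0) (BT.br (nat_lit 0) (nat_lit 36) [nat_lit 1, nat_lit 3] (BT.dead (nat_lit 118) (BT.frm (nat_lit 0) (nat_lit 66847) (nat_lit 297) [nat_lit 0] (BT.pln (nat_lit 0) (nat_lit 1) (BT.and (nat_lit 0) (nat_lit 4) (BT.cnt (nat_lit 0))))) BT.nil)))))

theorem yt_nc59_54_cnt : Cnt 324 (grp 324 y_E0) [z_g847] [z_g803] 0 0 0 0 0 :=
  BT.sound yt_nc59_54_cnt_P Known.nil (t := yt_nc59_54_cnt_t) (d := 0) (by decide +kernel)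

theorem yt_nc59_54 : ¬ CjIn (grp 324 y_E0) (Net.toPerm 324 z_g847) (Net.toPerm 324 z_g803) :=
  not_cjIn yt_nc59_54_cnt

noncomputable def yt_nc59_55_cnt_L : List ℕ := [1, 4, z_T111_s1_O, 0, 0, 3, 20, z_T111_s123_O, 0, 0]

theorem yt_nc59_55_cnt_P : Prob 324 9 (grp 324 y_E0) yt_nc59_55_cnt_EG [z_g847] [z_g811] yt_c55_K yt_nc59_55_cnt_L 0 0 :=
  Sym.prob z_hn z_hk yt_c55_sym yt_nc59_55_cnt_EG_ok (grp_cons_le z_g39_z_T111 (grp_cons_le zg1_z_T111 (grp_cons_le zg3_z_T111 (grp_cons_le z_g43_z_T111 (grp_cons_le z_g42_z_T111 (grp_cons_le zg2_z_T111 (grp_cons_le z_g44_z_T111 (grp_cons_le z_g54_z_T111 (grp_cons_le z_g55_z_T111 (grp_cons_le z_g49_z_T111 (grp_cons_le z_g50_z_T111 (grp_cons_le z_g51_z_T111 (grp_cons_le z_g62_z_T111 (grp_cons_le z_g58_z_T111 (grp_cons_le z_g59_z_T111 (grp_cons_le z_g65_z_T111 (grp_cons_le z_g66_z_T111 (grp_cons_le z_g67_z_T111 (grp_cons_le z_g77_z_T111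 (grp_cons_le z_g78_z_T111 (grp_cons_le z_g72_z_T111 (grp_cons_le z_g73_z_T111 (grp_cons_le z_g74_z_T111 (grp_cons_le z_g81_z_T111 (grp_cons_le z_g82_z_T111 (grp_cons_le z_g87_z_T111 (grp_cons_le zg0_z_T111 (grp_cons_le z_g91_z_T111 (grp_cons_le z_g28_z_T111 (grp_cons_le z_g88_z_T111 (grp_nil_le _))))))))))))))))))))))))))))))) (Frames.cons z_T111_s1_F (Frames.cons z_T111_s123_F Frames.nil)) (okE_cons.2 ⟨z_g847_ok, okE_nil _⟩) _

noncomputable def yt_nc59_55_cnt_t : BT := (BT.fix (nat_lit 65793) (BT.fix (nat_lit 1) (BT.dif (nat_lit 1) (nat_lit 0) (BT.br (nat_lit 0) (nat_lit 36) [nat_lit 1] (BT.dead (nat_lit 138) (BT.dif (nat_lit 1) (nat_lit 0) (BT.frm (nat_lit 0) (nat_lit 66847) (nat_lit 1337) [nat_lit 1] (BT.pln (nat_lit 0) (nat_lit 3) (BT.dif (nat_lit 2) (nat_lit 0) (BT.br (nat_lit 0) (nat_lit 86) [nat_lit 3] (BT.dead (nat_lit 218) (BT.img (nat_lit 1) (nat_lit 5) (BT.frm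 (nat_lit 1) (nat_lit 0xf181101051f) (nat_lit 0xf2f0539) [nat_lit 1, nat_lit 0, nat_lit 6] (BT.pln (nat_lit 0) (nat_lit 3) (BT.fix (nat_lit 257) (BT.and (nat_lit 1) (nat_lit 0) (BT.cnt (nat_lit 0))))))) BT.nil)))))) BT.nil)))))

theorem yt_nc59_55_cnt : Cnt 324 (grp 324 y_E0) [z_g847] [z_g811] 0 0 0 0 0 :=
  BT.sound yt_nc59_55_cnt_P Known.nil (t := yt_nc59_55_cnt_t) (d := 0) (by decide +kernel)

theorem yt_nc59_55 : ¬ CjIn (grp 324 y_E0) (Net.toPerm 324 z_g847) (Net.toPerm 324 z_g811) :=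
  not_cjIn yt_nc59_55_cnt

noncomputable def yt_nc59_58_cnt_L : List ℕ := [1, 4, z_T111_s1_O, 0, 0]

theorem yt_nc59_58_cnt_P : Prob 324 9 (grp 324 y_E0) yt_nc59_58_cnt_EG [z_g847] [z_g841] yt_c58_K yt_nc59_58_cnt_L 0 0 :=
  Sym.prob z_hn z_hk yt_c58_sym yt_nc59_58_cnt_EG_ok (grp_cons_le z_g39_z_T111 (grp_cons_le zg1_z_T111 (grp_cons_le zg3_z_T111 (grp_cons_le z_g43_z_T111 (grp_cons_le z_g42_z_T111 (grp_cons_le zg2_z_T111 (grp_cons_le z_g44_z_T111 (grp_cons_le z_g54_z_T111 (grp_cons_le z_g55_z_T111 (grp_cons_le z_g49_z_T111 (grp_cons_le z_g50_z_T111 (grp_cons_le z_g51_z_T111 (grp_cons_le z_g62_z_T111 (grp_cons_le z_g58_z_T111 (grp_cons_le z_g59_z_T111 (grp_cons_le z_g65_z_T111 (grp_cons_le z_g66_z_T111 (grp_cons_le z_g67_z_T111 (grp_cons_le z_g77_z_T111 (grp_cons_le z_g78_z_T111 (grp_cons_le z_g72_z_T111 (grp_cons_le z_g73_z_T111 (grp_cons_le z_g74_z_T111 (grp_cons_le z_g81_z_T111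 (grp_cons_le z_g82_z_T111 (grp_cons_le z_g87_z_T111 (grp_cons_le zg0_z_T111 (grp_cons_le z_g91_z_T111 (grp_cons_le z_g28_z_T111 (grp_cons_le z_g88_z_T111 (grp_nil_le _))))))))))))))))))))))))))))))) (Frames.cons z_T111_s1_F Frames.nil) (okE_cons.2 ⟨z_g847_ok, okE_nil _⟩) _

noncomputable def yt_nc59_58_cnt_t : BT := (BT.fix (nat_lit 65793) (BT.fix (nat_lit 1) (BT.dif (nat_lit 1) (nat_lit 0) (BT.br (nat_lit 0) (nat_lit 36) [nat_lit 1, nat_lit 5] (BT.dead (nat_lit 136) (BT.frm (nat_lit 0) (nat_lit 66847) (nat_lit 1332) [nat_lit 0] (BT.pln (nat_lit 0) (nat_lit 1) (BT.and (nat_lit 0) (nat_lit 4) (BT.cnt (nat_lit 0))))) BT.nil)))))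

theorem yt_nc59_58_cnt : Cnt 324 (grp 324 y_E0) [z_g847] [z_g841] 0 0 0 0 0 :=
  BT.sound yt_nc59_58_cnt_P Known.nil (t := yt_nc59_58_cnt_t) (d := 0) (by decide +kernel)

theorem yt_nc59_58 : ¬ CjIn (grp 324 y_E0) (Net.toPerm 324 z_g847) (Net.toPerm 324 z_g841) :=
  not_cjIn yt_nc59_58_cnt

noncomputable def yt_nc64_63_cnt_L : List ℕ := [1, 4, z_T111_s1_O, 0, 0]

theorem yt_nc64_63_cnt_P : Prob 324 9 (grp 324 y_E0) yt_nc64_63_cnt_EG [z_g905] [z_g894] yt_c63_K yt_nc64_63_cnt_L 0 0 :=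
  Sym.prob z_hn z_hk yt_c63_sym yt_nc64_63_cnt_EG_ok (grp_cons_le z_g39_z_T111 (grp_cons_le zg1_z_T111 (grp_cons_le zg3_z_T111 (grp_cons_le z_g43_z_T111 (grp_cons_le z_g42_z_T111 (grp_cons_le zg2_z_T111 (grp_cons_le z_g44_z_T111 (grp_cons_le z_g54_z_T111 (grp_cons_le z_g55_z_T111 (grp_cons_le z_g49_z_T111 (grp_cons_le z_g50_z_T111 (grp_cons_le z_g51_z_T111 (grp_cons_le z_g62_z_T111 (grp_cons_le z_g58_z_T111 (grp_cons_le z_g59_z_T111 (grp_cons_le z_g65_z_T111 (grp_cons_le z_g66_z_T111 (grp_cons_le z_g67_z_T111 (grp_cons_le z_g77_z_T111 (grp_cons_le z_g78_z_T111 (grp_cons_le z_g72_z_T111 (grp_cons_le z_g73_z_T111 (grp_cons_le z_g74_z_T111 (grp_cons_le z_g81_z_T111 (grp_cons_le z_g82_z_T111 (grp_cons_le z_g87_z_T111 (grp_cons_le zg0_z_T111 (grp_cons_le z_g91_z_T111 (grp_cons_le z_g28_z_T111 (grp_cons_le z_g88_z_T111 (grp_nil_le _))))))))))))))))))))))))))))))) (Frames.cons z_T111_s1_F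 Frames.nil) (okE_cons.2 ⟨z_g905_ok, okE_nil _⟩) _

noncomputable def yt_nc64_63_cnt_t : BT := (BT.fix (nat_lit 65793) (BT.fix (nat_lit 1) (BT.dif (nat_lit 1) (nat_lit 0) (BT.br (nat_lit 0) (nat_lit 1) [nat_lit 1, nat_lit 3] (BT.dead (nat_lit 60) (BT.frm (nat_lit 0) (nat_lit 777) (nat_lit 67636) [nat_lit 0] (BT.pln (nat_lit 0) (nat_lit 1) (BT.and (nat_lit 0) (nat_lit 4) (BT.cnt (nat_lit 0))))) BT.nil)))))

theorem yt_nc64_63_cnt : Cnt 324 (grp 324 y_E0) [z_g905] [z_g894] 0 0 0 0 0 :=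
  BT.sound yt_nc64_63_cnt_P Known.nil (t := yt_nc64_63_cnt_t) (d := 0) (by decide +kernel)

theorem yt_nc64_63 : ¬ CjIn (grp 324 y_E0) (Net.toPerm 324 z_g905) (Net.toPerm 324 z_g894) :=
  not_cjIn yt_nc64_63_cnt

noncomputable def yt_nc65_62_cnt_L : List ℕ := [1, 4, z_T111_s1_O, 0, 0]

theorem yt_nc65_62_cnt_P : Prob 324 9 (grp 324 y_E0) yt_nc65_62_cnt_EG [z_g921] [z_g882] yt_c62_K yt_nc65_62_cnt_L 0 0 :=
  Sym.prob z_hn z_hk yt_c62_sym yt_nc65_62_cnt_EG_ok (grp_cons_le z_g39_z_T111 (grp_cons_le zg1_z_T111 (grp_cons_le zg3_z_T111 (grp_cons_le z_g43_z_T111 (grp_cons_le z_g42_z_T111 (grp_cons_le zg2_z_T111 (grp_cons_le z_g44_z_T111 (grp_cons_le z_g54_z_T111 (grp_cons_le z_g55_z_T111 (grp_cons_le z_g49_z_T111 (grp_cons_le z_g50_z_T111 (grp_cons_le z_g51_z_T111 (grp_cons_le z_g62_z_T111 (grp_cons_le z_g58_z_T111 (grp_cons_le z_g59_z_T111 (grp_cons_le z_g65_z_T111 (grp_cons_le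 z_g66_z_T111 (grp_cons_le z_g67_z_T111 (grp_cons_le z_g77_z_T111 (grp_cons_le z_g78_z_T111 (grp_cons_le z_g72_z_T111 (grp_cons_le z_g73_z_T111 (grp_cons_le z_g74_z_T111 (grp_cons_le z_g81_z_T111 (grp_cons_le z_g82_z_T111 (grp_cons_le z_g87_z_T111 (grp_cons_le zg0_z_T111 (grp_cons_le z_g91_z_T111 (grp_cons_le z_g28_z_T111 (grp_cons_le z_g88_z_T111 (grp_nil_le _))))))))))))))))))))))))))))))) (Frames.cons z_T111_s1_F Frames.nil) (okE_cons.2 ⟨z_g921_ok, okE_nil _⟩) _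

noncomputable def yt_nc65_62_cnt_t : BT := (BT.fix (nat_lit 1) (BT.br (nat_lit 0) (nat_lit 85) [nat_lit 1] (BT.dead (nat_lit 27) (BT.frm (nat_lit 0) (nat_lit 67362) (nat_lit 198702) [nat_lit 0] (BT.pln (nat_lit 0) (nat_lit 1) (BT.fix (nat_lit 65793) (BT.and (nat_lit 1) (nat_lit 0) (BT.cnt (nat_lit 0)))))) BT.nil)))

theorem yt_nc65_62_cnt : Cnt 324 (grp 324 y_E0) [z_g921] [z_g882] 0 0 0 0 0 :=
  BT.sound yt_nc65_62_cnt_P Known.nil (t := yt_nc65_62_cnt_t) (d := 0) (by decide +kernel)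

theorem yt_nc65_62 : ¬ CjIn (grp 324 y_E0) (Net.toPerm 324 z_g921) (Net.toPerm 324 z_g882) :=
  not_cjIn yt_nc65_62_cnt

noncomputable def yt_nc75_71_cnt_L : List ℕ := [1, 4, z_T111_s1_O, 0, 0]

theorem yt_nc75_71_cnt_P : Prob 324 9 (grp 324 y_E0) yt_nc75_71_cnt_EG [z_g996] [z_g969] yt_c71_K yt_nc75_71_cnt_L 0 0 :=
  Sym.prob z_hn z_hk yt_c71_sym yt_nc75_71_cnt_EG_ok (grp_cons_le z_g39_z_T111 (grp_cons_le zg1_z_T111 (grp_cons_le zg3_z_T111 (grp_cons_le z_g43_z_T111 (grp_cons_le z_g42_z_T111 (grp_cons_le zg2_z_T111 (grp_cons_le z_g44_z_T111 (grp_cons_le z_g54_z_T111 (grp_cons_le z_g55_z_T111 (grp_cons_le z_g49_z_T111 (grp_cons_le z_g50_z_T111 (grp_cons_le z_g51_z_T111 (grp_cons_le z_g62_z_T111 (grp_cons_le z_g58_z_T111 (grp_cons_le z_g59_z_T111 (grp_cons_le z_g65_z_T111 (grp_cons_le z_g66_z_T111 (grp_cons_le z_g67_z_T111 (grp_cons_le z_g77_z_T111 (grp_cons_le z_g78_z_T111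 (grp_cons_le z_g72_z_T111 (grp_cons_le z_g73_z_T111 (grp_cons_le z_g74_z_T111 (grp_cons_le z_g81_z_T111 (grp_cons_le z_g82_z_T111 (grp_cons_le z_g87_z_T111 (grp_cons_le zg0_z_T111 (grp_cons_le z_g91_z_T111 (grp_cons_le z_g28_z_T111 (grp_cons_le z_g88_z_T111 (grp_nil_le _))))))))))))))))))))))))))))))) (Frames.cons z_T111_s1_F Frames.nil) (okE_cons.2 ⟨z_g996_ok, okE_nil _⟩) _

noncomputable def yt_nc75_71_cnt_t : BT := (BT.fix (nat_lit 1) (BT.br (nat_lit 0) (nat_lit 133) [nat_lit 1] (BT.dead (nat_lit 120) (BT.frm (nat_lit 0) (nat_lit 290) (nat_lit 65801) [nat_lit 0] (BT.pln (nat_lit 0) (nat_lit 1) (BT.fix (nat_lit 257) (BT.and (nat_lit 1) (nat_lit 0) (BT.cnt (nat_lit 0)))))) BT.nil)))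

theorem yt_nc75_71_cnt : Cnt 324 (grp 324 y_E0) [z_g996] [z_g969] 0 0 0 0 0 :=
  BT.sound yt_nc75_71_cnt_P Known.nil (t := yt_nc75_71_cnt_t) (d := 0) (by decide +kernel)

theorem yt_nc75_71 : ¬ CjIn (grp 324 y_E0) (Net.toPerm 324 z_g996) (Net.toPerm 324 z_g969) :=
  not_cjIn yt_nc75_71_cnt

noncomputable def yt_nc85_83_cnt_L : List ℕ := [1, 4, z_T111_s1_O, 0, 0]

theorem yt_nc85_83_cnt_P : Prob 324 9 (grp 324 y_E0) yt_nc85_83_cnt_EG [z_g1076] [z_g1057] yt_c83_K yt_nc85_83_cnt_L 0 0 :=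
  Sym.prob z_hn z_hk yt_c83_sym yt_nc85_83_cnt_EG_ok (grp_cons_le z_g39_z_T111 (grp_cons_le zg1_z_T111 (grp_cons_le zg3_z_T111 (grp_cons_le z_g43_z_T111 (grp_cons_le z_g42_z_T111 (grp_cons_le zg2_z_T111 (grp_cons_le z_g44_z_T111 (grp_cons_le z_g54_z_T111 (grp_cons_le z_g55_z_T111 (grp_cons_le z_g49_z_T111 (grp_cons_le z_g50_z_T111 (grp_cons_le z_g51_z_T111 (grp_cons_le z_g62_z_T111 (grp_cons_le z_g58_z_T111 (grp_cons_le z_g59_z_T111 (grp_cons_le z_g65_z_T111 (grp_cons_le z_g66_z_T111 (grp_cons_le z_g67_z_T111 (grp_cons_le z_g77_z_T111 (grp_cons_le z_g78_z_T111 (grp_cons_le z_g72_z_T111 (grp_cons_le z_g73_z_T111 (grp_cons_le z_g74_z_T111 (grp_cons_le z_g81_z_T111 (grp_cons_le z_g82_z_T111 (grp_cons_le z_g87_z_T111 (grp_cons_le zg0_z_T111 (grp_cons_le z_g91_z_T111 (grp_cons_le z_g28_z_T111 (grp_cons_le z_g88_z_T111 (grp_nil_le _))))))))))))))))))))))))))))))) (Frames.cons z_T111_s1_F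 Frames.nil) (okE_cons.2 ⟨z_g1076_ok, okE_nil _⟩) _

noncomputable def yt_nc85_83_cnt_t : BT := (BT.fix (nat_lit 65793) (BT.br (nat_lit 0) (nat_lit 3) [nat_lit 1, nat_lit 3, nat_lit 5] (BT.dead (nat_lit 20) (BT.frm (nat_lit 0) (nat_lit 785) (nat_lit 782) [nat_lit 0] (BT.pln (nat_lit 0) (nat_lit 1) (BT.and (nat_lit 0) (nat_lit 3) (BT.cnt (nat_lit 0))))) (BT.dead (nat_lit 3) (BT.frm (nat_lit 0) (nat_lit 785) (nat_lit 785) [nat_lit 0] (BT.pln (nat_lit 0) (nat_lit 1) (BT.and (nat_lit 0) (nat_lit 3) (BT.cnt (nat_lit 0))))) (BT.dead (nat_lit 10) (BT.frm (nat_lit 0) (nat_lit 785) (nat_lit 3) [nat_lit 0] (BT.pln (nat_lit 0) (nat_lit 1) (BT.and (nat_lit 0) (nat_lit 3) (BT.cnt (nat_lit 0))))) BT.nil)))))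

theorem yt_nc85_83_cnt : Cnt 324 (grp 324 y_E0) [z_g1076] [z_g1057] 0 0 0 0 0 :=
  BT.sound yt_nc85_83_cnt_P Known.nil (t := yt_nc85_83_cnt_t) (d := 0) (by decide +kernel)

theorem yt_nc85_83 : ¬ CjIn (grp 324 y_E0) (Net.toPerm 324 z_g1076) (Net.toPerm 324 z_g1057) :=
  not_cjIn yt_nc85_83_cnt

noncomputable def yt_nc88_86_cnt_L : List ℕ := [1, 4, z_T111_s1_O, 0, 0]

theorem yt_nc88_86_cnt_P : Prob 324 9 (grp 324 y_E0) yt_nc88_86_cnt_EG [z_g1095] [z_g1088] yt_c86_K yt_nc88_86_cnt_L 0 0 :=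
  Sym.prob z_hn z_hk yt_c86_sym yt_nc88_86_cnt_EG_ok (grp_cons_le z_g39_z_T111 (grp_cons_le zg1_z_T111 (grp_cons_le zg3_z_T111 (grp_cons_le z_g43_z_T111 (grp_cons_le z_g42_z_T111 (grp_cons_le zg2_z_T111 (grp_cons_le z_g44_z_T111 (grp_cons_le z_g54_z_T111 (grp_cons_le z_g55_z_T111 (grp_cons_le z_g49_z_T111 (grp_cons_le z_g50_z_T111 (grp_cons_le z_g51_z_T111 (grp_cons_le z_g62_z_T111 (grp_cons_le z_g58_z_T111 (grp_cons_le z_g59_z_T111 (grp_cons_le z_g65_z_T111 (grp_cons_le z_g66_z_T111 (grp_cons_le z_g67_z_T111 (grp_cons_le z_g77_z_T111 (grp_cons_le z_g78_z_T111 (grp_cons_le z_g72_z_T111 (grp_cons_le z_g73_z_T111 (grp_cons_le z_g74_z_T111 (grp_cons_le z_g81_z_T111 (grp_cons_le z_g82_z_T111 (grp_cons_le z_g87_z_T111 (grp_cons_le zg0_z_T111 (grp_cons_le z_g91_z_T111 (grp_cons_le z_g28_z_T111 (grp_cons_le z_g88_z_T111 (grp_nil_le _))))))))))))))))))))))))))))))) (Frames.cons z_T111_s1_F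 Frames.nil) (okE_cons.2 ⟨z_g1095_ok, okE_nil _⟩) _

noncomputable def yt_nc88_86_cnt_t : BT := (BT.fix (nat_lit 65793) (BT.br (nat_lit 0) (nat_lit 3) [nat_lit 1, nat_lit 3] (BT.dead (nat_lit 82) (BT.frm (nat_lit 0) (nat_lit 785) (nat_lit 77057) [nat_lit 0] (BT.pln (nat_lit 0) (nat_lit 1) (BT.and (nat_lit 0) (nat_lit 3) (BT.cnt (nat_lit 0))))) (BT.dead (nat_lit 142) (BT.frm (nat_lit 0) (nat_lit 785) (nat_lit 311) [nat_lit 0] (BT.pln (nat_lit 0) (nat_lit 1) (BT.and (nat_lit 0) (nat_lit 3) (BT.cnt (nat_lit 0))))) (BT.dead (nat_lit 65) (BT.frm (nat_lit 0) (nat_lit 785) (nat_lit 294) [nat_lit 0] (BT.pln (nat_lit 0) (nat_lit 1) (BT.and (nat_lit 0) (nat_lit 3) (BT.cnt (nat_lit 0))))) (BT.dead (nat_lit 56) (BT.frm (nat_lit 0) (nat_lit 785) (nat_lit 530) [nat_lit 0] (BT.pln (nat_lit 0) (nat_lit 1) (BT.and (nat_lit 0) (nat_lit 3) (BT.cnt (nat_lit 0))))) BT.nil))))))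

theorem yt_nc88_86_cnt : Cnt 324 (grp 324 y_E0) [z_g1095] [z_g1088] 0 0 0 0 0 :=
  BT.sound yt_nc88_86_cnt_P Known.nil (t := yt_nc88_86_cnt_t) (d := 0) (by decide +kernel)

theorem yt_nc88_86 : ¬ CjIn (grp 324 y_E0) (Net.toPerm 324 z_g1095) (Net.toPerm 324 z_g1088) :=
  not_cjIn yt_nc88_86_cnt

noncomputable def yt_nc89_87_cnt_L : List ℕ := [1, 4, z_T111_s1_O, 0, 0, 4, 19, z_T111_s22_O, 0, 0]

theorem yt_nc89_87_cnt_P : Prob 324 9 (grp 324 y_E0) yt_nc89_87_cnt_EG [z_g1100] [z_g1092] yt_c87_K yt_nc89_87_cnt_L 0 0 :=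
  Sym.prob z_hn z_hk yt_c87_sym yt_nc89_87_cnt_EG_ok (grp_cons_le z_g39_z_T111 (grp_cons_le zg1_z_T111 (grp_cons_le zg3_z_T111 (grp_cons_le z_g43_z_T111 (grp_cons_le z_g42_z_T111 (grp_cons_le zg2_z_T111 (grp_cons_le z_g44_z_T111 (grp_cons_le z_g54_z_T111 (grp_cons_le z_g55_z_T111 (grp_cons_le z_g49_z_T111 (grp_cons_le z_g50_z_T111 (grp_cons_le z_g51_z_T111 (grp_cons_le z_g62_z_T111 (grp_cons_le z_g58_z_T111 (grp_cons_le z_g59_z_T111 (grp_cons_le z_g65_z_T111 (grp_cons_le z_g66_z_T111 (grp_cons_le z_g67_z_T111 (grp_cons_le z_g77_z_T111 (grp_cons_le z_g78_z_T111 (grp_cons_le z_g72_z_T111 (grp_cons_le z_g73_z_T111 (grp_cons_le z_g74_z_T111 (grp_cons_le z_g81_z_T111 (grp_cons_le z_g82_z_T111 (grp_cons_le z_g87_z_T111 (grp_cons_le zg0_z_T111 (grp_cons_le z_g91_z_T111 (grp_cons_le z_g28_z_T111 (grp_cons_le z_g88_z_T111 (grp_nil_le _))))))))))))))))))))))))))))))) (Frames.cons z_T111_s1_F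 (Frames.cons z_T111_s22_F Frames.nil)) (okE_cons.2 ⟨z_g1100_ok, okE_nil _⟩) _

noncomputable def yt_nc89_87_cnt_t : BT := (BT.fix (nat_lit 65793) (BT.br (nat_lit 0) (nat_lit 73) [nat_lit 1, nat_lit 5] (BT.dead (nat_lit 126) (BT.frm (nat_lit 0) (nat_lit 549) (nat_lit 1317) [nat_lit 0] (BT.pln (nat_lit 0) (nat_lit 2) (BT.and (nat_lit 3) (nat_lit 0) (BT.br (nat_lit 0) (nat_lit 146) [nat_lit 770] (BT.dead (nat_lit 246) (BT.img (nat_lit 1) (nat_lit 4) (BT.img (nat_lit 1) (nat_lit 0) (BT.frm (nat_lit 1) (nat_lit 0x191b12090225) (nat_lit 0x1a0f12070c0525) [nat_lit 2, nat_lit 0, nat_lit 1, nat_lit 6] (BT.pln (nat_lit 0) (nat_lit 7) (BT.img (nat_lit 1) (nat_lit 4) (BT.and (nat_lit 1) (nat_lit 0) (BT.cnt (nat_lit 0)))))))) BT.nil))))) (BT.dead (nat_lit 60) (BT.frm (nat_lit 0) (nat_lit 549) (nat_lit 67636) [nat_lit 0] (BT.pln (nat_lit 0) (nat_lit 2) (BT.and (nat_lit 0) (nat_lit 3) (BT.cnt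 (nat_lit 0))))) BT.nil))))

theorem yt_nc89_87_cnt : Cnt 324 (grp 324 y_E0) [z_g1100] [z_g1092] 0 0 0 0 0 :=
  BT.sound yt_nc89_87_cnt_P Known.nil (t := yt_nc89_87_cnt_t) (d := 0) (by decide +kernel)

theorem yt_nc89_87 : ¬ CjIn (grp 324 y_E0) (Net.toPerm 324 z_g1100) (Net.toPerm 324 z_g1092) :=
  not_cjIn yt_nc89_87_cnt

noncomputable def yt_nc91_90_cnt_L : List ℕ := [1, 4, z_T111_s1_O, 0, 0, 5, 10, z_T111_s162_O, 0, 0]

theorem yt_nc91_90_cnt_P : Prob 324 9 (grp 324 y_E0) yt_nc91_90_cnt_EG [z_g1122] [z_g1105] yt_c90_K yt_nc91_90_cnt_L 0 0 :=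
  Sym.prob z_hn z_hk yt_c90_sym yt_nc91_90_cnt_EG_ok (grp_cons_le z_g39_z_T111 (grp_cons_le zg1_z_T111 (grp_cons_le zg3_z_T111 (grp_cons_le z_g43_z_T111 (grp_cons_le z_g42_z_T111 (grp_cons_le zg2_z_T111 (grp_cons_le z_g44_z_T111 (grp_cons_le z_g54_z_T111 (grp_cons_le z_g55_z_T111 (grp_cons_le z_g49_z_T111 (grp_cons_le z_g50_z_T111 (grp_cons_le z_g51_z_T111 (grp_cons_le z_g62_z_T111 (grp_cons_le z_g58_z_T111 (grp_cons_le z_g59_z_T111 (grp_cons_le z_g65_z_T111 (grp_cons_le z_g66_z_T111 (grp_cons_le z_g67_z_T111 (grp_cons_le z_g77_z_T111 (grp_cons_le z_g78_z_T111 (grp_cons_le z_g72_z_T111 (grp_cons_le z_g73_z_T111 (grp_cons_le z_g74_z_T111 (grp_cons_le z_g81_z_T111 (grp_cons_le z_g82_z_T111 (grp_cons_le z_g87_z_T111 (grp_cons_le zg0_z_T111 (grp_cons_le z_g91_z_T111 (grp_cons_le z_g28_z_T111 (grp_cons_le z_g88_z_T111 (grp_cons_le z_g1111_z_T111 (grp_cons_le z_g888_z_T111 (grp_cons_le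 z_g1112_z_T111 (grp_cons_le z_g1113_z_T111 (grp_cons_le z_g246_z_T111 (grp_cons_le z_g1114_z_T111 (grp_cons_le z_g217_z_T111 (grp_cons_le z_g672_z_T111 (grp_cons_le z_g673_z_T111 (grp_cons_le z_g674_z_T111 (grp_cons_le z_g675_z_T111 (grp_cons_le z_g676_z_T111 (grp_cons_le z_g677_z_T111 (grp_cons_le z_g126_z_T111 (grp_cons_le z_g127_z_T111 (grp_cons_le z_g128_z_T111 (grp_cons_le z_g129_z_T111 (grp_cons_le z_g130_z_T111 (grp_cons_le z_g131_z_T111 (grp_cons_le z_g132_z_T111 (grp_cons_le z_g133_z_T111 (grp_cons_le z_g134_z_T111 (grp_cons_le z_g135_z_T111 (grp_nil_le _)))))))))))))))))))))))))))))))))))))))))))))))))))))) (Frames.cons z_T111_s1_F (Frames.cons z_T111_s162_F Frames.nil)) (okE_cons.2 ⟨z_g1122_ok, okE_nil _⟩) _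

noncomputable def yt_nc91_90_cnt_t : BT := (BT.fix (nat_lit 257) (BT.fix (nat_lit 1) (BT.dif (nat_lit 1) (nat_lit 0) (BT.br (nat_lit 0) (nat_lit 5) [nat_lit 3] (BT.dead (nat_lit 5) (BT.frm (nat_lit 0) (nat_lit 80642) (nat_lit 80642) [nat_lit 0] (BT.pln (nat_lit 0) (nat_lit 3) (BT.br (nat_lit 0) (nat_lit 0) [nat_lit 5] (BT.dead (nat_lit 0) (BT.img (nat_lit 1) (nat_lit 0) (BT.img (nat_lit 1) (nat_lit 0) (BT.img (nat_lit 1) (nat_lit 5) (BT.frm (nat_lit 1) (nat_lit 0x4b505709013b02) (nat_lit 0x5709013b02) [nat_lit 1, nat_lit 2, nat_lit 3, nat_lit 0, nat_lit 6] (BT.pln (nat_lit 0) (nat_lit 5) (BT.and (nat_lit 0) (nat_lit 10) (BT.cnt (nat_lit 0)))))))) BT.nil)))) BT.nil)))))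

theorem yt_nc91_90_cnt : Cnt 324 (grp 324 y_E0) [z_g1122] [z_g1105] 0 0 0 0 0 :=
  BT.sound yt_nc91_90_cnt_P Known.nil (t := yt_nc91_90_cnt_t) (d := 0) (by decide +kernel)

theorem yt_nc91_90 : ¬ CjIn (grp 324 y_E0) (Net.toPerm 324 z_g1122) (Net.toPerm 324 z_g1105) :=
  not_cjIn yt_nc91_90_cnt

noncomputable def yt_nc92_90_cnt_L : List ℕ := [1, 4, z_T111_s1_O, 0, 0]

theorem yt_nc92_90_cnt_P : Prob 324 9 (grp 324 y_E0) yt_nc92_90_cnt_EG [z_g1126] [z_g1105] yt_c90_K yt_nc92_90_cnt_L 0 0 :=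
  Sym.prob z_hn z_hk yt_c90_sym yt_nc92_90_cnt_EG_ok (grp_cons_le z_g39_z_T111 (grp_cons_le zg1_z_T111 (grp_cons_le zg3_z_T111 (grp_cons_le z_g43_z_T111 (grp_cons_le z_g42_z_T111 (grp_cons_le zg2_z_T111 (grp_cons_le z_g44_z_T111 (grp_cons_le z_g54_z_T111 (grp_cons_le z_g55_z_T111 (grp_cons_le z_g49_z_T111 (grp_cons_le z_g50_z_T111 (grp_cons_le z_g51_z_T111 (grp_cons_le z_g62_z_T111 (grp_cons_le z_g58_z_T111 (grp_cons_le z_g59_z_T111 (grp_cons_le z_g65_z_T111 (grp_cons_le z_g66_z_T111 (grp_cons_le z_g67_z_T111 (grp_cons_le z_g77_z_T111 (grp_cons_le z_g78_z_T111 (grp_cons_le z_g72_z_T111 (grp_cons_le z_g73_z_T111 (grp_cons_le z_g74_z_T111 (grp_cons_le z_g81_z_T111 (grp_cons_le z_g82_z_T111 (grp_cons_le z_g87_z_T111 (grp_cons_le zg0_z_T111 (grp_cons_le z_g91_z_T111 (grp_cons_le z_g28_z_T111 (grp_cons_le z_g88_z_T111 (grp_nil_le _))))))))))))))))))))))))))))))) (Frames.cons z_T111_s1_F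 Frames.nil) (okE_cons.2 ⟨z_g1126_ok, okE_nil _⟩) _

noncomputable def yt_nc92_90_cnt_t : BT := (BT.fix (nat_lit 257) (BT.fix (nat_lit 1) (BT.dif (nat_lit 1) (nat_lit 0) (BT.br (nat_lit 0) (nat_lit 104) [nat_lit 3] (BT.dead (nat_lit 5) (BT.frm (nat_lit 0) (nat_lit 73985) (nat_lit 80642) [nat_lit 0] (BT.pln (nat_lit 0) (nat_lit 1) (BT.and (nat_lit 0) (nat_lit 4) (BT.cnt (nat_lit 0))))) BT.nil)))))

theorem yt_nc92_90_cnt : Cnt 324 (grp 324 y_E0) [z_g1126] [z_g1105] 0 0 0 0 0 :=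
  BT.sound yt_nc92_90_cnt_P Known.nil (t := yt_nc92_90_cnt_t) (d := 0) (by decide +kernel)

theorem yt_nc92_90 : ¬ CjIn (grp 324 y_E0) (Net.toPerm 324 z_g1126) (Net.toPerm 324 z_g1105) :=
  not_cjIn yt_nc92_90_cnt

noncomputable def yt_nc92_91_cnt_L : List ℕ := [1, 4, z_T111_s1_O, 0, 0]

theorem yt_nc92_91_cnt_P : Prob 324 9 (grp 324 y_E0) yt_nc92_91_cnt_EG [z_g1126] [z_g1122] yt_c91_K yt_nc92_91_cnt_L 0 0 :=
  Sym.prob z_hn z_hk yt_c91_sym yt_nc92_91_cnt_EG_ok (grp_cons_le z_g39_z_T111 (grp_cons_le zg1_z_T111 (grp_cons_le zg3_z_T111 (grp_cons_le z_g43_z_T111 (grp_cons_le z_g42_z_T111 (grp_cons_le zg2_z_T111 (grp_cons_le z_g44_z_T111 (grp_cons_le z_g54_z_T111 (grp_cons_le z_g55_z_T111 (grp_cons_le z_g49_z_T111 (grp_cons_le z_g50_z_T111 (grp_cons_le z_g51_z_T111 (grp_cons_le z_g62_z_T111 (grp_cons_le z_g58_z_T111 (grp_cons_le z_g59_z_T111 (grp_cons_le z_g65_z_T111 (grp_cons_le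 z_g66_z_T111 (grp_cons_le z_g67_z_T111 (grp_cons_le z_g77_z_T111 (grp_cons_le z_g78_z_T111 (grp_cons_le z_g72_z_T111 (grp_cons_le z_g73_z_T111 (grp_cons_le z_g74_z_T111 (grp_cons_le z_g81_z_T111 (grp_cons_le z_g82_z_T111 (grp_cons_le z_g87_z_T111 (grp_cons_le zg0_z_T111 (grp_cons_le z_g91_z_T111 (grp_cons_le z_g28_z_T111 (grp_cons_le z_g88_z_T111 (grp_nil_le _))))))))))))))))))))))))))))))) (Frames.cons z_T111_s1_F Frames.nil) (okE_cons.2 ⟨z_g1126_ok, okE_nil _⟩) _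

noncomputable def yt_nc92_91_cnt_t : BT := (BT.fix (nat_lit 257) (BT.fix (nat_lit 1) (BT.dif (nat_lit 1) (nat_lit 0) (BT.br (nat_lit 0) (nat_lit 104) [nat_lit 3, nat_lit 7] (BT.dead (nat_lit 5) (BT.frm (nat_lit 0) (nat_lit 73985) (nat_lit 80642) [nat_lit 0] (BT.pln (nat_lit 0) (nat_lit 1) (BT.and (nat_lit 0) (nat_lit 4) (BT.cnt (nat_lit 0))))) BT.nil)))))

theorem yt_nc92_91_cnt : Cnt 324 (grp 324 y_E0) [z_g1126] [z_g1122] 0 0 0 0 0 :=
  BT.sound yt_nc92_91_cnt_P Known.nil (t := yt_nc92_91_cnt_t) (d := 0) (by decide +kernel)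

theorem yt_nc92_91 : ¬ CjIn (grp 324 y_E0) (Net.toPerm 324 z_g1126) (Net.toPerm 324 z_g1122) :=
  not_cjIn yt_nc92_91_cnt

noncomputable def yt_nc93_90_cnt_L : List ℕ := [1, 4, z_T111_s1_O, 0, 0]

theorem yt_nc93_90_cnt_P : Prob 324 9 (grp 324 y_E0) yt_nc93_90_cnt_EG [z_g1131] [z_g1105] yt_c90_K yt_nc93_90_cnt_L 0 0 :=
  Sym.prob z_hn z_hk yt_c90_sym yt_nc93_90_cnt_EG_ok (grp_cons_le z_g39_z_T111 (grp_cons_le zg1_z_T111 (grp_cons_le zg3_z_T111 (grp_cons_le z_g43_z_T111 (grp_cons_le z_g42_z_T111 (grp_cons_le zg2_z_T111 (grp_cons_le z_g44_z_T111 (grp_cons_le z_g54_z_T111 (grp_cons_le z_g55_z_T111 (grp_cons_le z_g49_z_T111 (grp_cons_le z_g50_z_T111 (grp_cons_le z_g51_z_T111 (grp_cons_le z_g62_z_T111 (grp_cons_le z_g58_z_T111 (grp_cons_le z_g59_z_T111 (grp_cons_le z_g65_z_T111 (grp_cons_le z_g66_z_T111 (grp_cons_le z_g67_z_T111 (grp_cons_le z_g77_z_T111 (grp_cons_le z_g78_z_T111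 (grp_cons_le z_g72_z_T111 (grp_cons_le z_g73_z_T111 (grp_cons_le z_g74_z_T111 (grp_cons_le z_g81_z_T111 (grp_cons_le z_g82_z_T111 (grp_cons_le z_g87_z_T111 (grp_cons_le zg0_z_T111 (grp_cons_le z_g91_z_T111 (grp_cons_le z_g28_z_T111 (grp_cons_le z_g88_z_T111 (grp_nil_le _))))))))))))))))))))))))))))))) (Frames.cons z_T111_s1_F Frames.nil) (okE_cons.2 ⟨z_g1131_ok, okE_nil _⟩) _

noncomputable def yt_nc93_90_cnt_t : BT := (BT.fix (nat_lit 257) (BT.fix (nat_lit 1) (BT.dif (nat_lit 1) (nat_lit 0) (BT.br (nat_lit 0) (nat_lit 104) [nat_lit 3] (BT.dead (nat_lit 5) (BT.frm (nat_lit 0) (nat_lit 73985) (nat_lit 80642) [nat_lit 0] (BT.pln (nat_lit 0) (nat_lit 1) (BT.and (nat_lit 0) (nat_lit 4) (BT.cnt (nat_lit 0))))) BT.nil)))))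

theorem yt_nc93_90_cnt : Cnt 324 (grp 324 y_E0) [z_g1131] [z_g1105] 0 0 0 0 0 :=
  BT.sound yt_nc93_90_cnt_P Known.nil (t := yt_nc93_90_cnt_t) (d := 0) (by decide +kernel)

theorem yt_nc93_90 : ¬ CjIn (grp 324 y_E0) (Net.toPerm 324 z_g1131) (Net.toPerm 324 z_g1105) :=
  not_cjIn yt_nc93_90_cnt

noncomputable def yt_nc93_91_cnt_L : List ℕ := [1, 4, z_T111_s1_O, 0, 0]

theorem yt_nc93_91_cnt_P : Prob 324 9 (grp 324 y_E0) yt_nc93_91_cnt_EG [z_g1131] [z_g1122] yt_c91_K yt_nc93_91_cnt_L 0 0 :=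
  Sym.prob z_hn z_hk yt_c91_sym yt_nc93_91_cnt_EG_ok (grp_cons_le z_g39_z_T111 (grp_cons_le zg1_z_T111 (grp_cons_le zg3_z_T111 (grp_cons_le z_g43_z_T111 (grp_cons_le z_g42_z_T111 (grp_cons_le zg2_z_T111 (grp_cons_le z_g44_z_T111 (grp_cons_le z_g54_z_T111 (grp_cons_le z_g55_z_T111 (grp_cons_le z_g49_z_T111 (grp_cons_le z_g50_z_T111 (grp_cons_le z_g51_z_T111 (grp_cons_le z_g62_z_T111 (grp_cons_le z_g58_z_T111 (grp_cons_le z_g59_z_T111 (grp_cons_le z_g65_z_T111 (grp_cons_le z_g66_z_T111 (grp_cons_le z_g67_z_T111 (grp_cons_le z_g77_z_T111 (grp_cons_le z_g78_z_T111 (grp_cons_le z_g72_z_T111 (grp_cons_le z_g73_z_T111 (grp_cons_le z_g74_z_T111 (grp_cons_le z_g81_z_T111 (grp_cons_le z_g82_z_T111 (grp_cons_le z_g87_z_T111 (grp_cons_le zg0_z_T111 (grp_cons_le z_g91_z_T111 (grp_cons_le z_g28_z_T111 (grp_cons_le z_g88_z_T111 (grp_nil_le _))))))))))))))))))))))))))))))) (Frames.cons z_T111_s1_F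 Frames.nil) (okE_cons.2 ⟨z_g1131_ok, okE_nil _⟩) _

noncomputable def yt_nc93_91_cnt_t : BT := (BT.fix (nat_lit 257) (BT.fix (nat_lit 1) (BT.dif (nat_lit 1) (nat_lit 0) (BT.br (nat_lit 0) (nat_lit 104) [nat_lit 3, nat_lit 7] (BT.dead (nat_lit 5) (BT.frm (nat_lit 0) (nat_lit 73985) (nat_lit 80642) [nat_lit 0] (BT.pln (nat_lit 0) (nat_lit 1) (BT.and (nat_lit 0) (nat_lit 4) (BT.cnt (nat_lit 0))))) BT.nil)))))

theorem yt_nc93_91_cnt : Cnt 324 (grp 324 y_E0) [z_g1131] [z_g1122] 0 0 0 0 0 :=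
  BT.sound yt_nc93_91_cnt_P Known.nil (t := yt_nc93_91_cnt_t) (d := 0) (by decide +kernel)

theorem yt_nc93_91 : ¬ CjIn (grp 324 y_E0) (Net.toPerm 324 z_g1131) (Net.toPerm 324 z_g1122) :=
  not_cjIn yt_nc93_91_cnt

noncomputable def z_T111_s161_O : ℕ := (nat_lit 0x1000000000000000000000000000000000000000000000000000000000000000000000000000000000000000000000000000000000000000000000000000000000000000080000000000000000000000000040000000000000000000000000000000000100000000000000000000000000000000000000000000000000000000000000000000000000000000004020000000000000000000000000000000000000000000000000000000000004000000000000000000000000000000800000000000000000000000000000000000000000000000000000000000000000000000000000000000208000000000000000000000000000000000000000000000000000000000000000000000000000000022000000000000000000000000000000000000000000000000000000000000000000000000000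0020010000000000000000000000000000000000000000000000000000000000000000000000000007fdd54a80447002c001062010000040000a05810000000000820202000404040148200840a0000000000000000000820202000404040148200840a000000080447002c001062010000040000a05810000000000006e28878d0c4ab8188c90410901004060000001193001013944187222c08208a01b0000000000000001193001013944187222c08208a01b000000006e28878d0c4ab8188c90410901004060000000000000000000000000000000000000000000000000000000000000000000000000000000000000000000001000000400000000000000000000000000000000000000000000000000000000000000000000000000000000000000000000000000000000000000000000000000000000000000000000000000000000004000000000000000000000000002000000000000000000000000000000000000000000000000000000)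

theorem z_T111_s161_F : Frame 324 (grp 324 y_E0) 4 17 z_T111_s161_O 0 1 :=
  Stab.frame z_hn z_T111_s161 (by decide +kernel)

noncomputable def yt_nc93_92_cnt_L : List ℕ := [1, 4, z_T111_s1_O, 0, 0, 4, 17, z_T111_s161_O, 0, 0]

theorem yt_nc93_92_cnt_P : Prob 324 9 (grp 324 y_E0) yt_nc93_92_cnt_EG [z_g1131] [z_g1126] yt_c92_K yt_nc93_92_cnt_L 0 0 :=
  Sym.prob z_hn z_hk yt_c92_sym yt_nc93_92_cnt_EG_ok (grp_cons_le z_g39_z_T111 (grp_cons_le zg1_z_T111 (grp_cons_le zg3_z_T111 (grp_cons_le z_g43_z_T111 (grp_cons_le z_g42_z_T111 (grp_cons_le zg2_z_T111 (grp_cons_le z_g44_z_T111 (grp_cons_le z_g54_z_T111 (grp_cons_le z_g55_z_T111 (grp_cons_le z_g49_z_T111 (grp_cons_le z_g50_z_T111 (grp_cons_le z_g51_z_T111 (grp_cons_le z_g62_z_T111 (grp_cons_le z_g58_z_T111 (grp_cons_le z_g59_z_T111 (grp_cons_le z_g65_z_T111 (grp_cons_le z_g66_z_T111 (grp_cons_le z_g67_z_T111 (grp_cons_le z_g77_z_T111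 (grp_cons_le z_g78_z_T111 (grp_cons_le z_g72_z_T111 (grp_cons_le z_g73_z_T111 (grp_cons_le z_g74_z_T111 (grp_cons_le z_g81_z_T111 (grp_cons_le z_g82_z_T111 (grp_cons_le z_g87_z_T111 (grp_cons_le zg0_z_T111 (grp_cons_le z_g91_z_T111 (grp_cons_le z_g28_z_T111 (grp_cons_le z_g88_z_T111 (grp_cons_le z_g672_z_T111 (grp_cons_le z_g673_z_T111 (grp_cons_le z_g674_z_T111 (grp_cons_le z_g675_z_T111 (grp_cons_le z_g676_z_T111 (grp_cons_le z_g677_z_T111 (grp_cons_le z_g126_z_T111 (grp_cons_le z_g127_z_T111 (grp_cons_le z_g128_z_T111 (grp_cons_le z_g129_z_T111 (grp_cons_le z_g130_z_T111 (grp_cons_le z_g131_z_T111 (grp_cons_le z_g132_z_T111 (grp_cons_le z_g133_z_T111 (grp_cons_le z_g134_z_T111 (grp_cons_le z_g135_z_T111 (grp_nil_le _))))))))))))))))))))))))))))))))))))))))))))))) (Frames.cons z_T111_s1_F (Frames.cons z_T111_s161_F Frames.nil)) (okE_cons.2 ⟨z_g1131_ok, okE_nil _⟩) _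

noncomputable def yt_nc93_92_cnt_t : BT := (BT.fix (nat_lit 257) (BT.fix (nat_lit 1) (BT.dif (nat_lit 1) (nat_lit 0) (BT.br (nat_lit 0) (nat_lit 104) [nat_lit 3, nat_lit 7] (BT.dead (nat_lit 104) (BT.frm (nat_lit 0) (nat_lit 73985) (nat_lit 73985) [nat_lit 0] (BT.pln (nat_lit 0) (nat_lit 3) (BT.br (nat_lit 0) (nat_lit 70) [nat_lit 5] (BT.dead (nat_lit 70) (BT.img (nat_lit 1) (nat_lit 0) (BT.img (nat_lit 1) (nat_lit 4) (BT.frm (nat_lit 1) (nat_lit 0x3d4d1d012101) (nat_lit 0x414d1d012101) [nat_lit 1, nat_lit 2, nat_lit 0, nat_lit 5] (BT.pln (nat_lit 0) (nat_lit 4) (BT.and (nat_lit 0) (nat_lit 9) (BT.cnt (nat_lit 0))))))) BT.nil)))) BT.nil)))))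

theorem yt_nc93_92_cnt : Cnt 324 (grp 324 y_E0) [z_g1131] [z_g1126] 0 0 0 0 0 :=
  BT.sound yt_nc93_92_cnt_P Known.nil (t := yt_nc93_92_cnt_t) (d := 0) (by decide +kernel)

theorem yt_nc93_92 : ¬ CjIn (grp 324 y_E0) (Net.toPerm 324 z_g1131) (Net.toPerm 324 z_g1126) :=
  not_cjIn yt_nc93_92_cnt

noncomputable def yt_nc95_94_cnt_L : List ℕ := [1, 4, z_T111_s1_O, 0, 0]

theorem yt_nc95_94_cnt_P : Prob 324 9 (grp 324 y_E0) yt_nc95_94_cnt_EG [z_g1141] [z_g1136] yt_c94_K yt_nc95_94_cnt_L 0 0 :=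
  Sym.prob z_hn z_hk yt_c94_sym yt_nc95_94_cnt_EG_ok (grp_cons_le z_g39_z_T111 (grp_cons_le zg1_z_T111 (grp_cons_le zg3_z_T111 (grp_cons_le z_g43_z_T111 (grp_cons_le z_g42_z_T111 (grp_cons_le zg2_z_T111 (grp_cons_le z_g44_z_T111 (grp_cons_le z_g54_z_T111 (grp_cons_le z_g55_z_T111 (grp_cons_le z_g49_z_T111 (grp_cons_le z_g50_z_T111 (grp_cons_le z_g51_z_T111 (grp_cons_le z_g62_z_T111 (grp_cons_le z_g58_z_T111 (grp_cons_le z_g59_z_T111 (grp_cons_le z_g65_z_T111 (grp_cons_le z_g66_z_T111 (grp_cons_le z_g67_z_T111 (grp_cons_le z_g77_z_T111 (grp_cons_le z_g78_z_T111 (grp_cons_le z_g72_z_T111 (grp_cons_le z_g73_z_T111 (grp_cons_le z_g74_z_T111 (grp_cons_le z_g81_z_T111 (grp_cons_le z_g82_z_T111 (grp_cons_le z_g87_z_T111 (grp_cons_le zg0_z_T111 (grp_cons_le z_g91_z_T111 (grp_cons_le z_g28_z_T111 (grp_cons_le z_g88_z_T111 (grp_nil_le _))))))))))))))))))))))))))))))) (Frames.cons z_T111_s1_F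 Frames.nil) (okE_cons.2 ⟨z_g1141_ok, okE_nil _⟩) _

noncomputable def yt_nc95_94_cnt_t : BT := (BT.fix (nat_lit 1) (BT.br (nat_lit 0) (nat_lit 94) [] (BT.dead (nat_lit 107) (BT.frm (nat_lit 0) (nat_lit 67872) (nat_lit 65829) [nat_lit 0] (BT.pln (nat_lit 0) (nat_lit 1) (BT.fix (nat_lit 257) (BT.and (nat_lit 1) (nat_lit 0) (BT.cnt (nat_lit 0)))))) (BT.dead (nat_lit 64) (BT.frm (nat_lit 0) (nat_lit 67872) (nat_lit 65827) [nat_lit 0] (BT.pln (nat_lit 0) (nat_lit 1) (BT.fix (nat_lit 257) (BT.and (nat_lit 1) (nat_lit 0) (BT.cnt (nat_lit 0)))))) BT.nil))))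

theorem yt_nc95_94_cnt : Cnt 324 (grp 324 y_E0) [z_g1141] [z_g1136] 0 0 0 0 0 :=
  BT.sound yt_nc95_94_cnt_P Known.nil (t := yt_nc95_94_cnt_t) (d := 0) (by decide +kernel)

theorem yt_nc95_94 : ¬ CjIn (grp 324 y_E0) (Net.toPerm 324 z_g1141) (Net.toPerm 324 z_g1136) :=
  not_cjIn yt_nc95_94_cnt

noncomputable def yt_nc97_96_cnt_L : List ℕ := [1, 4, z_T111_s1_O, 0, 0, 3, 16, z_T111_s167_O, 0, 0, 4, 10, z_T111_s168_O, 0, 0, 5, 12, z_T111_s169_O, 0, 0, 6, 15, z_T111_s170_O, 1, 0]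

theorem yt_nc97_96_cnt_P : Prob 324 9 (grp 324 y_E0) yt_nc97_96_cnt_EG [z_g1162] [z_g1146] yt_c96_K yt_nc97_96_cnt_L 0 0 :=
  Sym.prob z_hn z_hk yt_c96_sym yt_nc97_96_cnt_EG_ok (grp_cons_le z_g39_z_T111 (grp_cons_le zg1_z_T111 (grp_cons_le zg3_z_T111 (grp_cons_le z_g43_z_T111 (grp_cons_le z_g42_z_T111 (grp_cons_le zg2_z_T111 (grp_cons_le z_g44_z_T111 (grp_cons_le z_g54_z_T111 (grp_cons_le z_g55_z_T111 (grp_cons_le z_g49_z_T111 (grp_cons_le z_g50_z_T111 (grp_cons_le z_g51_z_T111 (grp_cons_le z_g62_z_T111 (grp_cons_le z_g58_z_T111 (grp_cons_le z_g59_z_T111 (grp_cons_le z_g65_z_T111 (grp_cons_le z_g66_z_T111 (grp_cons_le z_g67_z_T111 (grp_cons_le z_g77_z_T111 (grp_cons_le z_g78_z_T111 (grp_cons_le z_g72_z_T111 (grp_cons_le z_g73_z_T111 (grp_cons_le z_g74_z_T111 (grp_cons_le z_g81_z_T111 (grp_cons_le z_g82_z_T111 (grp_cons_le z_g87_z_T111 (grp_cons_le zg0_z_T111 (grp_cons_le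 z_g91_z_T111 (grp_cons_le z_g28_z_T111 (grp_cons_le z_g88_z_T111 (grp_cons_le z_g1152_z_T111 (grp_cons_le z_g1153_z_T111 (grp_cons_le z_g1154_z_T111 (grp_cons_le z_g1155_z_T111 (grp_cons_le z_g1150_z_T111 (grp_cons_le z_g1156_z_T111 (grp_nil_le _))))))))))))))))))))))))))))))))))))) (Frames.cons z_T111_s1_F (Frames.cons z_T111_s167_F (Frames.cons z_T111_s168_F (Frames.cons z_T111_s169_F (Frames.cons z_T111_s170_F Frames.nil))))) (okE_cons.2 ⟨z_g1162_ok, okE_nil _⟩) _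

noncomputable def yt_nc97_96_cnt_t : BT := (BT.fix (nat_lit 65793) (BT.dif (nat_lit 3) (nat_lit 0) (BT.br (nat_lit 0) (nat_lit 0) [nat_lit 1, nat_lit 3] (BT.dead (nat_lit 0) (BT.frm (nat_lit 0) (nat_lit 0) (nat_lit 0) [nat_lit 0] (BT.pln (nat_lit 0) (nat_lit 1) (BT.dif (nat_lit 3) (nat_lit 0) (BT.pln (nat_lit 2) (nat_lit 2) (BT.dif (nat_lit 1) (nat_lit 0) (BT.img (nat_lit 1) (nat_lit 5) (BT.img (nat_lit 1) (nat_lit 0) (BT.img (nat_lit 1) (nat_lit 0) (BT.frm (nat_lit 2) (nat_lit 0x40112607) (nat_lit 0x112f070a) [nat_lit 1, nat_lit 2, nat_lit 0, nat_lit 8] (BT.pln (nat_lit 0) (nat_lit 6) (BT.and (nat_lit 5) (nat_lit 0) (BT.pln (nat_lit 2) (nat_lit 5) (BT.dif (nat_lit 1) (nat_lit 0) (BT.pln (nat_lit 4) (nat_lit 4) (BT.dif (nat_lit 1) (nat_lit 0) (BT.pln (nat_lit 14) (nat_lit 3) (BT.dif (nat_lit 1) (nat_lit 0) (BT.br (nat_lit 0) (nat_lit 106) [nat_lit 5, nat_lit 7] (BT.dead (nat_lit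 106) (BT.img (nat_lit 1) (nat_lit 0) (BT.frm (nat_lit 4) (nat_lit 0x4644424340112607) (nat_lit 0x4548414441112f070a) [nat_lit 0, nat_lit 1, nat_lit 12, nat_lit 13, nat_lit 11, nat_lit 19] (BT.pln (nat_lit 0) (nat_lit 6) (BT.img (nat_lit 1) (nat_lit 2) (BT.img (nat_lit 1) (nat_lit 0) (BT.img (nat_lit 1) (nat_lit 0) (BT.img (nat_lit 1) (nat_lit 0) (BT.and (nat_lit 4) (nat_lit 0) (BT.cnt (nat_lit 0)))))))))) (BT.dead (nat_lit 61) (BT.frm (nat_lit 3) (nat_lit 0x44424340112607) (nat_lit 0x4342112f070a) [nat_lit 0, nat_lit 11, nat_lit 12, nat_lit 10, nat_lit 18] (BT.pln (nat_lit 0) (nat_lit 5) (BT.and (nat_lit 0) (nat_lit 22) (BT.cnt (nat_lit 0))))) BT.nil)))))))))))))))))))) (BT.dead (nat_lit 56) (BT.img (nat_lit 1) (nat_lit 0) (BT.img (nat_lit 1) (nat_lit 0) (BT.img (nat_lit 1) (nat_lit 0) (BT.frm (nat_lit 1) (nat_lit 0x112607) (nat_lit 0x151907070212) [nat_lit 2, nat_lit 0, nat_lit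 3] (BT.pln (nat_lit 0) (nat_lit 3) (BT.and (nat_lit 0) (nat_lit 7) (BT.cnt (nat_lit 0)))))))) BT.nil)))))

theorem yt_nc97_96_cnt : Cnt 324 (grp 324 y_E0) [z_g1162] [z_g1146] 0 0 0 0 0 :=
  BT.sound yt_nc97_96_cnt_P Known.nil (t := yt_nc97_96_cnt_t) (d := 0) (by decide +kernel)

theorem yt_nc97_96 : ¬ CjIn (grp 324 y_E0) (Net.toPerm 324 z_g1162) (Net.toPerm 324 z_g1146) :=
  not_cjIn yt_nc97_96_cnt

noncomputable def yt_nc99_96_cnt_L : List ℕ := [1, 4, z_T111_s1_O, 0, 0]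

theorem yt_nc99_96_cnt_P : Prob 324 9 (grp 324 y_E0) yt_nc99_96_cnt_EG [z_g1175] [z_g1146] yt_c96_K yt_nc99_96_cnt_L 0 0 :=
  Sym.prob z_hn z_hk yt_c96_sym yt_nc99_96_cnt_EG_ok (grp_cons_le z_g39_z_T111 (grp_cons_le zg1_z_T111 (grp_cons_le zg3_z_T111 (grp_cons_le z_g43_z_T111 (grp_cons_le z_g42_z_T111 (grp_cons_le zg2_z_T111 (grp_cons_le z_g44_z_T111 (grp_cons_le z_g54_z_T111 (grp_cons_le z_g55_z_T111 (grp_cons_le z_g49_z_T111 (grp_cons_le z_g50_z_T111 (grp_cons_le z_g51_z_T111 (grp_cons_le z_g62_z_T111 (grp_cons_le z_g58_z_T111 (grp_cons_le z_g59_z_T111 (grp_cons_le z_g65_z_T111 (grp_cons_le z_g66_z_T111 (grp_cons_le z_g67_z_T111 (grp_cons_le z_g77_z_T111 (grp_cons_le z_g78_z_T111 (grp_cons_le z_g72_z_T111 (grp_cons_le z_g73_z_T111 (grp_cons_le z_g74_z_T111 (grp_cons_le z_g81_z_T111 (grp_cons_le z_g82_z_T111 (grp_cons_le z_g87_z_T111 (grp_cons_le zg0_z_T111 (grp_cons_le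 z_g91_z_T111 (grp_cons_le z_g28_z_T111 (grp_cons_le z_g88_z_T111 (grp_nil_le _))))))))))))))))))))))))))))))) (Frames.cons z_T111_s1_F Frames.nil) (okE_cons.2 ⟨z_g1175_ok, okE_nil _⟩) _

noncomputable def yt_nc99_96_cnt_t : BT := (BT.fix (nat_lit 65793) (BT.dif (nat_lit 3) (nat_lit 0) (BT.br (nat_lit 0) (nat_lit 0) [nat_lit 1, nat_lit 3] (BT.dead (nat_lit 56) (BT.frm (nat_lit 0) (nat_lit 0) (nat_lit 530) [nat_lit 0] (BT.pln (nat_lit 0) (nat_lit 1) (BT.img (nat_lit 1) (nat_lit 2) (BT.and (nat_lit 1) (nat_lit 0) (BT.cnt (nat_lit 0)))))) (BT.dead (nat_lit 0) (BT.frm (nat_lit 0) (nat_lit 0) (nat_lit 0) [nat_lit 0] (BT.pln (nat_lit 0) (nat_lit 1) (BT.img (nat_lit 1) (nat_lit 2) (BT.and (nat_lit 1) (nat_lit 0) (BT.cnt (nat_lit 0)))))) BT.nil)))))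

theorem yt_nc99_96_cnt : Cnt 324 (grp 324 y_E0) [z_g1175] [z_g1146] 0 0 0 0 0 :=
  BT.sound yt_nc99_96_cnt_P Known.nil (t := yt_nc99_96_cnt_t) (d := 0) (by decide +kernel)

theorem yt_nc99_96 : ¬ CjIn (grp 324 y_E0) (Net.toPerm 324 z_g1175) (Net.toPerm 324 z_g1146) :=
  not_cjIn yt_nc99_96_cnt

noncomputable def yt_nc99_97_cnt_L : List ℕ := [1, 4, z_T111_s1_O, 0, 0]

theorem yt_nc99_97_cnt_P : Prob 324 9 (grp 324 y_E0) yt_nc99_97_cnt_EG [z_g1175] [z_g1162] yt_c97_K yt_nc99_97_cnt_L 0 0 :=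
  Sym.prob z_hn z_hk yt_c97_sym yt_nc99_97_cnt_EG_ok (grp_cons_le z_g39_z_T111 (grp_cons_le zg1_z_T111 (grp_cons_le zg3_z_T111 (grp_cons_le z_g43_z_T111 (grp_cons_le z_g42_z_T111 (grp_cons_le zg2_z_T111 (grp_cons_le z_g44_z_T111 (grp_cons_le z_g54_z_T111 (grp_cons_le z_g55_z_T111 (grp_cons_le z_g49_z_T111 (grp_cons_le z_g50_z_T111 (grp_cons_le z_g51_z_T111 (grp_cons_le z_g62_z_T111 (grp_cons_le z_g58_z_T111 (grp_cons_le z_g59_z_T111 (grp_cons_le z_g65_z_T111 (grp_cons_le z_g66_z_T111 (grp_cons_le z_g67_z_T111 (grp_cons_le z_g77_z_T111 (grp_cons_le z_g78_z_T111 (grp_cons_le z_g72_z_T111 (grp_cons_le z_g73_z_T111 (grp_cons_le z_g74_z_T111 (grp_cons_le z_g81_z_T111 (grp_cons_le z_g82_z_T111 (grp_cons_le z_g87_z_T111 (grp_cons_le zg0_z_T111 (grp_cons_le z_g91_z_T111 (grp_cons_le z_g28_z_T111 (grp_cons_le z_g88_z_T111 (grp_nil_le _))))))))))))))))))))))))))))))) (Frames.cons z_T111_s1_F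 Frames.nil) (okE_cons.2 ⟨z_g1175_ok, okE_nil _⟩) _

noncomputable def yt_nc99_97_cnt_t : BT := (BT.fix (nat_lit 65793) (BT.dif (nat_lit 3) (nat_lit 0) (BT.br (nat_lit 0) (nat_lit 0) [nat_lit 1, nat_lit 3, nat_lit 5] (BT.dead (nat_lit 63) (BT.frm (nat_lit 0) (nat_lit 0) (nat_lit 69917) [nat_lit 0] (BT.pln (nat_lit 0) (nat_lit 1) (BT.img (nat_lit 1) (nat_lit 2) (BT.and (nat_lit 1) (nat_lit 0) (BT.cnt (nat_lit 0)))))) (BT.dead (nat_lit 54) (BT.frm (nat_lit 0) (nat_lit 0) (nat_lit 277) [nat_lit 0] (BT.pln (nat_lit 0) (nat_lit 1) (BT.img (nat_lit 1) (nat_lit 2) (BT.and (nat_lit 1) (nat_lit 0) (BT.cnt (nat_lit 0)))))) (BT.dead (nat_lit 0) (BT.frm (nat_lit 0) (nat_lit 0) (nat_lit 0) [nat_lit 0] (BT.pln (nat_lit 0) (nat_lit 1) (BT.img (nat_lit 1) (nat_lit 2) (BT.and (nat_lit 1) (nat_lit 0) (BT.cnt (nat_lit 0)))))) BT.nil))))))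

theorem yt_nc99_97_cnt : Cnt 324 (grp 324 y_E0) [z_g1175] [z_g1162] 0 0 0 0 0 :=
  BT.sound yt_nc99_97_cnt_P Known.nil (t := yt_nc99_97_cnt_t) (d := 0) (by decide +kernel)

theorem yt_nc99_97 : ¬ CjIn (grp 324 y_E0) (Net.toPerm 324 z_g1175) (Net.toPerm 324 z_g1162) :=
  not_cjIn yt_nc99_97_cnt

noncomputable def yt_nc100_98_cnt_L : List ℕ := [1, 4, z_T111_s1_O, 0, 0]

theorem yt_nc100_98_cnt_P : Prob 324 9 (grp 324 y_E0) yt_nc100_98_cnt_EG [z_g1186] [z_g1168] yt_c98_K yt_nc100_98_cnt_L 0 0 :=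
  Sym.prob z_hn z_hk yt_c98_sym yt_nc100_98_cnt_EG_ok (grp_cons_le z_g39_z_T111 (grp_cons_le zg1_z_T111 (grp_cons_le zg3_z_T111 (grp_cons_le z_g43_z_T111 (grp_cons_le z_g42_z_T111 (grp_cons_le zg2_z_T111 (grp_cons_le z_g44_z_T111 (grp_cons_le z_g54_z_T111 (grp_cons_le z_g55_z_T111 (grp_cons_le z_g49_z_T111 (grp_cons_le z_g50_z_T111 (grp_cons_le z_g51_z_T111 (grp_cons_le z_g62_z_T111 (grp_cons_le z_g58_z_T111 (grp_cons_le z_g59_z_T111 (grp_cons_le z_g65_z_T111 (grp_cons_le z_g66_z_T111 (grp_cons_le z_g67_z_T111 (grp_cons_le z_g77_z_T111 (grp_cons_le z_g78_z_T111 (grp_cons_le z_g72_z_T111 (grp_cons_le z_g73_z_T111 (grp_cons_le z_g74_z_T111 (grp_cons_le z_g81_z_T111 (grp_cons_le z_g82_z_T111 (grp_cons_le z_g87_z_T111 (grp_cons_le zg0_z_T111 (grp_cons_le z_g91_z_T111 (grp_cons_le z_g28_z_T111 (grp_cons_le z_g88_z_T111 (grp_nil_le _))))))))))))))))))))))))))))))) (Frames.cons z_T111_s1_F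 Frames.nil) (okE_cons.2 ⟨z_g1186_ok, okE_nil _⟩) _

noncomputable def yt_nc100_98_cnt_t : BT := (BT.fix (nat_lit 1) (BT.br (nat_lit 0) (nat_lit 67) [nat_lit 1, nat_lit 7] (BT.dead (nat_lit 98) (BT.frm (nat_lit 0) (nat_lit 67601) (nat_lit 65805) [nat_lit 0] (BT.pln (nat_lit 0) (nat_lit 1) (BT.and (nat_lit 0) (nat_lit 3) (BT.cnt (nat_lit 0))))) BT.nil)))

theorem yt_nc100_98_cnt : Cnt 324 (grp 324 y_E0) [z_g1186] [z_g1168] 0 0 0 0 0 :=
  BT.sound yt_nc100_98_cnt_P Known.nil (t := yt_nc100_98_cnt_t) (d := 0) (by decide +kernel)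

theorem yt_nc100_98 : ¬ CjIn (grp 324 y_E0) (Net.toPerm 324 z_g1186) (Net.toPerm 324 z_g1168) :=
  not_cjIn yt_nc100_98_cnt

noncomputable def yt_nc101_98_cnt_L : List ℕ := [1, 4, z_T111_s1_O, 0, 0]

theorem yt_nc101_98_cnt_P : Prob 324 9 (grp 324 y_E0) yt_nc101_98_cnt_EG [z_g1193] [z_g1168] yt_c98_K yt_nc101_98_cnt_L 0 0 :=
  Sym.prob z_hn z_hk yt_c98_sym yt_nc101_98_cnt_EG_ok (grp_cons_le z_g39_z_T111 (grp_cons_le zg1_z_T111 (grp_cons_le zg3_z_T111 (grp_cons_le z_g43_z_T111 (grp_cons_le z_g42_z_T111 (grp_cons_le zg2_z_T111 (grp_cons_le z_g44_z_T111 (grp_cons_le z_g54_z_T111 (grp_cons_le z_g55_z_T111 (grp_cons_le z_g49_z_T111 (grp_cons_le z_g50_z_T111 (grp_cons_le z_g51_z_T111 (grp_cons_le z_g62_z_T111 (grp_cons_le z_g58_z_T111 (grp_cons_le z_g59_z_T111 (grp_cons_le z_g65_z_T111 (grp_cons_le z_g66_z_T111 (grp_cons_le z_g67_z_T111 (grp_cons_le z_g77_z_T111 (grp_cons_le z_g78_z_T111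 (grp_cons_le z_g72_z_T111 (grp_cons_le z_g73_z_T111 (grp_cons_le z_g74_z_T111 (grp_cons_le z_g81_z_T111 (grp_cons_le z_g82_z_T111 (grp_cons_le z_g87_z_T111 (grp_cons_le zg0_z_T111 (grp_cons_le z_g91_z_T111 (grp_cons_le z_g28_z_T111 (grp_cons_le z_g88_z_T111 (grp_nil_le _))))))))))))))))))))))))))))))) (Frames.cons z_T111_s1_F Frames.nil) (okE_cons.2 ⟨z_g1193_ok, okE_nil _⟩) _

noncomputable def yt_nc101_98_cnt_t : BT := (BT.fix (nat_lit 1) (BT.br (nat_lit 0) (nat_lit 2) [nat_lit 1, nat_lit 7] (BT.dead (nat_lit 98) (BT.frm (nat_lit 0) (nat_lit 75266) (nat_lit 65805) [nat_lit 0] (BT.pln (nat_lit 0) (nat_lit 1) (BT.and (nat_lit 0) (nat_lit 3) (BT.cnt (nat_lit 0))))) BT.nil)))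

theorem yt_nc101_98_cnt : Cnt 324 (grp 324 y_E0) [z_g1193] [z_g1168] 0 0 0 0 0 :=
  BT.sound yt_nc101_98_cnt_P Known.nil (t := yt_nc101_98_cnt_t) (d := 0) (by decide +kernel)

theorem yt_nc101_98 : ¬ CjIn (grp 324 y_E0) (Net.toPerm 324 z_g1193) (Net.toPerm 324 z_g1168) :=
  not_cjIn yt_nc101_98_cnt

noncomputable def yt_nc101_100_cnt_L : List ℕ := [1, 4, z_T111_s1_O, 0, 0, 4, 19, z_T111_s22_O, 0, 0]

theorem yt_nc101_100_cnt_P : Prob 324 9 (grp 324 y_E0) yt_nc101_100_cnt_EG [z_g1193] [z_g1186] yt_c100_K yt_nc101_100_cnt_L 0 0 :=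
  Sym.prob z_hn z_hk yt_c100_sym yt_nc101_100_cnt_EG_ok (grp_cons_le z_g39_z_T111 (grp_cons_le zg1_z_T111 (grp_cons_le zg3_z_T111 (grp_cons_le z_g43_z_T111 (grp_cons_le z_g42_z_T111 (grp_cons_le zg2_z_T111 (grp_cons_le z_g44_z_T111 (grp_cons_le z_g54_z_T111 (grp_cons_le z_g55_z_T111 (grp_cons_le z_g49_z_T111 (grp_cons_le z_g50_z_T111 (grp_cons_le z_g51_z_T111 (grp_cons_le z_g62_z_T111 (grp_cons_le z_g58_z_T111 (grp_cons_le z_g59_z_T111 (grp_cons_le z_g65_z_T111 (grp_cons_le z_g66_z_T111 (grp_cons_le z_g67_z_T111 (grp_cons_le z_g77_z_T111 (grp_cons_le z_g78_z_T111 (grp_cons_le z_g72_z_T111 (grp_cons_le z_g73_z_T111 (grp_cons_le z_g74_z_T111 (grp_cons_le z_g81_z_T111 (grp_cons_le z_g82_z_T111 (grp_cons_le z_g87_z_T111 (grp_cons_le zg0_z_T111 (grp_cons_le z_g91_z_T111 (grp_cons_le z_g28_z_T111 (grp_cons_le z_g88_z_T111 (grp_nil_le _))))))))))))))))))))))))))))))) (Frames.cons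 z_T111_s1_F (Frames.cons z_T111_s22_F Frames.nil)) (okE_cons.2 ⟨z_g1193_ok, okE_nil _⟩) _

noncomputable def yt_nc101_100_cnt_t : BT := (BT.fix (nat_lit 1) (BT.br (nat_lit 0) (nat_lit 2) [nat_lit 1, nat_lit 3] (BT.dead (nat_lit 67) (BT.frm (nat_lit 0) (nat_lit 75266) (nat_lit 67601) [nat_lit 0] (BT.pln (nat_lit 0) (nat_lit 3) (BT.dif (nat_lit 0) (nat_lit 3) (BT.br (nat_lit 0) (nat_lit 11) [nat_lit 5] (BT.dead (nat_lit 303) (BT.pln (nat_lit 3) (nat_lit 2) (BT.br (nat_lit 0) (nat_lit 27) [nat_lit 7, nat_lit 9] (BT.dead (nat_lit 108) (BT.img (nat_lit 1) (nat_lit 2) (BT.frm (nat_lit 1) (nat_lit 0x191b12012602) (nat_lit 0x1d1f0715010811) [nat_lit 1, nat_lit 0, nat_lit 3, nat_lit 7] (BT.pln (nat_lit 0) (nat_lit 7) (BT.img (nat_lit 1) (nat_lit 3) (BT.and (nat_lit 1) (nat_lit 0) (BT.cnt (nat_lit 0))))))) BT.nil))) BT.nil))))) BT.nil)))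

theorem yt_nc101_100_cnt : Cnt 324 (grp 324 y_E0) [z_g1193] [z_g1186] 0 0 0 0 0 :=
  BT.sound yt_nc101_100_cnt_P Known.nil (t := yt_nc101_100_cnt_t) (d := 0) (by decide +kernel)

theorem yt_nc101_100 : ¬ CjIn (grp 324 y_E0) (Net.toPerm 324 z_g1193) (Net.toPerm 324 z_g1186) :=
  not_cjIn yt_nc101_100_cnt

noncomputable def yt_nc102_96_cnt_L : List ℕ := [1, 4, z_T111_s1_O, 0, 0, 3, 16, z_T111_s167_O, 0, 0, 4, 10, z_T111_s168_O, 0, 0, 5, 12, z_T111_s169_O, 0, 0, 6, 15, z_T111_s170_O, 1, 0]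

theorem yt_nc102_96_cnt_P : Prob 324 9 (grp 324 y_E0) yt_nc102_96_cnt_EG [z_g1199] [z_g1146] yt_c96_K yt_nc102_96_cnt_L 0 0 :=
  Sym.prob z_hn z_hk yt_c96_sym yt_nc102_96_cnt_EG_ok (grp_cons_le z_g39_z_T111 (grp_cons_le zg1_z_T111 (grp_cons_le zg3_z_T111 (grp_cons_le z_g43_z_T111 (grp_cons_le z_g42_z_T111 (grp_cons_le zg2_z_T111 (grp_cons_le z_g44_z_T111 (grp_cons_le z_g54_z_T111 (grp_cons_le z_g55_z_T111 (grp_cons_le z_g49_z_T111 (grp_cons_le z_g50_z_T111 (grp_cons_le z_g51_z_T111 (grp_cons_le z_g62_z_T111 (grp_cons_le z_g58_z_T111 (grp_cons_le z_g59_z_T111 (grp_cons_le z_g65_z_T111 (grp_cons_le z_g66_z_T111 (grp_cons_le z_g67_z_T111 (grp_cons_le z_g77_z_T111 (grp_cons_le z_g78_z_T111 (grp_cons_le z_g72_z_T111 (grp_cons_le z_g73_z_T111 (grp_cons_le z_g74_z_T111 (grp_cons_le z_g81_z_T111 (grp_cons_le z_g82_z_T111 (grp_cons_le z_g87_z_T111 (grp_cons_le zg0_z_T111 (grp_cons_le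 z_g91_z_T111 (grp_cons_le z_g28_z_T111 (grp_cons_le z_g88_z_T111 (grp_cons_le z_g1152_z_T111 (grp_cons_le z_g1153_z_T111 (grp_cons_le z_g1154_z_T111 (grp_cons_le z_g1155_z_T111 (grp_cons_le z_g1150_z_T111 (grp_cons_le z_g1156_z_T111 (grp_nil_le _))))))))))))))))))))))))))))))))))))) (Frames.cons z_T111_s1_F (Frames.cons z_T111_s167_F (Frames.cons z_T111_s168_F (Frames.cons z_T111_s169_F (Frames.cons z_T111_s170_F Frames.nil))))) (okE_cons.2 ⟨z_g1199_ok, okE_nil _⟩) _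

noncomputable def yt_nc102_96_cnt_t : BT := (BT.fix (nat_lit 65793) (BT.dif (nat_lit 3) (nat_lit 0) (BT.br (nat_lit 0) (nat_lit 0) [nat_lit 1, nat_lit 3] (BT.dead (nat_lit 0) (BT.frm (nat_lit 0) (nat_lit 0) (nat_lit 0) [nat_lit 0] (BT.pln (nat_lit 0) (nat_lit 1) (BT.dif (nat_lit 3) (nat_lit 0) (BT.pln (nat_lit 2) (nat_lit 2) (BT.dif (nat_lit 1) (nat_lit 0) (BT.img (nat_lit 1) (nat_lit 5) (BT.img (nat_lit 1) (nat_lit 0) (BT.img (nat_lit 1) (nat_lit 0) (BT.frm (nat_lit 2) (nat_lit 0x3d400f19070c) (nat_lit 0x112f070a) [nat_lit 1, nat_lit 2, nat_lit 0, nat_lit 8] (BT.pln (nat_lit 0) (nat_lit 6) (BT.and (nat_lit 5) (nat_lit 0) (BT.pln (nat_lit 2) (nat_lit 5) (BT.dif (nat_lit 1) (nat_lit 0) (BT.pln (nat_lit 4) (nat_lit 4) (BT.dif (nat_lit 1) (nat_lit 0) (BT.pln (nat_lit 14) (nat_lit 3) (BT.dif (nat_lit 1) (nat_lit 0) (BT.br (nat_lit 0) (nat_lit 60) [nat_lit 5, nat_lit 7] (BT.dead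 (nat_lit 61) (BT.img (nat_lit 1) (nat_lit 0) (BT.frm (nat_lit 4) (nat_lit 0x484442433d400f19070c) (nat_lit 0x45484342112f070a) [nat_lit 0, nat_lit 1, nat_lit 12, nat_lit 13, nat_lit 11, nat_lit 19] (BT.pln (nat_lit 0) (nat_lit 6) (BT.img (nat_lit 1) (nat_lit 2) (BT.and (nat_lit 1) (nat_lit 0) (BT.cnt (nat_lit 0))))))) (BT.dead (nat_lit 106) (BT.frm (nat_lit 3) (nat_lit 0x4442433d400f19070c) (nat_lit 0x414441112f070a) [nat_lit 0, nat_lit 11, nat_lit 12, nat_lit 10, nat_lit 18] (BT.pln (nat_lit 0) (nat_lit 5) (BT.and (nat_lit 0) (nat_lit 22) (BT.cnt (nat_lit 0))))) BT.nil)))))))))))))))))))) (BT.dead (nat_lit 56) (BT.img (nat_lit 1) (nat_lit 0) (BT.img (nat_lit 1) (nat_lit 0) (BT.img (nat_lit 1) (nat_lit 0) (BT.frm (nat_lit 1) (nat_lit 0xf19070c) (nat_lit 0x151907070212) [nat_lit 2, nat_lit 0, nat_lit 3] (BT.pln (nat_lit 0) (nat_lit 3) (BT.and (nat_lit 0) (nat_lit 7) (BT.cnt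 (nat_lit 0)))))))) BT.nil)))))

theorem yt_nc102_96_cnt : Cnt 324 (grp 324 y_E0) [z_g1199] [z_g1146] 0 0 0 0 0 :=
  BT.sound yt_nc102_96_cnt_P Known.nil (t := yt_nc102_96_cnt_t) (d := 0) (by decide +kernel)

theorem yt_nc102_96 : ¬ CjIn (grp 324 y_E0) (Net.toPerm 324 z_g1199) (Net.toPerm 324 z_g1146) :=
  not_cjIn yt_nc102_96_cnt

noncomputable def yt_nc102_97_cnt_L : List ℕ := [1, 4, z_T111_s1_O, 0, 0, 3, 16, z_T111_s167_O, 0, 0, 4, 10, z_T111_s168_O, 0, 0, 5, 12, z_T111_s169_O, 0, 0, 6, 15, z_T111_s170_O, 1, 0]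

theorem yt_nc102_97_cnt_P : Prob 324 9 (grp 324 y_E0) yt_nc102_97_cnt_EG [z_g1199] [z_g1162] yt_c97_K yt_nc102_97_cnt_L 0 0 :=
  Sym.prob z_hn z_hk yt_c97_sym yt_nc102_97_cnt_EG_ok (grp_cons_le z_g39_z_T111 (grp_cons_le zg1_z_T111 (grp_cons_le zg3_z_T111 (grp_cons_le z_g43_z_T111 (grp_cons_le z_g42_z_T111 (grp_cons_le zg2_z_T111 (grp_cons_le z_g44_z_T111 (grp_cons_le z_g54_z_T111 (grp_cons_le z_g55_z_T111 (grp_cons_le z_g49_z_T111 (grp_cons_le z_g50_z_T111 (grp_cons_le z_g51_z_T111 (grp_cons_le z_g62_z_T111 (grp_cons_le z_g58_z_T111 (grp_cons_le z_g59_z_T111 (grp_cons_le z_g65_z_T111 (grp_cons_le z_g66_z_T111 (grp_cons_le z_g67_z_T111 (grp_cons_le z_g77_z_T111 (grp_cons_le z_g78_z_T111 (grp_cons_le z_g72_z_T111 (grp_cons_le z_g73_z_T111 (grp_cons_le z_g74_z_T111 (grp_cons_le z_g81_z_T111 (grp_cons_le z_g82_z_T111 (grp_cons_le z_g87_z_T111 (grp_cons_le zg0_z_T111 (grp_cons_le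 z_g91_z_T111 (grp_cons_le z_g28_z_T111 (grp_cons_le z_g88_z_T111 (grp_cons_le z_g1152_z_T111 (grp_cons_le z_g1153_z_T111 (grp_cons_le z_g1154_z_T111 (grp_cons_le z_g1155_z_T111 (grp_cons_le z_g1150_z_T111 (grp_cons_le z_g1156_z_T111 (grp_nil_le _))))))))))))))))))))))))))))))))))))) (Frames.cons z_T111_s1_F (Frames.cons z_T111_s167_F (Frames.cons z_T111_s168_F (Frames.cons z_T111_s169_F (Frames.cons z_T111_s170_F Frames.nil))))) (okE_cons.2 ⟨z_g1199_ok, okE_nil _⟩) _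

noncomputable def yt_nc102_97_cnt_t : BT := (BT.fix (nat_lit 65793) (BT.dif (nat_lit 3) (nat_lit 0) (BT.br (nat_lit 0) (nat_lit 0) [nat_lit 1, nat_lit 3, nat_lit 5] (BT.dead (nat_lit 0) (BT.frm (nat_lit 0) (nat_lit 0) (nat_lit 0) [nat_lit 0] (BT.pln (nat_lit 0) (nat_lit 1) (BT.dif (nat_lit 3) (nat_lit 0) (BT.pln (nat_lit 2) (nat_lit 2) (BT.dif (nat_lit 1) (nat_lit 0) (BT.img (nat_lit 1) (nat_lit 5) (BT.img (nat_lit 1) (nat_lit 0) (BT.img (nat_lit 1) (nat_lit 0) (BT.frm (nat_lit 2) (nat_lit 0x3d400f19070c) (nat_lit 0x40112607) [nat_lit 1, nat_lit 2, nat_lit 0, nat_lit 8] (BT.pln (nat_lit 0) (nat_lit 6) (BT.and (nat_lit 5) (nat_lit 0) (BT.pln (nat_lit 2) (nat_lit 5) (BT.dif (nat_lit 1) (nat_lit 0) (BT.pln (nat_lit 4) (nat_lit 4) (BT.dif (nat_lit 1) (nat_lit 0) (BT.pln (nat_lit 14) (nat_lit 3) (BT.dif (nat_lit 1) (nat_lit 0) (BT.br (nat_lit 0) (nat_lit 60) [nat_lit 5, nat_lit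 7] (BT.dead (nat_lit 133) (BT.img (nat_lit 1) (nat_lit 0) (BT.frm (nat_lit 4) (nat_lit 0x484442433d400f19070c) (nat_lit 0x47414440112607) [nat_lit 0, nat_lit 1, nat_lit 12, nat_lit 13, nat_lit 11, nat_lit 19] (BT.pln (nat_lit 0) (nat_lit 6) (BT.img (nat_lit 1) (nat_lit 2) (BT.img (nat_lit 1) (nat_lit 0) (BT.img (nat_lit 1) (nat_lit 0) (BT.img (nat_lit 1) (nat_lit 0) (BT.and (nat_lit 4) (nat_lit 0) (BT.cnt (nat_lit 0)))))))))) (BT.dead (nat_lit 106) (BT.frm (nat_lit 3) (nat_lit 0x4442433d400f19070c) (nat_lit 0x44424340112607) [nat_lit 0, nat_lit 11, nat_lit 12, nat_lit 10, nat_lit 18] (BT.pln (nat_lit 0) (nat_lit 5) (BT.and (nat_lit 0) (nat_lit 22) (BT.cnt (nat_lit 0))))) BT.nil)))))))))))))))))))) (BT.dead (nat_lit 63) (BT.img (nat_lit 1) (nat_lit 0) (BT.img (nat_lit 1) (nat_lit 0) (BT.img (nat_lit 1) (nat_lit 0) (BT.frm (nat_lit 1) (nat_lit 0xf19070c) (nat_lit 0x19071501111d)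 [nat_lit 2, nat_lit 0, nat_lit 3] (BT.pln (nat_lit 0) (nat_lit 3) (BT.and (nat_lit 0) (nat_lit 7) (BT.cnt (nat_lit 0)))))))) (BT.dead (nat_lit 54) (BT.img (nat_lit 1) (nat_lit 0) (BT.img (nat_lit 1) (nat_lit 0) (BT.img (nat_lit 1) (nat_lit 0) (BT.frm (nat_lit 1) (nat_lit 0xf19070c) (nat_lit 0x250115) [nat_lit 2, nat_lit 0, nat_lit 3] (BT.pln (nat_lit 0) (nat_lit 3) (BT.and (nat_lit 0) (nat_lit 7) (BT.cnt (nat_lit 0)))))))) BT.nil))))))

theorem yt_nc102_97_cnt : Cnt 324 (grp 324 y_E0) [z_g1199] [z_g1162] 0 0 0 0 0 :=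
  BT.sound yt_nc102_97_cnt_P Known.nil (t := yt_nc102_97_cnt_t) (d := 0) (by decide +kernel)

theorem yt_nc102_97 : ¬ CjIn (grp 324 y_E0) (Net.toPerm 324 z_g1199) (Net.toPerm 324 z_g1162) :=
  not_cjIn yt_nc102_97_cnt

noncomputable def yt_nc102_99_cnt_L : List ℕ := [1, 4, z_T111_s1_O, 0, 0]

theorem yt_nc102_99_cnt_P : Prob 324 9 (grp 324 y_E0) yt_nc102_99_cnt_EG [z_g1199] [z_g1175] yt_c99_K yt_nc102_99_cnt_L 0 0 :=
  Sym.prob z_hn z_hk yt_c99_sym yt_nc102_99_cnt_EG_ok (grp_cons_le z_g39_z_T111 (grp_cons_le zg1_z_T111 (grp_cons_le zg3_z_T111 (grp_cons_le z_g43_z_T111 (grp_cons_le z_g42_z_T111 (grp_cons_le zg2_z_T111 (grp_cons_le z_g44_z_T111 (grp_cons_le z_g54_z_T111 (grp_cons_le z_g55_z_T111 (grp_cons_le z_g49_z_T111 (grp_cons_le z_g50_z_T111 (grp_cons_le z_g51_z_T111 (grp_cons_le z_g62_z_T111 (grp_cons_le z_g58_z_T111 (grp_cons_le z_g59_z_T111 (grp_cons_le z_g65_z_T111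 (grp_cons_le z_g66_z_T111 (grp_cons_le z_g67_z_T111 (grp_cons_le z_g77_z_T111 (grp_cons_le z_g78_z_T111 (grp_cons_le z_g72_z_T111 (grp_cons_le z_g73_z_T111 (grp_cons_le z_g74_z_T111 (grp_cons_le z_g81_z_T111 (grp_cons_le z_g82_z_T111 (grp_cons_le z_g87_z_T111 (grp_cons_le zg0_z_T111 (grp_cons_le z_g91_z_T111 (grp_cons_le z_g28_z_T111 (grp_cons_le z_g88_z_T111 (grp_nil_le _))))))))))))))))))))))))))))))) (Frames.cons z_T111_s1_F Frames.nil) (okE_cons.2 ⟨z_g1199_ok, okE_nil _⟩) _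

noncomputable def yt_nc102_99_cnt_t : BT := (BT.fix (nat_lit 65793) (BT.dif (nat_lit 3) (nat_lit 0) (BT.br (nat_lit 0) (nat_lit 0) [nat_lit 1, nat_lit 3, nat_lit 5] (BT.dead (nat_lit 35) (BT.frm (nat_lit 0) (nat_lit 0) (nat_lit 66837) [nat_lit 0] (BT.pln (nat_lit 0) (nat_lit 1) (BT.img (nat_lit 1) (nat_lit 2) (BT.and (nat_lit 1) (nat_lit 0) (BT.cnt (nat_lit 0)))))) (BT.dead (nat_lit 0) (BT.frm (nat_lit 0) (nat_lit 0) (nat_lit 0) [nat_lit 0] (BT.pln (nat_lit 0) (nat_lit 1) (BT.img (nat_lit 1) (nat_lit 2) (BT.and (nat_lit 1) (nat_lit 0) (BT.cnt (nat_lit 0)))))) BT.nil)))))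

theorem yt_nc102_99_cnt : Cnt 324 (grp 324 y_E0) [z_g1199] [z_g1175] 0 0 0 0 0 :=
  BT.sound yt_nc102_99_cnt_P Known.nil (t := yt_nc102_99_cnt_t) (d := 0) (by decide +kernel)

theorem yt_nc102_99 : ¬ CjIn (grp 324 y_E0) (Net.toPerm 324 z_g1199) (Net.toPerm 324 z_g1175) :=
  not_cjIn yt_nc102_99_cnt

noncomputable def yt_nc104_103_cnt_L : List ℕ := [1, 4, z_T111_s1_O, 0, 0]

theorem yt_nc104_103_cnt_P : Prob 324 9 (grp 324 y_E0) yt_nc104_103_cnt_EG [z_g1211] [z_g1203] yt_c103_K yt_nc104_103_cnt_L 0 0 :=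
  Sym.prob z_hn z_hk yt_c103_sym yt_nc104_103_cnt_EG_ok (grp_cons_le z_g39_z_T111 (grp_cons_le zg1_z_T111 (grp_cons_le zg3_z_T111 (grp_cons_le z_g43_z_T111 (grp_cons_le z_g42_z_T111 (grp_cons_le zg2_z_T111 (grp_cons_le z_g44_z_T111 (grp_cons_le z_g54_z_T111 (grp_cons_le z_g55_z_T111 (grp_cons_le z_g49_z_T111 (grp_cons_le z_g50_z_T111 (grp_cons_le z_g51_z_T111 (grp_cons_le z_g62_z_T111 (grp_cons_le z_g58_z_T111 (grp_cons_le z_g59_z_T111 (grp_cons_le z_g65_z_T111 (grp_cons_le z_g66_z_T111 (grp_cons_le z_g67_z_T111 (grp_cons_le z_g77_z_T111 (grp_cons_le z_g78_z_T111 (grp_cons_le z_g72_z_T111 (grp_cons_le z_g73_z_T111 (grp_cons_le z_g74_z_T111 (grp_cons_le z_g81_z_T111 (grp_cons_le z_g82_z_T111 (grp_cons_le z_g87_z_T111 (grp_cons_le zg0_z_T111 (grp_cons_le z_g91_z_T111 (grp_cons_le z_g28_z_T111 (grp_cons_le z_g88_z_T111 (grp_nil_le _))))))))))))))))))))))))))))))) (Frames.cons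 z_T111_s1_F Frames.nil) (okE_cons.2 ⟨z_g1211_ok, okE_nil _⟩) _

noncomputable def yt_nc104_103_cnt_t : BT := (BT.fix (nat_lit 65793) (BT.dif (nat_lit 3) (nat_lit 0) (BT.br (nat_lit 0) (nat_lit 0) [nat_lit 1, nat_lit 3] (BT.dead (nat_lit 48) (BT.frm (nat_lit 0) (nat_lit 0) (nat_lit 67611) [nat_lit 0] (BT.pln (nat_lit 0) (nat_lit 1) (BT.img (nat_lit 1) (nat_lit 2) (BT.and (nat_lit 1) (nat_lit 0) (BT.cnt (nat_lit 0)))))) (BT.dead (nat_lit 56) (BT.frm (nat_lit 0) (nat_lit 0) (nat_lit 530) [nat_lit 0] (BT.pln (nat_lit 0) (nat_lit 1) (BT.img (nat_lit 1) (nat_lit 2) (BT.and (nat_lit 1) (nat_lit 0) (BT.cnt (nat_lit 0)))))) (BT.dead (nat_lit 0) (BT.frm (nat_lit 0) (nat_lit 0) (nat_lit 0) [nat_lit 0] (BT.pln (nat_lit 0) (nat_lit 2) (BT.img (nat_lit 1) (nat_lit 2) (BT.and (nat_lit 1) (nat_lit 0) (BT.cnt (nat_lit 0)))))) BT.nil))))))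

theorem yt_nc104_103_cnt : Cnt 324 (grp 324 y_E0) [z_g1211] [z_g1203] 0 0 0 0 0 :=
  BT.sound yt_nc104_103_cnt_P Known.nil (t := yt_nc104_103_cnt_t) (d := 0) (by decide +kernel)

theorem yt_nc104_103 : ¬ CjIn (grp 324 y_E0) (Net.toPerm 324 z_g1211) (Net.toPerm 324 z_g1203) :=
  not_cjIn yt_nc104_103_cnt

noncomputable def yt_nc105_103_cnt_L : List ℕ := [1, 4, z_T111_s1_O, 0, 0, 6, 23, z_T111_s112_O, 0, 0, 7, 13, z_T111_s174_O, 0, 0]

theorem yt_nc105_103_cnt_P : Prob 324 9 (grp 324 y_E0) yt_nc105_103_cnt_EG [z_g1217] [z_g1203] yt_c103_K yt_nc105_103_cnt_L 0 0 :=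
  Sym.prob z_hn z_hk yt_c103_sym yt_nc105_103_cnt_EG_ok (grp_cons_le z_g39_z_T111 (grp_cons_le zg1_z_T111 (grp_cons_le zg3_z_T111 (grp_cons_le z_g43_z_T111 (grp_cons_le z_g42_z_T111 (grp_cons_le zg2_z_T111 (grp_cons_le z_g44_z_T111 (grp_cons_le z_g54_z_T111 (grp_cons_le z_g55_z_T111 (grp_cons_le z_g49_z_T111 (grp_cons_le z_g50_z_T111 (grp_cons_le z_g51_z_T111 (grp_cons_le z_g62_z_T111 (grp_cons_le z_g58_z_T111 (grp_cons_le z_g59_z_T111 (grp_cons_le z_g65_z_T111 (grp_cons_le z_g66_z_T111 (grp_cons_le z_g67_z_T111 (grp_cons_le z_g77_z_T111 (grp_cons_le z_g78_z_T111 (grp_cons_le z_g72_z_T111 (grp_cons_le z_g73_z_T111 (grp_cons_le z_g74_z_T111 (grp_cons_le z_g81_z_T111 (grp_cons_le z_g82_z_T111 (grp_cons_le z_g87_z_T111 (grp_cons_le zg0_z_T111 (grp_cons_le z_g91_z_T111 (grp_cons_le z_g28_z_T111 (grp_cons_le z_g88_z_T111 (grp_cons_le z_g720_z_T111 (grp_cons_le z_g721_z_T111 (grp_cons_le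 z_g493_z_T111 (grp_cons_le z_g722_z_T111 (grp_cons_le z_g34_z_T111 (grp_cons_le z_g549_z_T111 (grp_cons_le z_g33_z_T111 (grp_cons_le z_g550_z_T111 (grp_cons_le z_g551_z_T111 (grp_cons_le z_g548_z_T111 (grp_nil_le _))))))))))))))))))))))))))))))))))))))))) (Frames.cons z_T111_s1_F (Frames.cons z_T111_s112_F (Frames.cons z_T111_s174_F Frames.nil))) (okE_cons.2 ⟨z_g1217_ok, okE_nil _⟩) _

noncomputable def yt_nc105_103_cnt_t : BT := (BT.fix (nat_lit 65793) (BT.dif (nat_lit 3) (nat_lit 0) (BT.br (nat_lit 0) (nat_lit 0) [nat_lit 1, nat_lit 3] (BT.dead (nat_lit 0) (BT.frm (nat_lit 0) (nat_lit 0) (nat_lit 0) [nat_lit 0] (BT.pln (nat_lit 0) (nat_lit 2) (BT.dif (nat_lit 0) (nat_lit 4) (BT.img (nat_lit 1) (nat_lit 3) (BT.img (nat_lit 1) (nat_lit 0) (BT.img (nat_lit 1) (nat_lit 0) (BT.img (nat_lit 1) (nat_lit 0) (BT.img (nat_lit 1) (nat_lit 0) (BT.frm (nat_lit 1) (nat_lit 0x4f4f4710100707)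 (nat_lit 0x4f494f0f1f070a) [nat_lit 0, nat_lit 1, nat_lit 3, nat_lit 4, nat_lit 2, nat_lit 8] (BT.pln (nat_lit 0) (nat_lit 18) (BT.and (nat_lit 7) (nat_lit 0) (BT.br (nat_lit 0) (nat_lit 14) [] (BT.dead (nat_lit 150) (BT.frm (nat_lit 2) (nat_lit 0x3f4f4f4710100707) (nat_lit 0x404f494f0f1f070a) [nat_lit 0, nat_lit 4, nat_lit 5, nat_lit 7, nat_lit 8, nat_lit 6, nat_lit 12] (BT.pln (nat_lit 0) (nat_lit 7) (BT.img (nat_lit 1) (nat_lit 2) (BT.img (nat_lit 1) (nat_lit 0) (BT.img (nat_lit 1) (nat_lit 0) (BT.img (nat_lit 1) (nat_lit 0) (BT.img (nat_lit 1) (nat_lit 0) (BT.and (nat_lit 5) (nat_lit 0) (BT.cnt (nat_lit 0)))))))))) (BT.dead (nat_lit 84) (BT.frm (nat_lit 2) (nat_lit 0x3f4f4f4710100707) (nat_lit 0x3f4f494f0f1f070a) [nat_lit 0, nat_lit 4, nat_lit 5, nat_lit 7, nat_lit 8, nat_lit 6, nat_lit 12] (BT.pln (nat_lit 0) (nat_lit 7) (BT.img (nat_lit 1) (nat_lit 2) (BT.img (nat_lit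 1) (nat_lit 0) (BT.img (nat_lit 1) (nat_lit 0) (BT.img (nat_lit 1) (nat_lit 0) (BT.img (nat_lit 1) (nat_lit 0) (BT.and (nat_lit 5) (nat_lit 0) (BT.cnt (nat_lit 0)))))))))) (BT.dead (nat_lit 69) (BT.frm (nat_lit 2) (nat_lit 0x3f4f4f4710100707) (nat_lit 0x4f494f0f1f070a) [nat_lit 0, nat_lit 4, nat_lit 5, nat_lit 7, nat_lit 8, nat_lit 6, nat_lit 12] (BT.pln (nat_lit 0) (nat_lit 7) (BT.img (nat_lit 1) (nat_lit 2) (BT.img (nat_lit 1) (nat_lit 0) (BT.img (nat_lit 1) (nat_lit 0) (BT.img (nat_lit 1) (nat_lit 0) (BT.img (nat_lit 1) (nat_lit 0) (BT.and (nat_lit 5) (nat_lit 0) (BT.cnt (nat_lit 0)))))))))) BT.nil))))))))))))))) (BT.dead (nat_lit 48) (BT.frm (nat_lit 0) (nat_lit 0) (nat_lit 67611) [nat_lit 0] (BT.pln (nat_lit 0) (nat_lit 1) (BT.img (nat_lit 1) (nat_lit 2) (BT.and (nat_lit 1) (nat_lit 0) (BT.cnt (nat_lit 0)))))) (BT.dead (nat_lit 56) (BT.frm (nat_lit 0) (nat_lit 0) (nat_lit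 530) [nat_lit 0] (BT.pln (nat_lit 0) (nat_lit 1) (BT.img (nat_lit 1) (nat_lit 2) (BT.and (nat_lit 1) (nat_lit 0) (BT.cnt (nat_lit 0)))))) BT.nil))))))

theorem yt_nc105_103_cnt : Cnt 324 (grp 324 y_E0) [z_g1217] [z_g1203] 0 0 0 0 0 :=
  BT.sound yt_nc105_103_cnt_P Known.nil (t := yt_nc105_103_cnt_t) (d := 0) (by decide +kernel)

theorem yt_nc105_103 : ¬ CjIn (grp 324 y_E0) (Net.toPerm 324 z_g1217) (Net.toPerm 324 z_g1203) :=
  not_cjIn yt_nc105_103_cnt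

noncomputable def yt_nc105_104_cnt_L : List ℕ := [1, 4, z_T111_s1_O, 0, 0]

theorem yt_nc105_104_cnt_P : Prob 324 9 (grp 324 y_E0) yt_nc105_104_cnt_EG [z_g1217] [z_g1211] yt_c104_K yt_nc105_104_cnt_L 0 0 :=
  Sym.prob z_hn z_hk yt_c104_sym yt_nc105_104_cnt_EG_ok (grp_cons_le z_g39_z_T111 (grp_cons_le zg1_z_T111 (grp_cons_le zg3_z_T111 (grp_cons_le z_g43_z_T111 (grp_cons_le z_g42_z_T111 (grp_cons_le zg2_z_T111 (grp_cons_le z_g44_z_T111 (grp_cons_le z_g54_z_T111 (grp_cons_le z_g55_z_T111 (grp_cons_le z_g49_z_T111 (grp_cons_le z_g50_z_T111 (grp_cons_le z_g51_z_T111 (grp_cons_le z_g62_z_T111 (grp_cons_le z_g58_z_T111 (grp_cons_le z_g59_z_T111 (grp_cons_le z_g65_z_T111 (grp_cons_le z_g66_z_T111 (grp_cons_le z_g67_z_T111 (grp_cons_le z_g77_z_T111 (grp_cons_le z_g78_z_T111 (grp_cons_le z_g72_z_T111 (grp_cons_le z_g73_z_T111 (grp_cons_le z_g74_z_T111 (grp_cons_le z_g81_z_T111 (grp_cons_le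 z_g82_z_T111 (grp_cons_le z_g87_z_T111 (grp_cons_le zg0_z_T111 (grp_cons_le z_g91_z_T111 (grp_cons_le z_g28_z_T111 (grp_cons_le z_g88_z_T111 (grp_nil_le _))))))))))))))))))))))))))))))) (Frames.cons z_T111_s1_F Frames.nil) (okE_cons.2 ⟨z_g1217_ok, okE_nil _⟩) _

noncomputable def yt_nc105_104_cnt_t : BT := (BT.fix (nat_lit 65793) (BT.dif (nat_lit 3) (nat_lit 0) (BT.br (nat_lit 0) (nat_lit 0) [nat_lit 1, nat_lit 3] (BT.dead (nat_lit 36) (BT.frm (nat_lit 0) (nat_lit 0) (nat_lit 66847) [nat_lit 0] (BT.pln (nat_lit 0) (nat_lit 2) (BT.img (nat_lit 1) (nat_lit 2) (BT.and (nat_lit 1) (nat_lit 0) (BT.cnt (nat_lit 0)))))) (BT.dead (nat_lit 28) (BT.frm (nat_lit 0) (nat_lit 0) (nat_lit 68869) [nat_lit 0] (BT.pln (nat_lit 0) (nat_lit 2) (BT.img (nat_lit 1) (nat_lit 2) (BT.and (nat_lit 1) (nat_lit 0) (BT.cnt (nat_lit 0)))))) (BT.dead (nat_lit 0) (BT.frm (nat_lit 0) (nat_lit 0) (nat_lit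 0) [nat_lit 0] (BT.pln (nat_lit 0) (nat_lit 2) (BT.img (nat_lit 1) (nat_lit 2) (BT.and (nat_lit 1) (nat_lit 0) (BT.cnt (nat_lit 0)))))) BT.nil))))))

theorem yt_nc105_104_cnt : Cnt 324 (grp 324 y_E0) [z_g1217] [z_g1211] 0 0 0 0 0 :=
  BT.sound yt_nc105_104_cnt_P Known.nil (t := yt_nc105_104_cnt_t) (d := 0) (by decide +kernel)

theorem yt_nc105_104 : ¬ CjIn (grp 324 y_E0) (Net.toPerm 324 z_g1217) (Net.toPerm 324 z_g1211) :=
  not_cjIn yt_nc105_104_cnt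

noncomputable def yt_nc108_107_cnt_L : List ℕ := [1, 4, z_T111_s1_O, 0, 0, 3, 20, z_T111_s123_O, 0, 0, 4, 10, z_T111_s171_O, 0, 0, 5, 12, z_T111_s172_O, 0, 0, 6, 15, z_T111_s176_O, 1, 0]

theorem yt_nc108_107_cnt_P : Prob 324 9 (grp 324 y_E0) yt_nc108_107_cnt_EG [z_g1236] [z_g1229] yt_c107_K yt_nc108_107_cnt_L 0 0 :=
  Sym.prob z_hn z_hk yt_c107_sym yt_nc108_107_cnt_EG_ok (grp_cons_le z_g39_z_T111 (grp_cons_le zg1_z_T111 (grp_cons_le zg3_z_T111 (grp_cons_le z_g43_z_T111 (grp_cons_le z_g42_z_T111 (grp_cons_le zg2_z_T111 (grp_cons_le z_g44_z_T111 (grp_cons_le z_g54_z_T111 (grp_cons_le z_g55_z_T111 (grp_cons_le z_g49_z_T111 (grp_cons_le z_g50_z_T111 (grp_cons_le z_g51_z_T111 (grp_cons_le z_g62_z_T111 (grp_cons_le z_g58_z_T111 (grp_cons_le z_g59_z_T111 (grp_cons_le z_g65_z_T111 (grp_cons_le z_g66_z_T111 (grp_cons_le z_g67_z_T111 (grp_cons_le z_g77_z_T111 (grp_cons_le z_g78_z_T111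 (grp_cons_le z_g72_z_T111 (grp_cons_le z_g73_z_T111 (grp_cons_le z_g74_z_T111 (grp_cons_le z_g81_z_T111 (grp_cons_le z_g82_z_T111 (grp_cons_le z_g87_z_T111 (grp_cons_le zg0_z_T111 (grp_cons_le z_g91_z_T111 (grp_cons_le z_g28_z_T111 (grp_cons_le z_g88_z_T111 (grp_cons_le z_g818_z_T111 (grp_cons_le z_g819_z_T111 (grp_cons_le z_g820_z_T111 (grp_cons_le z_g821_z_T111 (grp_cons_le z_g1180_z_T111 (grp_cons_le z_g1181_z_T111 (grp_cons_le z_g378_z_T111 (grp_cons_le z_g377_z_T111 (grp_nil_le _))))))))))))))))))))))))))))))))))))))) (Frames.cons z_T111_s1_F (Frames.cons z_T111_s123_F (Frames.cons z_T111_s171_F (Frames.cons z_T111_s172_F (Frames.cons z_T111_s176_F Frames.nil))))) (okE_cons.2 ⟨z_g1236_ok, okE_nil _⟩) _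

noncomputable def yt_nc108_107_cnt_t : BT := (BT.fix (nat_lit 65793) (BT.dif (nat_lit 3) (nat_lit 0) (BT.br (nat_lit 0) (nat_lit 0) [nat_lit 1, nat_lit 3] (BT.dead (nat_lit 18) (BT.img (nat_lit 1) (nat_lit 0) (BT.img (nat_lit 1) (nat_lit 0) (BT.img (nat_lit 1) (nat_lit 0) (BT.frm (nat_lit 1) (nat_lit 984844) (nat_lit 0x17220707030f) [nat_lit 2, nat_lit 0, nat_lit 3] (BT.pln (nat_lit 0) (nat_lit 10) (BT.dif (nat_lit 0) (nat_lit 7) (BT.br (nat_lit 0) (nat_lit 81) [] (BT.dead (nat_lit 269) (BT.frm (nat_lit 0) (nat_lit 0) (nat_lit 783) [nat_lit 7] (BT.pln (nat_lit 0) (nat_lit 1) (BT.dif (nat_lit 0) (nat_lit 11) (BT.frm (nat_lit 2) (nat_lit 0x3f0f070c) (nat_lit 0x3d17220707030f) [nat_lit 8, nat_lit 9, nat_lit 7, nat_lit 10] (BT.pln (nat_lit 0) (nat_lit 7) (BT.and (nat_lit 2) (nat_lit 0) (BT.br (nat_lit 0) (nat_lit 34) [nat_lit 66306, nat_lit 67074] (BT.dead (nat_lit 186) (BT.frm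 (nat_lit 4) (nat_lit 0x4b46473f0f070c) (nat_lit 0x494b46483d17220707030f) [nat_lit 0, nat_lit 7, nat_lit 12, nat_lit 13, nat_lit 11, nat_lit 14] (BT.pln (nat_lit 0) (nat_lit 6) (BT.img (nat_lit 1) (nat_lit 2) (BT.img (nat_lit 1) (nat_lit 0) (BT.img (nat_lit 1) (nat_lit 0) (BT.img (nat_lit 1) (nat_lit 0) (BT.and (nat_lit 4) (nat_lit 0) (BT.cnt (nat_lit 0))))))))) BT.nil)))))))) (BT.dead (nat_lit 270) (BT.frm (nat_lit 0) (nat_lit 0) (nat_lit 783) [nat_lit 7] (BT.pln (nat_lit 0) (nat_lit 1) (BT.dif (nat_lit 0) (nat_lit 11) (BT.frm (nat_lit 2) (nat_lit 0x3f0f070c) (nat_lit 0x3d17220707030f) [nat_lit 8, nat_lit 9, nat_lit 7, nat_lit 10] (BT.pln (nat_lit 0) (nat_lit 7) (BT.and (nat_lit 2) (nat_lit 0) (BT.br (nat_lit 0) (nat_lit 34) [nat_lit 67074, nat_lit 66562] (BT.dead (nat_lit 186) (BT.frm (nat_lit 4) (nat_lit 0x4b46473f0f070c) (nat_lit 0x4a4b46473d17220707030f) [nat_lit 0, nat_lit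 7, nat_lit 12, nat_lit 13, nat_lit 11, nat_lit 14] (BT.pln (nat_lit 0) (nat_lit 6) (BT.img (nat_lit 1) (nat_lit 2) (BT.and (nat_lit 1) (nat_lit 0) (BT.cnt (nat_lit 0)))))) BT.nil)))))))) (BT.dead (nat_lit 213) (BT.frm (nat_lit 0) (nat_lit 0) (nat_lit 783) [nat_lit 7] (BT.pln (nat_lit 0) (nat_lit 1) (BT.dif (nat_lit 0) (nat_lit 11) (BT.frm (nat_lit 2) (nat_lit 0x3f0f070c) (nat_lit 0x3d17220707030f) [nat_lit 8, nat_lit 9, nat_lit 7, nat_lit 10] (BT.pln (nat_lit 0) (nat_lit 7) (BT.and (nat_lit 2) (nat_lit 0) (BT.br (nat_lit 0) (nat_lit 34) [nat_lit 67074, nat_lit 66306] (BT.dead (nat_lit 186) (BT.frm (nat_lit 4) (nat_lit 0x4b46473f0f070c) (nat_lit 0x4b463d17220707030f) [nat_lit 0, nat_lit 7, nat_lit 12, nat_lit 13, nat_lit 11, nat_lit 14] (BT.pln (nat_lit 0) (nat_lit 6) (BT.img (nat_lit 1) (nat_lit 2) (BT.and (nat_lit 1) (nat_lit 0) (BT.cnt (nat_lit 0)))))) BT.nil)))))))) (BT.dead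 (nat_lit 310) (BT.frm (nat_lit 3) (nat_lit 0x46473f0f070c) (nat_lit 0x45473d17220707030f) [nat_lit 0, nat_lit 5, nat_lit 6, nat_lit 4, nat_lit 7] (BT.pln (nat_lit 0) (nat_lit 5) (BT.img (nat_lit 1) (nat_lit 2) (BT.and (nat_lit 1) (nat_lit 0) (BT.cnt (nat_lit 0)))))) (BT.dead (nat_lit 290) (BT.frm (nat_lit 3) (nat_lit 0x46473f0f070c) (nat_lit 0x45483d17220707030f) [nat_lit 0, nat_lit 5, nat_lit 6, nat_lit 4, nat_lit 7] (BT.pln (nat_lit 0) (nat_lit 5) (BT.img (nat_lit 1) (nat_lit 2) (BT.and (nat_lit 1) (nat_lit 0) (BT.cnt (nat_lit 0)))))) (BT.dead (nat_lit 305) (BT.frm (nat_lit 3) (nat_lit 0x46473f0f070c) (nat_lit 0x453d17220707030f) [nat_lit 0, nat_lit 5, nat_lit 6, nat_lit 4, nat_lit 7] (BT.pln (nat_lit 0) (nat_lit 5) (BT.img (nat_lit 1) (nat_lit 2) (BT.and (nat_lit 1) (nat_lit 0) (BT.cnt (nat_lit 0)))))) (BT.dead (nat_lit 304) (BT.frm (nat_lit 3) (nat_lit 0x46473f0f070c)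 (nat_lit 0x483d17220707030f) [nat_lit 0, nat_lit 5, nat_lit 6, nat_lit 4, nat_lit 7] (BT.pln (nat_lit 0) (nat_lit 5) (BT.img (nat_lit 1) (nat_lit 2) (BT.and (nat_lit 1) (nat_lit 0) (BT.cnt (nat_lit 0)))))) (BT.dead (nat_lit 204) (BT.frm (nat_lit 3) (nat_lit 0x46473f0f070c) (nat_lit 0x473d17220707030f) [nat_lit 0, nat_lit 5, nat_lit 6, nat_lit 4, nat_lit 7] (BT.pln (nat_lit 0) (nat_lit 5) (BT.img (nat_lit 1) (nat_lit 2) (BT.and (nat_lit 1) (nat_lit 0) (BT.cnt (nat_lit 0)))))) (BT.dead (nat_lit 133) (BT.frm (nat_lit 3) (nat_lit 0x46473f0f070c) (nat_lit 0x3d17220707030f) [nat_lit 0, nat_lit 5, nat_lit 6, nat_lit 4, nat_lit 7] (BT.pln (nat_lit 0) (nat_lit 5) (BT.img (nat_lit 1) (nat_lit 2) (BT.and (nat_lit 1) (nat_lit 0) (BT.cnt (nat_lit 0)))))) BT.nil)))))))))))))))) (BT.dead (nat_lit 1) (BT.img (nat_lit 1) (nat_lit 0) (BT.img (nat_lit 1) (nat_lit 0) (BT.img (nat_lit 1) (nat_lit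 0) (BT.frm (nat_lit 2) (nat_lit 0x3f0f070c) (nat_lit 0x3e3f10191707070309) [nat_lit 1, nat_lit 2, nat_lit 0, nat_lit 3] (BT.pln (nat_lit 0) (nat_lit 4) (BT.and (nat_lit 0) (nat_lit 7) (BT.cnt (nat_lit 0)))))))) (BT.dead (nat_lit 28) (BT.img (nat_lit 1) (nat_lit 0) (BT.img (nat_lit 1) (nat_lit 0) (BT.img (nat_lit 1) (nat_lit 0) (BT.frm (nat_lit 1) (nat_lit 984844) (nat_lit 0x102908010d05) [nat_lit 2, nat_lit 0, nat_lit 3] (BT.pln (nat_lit 0) (nat_lit 3) (BT.and (nat_lit 0) (nat_lit 7) (BT.cnt (nat_lit 0)))))))) (BT.dead (nat_lit 27) (BT.img (nat_lit 1) (nat_lit 0) (BT.img (nat_lit 1) (nat_lit 0) (BT.img (nat_lit 1) (nat_lit 0) (BT.frm (nat_lit 2) (nat_lit 0x3f0f070c) (nat_lit 0x101d0803082e) [nat_lit 1, nat_lit 2, nat_lit 0, nat_lit 3] (BT.pln (nat_lit 0) (nat_lit 4) (BT.and (nat_lit 0) (nat_lit 7) (BT.cnt (nat_lit 0)))))))) (BT.dead (nat_lit 58) (BT.img (nat_lit 1) (nat_lit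 0) (BT.img (nat_lit 1) (nat_lit 0) (BT.img (nat_lit 1) (nat_lit 0) (BT.frm (nat_lit 1) (nat_lit 984844) (nat_lit 0x181e01031b) [nat_lit 2, nat_lit 0, nat_lit 3] (BT.pln (nat_lit 0) (nat_lit 3) (BT.and (nat_lit 0) (nat_lit 7) (BT.cnt (nat_lit 0)))))))) BT.nil))))))))

theorem yt_nc108_107_cnt : Cnt 324 (grp 324 y_E0) [z_g1236] [z_g1229] 0 0 0 0 0 :=
  BT.sound yt_nc108_107_cnt_P Known.nil (t := yt_nc108_107_cnt_t) (d := 0) (by decide +kernel)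

theorem yt_nc108_107 : ¬ CjIn (grp 324 y_E0) (Net.toPerm 324 z_g1236) (Net.toPerm 324 z_g1229) :=
  not_cjIn yt_nc108_107_cnt

noncomputable def yt_nc119_116_cnt_L : List ℕ := [1, 4, z_T111_s1_O, 0, 0]

theorem yt_nc119_116_cnt_P : Prob 324 9 (grp 324 y_E0) yt_nc119_116_cnt_EG [z_g1301] [z_g1277] yt_c116_K yt_nc119_116_cnt_L 0 0 :=
  Sym.prob z_hn z_hk yt_c116_sym yt_nc119_116_cnt_EG_ok (grp_cons_le z_g39_z_T111 (grp_cons_le zg1_z_T111 (grp_cons_le zg3_z_T111 (grp_cons_le z_g43_z_T111 (grp_cons_le z_g42_z_T111 (grp_cons_le zg2_z_T111 (grp_cons_le z_g44_z_T111 (grp_cons_le z_g54_z_T111 (grp_cons_le z_g55_z_T111 (grp_cons_le z_g49_z_T111 (grp_cons_le z_g50_z_T111 (grp_cons_le z_g51_z_T111 (grp_cons_le z_g62_z_T111 (grp_cons_le z_g58_z_T111 (grp_cons_le z_g59_z_T111 (grp_cons_le z_g65_z_T111 (grp_cons_le z_g66_z_T111 (grp_cons_le z_g67_z_T111 (grp_cons_le z_g77_z_T111 (grp_cons_le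 z_g78_z_T111 (grp_cons_le z_g72_z_T111 (grp_cons_le z_g73_z_T111 (grp_cons_le z_g74_z_T111 (grp_cons_le z_g81_z_T111 (grp_cons_le z_g82_z_T111 (grp_cons_le z_g87_z_T111 (grp_cons_le zg0_z_T111 (grp_cons_le z_g91_z_T111 (grp_cons_le z_g28_z_T111 (grp_cons_le z_g88_z_T111 (grp_nil_le _))))))))))))))))))))))))))))))) (Frames.cons z_T111_s1_F Frames.nil) (okE_cons.2 ⟨z_g1301_ok, okE_nil _⟩) _

noncomputable def yt_nc119_116_cnt_t : BT := (BT.fix (nat_lit 257) (BT.br (nat_lit 0) (nat_lit 125) [nat_lit 1] (BT.dead (nat_lit 139) (BT.frm (nat_lit 0) (nat_lit 67353) (nat_lit 515) [nat_lit 0] (BT.pln (nat_lit 0) (nat_lit 1) (BT.fix (nat_lit 0x1010101) (BT.and (nat_lit 1) (nat_lit 0) (BT.cnt (nat_lit 0)))))) BT.nil)))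

theorem yt_nc119_116_cnt : Cnt 324 (grp 324 y_E0) [z_g1301] [z_g1277] 0 0 0 0 0 :=
  BT.sound yt_nc119_116_cnt_P Known.nil (t := yt_nc119_116_cnt_t) (d := 0) (by decide +kernel)

theorem yt_nc119_116 : ¬ CjIn (grp 324 y_E0) (Net.toPerm 324 z_g1301) (Net.toPerm 324 z_g1277) :=
  not_cjIn yt_nc119_116_cnt

noncomputable def yt_nc121_117_cnt_L : List ℕ := [4, 19, z_T111_s22_O, 0, 0]

theorem yt_nc121_117_cnt_P : Prob 324 9 (grp 324 y_E0) yt_nc121_117_cnt_EG [z_g1310] [z_g1282] yt_c117_K yt_nc121_117_cnt_L 0 0 :=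
  Sym.prob z_hn z_hk yt_c117_sym yt_nc121_117_cnt_EG_ok (grp_cons_le z_g62_z_T111 (grp_cons_le z_g58_z_T111 (grp_cons_le z_g59_z_T111 (grp_cons_le z_g65_z_T111 (grp_cons_le z_g66_z_T111 (grp_cons_le z_g67_z_T111 (grp_cons_le z_g77_z_T111 (grp_cons_le z_g78_z_T111 (grp_cons_le z_g72_z_T111 (grp_cons_le z_g73_z_T111 (grp_cons_le z_g74_z_T111 (grp_cons_le z_g81_z_T111 (grp_cons_le z_g82_z_T111 (grp_cons_le z_g87_z_T111 (grp_cons_le zg0_z_T111 (grp_cons_le z_g91_z_T111 (grp_cons_le z_g28_z_T111 (grp_cons_le z_g88_z_T111 (grp_cons_le z_g54_z_T111 (grp_cons_le z_g55_z_T111 (grp_cons_le z_g49_z_T111 (grp_cons_le z_g50_z_T111 (grp_cons_le z_g51_z_T111 (grp_cons_le z_g43_z_T111 (grp_cons_le z_g42_z_T111 (grp_cons_le zg2_z_T111 (grp_cons_le z_g44_z_T111 (grp_cons_le z_g39_z_T111 (grp_cons_le zg1_z_T111 (grp_cons_le zg3_z_T111 (grp_nil_le _))))))))))))))))))))))))))))))) (Frames.cons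 z_T111_s22_F Frames.nil) (okE_cons.2 ⟨z_g1310_ok, okE_nil _⟩) _

noncomputable def yt_nc121_117_cnt_t : BT := (BT.fix (nat_lit 0x10101010101) (BT.fix (nat_lit 257) (BT.dif (nat_lit 1) (nat_lit 0) (BT.fix (nat_lit 65793) (BT.dif (nat_lit 1) (nat_lit 0) (BT.br (nat_lit 0) (nat_lit 89) [nat_lit 1] (BT.dead (nat_lit 82) (BT.and (nat_lit 2) (nat_lit 4) (BT.br (nat_lit 0) (nat_lit 34) [nat_lit 3] (BT.dead (nat_lit 93) (BT.img (nat_lit 1) (nat_lit 2) (BT.img (nat_lit 1) (nat_lit 0) (BT.frm (nat_lit 0) (nat_lit 0x107272f32373b2f) (nat_lit 0x425282f34371537) [nat_lit 2, nat_lit 0, nat_lit 1, nat_lit 4] (BT.pln (nat_lit 0) (nat_lit 10) (BT.and (nat_lit 0) (nat_lit 8) (BT.cnt (nat_lit 0))))))) BT.nil))) BT.nil)))))))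

theorem yt_nc121_117_cnt : Cnt 324 (grp 324 y_E0) [z_g1310] [z_g1282] 0 0 0 0 0 :=
  BT.sound yt_nc121_117_cnt_P Known.nil (t := yt_nc121_117_cnt_t) (d := 0) (by decide +kernel)

theorem yt_nc121_117 : ¬ CjIn (grp 324 y_E0) (Net.toPerm 324 z_g1310) (Net.toPerm 324 z_g1282) :=
  not_cjIn yt_nc121_117_cnt

noncomputable def yt_nc126_125_cnt_L : List ℕ := [1, 4, z_T111_s1_O, 0, 0]

theorem yt_nc126_125_cnt_P : Prob 324 9 (grp 324 y_E0) yt_nc126_125_cnt_EG [z_g1334] [z_g1328] yt_c125_K yt_nc126_125_cnt_L 0 0 :=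
  Sym.prob z_hn z_hk yt_c125_sym yt_nc126_125_cnt_EG_ok (grp_cons_le z_g39_z_T111 (grp_cons_le zg1_z_T111 (grp_cons_le zg3_z_T111 (grp_cons_le z_g43_z_T111 (grp_cons_le z_g42_z_T111 (grp_cons_le zg2_z_T111 (grp_cons_le z_g44_z_T111 (grp_cons_le z_g54_z_T111 (grp_cons_le z_g55_z_T111 (grp_cons_le z_g49_z_T111 (grp_cons_le z_g50_z_T111 (grp_cons_le z_g51_z_T111 (grp_cons_le z_g62_z_T111 (grp_cons_le z_g58_z_T111 (grp_cons_le z_g59_z_T111 (grp_cons_le z_g65_z_T111 (grp_cons_le z_g66_z_T111 (grp_cons_le z_g67_z_T111 (grp_cons_le z_g77_z_T111 (grp_cons_le z_g78_z_T111 (grp_cons_le z_g72_z_T111 (grp_cons_le z_g73_z_T111 (grp_cons_le z_g74_z_T111 (grp_cons_le z_g81_z_T111 (grp_cons_le z_g82_z_T111 (grp_cons_le z_g87_z_T111 (grp_cons_le zg0_z_T111 (grp_cons_le z_g91_z_T111 (grp_cons_le z_g28_z_T111 (grp_cons_le z_g88_z_T111 (grp_nil_le _))))))))))))))))))))))))))))))) (Frames.cons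 z_T111_s1_F Frames.nil) (okE_cons.2 ⟨z_g1334_ok, okE_nil _⟩) _

noncomputable def yt_nc126_125_cnt_t : BT := (BT.fix (nat_lit 1) (BT.frm (nat_lit 0) (nat_lit 285) (nat_lit 65799) [nat_lit 0] (BT.pln (nat_lit 0) (nat_lit 1) (BT.fix (nat_lit 257) (BT.and (nat_lit 1) (nat_lit 0) (BT.cnt (nat_lit 0)))))))

theorem yt_nc126_125_cnt : Cnt 324 (grp 324 y_E0) [z_g1334] [z_g1328] 0 0 0 0 0 :=
  BT.sound yt_nc126_125_cnt_P Known.nil (t := yt_nc126_125_cnt_t) (d := 0) (by decide +kernel)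

theorem yt_nc126_125 : ¬ CjIn (grp 324 y_E0) (Net.toPerm 324 z_g1334) (Net.toPerm 324 z_g1328) :=
  not_cjIn yt_nc126_125_cnt

noncomputable def yt_nc127_125_cnt_L : List ℕ := [1, 4, z_T111_s1_O, 0, 0]

theorem yt_nc127_125_cnt_P : Prob 324 9 (grp 324 y_E0) yt_nc127_125_cnt_EG [z_g1339] [z_g1328] yt_c125_K yt_nc127_125_cnt_L 0 0 :=
  Sym.prob z_hn z_hk yt_c125_sym yt_nc127_125_cnt_EG_ok (grp_cons_le z_g39_z_T111 (grp_cons_le zg1_z_T111 (grp_cons_le zg3_z_T111 (grp_cons_le z_g43_z_T111 (grp_cons_le z_g42_z_T111 (grp_cons_le zg2_z_T111 (grp_cons_le z_g44_z_T111 (grp_cons_le z_g54_z_T111 (grp_cons_le z_g55_z_T111 (grp_cons_le z_g49_z_T111 (grp_cons_le z_g50_z_T111 (grp_cons_le z_g51_z_T111 (grp_cons_le z_g62_z_T111 (grp_cons_le z_g58_z_T111 (grp_cons_le z_g59_z_T111 (grp_cons_le z_g65_z_T111 (grp_cons_le z_g66_z_T111 (grp_cons_le z_g67_z_T111 (grp_cons_le z_g77_z_T111 (grp_cons_le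 z_g78_z_T111 (grp_cons_le z_g72_z_T111 (grp_cons_le z_g73_z_T111 (grp_cons_le z_g74_z_T111 (grp_cons_le z_g81_z_T111 (grp_cons_le z_g82_z_T111 (grp_cons_le z_g87_z_T111 (grp_cons_le zg0_z_T111 (grp_cons_le z_g91_z_T111 (grp_cons_le z_g28_z_T111 (grp_cons_le z_g88_z_T111 (grp_nil_le _))))))))))))))))))))))))))))))) (Frames.cons z_T111_s1_F Frames.nil) (okE_cons.2 ⟨z_g1339_ok, okE_nil _⟩) _

noncomputable def yt_nc127_125_cnt_t : BT := (BT.fix (nat_lit 1) (BT.frm (nat_lit 0) (nat_lit 285) (nat_lit 65799) [nat_lit 0] (BT.pln (nat_lit 0) (nat_lit 1) (BT.fix (nat_lit 257) (BT.and (nat_lit 1) (nat_lit 0) (BT.cnt (nat_lit 0)))))))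

theorem yt_nc127_125_cnt : Cnt 324 (grp 324 y_E0) [z_g1339] [z_g1328] 0 0 0 0 0 :=
  BT.sound yt_nc127_125_cnt_P Known.nil (t := yt_nc127_125_cnt_t) (d := 0) (by decide +kernel)

theorem yt_nc127_125 : ¬ CjIn (grp 324 y_E0) (Net.toPerm 324 z_g1339) (Net.toPerm 324 z_g1328) :=
  not_cjIn yt_nc127_125_cnt

noncomputable def yt_nc127_126_cnt_L : List ℕ := [1, 4, z_T111_s1_O, 0, 0, 4, 10, z_T111_s58_O, 0, 0, 5, 12, z_T111_s59_O, 0, 0]

theorem yt_nc127_126_cnt_P : Prob 324 9 (grp 324 y_E0) yt_nc127_126_cnt_EG [z_g1339] [z_g1334] yt_c126_K yt_nc127_126_cnt_L 0 0 :=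
  Sym.prob z_hn z_hk yt_c126_sym yt_nc127_126_cnt_EG_ok (grp_cons_le z_g39_z_T111 (grp_cons_le zg1_z_T111 (grp_cons_le zg3_z_T111 (grp_cons_le z_g43_z_T111 (grp_cons_le z_g42_z_T111 (grp_cons_le zg2_z_T111 (grp_cons_le z_g44_z_T111 (grp_cons_le z_g54_z_T111 (grp_cons_le z_g55_z_T111 (grp_cons_le z_g49_z_T111 (grp_cons_le z_g50_z_T111 (grp_cons_le z_g51_z_T111 (grp_cons_le z_g62_z_T111 (grp_cons_le z_g58_z_T111 (grp_cons_le z_g59_z_T111 (grp_cons_le z_g65_z_T111 (grp_cons_le z_g66_z_T111 (grp_cons_le z_g67_z_T111 (grp_cons_le z_g77_z_T111 (grp_cons_le z_g78_z_T111 (grp_cons_le z_g72_z_T111 (grp_cons_le z_g73_z_T111 (grp_cons_le z_g74_z_T111 (grp_cons_le z_g81_z_T111 (grp_cons_le z_g82_z_T111 (grp_cons_le z_g87_z_T111 (grp_cons_le zg0_z_T111 (grp_cons_le z_g91_z_T111 (grp_cons_le z_g28_z_T111 (grp_cons_le z_g88_z_T111 (grp_cons_le z_g424_z_T111 (grp_cons_le z_g425_z_T111 (grp_cons_le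 z_g426_z_T111 (grp_cons_le z_g427_z_T111 (grp_nil_le _))))))))))))))))))))))))))))))))))) (Frames.cons z_T111_s1_F (Frames.cons z_T111_s58_F (Frames.cons z_T111_s59_F Frames.nil))) (okE_cons.2 ⟨z_g1339_ok, okE_nil _⟩) _

noncomputable def yt_nc127_126_cnt_t : BT := (BT.fix (nat_lit 1) (BT.frm (nat_lit 0) (nat_lit 285) (nat_lit 285) [nat_lit 0] (BT.pln (nat_lit 0) (nat_lit 3) (BT.fix (nat_lit 257) (BT.dif (nat_lit 1) (nat_lit 0) (BT.br (nat_lit 0) (nat_lit 229) [nat_lit 1] (BT.dead (nat_lit 229) (BT.pln (nat_lit 4) (nat_lit 1) (BT.fix (nat_lit 0x10101010101) (BT.and (nat_lit 1) (nat_lit 0) (BT.dif (nat_lit 0) (nat_lit 5) (BT.br (nat_lit 0) (nat_lit 292) [nat_lit 3] (BT.dead (nat_lit 268) (BT.dif (nat_lit 13) (nat_lit 3) (BT.dif (nat_lit 0) (nat_lit 5) (BT.pln (nat_lit 11) (nat_lit 2) (BT.dif (nat_lit 1) (nat_lit 0) (BT.img (nat_lit 1) (nat_lit 9) (BT.frm (nat_lit 1) (nat_lit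 0x19331507011d) (nat_lit 0x391507011d) [nat_lit 5, nat_lit 0, nat_lit 10, nat_lit 15] (BT.pln (nat_lit 0) (nat_lit 4) (BT.dif (nat_lit 3) (nat_lit 0) (BT.pln (nat_lit 2) (nat_lit 5) (BT.dif (nat_lit 1) (nat_lit 0) (BT.br (nat_lit 0) (nat_lit 56) [nat_lit 6, nat_lit 1287] (BT.dead (nat_lit 29) (BT.frm (nat_lit 2) (nat_lit 0x3f3e19331507011d) (nat_lit 0x3d3f3e391507011d) [nat_lit 0, nat_lit 11, nat_lit 6, nat_lit 16, nat_lit 21] (BT.pln (nat_lit 0) (nat_lit 5) (BT.img (nat_lit 1) (nat_lit 2) (BT.img (nat_lit 1) (nat_lit 0) (BT.img (nat_lit 1) (nat_lit 0) (BT.img (nat_lit 1) (nat_lit 0) (BT.and (nat_lit 4) (nat_lit 0) (BT.cnt (nat_lit 0))))))))) (BT.dead (nat_lit 1) (BT.frm (nat_lit 2) (nat_lit 0x3f3e19331507011d) (nat_lit 0x3e3f3e391507011d) [nat_lit 0, nat_lit 11, nat_lit 6, nat_lit 16, nat_lit 21] (BT.pln (nat_lit 0) (nat_lit 5) (BT.img (nat_lit 1) (nat_lit 2) (BT.img (nat_lit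 1) (nat_lit 0) (BT.img (nat_lit 1) (nat_lit 0) (BT.img (nat_lit 1) (nat_lit 0) (BT.and (nat_lit 4) (nat_lit 0) (BT.cnt (nat_lit 0))))))))) (BT.dead (nat_lit 47) (BT.frm (nat_lit 2) (nat_lit 0x3f3e19331507011d) (nat_lit 0x3f3e391507011d) [nat_lit 0, nat_lit 11, nat_lit 6, nat_lit 16, nat_lit 21] (BT.pln (nat_lit 0) (nat_lit 5) (BT.img (nat_lit 1) (nat_lit 2) (BT.img (nat_lit 1) (nat_lit 0) (BT.img (nat_lit 1) (nat_lit 0) (BT.img (nat_lit 1) (nat_lit 0) (BT.and (nat_lit 4) (nat_lit 0) (BT.cnt (nat_lit 0))))))))) BT.nil)))))))))))))) (BT.dead (nat_lit 98) (BT.dif (nat_lit 13) (nat_lit 3) (BT.dif (nat_lit 0) (nat_lit 5) (BT.pln (nat_lit 11) (nat_lit 2) (BT.dif (nat_lit 1) (nat_lit 0) (BT.img (nat_lit 1) (nat_lit 9) (BT.frm (nat_lit 1) (nat_lit 0x19331507011d) (nat_lit 0x1a2b1507011d) [nat_lit 5, nat_lit 0, nat_lit 10, nat_lit 15] (BT.pln (nat_lit 0) (nat_lit 4) (BT.dif (nat_lit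 3) (nat_lit 0) (BT.pln (nat_lit 2) (nat_lit 5) (BT.dif (nat_lit 1) (nat_lit 0) (BT.br (nat_lit 0) (nat_lit 56) [nat_lit 7, nat_lit 5] (BT.dead (nat_lit 83) (BT.frm (nat_lit 2) (nat_lit 0x3f3e19331507011d) (nat_lit 0x3e403e1a2b1507011d) [nat_lit 0, nat_lit 11, nat_lit 6, nat_lit 16, nat_lit 21] (BT.pln (nat_lit 0) (nat_lit 5) (BT.img (nat_lit 1) (nat_lit 2) (BT.img (nat_lit 1) (nat_lit 0) (BT.img (nat_lit 1) (nat_lit 0) (BT.and (nat_lit 3) (nat_lit 0) (BT.cnt (nat_lit 0)))))))) (BT.dead (nat_lit 56) (BT.frm (nat_lit 2) (nat_lit 0x3f3e19331507011d) (nat_lit 0x403d3f1a2b1507011d) [nat_lit 0, nat_lit 11, nat_lit 6, nat_lit 16, nat_lit 21] (BT.pln (nat_lit 0) (nat_lit 5) (BT.img (nat_lit 1) (nat_lit 2) (BT.img (nat_lit 1) (nat_lit 0) (BT.img (nat_lit 1) (nat_lit 0) (BT.and (nat_lit 3) (nat_lit 0) (BT.cnt (nat_lit 0)))))))) (BT.dead (nat_lit 60) (BT.frm (nat_lit 2) (nat_lit 0x3f3e19331507011d)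 (nat_lit 0x3e1a2b1507011d) [nat_lit 0, nat_lit 11, nat_lit 6, nat_lit 16, nat_lit 21] (BT.pln (nat_lit 0) (nat_lit 5) (BT.img (nat_lit 1) (nat_lit 2) (BT.img (nat_lit 1) (nat_lit 0) (BT.img (nat_lit 1) (nat_lit 0) (BT.and (nat_lit 3) (nat_lit 0) (BT.cnt (nat_lit 0)))))))) BT.nil)))))))))))))) (BT.dead (nat_lit 278) (BT.img (nat_lit 1) (nat_lit 5) (BT.frm (nat_lit 1) (nat_lit 0x19331507011d) (nat_lit 0x191b1507011d) [nat_lit 1, nat_lit 0, nat_lit 6, nat_lit 11] (BT.pln (nat_lit 0) (nat_lit 4) (BT.and (nat_lit 0) (nat_lit 10) (BT.cnt (nat_lit 0)))))) (BT.dead (nat_lit 292) (BT.img (nat_lit 1) (nat_lit 5) (BT.frm (nat_lit 1) (nat_lit 0x19331507011d) (nat_lit 0x19331507011d) [nat_lit 1, nat_lit 0, nat_lit 6, nat_lit 11] (BT.pln (nat_lit 0) (nat_lit 4) (BT.and (nat_lit 0) (nat_lit 10) (BT.cnt (nat_lit 0)))))) BT.nil))))))))) BT.nil)))))))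

theorem yt_nc127_126_cnt : Cnt 324 (grp 324 y_E0) [z_g1339] [z_g1334] 0 0 0 0 0 :=
  BT.sound yt_nc127_126_cnt_P Known.nil (t := yt_nc127_126_cnt_t) (d := 0) (by decide +kernel)

theorem yt_nc127_126 : ¬ CjIn (grp 324 y_E0) (Net.toPerm 324 z_g1339) (Net.toPerm 324 z_g1334) :=
  not_cjIn yt_nc127_126_cnt

noncomputable def yt_nc130_128_cnt_L : List ℕ := [1, 4, z_T111_s1_O, 0, 0]

theorem yt_nc130_128_cnt_P : Prob 324 9 (grp 324 y_E0) yt_nc130_128_cnt_EG [z_g1356] [z_g1343] yt_c128_K yt_nc130_128_cnt_L 0 0 :=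
  Sym.prob z_hn z_hk yt_c128_sym yt_nc130_128_cnt_EG_ok (grp_cons_le z_g39_z_T111 (grp_cons_le zg1_z_T111 (grp_cons_le zg3_z_T111 (grp_cons_le z_g43_z_T111 (grp_cons_le z_g42_z_T111 (grp_cons_le zg2_z_T111 (grp_cons_le z_g44_z_T111 (grp_cons_le z_g54_z_T111 (grp_cons_le z_g55_z_T111 (grp_cons_le z_g49_z_T111 (grp_cons_le z_g50_z_T111 (grp_cons_le z_g51_z_T111 (grp_cons_le z_g62_z_T111 (grp_cons_le z_g58_z_T111 (grp_cons_le z_g59_z_T111 (grp_cons_le z_g65_z_T111 (grp_cons_le z_g66_z_T111 (grp_cons_le z_g67_z_T111 (grp_cons_le z_g77_z_T111 (grp_cons_le z_g78_z_T111 (grp_cons_le z_g72_z_T111 (grp_cons_le z_g73_z_T111 (grp_cons_le z_g74_z_T111 (grp_cons_le z_g81_z_T111 (grp_cons_le z_g82_z_T111 (grp_cons_le z_g87_z_T111 (grp_cons_le zg0_z_T111 (grp_cons_le z_g91_z_T111 (grp_cons_le z_g28_z_T111 (grp_cons_le z_g88_z_T111 (grp_nil_le _))))))))))))))))))))))))))))))) (Frames.cons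 z_T111_s1_F Frames.nil) (okE_cons.2 ⟨z_g1356_ok, okE_nil _⟩) _

noncomputable def yt_nc130_128_cnt_t : BT := (BT.fix (nat_lit 0x10101010101010101) (BT.fix (nat_lit 65793) (BT.dif (nat_lit 1) (nat_lit 0) (BT.br (nat_lit 0) (nat_lit 138) [nat_lit 1] (BT.dead (nat_lit 118) (BT.frm (nat_lit 0) (nat_lit 1337) (nat_lit 297) [nat_lit 0] (BT.pln (nat_lit 0) (nat_lit 1) (BT.and (nat_lit 0) (nat_lit 4) (BT.cnt (nat_lit 0))))) BT.nil)))))

theorem yt_nc130_128_cnt : Cnt 324 (grp 324 y_E0) [z_g1356] [z_g1343] 0 0 0 0 0 :=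
  BT.sound yt_nc130_128_cnt_P Known.nil (t := yt_nc130_128_cnt_t) (d := 0) (by decide +kernel)

theorem yt_nc130_128 : ¬ CjIn (grp 324 y_E0) (Net.toPerm 324 z_g1356) (Net.toPerm 324 z_g1343) :=
  not_cjIn yt_nc130_128_cnt

noncomputable def yt_nc131_128_cnt_L : List ℕ := [1, 4, z_T111_s1_O, 0, 0, 5, 12, z_T111_s187_O, 0, 0, 6, 15, z_T111_s188_O, 1, 0]

theorem yt_nc131_128_cnt_P : Prob 324 9 (grp 324 y_E0) yt_nc131_128_cnt_EG [z_g1360] [z_g1343] yt_c128_K yt_nc131_128_cnt_L 0 0 :=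
  Sym.prob z_hn z_hk yt_c128_sym yt_nc131_128_cnt_EG_ok (grp_cons_le z_g39_z_T111 (grp_cons_le zg1_z_T111 (grp_cons_le zg3_z_T111 (grp_cons_le z_g43_z_T111 (grp_cons_le z_g42_z_T111 (grp_cons_le zg2_z_T111 (grp_cons_le z_g44_z_T111 (grp_cons_le z_g54_z_T111 (grp_cons_le z_g55_z_T111 (grp_cons_le z_g49_z_T111 (grp_cons_le z_g50_z_T111 (grp_cons_le z_g51_z_T111 (grp_cons_le z_g62_z_T111 (grp_cons_le z_g58_z_T111 (grp_cons_le z_g59_z_T111 (grp_cons_le z_g65_z_T111 (grp_cons_le z_g66_z_T111 (grp_cons_le z_g67_z_T111 (grp_cons_le z_g77_z_T111 (grp_cons_le z_g78_z_T111 (grp_cons_le z_g72_z_T111 (grp_cons_le z_g73_z_T111 (grp_cons_le z_g74_z_T111 (grp_cons_le z_g81_z_T111 (grp_cons_le z_g82_z_T111 (grp_cons_le z_g87_z_T111 (grp_cons_le zg0_z_T111 (grp_cons_le z_g91_z_T111 (grp_cons_le z_g28_z_T111 (grp_cons_le z_g88_z_T111 (grp_cons_le z_g1346_z_T111 (grp_cons_le z_g465_z_T111 (grp_cons_le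 z_g1347_z_T111 (grp_cons_le z_g1348_z_T111 (grp_cons_le z_g1152_z_T111 (grp_cons_le z_g1153_z_T111 (grp_cons_le z_g1154_z_T111 (grp_cons_le z_g1155_z_T111 (grp_cons_le z_g1150_z_T111 (grp_cons_le z_g1156_z_T111 (grp_nil_le _))))))))))))))))))))))))))))))))))))))))) (Frames.cons z_T111_s1_F (Frames.cons z_T111_s187_F (Frames.cons z_T111_s188_F Frames.nil))) (okE_cons.2 ⟨z_g1360_ok, okE_nil _⟩) _

noncomputable def yt_nc131_128_cnt_t : BT := (BT.fix (nat_lit 0x10101010101010101) (BT.fix (nat_lit 65793) (BT.dif (nat_lit 1) (nat_lit 0) (BT.br (nat_lit 0) (nat_lit 92) [nat_lit 1] (BT.dead (nat_lit 118) (BT.frm (nat_lit 0) (nat_lit 65810) (nat_lit 297) [nat_lit 0] (BT.pln (nat_lit 0) (nat_lit 3) (BT.dif (nat_lit 0) (nat_lit 5) (BT.br (nat_lit 0) (nat_lit 293) [nat_lit 3] (BT.dead (nat_lit 102) (BT.pln (nat_lit 3) (nat_lit 1) (BT.dif (nat_lit 11) (nat_lit 0) (BT.pln (nat_lit 5) (nat_lit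 2) (BT.dif (nat_lit 1) (nat_lit 0) (BT.img (nat_lit 1) (nat_lit 8) (BT.img (nat_lit 1) (nat_lit 0) (BT.img (nat_lit 1) (nat_lit 0) (BT.frm (nat_lit 1) (nat_lit 0x3d454d2109010112) (nat_lit 0x3d464d0f3c07150129) [nat_lit 7, nat_lit 1, nat_lit 2, nat_lit 0, nat_lit 11] (BT.pln (nat_lit 0) (nat_lit 8) (BT.dif (nat_lit 5) (nat_lit 0) (BT.pln (nat_lit 2) (nat_lit 7) (BT.dif (nat_lit 1) (nat_lit 0) (BT.pln (nat_lit 4) (nat_lit 5) (BT.dif (nat_lit 1) (nat_lit 0) (BT.pln (nat_lit 6) (nat_lit 9) (BT.and (nat_lit 1) (nat_lit 0) (BT.br (nat_lit 0) (nat_lit 48) [nat_lit 6] (BT.dead (nat_lit 228) (BT.frm (nat_lit 2) (nat_lit 0x443d454d2109010112) (nat_lit 0x41433d464d0f3c07150129) [nat_lit 0, nat_lit 17, nat_lit 11, nat_lit 12, nat_lit 10, nat_lit 21] (BT.pln (nat_lit 0) (nat_lit 6) (BT.img (nat_lit 1) (nat_lit 2) (BT.img (nat_lit 1) (nat_lit 0) (BT.and (nat_lit 2) (nat_lit 0) (BT.cnt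 (nat_lit 0))))))) (BT.dead (nat_lit 98) (BT.frm (nat_lit 2) (nat_lit 0x443d454d2109010112) (nat_lit 0x413d464d0f3c07150129) [nat_lit 0, nat_lit 17, nat_lit 11, nat_lit 12, nat_lit 10, nat_lit 21] (BT.pln (nat_lit 0) (nat_lit 6) (BT.img (nat_lit 1) (nat_lit 2) (BT.img (nat_lit 1) (nat_lit 0) (BT.and (nat_lit 2) (nat_lit 0) (BT.cnt (nat_lit 0))))))) (BT.dead (nat_lit 101) (BT.frm (nat_lit 2) (nat_lit 0x443d454d2109010112) (nat_lit 0x443d464d0f3c07150129) [nat_lit 0, nat_lit 17, nat_lit 11, nat_lit 12, nat_lit 10, nat_lit 21] (BT.pln (nat_lit 0) (nat_lit 6) (BT.img (nat_lit 1) (nat_lit 2) (BT.and (nat_lit 1) (nat_lit 0) (BT.cnt (nat_lit 0)))))) BT.nil)))))))))))))))))))) (BT.dead (nat_lit 59) (BT.img (nat_lit 1) (nat_lit 4) (BT.img (nat_lit 1) (nat_lit 0) (BT.img (nat_lit 1) (nat_lit 0) (BT.frm (nat_lit 1) (nat_lit 0x3d454d2109010112) (nat_lit 0x3d3f464d0f3c07150129) [nat_lit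 3, nat_lit 1, nat_lit 2, nat_lit 0, nat_lit 7] (BT.pln (nat_lit 0) (nat_lit 5) (BT.img (nat_lit 1) (nat_lit 5) (BT.and (nat_lit 1) (nat_lit 0) (BT.cnt (nat_lit 0))))))))) (BT.dead (nat_lit 276) (BT.img (nat_lit 1) (nat_lit 4) (BT.img (nat_lit 1) (nat_lit 0) (BT.img (nat_lit 1) (nat_lit 0) (BT.frm (nat_lit 1) (nat_lit 0x3d454d2109010112) (nat_lit 0x40464d0f3c07150129) [nat_lit 3, nat_lit 1, nat_lit 2, nat_lit 0, nat_lit 7] (BT.pln (nat_lit 0) (nat_lit 5) (BT.img (nat_lit 1) (nat_lit 5) (BT.and (nat_lit 1) (nat_lit 0) (BT.cnt (nat_lit 0))))))))) BT.nil))))))) BT.nil)))))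

theorem yt_nc131_128_cnt : Cnt 324 (grp 324 y_E0) [z_g1360] [z_g1343] 0 0 0 0 0 :=
  BT.sound yt_nc131_128_cnt_P Known.nil (t := yt_nc131_128_cnt_t) (d := 0) (by decide +kernel)

theorem yt_nc131_128 : ¬ CjIn (grp 324 y_E0) (Net.toPerm 324 z_g1360) (Net.toPerm 324 z_g1343) :=
  not_cjIn yt_nc131_128_cnt

noncomputable def yt_nc131_130_cnt_L : List ℕ := [1, 4, z_T111_s1_O, 0, 0]

theorem yt_nc131_130_cnt_P : Prob 324 9 (grp 324 y_E0) yt_nc131_130_cnt_EG [z_g1360] [z_g1356] yt_c130_K yt_nc131_130_cnt_L 0 0 :=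
  Sym.prob z_hn z_hk yt_c130_sym yt_nc131_130_cnt_EG_ok (grp_cons_le z_g39_z_T111 (grp_cons_le zg1_z_T111 (grp_cons_le zg3_z_T111 (grp_cons_le z_g43_z_T111 (grp_cons_le z_g42_z_T111 (grp_cons_le zg2_z_T111 (grp_cons_le z_g44_z_T111 (grp_cons_le z_g54_z_T111 (grp_cons_le z_g55_z_T111 (grp_cons_le z_g49_z_T111 (grp_cons_le z_g50_z_T111 (grp_cons_le z_g51_z_T111 (grp_cons_le z_g62_z_T111 (grp_cons_le z_g58_z_T111 (grp_cons_le z_g59_z_T111 (grp_cons_le z_g65_z_T111 (grp_cons_le z_g66_z_T111 (grp_cons_le z_g67_z_T111 (grp_cons_le z_g77_z_T111 (grp_cons_le z_g78_z_T111 (grp_cons_le z_g72_z_T111 (grp_cons_le z_g73_z_T111 (grp_cons_le z_g74_z_T111 (grp_cons_le z_g81_z_T111 (grp_cons_le z_g82_z_T111 (grp_cons_le z_g87_z_T111 (grp_cons_le zg0_z_T111 (grp_cons_le z_g91_z_T111 (grp_cons_le z_g28_z_T111 (grp_cons_le z_g88_z_T111 (grp_nil_le _))))))))))))))))))))))))))))))) (Frames.cons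 z_T111_s1_F Frames.nil) (okE_cons.2 ⟨z_g1360_ok, okE_nil _⟩) _

noncomputable def yt_nc131_130_cnt_t : BT := (BT.fix (nat_lit 0x10101010101010101) (BT.fix (nat_lit 65793) (BT.dif (nat_lit 1) (nat_lit 0) (BT.br (nat_lit 0) (nat_lit 92) [nat_lit 1] (BT.dead (nat_lit 138) (BT.frm (nat_lit 0) (nat_lit 65810) (nat_lit 1337) [nat_lit 0] (BT.pln (nat_lit 0) (nat_lit 1) (BT.and (nat_lit 0) (nat_lit 4) (BT.cnt (nat_lit 0))))) BT.nil)))))

theorem yt_nc131_130_cnt : Cnt 324 (grp 324 y_E0) [z_g1360] [z_g1356] 0 0 0 0 0 :=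
  BT.sound yt_nc131_130_cnt_P Known.nil (t := yt_nc131_130_cnt_t) (d := 0) (by decide +kernel)

theorem yt_nc131_130 : ¬ CjIn (grp 324 y_E0) (Net.toPerm 324 z_g1360) (Net.toPerm 324 z_g1356) :=
  not_cjIn yt_nc131_130_cnt

noncomputable def yt_nc133_128_cnt_L : List ℕ := [1, 4, z_T111_s1_O, 0, 0]

theorem yt_nc133_128_cnt_P : Prob 324 9 (grp 324 y_E0) yt_nc133_128_cnt_EG [z_g1367] [z_g1343] yt_c128_K yt_nc133_128_cnt_L 0 0 :=
  Sym.prob z_hn z_hk yt_c128_sym yt_nc133_128_cnt_EG_ok (grp_cons_le z_g39_z_T111 (grp_cons_le zg1_z_T111 (grp_cons_le zg3_z_T111 (grp_cons_le z_g43_z_T111 (grp_cons_le z_g42_z_T111 (grp_cons_le zg2_z_T111 (grp_cons_le z_g44_z_T111 (grp_cons_le z_g54_z_T111 (grp_cons_le z_g55_z_T111 (grp_cons_le z_g49_z_T111 (grp_cons_le z_g50_z_T111 (grp_cons_le z_g51_z_T111 (grp_cons_le z_g62_z_T111 (grp_cons_le z_g58_z_T111 (grp_cons_le z_g59_z_T111 (grp_cons_le z_g65_z_T111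 (grp_cons_le z_g66_z_T111 (grp_cons_le z_g67_z_T111 (grp_cons_le z_g77_z_T111 (grp_cons_le z_g78_z_T111 (grp_cons_le z_g72_z_T111 (grp_cons_le z_g73_z_T111 (grp_cons_le z_g74_z_T111 (grp_cons_le z_g81_z_T111 (grp_cons_le z_g82_z_T111 (grp_cons_le z_g87_z_T111 (grp_cons_le zg0_z_T111 (grp_cons_le z_g91_z_T111 (grp_cons_le z_g28_z_T111 (grp_cons_le z_g88_z_T111 (grp_nil_le _))))))))))))))))))))))))))))))) (Frames.cons z_T111_s1_F Frames.nil) (okE_cons.2 ⟨z_g1367_ok, okE_nil _⟩) _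

noncomputable def yt_nc133_128_cnt_t : BT := (BT.fix (nat_lit 0x10101010101010101) (BT.fix (nat_lit 65793) (BT.dif (nat_lit 1) (nat_lit 0) (BT.br (nat_lit 0) (nat_lit 127) [nat_lit 1] (BT.dead (nat_lit 118) (BT.frm (nat_lit 0) (nat_lit 1293) (nat_lit 297) [nat_lit 0] (BT.pln (nat_lit 0) (nat_lit 1) (BT.and (nat_lit 0) (nat_lit 4) (BT.cnt (nat_lit 0))))) BT.nil)))))

theorem yt_nc133_128_cnt : Cnt 324 (grp 324 y_E0) [z_g1367] [z_g1343] 0 0 0 0 0 :=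
  BT.sound yt_nc133_128_cnt_P Known.nil (t := yt_nc133_128_cnt_t) (d := 0) (by decide +kernel)

theorem yt_nc133_128 : ¬ CjIn (grp 324 y_E0) (Net.toPerm 324 z_g1367) (Net.toPerm 324 z_g1343) :=
  not_cjIn yt_nc133_128_cnt

noncomputable def yt_nc133_130_cnt_L : List ℕ := [1, 4, z_T111_s1_O, 0, 0, 4, 10, z_T111_s124_O, 0, 0, 5, 12, z_T111_s125_O, 0, 0, 6, 15, z_T111_s126_O, 1, 0]

theorem yt_nc133_130_cnt_P : Prob 324 9 (grp 324 y_E0) yt_nc133_130_cnt_EG [z_g1367] [z_g1356] yt_c130_K yt_nc133_130_cnt_L 0 0 :=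
  Sym.prob z_hn z_hk yt_c130_sym yt_nc133_130_cnt_EG_ok (grp_cons_le z_g39_z_T111 (grp_cons_le zg1_z_T111 (grp_cons_le zg3_z_T111 (grp_cons_le z_g43_z_T111 (grp_cons_le z_g42_z_T111 (grp_cons_le zg2_z_T111 (grp_cons_le z_g44_z_T111 (grp_cons_le z_g54_z_T111 (grp_cons_le z_g55_z_T111 (grp_cons_le z_g49_z_T111 (grp_cons_le z_g50_z_T111 (grp_cons_le z_g51_z_T111 (grp_cons_le z_g62_z_T111 (grp_cons_le z_g58_z_T111 (grp_cons_le z_g59_z_T111 (grp_cons_le z_g65_z_T111 (grp_cons_le z_g66_z_T111 (grp_cons_le z_g67_z_T111 (grp_cons_le z_g77_z_T111 (grp_cons_le z_g78_z_T111 (grp_cons_le z_g72_z_T111 (grp_cons_le z_g73_z_T111 (grp_cons_le z_g74_z_T111 (grp_cons_le z_g81_z_T111 (grp_cons_le z_g82_z_T111 (grp_cons_le z_g87_z_T111 (grp_cons_le zg0_z_T111 (grp_cons_le z_g91_z_T111 (grp_cons_le z_g28_z_T111 (grp_cons_le z_g88_z_T111 (grp_cons_le z_g818_z_T111 (grp_cons_le z_g819_z_T111 (grp_cons_le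 z_g820_z_T111 (grp_cons_le z_g821_z_T111 (grp_nil_le _))))))))))))))))))))))))))))))))))) (Frames.cons z_T111_s1_F (Frames.cons z_T111_s124_F (Frames.cons z_T111_s125_F (Frames.cons z_T111_s126_F Frames.nil)))) (okE_cons.2 ⟨z_g1367_ok, okE_nil _⟩) _

noncomputable def yt_nc133_130_cnt_t : BT := (BT.fix (nat_lit 0x10101010101010101) (BT.fix (nat_lit 65793) (BT.dif (nat_lit 1) (nat_lit 0) (BT.br (nat_lit 0) (nat_lit 127) [nat_lit 1] (BT.dead (nat_lit 138) (BT.frm (nat_lit 0) (nat_lit 1293) (nat_lit 1337) [nat_lit 0] (BT.pln (nat_lit 0) (nat_lit 3) (BT.dif (nat_lit 0) (nat_lit 5) (BT.img (nat_lit 1) (nat_lit 3) (BT.img (nat_lit 1) (nat_lit 0) (BT.img (nat_lit 1) (nat_lit 0) (BT.frm (nat_lit 1) (nat_lit 0x3d3d44181908050d) (nat_lit 0x3d4119170539) [nat_lit 1, nat_lit 2, nat_lit 0, nat_lit 6] (BT.pln (nat_lit 0) (nat_lit 4) (BT.dif (nat_lit 5) (nat_lit 0) (BT.br (nat_lit 0) (nat_lit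 134) [nat_lit 3] (BT.dead (nat_lit 316) (BT.dif (nat_lit 16) (nat_lit 2) (BT.pln (nat_lit 4) (nat_lit 6) (BT.and (nat_lit 1) (nat_lit 0) (BT.pln (nat_lit 6) (nat_lit 5) (BT.dif (nat_lit 1) (nat_lit 0) (BT.pln (nat_lit 8) (nat_lit 7) (BT.and (nat_lit 1) (nat_lit 0) (BT.pln (nat_lit 10) (nat_lit 8) (BT.dif (nat_lit 1) (nat_lit 0) (BT.frm (nat_lit 2) (nat_lit 0x3f3d3d44181908050d) (nat_lit 0x3d4119170539) [nat_lit 9, nat_lit 14, nat_lit 15, nat_lit 13, nat_lit 19] (BT.pln (nat_lit 0) (nat_lit 5) (BT.dif (nat_lit 2) (nat_lit 0) (BT.br (nat_lit 0) (nat_lit 18) [nat_lit 5] (BT.dead (nat_lit 217) (BT.frm (nat_lit 3) (nat_lit 0x443f3d3d44181908050d) (nat_lit 0x41433d4119170539) [nat_lit 0, nat_lit 13, nat_lit 18, nat_lit 19, nat_lit 17, nat_lit 23] (BT.pln (nat_lit 0) (nat_lit 6) (BT.img (nat_lit 1) (nat_lit 2) (BT.and (nat_lit 1) (nat_lit 0) (BT.cnt (nat_lit 0)))))) (BT.dead (nat_lit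 27) (BT.frm (nat_lit 3) (nat_lit 0x443f3d3d44181908050d) (nat_lit 0x423d4119170539) [nat_lit 0, nat_lit 13, nat_lit 18, nat_lit 19, nat_lit 17, nat_lit 23] (BT.pln (nat_lit 0) (nat_lit 6) (BT.img (nat_lit 1) (nat_lit 2) (BT.img (nat_lit 1) (nat_lit 0) (BT.and (nat_lit 2) (nat_lit 0) (BT.cnt (nat_lit 0))))))) (BT.dead (nat_lit 69) (BT.frm (nat_lit 3) (nat_lit 0x443f3d3d44181908050d) (nat_lit 0x443d4119170539) [nat_lit 0, nat_lit 13, nat_lit 18, nat_lit 19, nat_lit 17, nat_lit 23] (BT.pln (nat_lit 0) (nat_lit 6) (BT.img (nat_lit 1) (nat_lit 2) (BT.and (nat_lit 1) (nat_lit 0) (BT.cnt (nat_lit 0)))))) BT.nil)))))))))))))))) BT.nil))))))))))) BT.nil)))))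

theorem yt_nc133_130_cnt : Cnt 324 (grp 324 y_E0) [z_g1367] [z_g1356] 0 0 0 0 0 :=
  BT.sound yt_nc133_130_cnt_P Known.nil (t := yt_nc133_130_cnt_t) (d := 0) (by decide +kernel)

theorem yt_nc133_130 : ¬ CjIn (grp 324 y_E0) (Net.toPerm 324 z_g1367) (Net.toPerm 324 z_g1356) :=
  not_cjIn yt_nc133_130_cnt

noncomputable def yt_nc133_131_cnt_L : List ℕ := [1, 4, z_T111_s1_O, 0, 0]

theorem yt_nc133_131_cnt_P : Prob 324 9 (grp 324 y_E0) yt_nc133_131_cnt_EG [z_g1367] [z_g1360] yt_c131_K yt_nc133_131_cnt_L 0 0 :=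
  Sym.prob z_hn z_hk yt_c131_sym yt_nc133_131_cnt_EG_ok (grp_cons_le z_g39_z_T111 (grp_cons_le zg1_z_T111 (grp_cons_le zg3_z_T111 (grp_cons_le z_g43_z_T111 (grp_cons_le z_g42_z_T111 (grp_cons_le zg2_z_T111 (grp_cons_le z_g44_z_T111 (grp_cons_le z_g54_z_T111 (grp_cons_le z_g55_z_T111 (grp_cons_le z_g49_z_T111 (grp_cons_le z_g50_z_T111 (grp_cons_le z_g51_z_T111 (grp_cons_le z_g62_z_T111 (grp_cons_le z_g58_z_T111 (grp_cons_le z_g59_z_T111 (grp_cons_le z_g65_z_T111 (grp_cons_le z_g66_z_T111 (grp_cons_le z_g67_z_T111 (grp_cons_le z_g77_z_T111 (grp_cons_le z_g78_z_T111 (grp_cons_le z_g72_z_T111 (grp_cons_le z_g73_z_T111 (grp_cons_le z_g74_z_T111 (grp_cons_le z_g81_z_T111 (grp_cons_le z_g82_z_T111 (grp_cons_le z_g87_z_T111 (grp_cons_le zg0_z_T111 (grp_cons_le z_g91_z_T111 (grp_cons_le z_g28_z_T111 (grp_cons_le z_g88_z_T111 (grp_nil_le _))))))))))))))))))))))))))))))) (Frames.cons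 z_T111_s1_F Frames.nil) (okE_cons.2 ⟨z_g1367_ok, okE_nil _⟩) _

noncomputable def yt_nc133_131_cnt_t : BT := (BT.fix (nat_lit 0x10101010101010101) (BT.fix (nat_lit 65793) (BT.dif (nat_lit 1) (nat_lit 0) (BT.br (nat_lit 0) (nat_lit 127) [nat_lit 1] (BT.dead (nat_lit 92) (BT.frm (nat_lit 0) (nat_lit 1293) (nat_lit 65810) [nat_lit 0] (BT.pln (nat_lit 0) (nat_lit 1) (BT.and (nat_lit 0) (nat_lit 4) (BT.cnt (nat_lit 0))))) BT.nil)))))

theorem yt_nc133_131_cnt : Cnt 324 (grp 324 y_E0) [z_g1367] [z_g1360] 0 0 0 0 0 :=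
  BT.sound yt_nc133_131_cnt_P Known.nil (t := yt_nc133_131_cnt_t) (d := 0) (by decide +kernel)

theorem yt_nc133_131 : ¬ CjIn (grp 324 y_E0) (Net.toPerm 324 z_g1367) (Net.toPerm 324 z_g1360) :=
  not_cjIn yt_nc133_131_cnt

noncomputable def yt_nc134_128_cnt_L : List ℕ := [1, 4, z_T111_s1_O, 0, 0, 5, 12, z_T111_s187_O, 0, 0, 6, 15, z_T111_s188_O, 1, 0]

theorem yt_nc134_128_cnt_P : Prob 324 9 (grp 324 y_E0) yt_nc134_128_cnt_EG [z_g1371] [z_g1343] yt_c128_K yt_nc134_128_cnt_L 0 0 :=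
  Sym.prob z_hn z_hk yt_c128_sym yt_nc134_128_cnt_EG_ok (grp_cons_le z_g39_z_T111 (grp_cons_le zg1_z_T111 (grp_cons_le zg3_z_T111 (grp_cons_le z_g43_z_T111 (grp_cons_le z_g42_z_T111 (grp_cons_le zg2_z_T111 (grp_cons_le z_g44_z_T111 (grp_cons_le z_g54_z_T111 (grp_cons_le z_g55_z_T111 (grp_cons_le z_g49_z_T111 (grp_cons_le z_g50_z_T111 (grp_cons_le z_g51_z_T111 (grp_cons_le z_g62_z_T111 (grp_cons_le z_g58_z_T111 (grp_cons_le z_g59_z_T111 (grp_cons_le z_g65_z_T111 (grp_cons_le z_g66_z_T111 (grp_cons_le z_g67_z_T111 (grp_cons_le z_g77_z_T111 (grp_cons_le z_g78_z_T111 (grp_cons_le z_g72_z_T111 (grp_cons_le z_g73_z_T111 (grp_cons_le z_g74_z_T111 (grp_cons_le z_g81_z_T111 (grp_cons_le z_g82_z_T111 (grp_cons_le z_g87_z_T111 (grp_cons_le zg0_z_T111 (grp_cons_le z_g91_z_T111 (grp_cons_le z_g28_z_T111 (grp_cons_le z_g88_z_T111 (grp_cons_le z_g1346_z_T111 (grp_cons_le z_g465_z_T111 (grp_cons_le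 z_g1347_z_T111 (grp_cons_le z_g1348_z_T111 (grp_cons_le z_g1152_z_T111 (grp_cons_le z_g1153_z_T111 (grp_cons_le z_g1154_z_T111 (grp_cons_le z_g1155_z_T111 (grp_cons_le z_g1150_z_T111 (grp_cons_le z_g1156_z_T111 (grp_nil_le _))))))))))))))))))))))))))))))))))))))))) (Frames.cons z_T111_s1_F (Frames.cons z_T111_s187_F (Frames.cons z_T111_s188_F Frames.nil))) (okE_cons.2 ⟨z_g1371_ok, okE_nil _⟩) _

noncomputable def yt_nc134_128_cnt_t : BT := (BT.fix (nat_lit 0x10101010101010101) (BT.fix (nat_lit 65793) (BT.dif (nat_lit 1) (nat_lit 0) (BT.br (nat_lit 0) (nat_lit 1) [nat_lit 1] (BT.dead (nat_lit 118) (BT.frm (nat_lit 0) (nat_lit 777) (nat_lit 297) [nat_lit 0] (BT.pln (nat_lit 0) (nat_lit 3) (BT.dif (nat_lit 0) (nat_lit 5) (BT.br (nat_lit 0) (nat_lit 8) [nat_lit 3] (BT.dead (nat_lit 59) (BT.pln (nat_lit 3) (nat_lit 1) (BT.dif (nat_lit 11) (nat_lit 0) (BT.pln (nat_lit 5) (nat_lit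 2) (BT.dif (nat_lit 1) (nat_lit 0) (BT.img (nat_lit 1) (nat_lit 8) (BT.img (nat_lit 1) (nat_lit 0) (BT.img (nat_lit 1) (nat_lit 0) (BT.frm (nat_lit 1) (nat_lit 0x3d3f464b0f1f070c0309) (nat_lit 0x3d3f464d0f3c07150129) [nat_lit 7, nat_lit 1, nat_lit 2, nat_lit 0, nat_lit 11] (BT.pln (nat_lit 0) (nat_lit 8) (BT.dif (nat_lit 5) (nat_lit 0) (BT.pln (nat_lit 2) (nat_lit 7) (BT.dif (nat_lit 1) (nat_lit 0) (BT.pln (nat_lit 4) (nat_lit 5) (BT.dif (nat_lit 1) (nat_lit 0) (BT.pln (nat_lit 6) (nat_lit 9) (BT.and (nat_lit 1) (nat_lit 0) (BT.br (nat_lit 0) (nat_lit 53) [nat_lit 6] (BT.dead (nat_lit 48) (BT.frm (nat_lit 2) (nat_lit 0x413d3f464b0f1f070c0309) (nat_lit 0x41433d3f464d0f3c07150129) [nat_lit 0, nat_lit 17, nat_lit 11, nat_lit 12, nat_lit 10, nat_lit 21] (BT.pln (nat_lit 0) (nat_lit 6) (BT.img (nat_lit 1) (nat_lit 2) (BT.img (nat_lit 1) (nat_lit 0) (BT.and (nat_lit 2) (nat_lit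 0) (BT.cnt (nat_lit 0))))))) (BT.dead (nat_lit 67) (BT.frm (nat_lit 2) (nat_lit 0x413d3f464b0f1f070c0309) (nat_lit 0x423d3f464d0f3c07150129) [nat_lit 0, nat_lit 17, nat_lit 11, nat_lit 12, nat_lit 10, nat_lit 21] (BT.pln (nat_lit 0) (nat_lit 6) (BT.img (nat_lit 1) (nat_lit 2) (BT.img (nat_lit 1) (nat_lit 0) (BT.and (nat_lit 2) (nat_lit 0) (BT.cnt (nat_lit 0))))))) (BT.dead (nat_lit 55) (BT.frm (nat_lit 2) (nat_lit 0x413d3f464b0f1f070c0309) (nat_lit 0x443d3f464d0f3c07150129) [nat_lit 0, nat_lit 17, nat_lit 11, nat_lit 12, nat_lit 10, nat_lit 21] (BT.pln (nat_lit 0) (nat_lit 6) (BT.img (nat_lit 1) (nat_lit 2) (BT.and (nat_lit 1) (nat_lit 0) (BT.cnt (nat_lit 0)))))) BT.nil)))))))))))))))))))) (BT.dead (nat_lit 276) (BT.img (nat_lit 1) (nat_lit 4) (BT.img (nat_lit 1) (nat_lit 0) (BT.img (nat_lit 1) (nat_lit 0) (BT.frm (nat_lit 1) (nat_lit 0x3d3f464b0f1f070c0309) (nat_lit 0x40464d0f3c07150129)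 [nat_lit 3, nat_lit 1, nat_lit 2, nat_lit 0, nat_lit 7] (BT.pln (nat_lit 0) (nat_lit 5) (BT.img (nat_lit 1) (nat_lit 5) (BT.img (nat_lit 1) (nat_lit 0) (BT.img (nat_lit 1) (nat_lit 0) (BT.img (nat_lit 1) (nat_lit 0) (BT.img (nat_lit 1) (nat_lit 0) (BT.img (nat_lit 1) (nat_lit 0) (BT.img (nat_lit 1) (nat_lit 0) (BT.and (nat_lit 7) (nat_lit 0) (BT.cnt (nat_lit 0))))))))))))))) (BT.dead (nat_lit 102) (BT.img (nat_lit 1) (nat_lit 4) (BT.img (nat_lit 1) (nat_lit 0) (BT.img (nat_lit 1) (nat_lit 0) (BT.frm (nat_lit 1) (nat_lit 0x3d3f464b0f1f070c0309) (nat_lit 0x3d464d0f3c07150129) [nat_lit 3, nat_lit 1, nat_lit 2, nat_lit 0, nat_lit 7] (BT.pln (nat_lit 0) (nat_lit 5) (BT.img (nat_lit 1) (nat_lit 5) (BT.and (nat_lit 1) (nat_lit 0) (BT.cnt (nat_lit 0))))))))) BT.nil))))))) BT.nil)))))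

theorem yt_nc134_128_cnt : Cnt 324 (grp 324 y_E0) [z_g1371] [z_g1343] 0 0 0 0 0 :=
  BT.sound yt_nc134_128_cnt_P Known.nil (t := yt_nc134_128_cnt_t) (d := 0) (by decide +kernel)

theorem yt_nc134_128 : ¬ CjIn (grp 324 y_E0) (Net.toPerm 324 z_g1371) (Net.toPerm 324 z_g1343) :=
  not_cjIn yt_nc134_128_cnt

noncomputable def yt_nc134_130_cnt_L : List ℕ := [1, 4, z_T111_s1_O, 0, 0]

theorem yt_nc134_130_cnt_P : Prob 324 9 (grp 324 y_E0) yt_nc134_130_cnt_EG [z_g1371] [z_g1356] yt_c130_K yt_nc134_130_cnt_L 0 0 :=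
  Sym.prob z_hn z_hk yt_c130_sym yt_nc134_130_cnt_EG_ok (grp_cons_le z_g39_z_T111 (grp_cons_le zg1_z_T111 (grp_cons_le zg3_z_T111 (grp_cons_le z_g43_z_T111 (grp_cons_le z_g42_z_T111 (grp_cons_le zg2_z_T111 (grp_cons_le z_g44_z_T111 (grp_cons_le z_g54_z_T111 (grp_cons_le z_g55_z_T111 (grp_cons_le z_g49_z_T111 (grp_cons_le z_g50_z_T111 (grp_cons_le z_g51_z_T111 (grp_cons_le z_g62_z_T111 (grp_cons_le z_g58_z_T111 (grp_cons_le z_g59_z_T111 (grp_cons_le z_g65_z_T111 (grp_cons_le z_g66_z_T111 (grp_cons_le z_g67_z_T111 (grp_cons_le z_g77_z_T111 (grp_cons_le z_g78_z_T111 (grp_cons_le z_g72_z_T111 (grp_cons_le z_g73_z_T111 (grp_cons_le z_g74_z_T111 (grp_cons_le z_g81_z_T111 (grp_cons_le z_g82_z_T111 (grp_cons_le z_g87_z_T111 (grp_cons_le zg0_z_T111 (grp_cons_le z_g91_z_T111 (grp_cons_le z_g28_z_T111 (grp_cons_le z_g88_z_T111 (grp_nil_le _))))))))))))))))))))))))))))))) (Frames.cons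 z_T111_s1_F Frames.nil) (okE_cons.2 ⟨z_g1371_ok, okE_nil _⟩) _

noncomputable def yt_nc134_130_cnt_t : BT := (BT.fix (nat_lit 0x10101010101010101) (BT.fix (nat_lit 65793) (BT.dif (nat_lit 1) (nat_lit 0) (BT.br (nat_lit 0) (nat_lit 1) [nat_lit 1] (BT.dead (nat_lit 138) (BT.frm (nat_lit 0) (nat_lit 777) (nat_lit 1337) [nat_lit 0] (BT.pln (nat_lit 0) (nat_lit 1) (BT.and (nat_lit 0) (nat_lit 4) (BT.cnt (nat_lit 0))))) BT.nil)))))

theorem yt_nc134_130_cnt : Cnt 324 (grp 324 y_E0) [z_g1371] [z_g1356] 0 0 0 0 0 :=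
  BT.sound yt_nc134_130_cnt_P Known.nil (t := yt_nc134_130_cnt_t) (d := 0) (by decide +kernel)

theorem yt_nc134_130 : ¬ CjIn (grp 324 y_E0) (Net.toPerm 324 z_g1371) (Net.toPerm 324 z_g1356) :=
  not_cjIn yt_nc134_130_cnt

noncomputable def yt_nc134_131_cnt_L : List ℕ := [1, 4, z_T111_s1_O, 0, 0, 5, 12, z_T111_s187_O, 0, 0, 6, 15, z_T111_s188_O, 1, 0]

theorem yt_nc134_131_cnt_P : Prob 324 9 (grp 324 y_E0) yt_nc134_131_cnt_EG [z_g1371] [z_g1360] yt_c131_K yt_nc134_131_cnt_L 0 0 :=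
  Sym.prob z_hn z_hk yt_c131_sym yt_nc134_131_cnt_EG_ok (grp_cons_le z_g39_z_T111 (grp_cons_le zg1_z_T111 (grp_cons_le zg3_z_T111 (grp_cons_le z_g43_z_T111 (grp_cons_le z_g42_z_T111 (grp_cons_le zg2_z_T111 (grp_cons_le z_g44_z_T111 (grp_cons_le z_g54_z_T111 (grp_cons_le z_g55_z_T111 (grp_cons_le z_g49_z_T111 (grp_cons_le z_g50_z_T111 (grp_cons_le z_g51_z_T111 (grp_cons_le z_g62_z_T111 (grp_cons_le z_g58_z_T111 (grp_cons_le z_g59_z_T111 (grp_cons_le z_g65_z_T111 (grp_cons_le z_g66_z_T111 (grp_cons_le z_g67_z_T111 (grp_cons_le z_g77_z_T111 (grp_cons_le z_g78_z_T111 (grp_cons_le z_g72_z_T111 (grp_cons_le z_g73_z_T111 (grp_cons_le z_g74_z_T111 (grp_cons_le z_g81_z_T111 (grp_cons_le z_g82_z_T111 (grp_cons_le z_g87_z_T111 (grp_cons_le zg0_z_T111 (grp_cons_le z_g91_z_T111 (grp_cons_le z_g28_z_T111 (grp_cons_le z_g88_z_T111 (grp_cons_le z_g1346_z_T111 (grp_cons_le z_g465_z_T111 (grp_cons_le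 z_g1347_z_T111 (grp_cons_le z_g1348_z_T111 (grp_cons_le z_g1152_z_T111 (grp_cons_le z_g1153_z_T111 (grp_cons_le z_g1154_z_T111 (grp_cons_le z_g1155_z_T111 (grp_cons_le z_g1150_z_T111 (grp_cons_le z_g1156_z_T111 (grp_nil_le _))))))))))))))))))))))))))))))))))))))))) (Frames.cons z_T111_s1_F (Frames.cons z_T111_s187_F (Frames.cons z_T111_s188_F Frames.nil))) (okE_cons.2 ⟨z_g1371_ok, okE_nil _⟩) _

noncomputable def yt_nc134_131_cnt_t : BT := (BT.fix (nat_lit 0x10101010101010101) (BT.fix (nat_lit 65793) (BT.dif (nat_lit 1) (nat_lit 0) (BT.br (nat_lit 0) (nat_lit 1) [nat_lit 1] (BT.dead (nat_lit 92) (BT.frm (nat_lit 0) (nat_lit 777) (nat_lit 65810) [nat_lit 0] (BT.pln (nat_lit 0) (nat_lit 3) (BT.dif (nat_lit 0) (nat_lit 5) (BT.br (nat_lit 0) (nat_lit 8) [nat_lit 3] (BT.dead (nat_lit 110) (BT.pln (nat_lit 3) (nat_lit 1) (BT.dif (nat_lit 11) (nat_lit 0) (BT.pln (nat_lit 5) (nat_lit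 2) (BT.dif (nat_lit 1) (nat_lit 0) (BT.img (nat_lit 1) (nat_lit 8) (BT.img (nat_lit 1) (nat_lit 0) (BT.img (nat_lit 1) (nat_lit 0) (BT.frm (nat_lit 1) (nat_lit 0x3d3f464b0f1f070c0309) (nat_lit 0x454d2109010112) [nat_lit 7, nat_lit 1, nat_lit 2, nat_lit 0, nat_lit 11] (BT.pln (nat_lit 0) (nat_lit 8) (BT.dif (nat_lit 5) (nat_lit 0) (BT.pln (nat_lit 2) (nat_lit 7) (BT.dif (nat_lit 1) (nat_lit 0) (BT.pln (nat_lit 4) (nat_lit 5) (BT.dif (nat_lit 1) (nat_lit 0) (BT.pln (nat_lit 6) (nat_lit 9) (BT.and (nat_lit 1) (nat_lit 0) (BT.br (nat_lit 0) (nat_lit 53) [nat_lit 6] (BT.dead (nat_lit 217) (BT.frm (nat_lit 2) (nat_lit 0x413d3f464b0f1f070c0309) (nat_lit 0x42454d2109010112) [nat_lit 0, nat_lit 17, nat_lit 11, nat_lit 12, nat_lit 10, nat_lit 21] (BT.pln (nat_lit 0) (nat_lit 6) (BT.img (nat_lit 1) (nat_lit 2) (BT.img (nat_lit 1) (nat_lit 0) (BT.and (nat_lit 2) (nat_lit 0) (BT.cnt (nat_lit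 0))))))) (BT.dead (nat_lit 69) (BT.frm (nat_lit 2) (nat_lit 0x413d3f464b0f1f070c0309) (nat_lit 0x41454d2109010112) [nat_lit 0, nat_lit 17, nat_lit 11, nat_lit 12, nat_lit 10, nat_lit 21] (BT.pln (nat_lit 0) (nat_lit 6) (BT.img (nat_lit 1) (nat_lit 2) (BT.img (nat_lit 1) (nat_lit 0) (BT.and (nat_lit 2) (nat_lit 0) (BT.cnt (nat_lit 0))))))) (BT.dead (nat_lit 27) (BT.frm (nat_lit 2) (nat_lit 0x413d3f464b0f1f070c0309) (nat_lit 0x454d2109010112) [nat_lit 0, nat_lit 17, nat_lit 11, nat_lit 12, nat_lit 10, nat_lit 21] (BT.pln (nat_lit 0) (nat_lit 6) (BT.img (nat_lit 1) (nat_lit 2) (BT.img (nat_lit 1) (nat_lit 0) (BT.and (nat_lit 2) (nat_lit 0) (BT.cnt (nat_lit 0))))))) BT.nil)))))))))))))))))))) (BT.dead (nat_lit 203) (BT.img (nat_lit 1) (nat_lit 4) (BT.img (nat_lit 1) (nat_lit 0) (BT.img (nat_lit 1) (nat_lit 0) (BT.frm (nat_lit 1) (nat_lit 0x3d3f464b0f1f070c0309) (nat_lit 0x3d40454d2109010112)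 [nat_lit 3, nat_lit 1, nat_lit 2, nat_lit 0, nat_lit 7] (BT.pln (nat_lit 0) (nat_lit 5) (BT.img (nat_lit 1) (nat_lit 5) (BT.img (nat_lit 1) (nat_lit 0) (BT.img (nat_lit 1) (nat_lit 0) (BT.img (nat_lit 1) (nat_lit 0) (BT.img (nat_lit 1) (nat_lit 0) (BT.img (nat_lit 1) (nat_lit 0) (BT.img (nat_lit 1) (nat_lit 0) (BT.and (nat_lit 7) (nat_lit 0) (BT.cnt (nat_lit 0))))))))))))))) (BT.dead (nat_lit 293) (BT.img (nat_lit 1) (nat_lit 4) (BT.img (nat_lit 1) (nat_lit 0) (BT.img (nat_lit 1) (nat_lit 0) (BT.frm (nat_lit 1) (nat_lit 0x3d3f464b0f1f070c0309) (nat_lit 0x3d454d2109010112) [nat_lit 3, nat_lit 1, nat_lit 2, nat_lit 0, nat_lit 7] (BT.pln (nat_lit 0) (nat_lit 5) (BT.img (nat_lit 1) (nat_lit 5) (BT.and (nat_lit 1) (nat_lit 0) (BT.cnt (nat_lit 0))))))))) BT.nil))))))) BT.nil)))))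

theorem yt_nc134_131_cnt : Cnt 324 (grp 324 y_E0) [z_g1371] [z_g1360] 0 0 0 0 0 :=
  BT.sound yt_nc134_131_cnt_P Known.nil (t := yt_nc134_131_cnt_t) (d := 0) (by decide +kernel)

theorem yt_nc134_131 : ¬ CjIn (grp 324 y_E0) (Net.toPerm 324 z_g1371) (Net.toPerm 324 z_g1360) :=
  not_cjIn yt_nc134_131_cnt

noncomputable def yt_nc134_133_cnt_L : List ℕ := [1, 4, z_T111_s1_O, 0, 0]

theorem yt_nc134_133_cnt_P : Prob 324 9 (grp 324 y_E0) yt_nc134_133_cnt_EG [z_g1371] [z_g1367] yt_c133_K yt_nc134_133_cnt_L 0 0 :=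
  Sym.prob z_hn z_hk yt_c133_sym yt_nc134_133_cnt_EG_ok (grp_cons_le z_g39_z_T111 (grp_cons_le zg1_z_T111 (grp_cons_le zg3_z_T111 (grp_cons_le z_g43_z_T111 (grp_cons_le z_g42_z_T111 (grp_cons_le zg2_z_T111 (grp_cons_le z_g44_z_T111 (grp_cons_le z_g54_z_T111 (grp_cons_le z_g55_z_T111 (grp_cons_le z_g49_z_T111 (grp_cons_le z_g50_z_T111 (grp_cons_le z_g51_z_T111 (grp_cons_le z_g62_z_T111 (grp_cons_le z_g58_z_T111 (grp_cons_le z_g59_z_T111 (grp_cons_le z_g65_z_T111 (grp_cons_le z_g66_z_T111 (grp_cons_le z_g67_z_T111 (grp_cons_le z_g77_z_T111 (grp_cons_le z_g78_z_T111 (grp_cons_le z_g72_z_T111 (grp_cons_le z_g73_z_T111 (grp_cons_le z_g74_z_T111 (grp_cons_le z_g81_z_T111 (grp_cons_le z_g82_z_T111 (grp_cons_le z_g87_z_T111 (grp_cons_le zg0_z_T111 (grp_cons_le z_g91_z_T111 (grp_cons_le z_g28_z_T111 (grp_cons_le z_g88_z_T111 (grp_nil_le _))))))))))))))))))))))))))))))) (Frames.cons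 z_T111_s1_F Frames.nil) (okE_cons.2 ⟨z_g1371_ok, okE_nil _⟩) _

noncomputable def yt_nc134_133_cnt_t : BT := (BT.fix (nat_lit 0x10101010101010101) (BT.fix (nat_lit 65793) (BT.dif (nat_lit 1) (nat_lit 0) (BT.br (nat_lit 0) (nat_lit 1) [nat_lit 1] (BT.dead (nat_lit 127) (BT.frm (nat_lit 0) (nat_lit 777) (nat_lit 1293) [nat_lit 0] (BT.pln (nat_lit 0) (nat_lit 1) (BT.and (nat_lit 0) (nat_lit 4) (BT.cnt (nat_lit 0))))) BT.nil)))))

theorem yt_nc134_133_cnt : Cnt 324 (grp 324 y_E0) [z_g1371] [z_g1367] 0 0 0 0 0 :=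
  BT.sound yt_nc134_133_cnt_P Known.nil (t := yt_nc134_133_cnt_t) (d := 0) (by decide +kernel)

theorem yt_nc134_133 : ¬ CjIn (grp 324 y_E0) (Net.toPerm 324 z_g1371) (Net.toPerm 324 z_g1367) :=
  not_cjIn yt_nc134_133_cnt

noncomputable def yt_nc135_128_cnt_L : List ℕ := [1, 4, z_T111_s1_O, 0, 0]

theorem yt_nc135_128_cnt_P : Prob 324 9 (grp 324 y_E0) yt_nc135_128_cnt_EG [z_g1375] [z_g1343] yt_c128_K yt_nc135_128_cnt_L 0 0 :=
  Sym.prob z_hn z_hk yt_c128_sym yt_nc135_128_cnt_EG_ok (grp_cons_le z_g39_z_T111 (grp_cons_le zg1_z_T111 (grp_cons_le zg3_z_T111 (grp_cons_le z_g43_z_T111 (grp_cons_le z_g42_z_T111 (grp_cons_le zg2_z_T111 (grp_cons_le z_g44_z_T111 (grp_cons_le z_g54_z_T111 (grp_cons_le z_g55_z_T111 (grp_cons_le z_g49_z_T111 (grp_cons_le z_g50_z_T111 (grp_cons_le z_g51_z_T111 (grp_cons_le z_g62_z_T111 (grp_cons_le z_g58_z_T111 (grp_cons_le z_g59_z_T111 (grp_cons_le z_g65_z_T111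 (grp_cons_le z_g66_z_T111 (grp_cons_le z_g67_z_T111 (grp_cons_le z_g77_z_T111 (grp_cons_le z_g78_z_T111 (grp_cons_le z_g72_z_T111 (grp_cons_le z_g73_z_T111 (grp_cons_le z_g74_z_T111 (grp_cons_le z_g81_z_T111 (grp_cons_le z_g82_z_T111 (grp_cons_le z_g87_z_T111 (grp_cons_le zg0_z_T111 (grp_cons_le z_g91_z_T111 (grp_cons_le z_g28_z_T111 (grp_cons_le z_g88_z_T111 (grp_nil_le _))))))))))))))))))))))))))))))) (Frames.cons z_T111_s1_F Frames.nil) (okE_cons.2 ⟨z_g1375_ok, okE_nil _⟩) _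

noncomputable def yt_nc135_128_cnt_t : BT := (BT.fix (nat_lit 0x10101010101010101) (BT.fix (nat_lit 65793) (BT.dif (nat_lit 1) (nat_lit 0) (BT.br (nat_lit 0) (nat_lit 31) [nat_lit 1] (BT.dead (nat_lit 118) (BT.frm (nat_lit 0) (nat_lit 328208) (nat_lit 297) [nat_lit 0] (BT.pln (nat_lit 0) (nat_lit 1) (BT.and (nat_lit 0) (nat_lit 4) (BT.cnt (nat_lit 0))))) BT.nil)))))

theorem yt_nc135_128_cnt : Cnt 324 (grp 324 y_E0) [z_g1375] [z_g1343] 0 0 0 0 0 :=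
  BT.sound yt_nc135_128_cnt_P Known.nil (t := yt_nc135_128_cnt_t) (d := 0) (by decide +kernel)

theorem yt_nc135_128 : ¬ CjIn (grp 324 y_E0) (Net.toPerm 324 z_g1375) (Net.toPerm 324 z_g1343) :=
  not_cjIn yt_nc135_128_cnt

noncomputable def yt_nc135_130_cnt_L : List ℕ := [1, 4, z_T111_s1_O, 0, 0, 4, 10, z_T111_s124_O, 0, 0, 5, 12, z_T111_s125_O, 0, 0, 6, 15, z_T111_s126_O, 1, 0]

theorem yt_nc135_130_cnt_P : Prob 324 9 (grp 324 y_E0) yt_nc135_130_cnt_EG [z_g1375] [z_g1356] yt_c130_K yt_nc135_130_cnt_L 0 0 :=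
  Sym.prob z_hn z_hk yt_c130_sym yt_nc135_130_cnt_EG_ok (grp_cons_le z_g39_z_T111 (grp_cons_le zg1_z_T111 (grp_cons_le zg3_z_T111 (grp_cons_le z_g43_z_T111 (grp_cons_le z_g42_z_T111 (grp_cons_le zg2_z_T111 (grp_cons_le z_g44_z_T111 (grp_cons_le z_g54_z_T111 (grp_cons_le z_g55_z_T111 (grp_cons_le z_g49_z_T111 (grp_cons_le z_g50_z_T111 (grp_cons_le z_g51_z_T111 (grp_cons_le z_g62_z_T111 (grp_cons_le z_g58_z_T111 (grp_cons_le z_g59_z_T111 (grp_cons_le z_g65_z_T111 (grp_cons_le z_g66_z_T111 (grp_cons_le z_g67_z_T111 (grp_cons_le z_g77_z_T111 (grp_cons_le z_g78_z_T111 (grp_cons_le z_g72_z_T111 (grp_cons_le z_g73_z_T111 (grp_cons_le z_g74_z_T111 (grp_cons_le z_g81_z_T111 (grp_cons_le z_g82_z_T111 (grp_cons_le z_g87_z_T111 (grp_cons_le zg0_z_T111 (grp_cons_le z_g91_z_T111 (grp_cons_le z_g28_z_T111 (grp_cons_le z_g88_z_T111 (grp_cons_le z_g818_z_T111 (grp_cons_le z_g819_z_T111 (grp_cons_le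 z_g820_z_T111 (grp_cons_le z_g821_z_T111 (grp_nil_le _))))))))))))))))))))))))))))))))))) (Frames.cons z_T111_s1_F (Frames.cons z_T111_s124_F (Frames.cons z_T111_s125_F (Frames.cons z_T111_s126_F Frames.nil)))) (okE_cons.2 ⟨z_g1375_ok, okE_nil _⟩) _

noncomputable def yt_nc135_130_cnt_t : BT := (BT.fix (nat_lit 0x10101010101010101) (BT.fix (nat_lit 65793) (BT.dif (nat_lit 1) (nat_lit 0) (BT.br (nat_lit 0) (nat_lit 31) [nat_lit 1] (BT.dead (nat_lit 138) (BT.frm (nat_lit 0) (nat_lit 328208) (nat_lit 1337) [nat_lit 0] (BT.pln (nat_lit 0) (nat_lit 3) (BT.dif (nat_lit 0) (nat_lit 5) (BT.img (nat_lit 1) (nat_lit 3) (BT.img (nat_lit 1) (nat_lit 0) (BT.img (nat_lit 1) (nat_lit 0) (BT.frm (nat_lit 1) (nat_lit 0x3d410f290707050210) (nat_lit 0x3d4119170539) [nat_lit 1, nat_lit 2, nat_lit 0, nat_lit 6] (BT.pln (nat_lit 0) (nat_lit 4) (BT.dif (nat_lit 5) (nat_lit 0) (BT.br (nat_lit 0)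 (nat_lit 195) [nat_lit 3] (BT.dead (nat_lit 316) (BT.dif (nat_lit 16) (nat_lit 2) (BT.pln (nat_lit 4) (nat_lit 6) (BT.and (nat_lit 1) (nat_lit 0) (BT.pln (nat_lit 6) (nat_lit 5) (BT.dif (nat_lit 1) (nat_lit 0) (BT.pln (nat_lit 8) (nat_lit 7) (BT.and (nat_lit 1) (nat_lit 0) (BT.pln (nat_lit 10) (nat_lit 8) (BT.dif (nat_lit 1) (nat_lit 0) (BT.frm (nat_lit 2) (nat_lit 0x3f3d410f290707050210) (nat_lit 0x3d4119170539) [nat_lit 9, nat_lit 14, nat_lit 15, nat_lit 13, nat_lit 19] (BT.pln (nat_lit 0) (nat_lit 5) (BT.dif (nat_lit 2) (nat_lit 0) (BT.br (nat_lit 0) (nat_lit 63) [nat_lit 5] (BT.dead (nat_lit 217) (BT.frm (nat_lit 3) (nat_lit 0x3f3d410f290707050210) (nat_lit 0x41433d4119170539) [nat_lit 0, nat_lit 13, nat_lit 18, nat_lit 19, nat_lit 17, nat_lit 23] (BT.pln (nat_lit 0) (nat_lit 6) (BT.img (nat_lit 1) (nat_lit 2) (BT.img (nat_lit 1) (nat_lit 0) (BT.and (nat_lit 2) (nat_lit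 0) (BT.cnt (nat_lit 0))))))) (BT.dead (nat_lit 69) (BT.frm (nat_lit 3) (nat_lit 0x3f3d410f290707050210) (nat_lit 0x443d4119170539) [nat_lit 0, nat_lit 13, nat_lit 18, nat_lit 19, nat_lit 17, nat_lit 23] (BT.pln (nat_lit 0) (nat_lit 6) (BT.img (nat_lit 1) (nat_lit 2) (BT.img (nat_lit 1) (nat_lit 0) (BT.and (nat_lit 2) (nat_lit 0) (BT.cnt (nat_lit 0))))))) (BT.dead (nat_lit 27) (BT.frm (nat_lit 3) (nat_lit 0x3f3d410f290707050210) (nat_lit 0x423d4119170539) [nat_lit 0, nat_lit 13, nat_lit 18, nat_lit 19, nat_lit 17, nat_lit 23] (BT.pln (nat_lit 0) (nat_lit 6) (BT.img (nat_lit 1) (nat_lit 2) (BT.and (nat_lit 1) (nat_lit 0) (BT.cnt (nat_lit 0)))))) BT.nil)))))))))))))))) BT.nil))))))))))) BT.nil)))))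

theorem yt_nc135_130_cnt : Cnt 324 (grp 324 y_E0) [z_g1375] [z_g1356] 0 0 0 0 0 :=
  BT.sound yt_nc135_130_cnt_P Known.nil (t := yt_nc135_130_cnt_t) (d := 0) (by decide +kernel)

theorem yt_nc135_130 : ¬ CjIn (grp 324 y_E0) (Net.toPerm 324 z_g1375) (Net.toPerm 324 z_g1356) :=
  not_cjIn yt_nc135_130_cnt

noncomputable def yt_nc135_131_cnt_L : List ℕ := [1, 4, z_T111_s1_O, 0, 0]

theorem yt_nc135_131_cnt_P : Prob 324 9 (grp 324 y_E0) yt_nc135_131_cnt_EG [z_g1375] [z_g1360] yt_c131_K yt_nc135_131_cnt_L 0 0 :=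
  Sym.prob z_hn z_hk yt_c131_sym yt_nc135_131_cnt_EG_ok (grp_cons_le z_g39_z_T111 (grp_cons_le zg1_z_T111 (grp_cons_le zg3_z_T111 (grp_cons_le z_g43_z_T111 (grp_cons_le z_g42_z_T111 (grp_cons_le zg2_z_T111 (grp_cons_le z_g44_z_T111 (grp_cons_le z_g54_z_T111 (grp_cons_le z_g55_z_T111 (grp_cons_le z_g49_z_T111 (grp_cons_le z_g50_z_T111 (grp_cons_le z_g51_z_T111 (grp_cons_le z_g62_z_T111 (grp_cons_le z_g58_z_T111 (grp_cons_le z_g59_z_T111 (grp_cons_le z_g65_z_T111 (grp_cons_le z_g66_z_T111 (grp_cons_le z_g67_z_T111 (grp_cons_le z_g77_z_T111 (grp_cons_le z_g78_z_T111 (grp_cons_le z_g72_z_T111 (grp_cons_le z_g73_z_T111 (grp_cons_le z_g74_z_T111 (grp_cons_le z_g81_z_T111 (grp_cons_le z_g82_z_T111 (grp_cons_le z_g87_z_T111 (grp_cons_le zg0_z_T111 (grp_cons_le z_g91_z_T111 (grp_cons_le z_g28_z_T111 (grp_cons_le z_g88_z_T111 (grp_nil_le _))))))))))))))))))))))))))))))) (Frames.cons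 z_T111_s1_F Frames.nil) (okE_cons.2 ⟨z_g1375_ok, okE_nil _⟩) _

noncomputable def yt_nc135_131_cnt_t : BT := (BT.fix (nat_lit 0x10101010101010101) (BT.fix (nat_lit 65793) (BT.dif (nat_lit 1) (nat_lit 0) (BT.br (nat_lit 0) (nat_lit 31) [nat_lit 1] (BT.dead (nat_lit 92) (BT.frm (nat_lit 0) (nat_lit 328208) (nat_lit 65810) [nat_lit 0] (BT.pln (nat_lit 0) (nat_lit 1) (BT.and (nat_lit 0) (nat_lit 4) (BT.cnt (nat_lit 0))))) BT.nil)))))

theorem yt_nc135_131_cnt : Cnt 324 (grp 324 y_E0) [z_g1375] [z_g1360] 0 0 0 0 0 :=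
  BT.sound yt_nc135_131_cnt_P Known.nil (t := yt_nc135_131_cnt_t) (d := 0) (by decide +kernel)

theorem yt_nc135_131 : ¬ CjIn (grp 324 y_E0) (Net.toPerm 324 z_g1375) (Net.toPerm 324 z_g1360) :=
  not_cjIn yt_nc135_131_cnt

noncomputable def yt_nc135_133_cnt_L : List ℕ := [1, 4, z_T111_s1_O, 0, 0, 4, 10, z_T111_s124_O, 0, 0, 5, 12, z_T111_s125_O, 0, 0, 6, 15, z_T111_s126_O, 1, 0]

theorem yt_nc135_133_cnt_P : Prob 324 9 (grp 324 y_E0) yt_nc135_133_cnt_EG [z_g1375] [z_g1367] yt_c133_K yt_nc135_133_cnt_L 0 0 :=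
  Sym.prob z_hn z_hk yt_c133_sym yt_nc135_133_cnt_EG_ok (grp_cons_le z_g39_z_T111 (grp_cons_le zg1_z_T111 (grp_cons_le zg3_z_T111 (grp_cons_le z_g43_z_T111 (grp_cons_le z_g42_z_T111 (grp_cons_le zg2_z_T111 (grp_cons_le z_g44_z_T111 (grp_cons_le z_g54_z_T111 (grp_cons_le z_g55_z_T111 (grp_cons_le z_g49_z_T111 (grp_cons_le z_g50_z_T111 (grp_cons_le z_g51_z_T111 (grp_cons_le z_g62_z_T111 (grp_cons_le z_g58_z_T111 (grp_cons_le z_g59_z_T111 (grp_cons_le z_g65_z_T111 (grp_cons_le z_g66_z_T111 (grp_cons_le z_g67_z_T111 (grp_cons_le z_g77_z_T111 (grp_cons_le z_g78_z_T111 (grp_cons_le z_g72_z_T111 (grp_cons_le z_g73_z_T111 (grp_cons_le z_g74_z_T111 (grp_cons_le z_g81_z_T111 (grp_cons_le z_g82_z_T111 (grp_cons_le z_g87_z_T111 (grp_cons_le zg0_z_T111 (grp_cons_le z_g91_z_T111 (grp_cons_le z_g28_z_T111 (grp_cons_le z_g88_z_T111 (grp_cons_le z_g818_z_T111 (grp_cons_le z_g819_z_T111 (grp_cons_le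 z_g820_z_T111 (grp_cons_le z_g821_z_T111 (grp_nil_le _))))))))))))))))))))))))))))))))))) (Frames.cons z_T111_s1_F (Frames.cons z_T111_s124_F (Frames.cons z_T111_s125_F (Frames.cons z_T111_s126_F Frames.nil)))) (okE_cons.2 ⟨z_g1375_ok, okE_nil _⟩) _

noncomputable def yt_nc135_133_cnt_t : BT := (BT.fix (nat_lit 0x10101010101010101) (BT.fix (nat_lit 65793) (BT.dif (nat_lit 1) (nat_lit 0) (BT.br (nat_lit 0) (nat_lit 31) [nat_lit 1] (BT.dead (nat_lit 127) (BT.frm (nat_lit 0) (nat_lit 328208) (nat_lit 1293) [nat_lit 0] (BT.pln (nat_lit 0) (nat_lit 3) (BT.dif (nat_lit 0) (nat_lit 5) (BT.img (nat_lit 1) (nat_lit 3) (BT.img (nat_lit 1) (nat_lit 0) (BT.img (nat_lit 1) (nat_lit 0) (BT.frm (nat_lit 1) (nat_lit 0x3d410f290707050210) (nat_lit 0x3d3d44181908050d) [nat_lit 1, nat_lit 2, nat_lit 0, nat_lit 6] (BT.pln (nat_lit 0) (nat_lit 4) (BT.dif (nat_lit 5) (nat_lit 0) (BT.br (nat_lit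 0) (nat_lit 195) [nat_lit 3] (BT.dead (nat_lit 134) (BT.dif (nat_lit 16) (nat_lit 2) (BT.pln (nat_lit 4) (nat_lit 6) (BT.and (nat_lit 1) (nat_lit 0) (BT.pln (nat_lit 6) (nat_lit 5) (BT.dif (nat_lit 1) (nat_lit 0) (BT.pln (nat_lit 8) (nat_lit 7) (BT.and (nat_lit 1) (nat_lit 0) (BT.pln (nat_lit 10) (nat_lit 8) (BT.dif (nat_lit 1) (nat_lit 0) (BT.frm (nat_lit 2) (nat_lit 0x3f3d410f290707050210) (nat_lit 0x3f3d3d44181908050d) [nat_lit 9, nat_lit 14, nat_lit 15, nat_lit 13, nat_lit 19] (BT.pln (nat_lit 0) (nat_lit 5) (BT.dif (nat_lit 2) (nat_lit 0) (BT.br (nat_lit 0) (nat_lit 63) [nat_lit 5] (BT.dead (nat_lit 20) (BT.frm (nat_lit 3) (nat_lit 0x3f3d410f290707050210) (nat_lit 0x42443f3d3d44181908050d) [nat_lit 0, nat_lit 13, nat_lit 18, nat_lit 19, nat_lit 17, nat_lit 23] (BT.pln (nat_lit 0) (nat_lit 6) (BT.img (nat_lit 1) (nat_lit 2) (BT.and (nat_lit 1) (nat_lit 0) (BT.cnt (nat_lit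 0)))))) (BT.dead (nat_lit 19) (BT.frm (nat_lit 3) (nat_lit 0x3f3d410f290707050210) (nat_lit 0x433f3d3d44181908050d) [nat_lit 0, nat_lit 13, nat_lit 18, nat_lit 19, nat_lit 17, nat_lit 23] (BT.pln (nat_lit 0) (nat_lit 6) (BT.img (nat_lit 1) (nat_lit 2) (BT.img (nat_lit 1) (nat_lit 0) (BT.img (nat_lit 1) (nat_lit 0) (BT.img (nat_lit 1) (nat_lit 0) (BT.and (nat_lit 4) (nat_lit 0) (BT.cnt (nat_lit 0))))))))) (BT.dead (nat_lit 18) (BT.frm (nat_lit 3) (nat_lit 0x3f3d410f290707050210) (nat_lit 0x443f3d3d44181908050d) [nat_lit 0, nat_lit 13, nat_lit 18, nat_lit 19, nat_lit 17, nat_lit 23] (BT.pln (nat_lit 0) (nat_lit 6) (BT.img (nat_lit 1) (nat_lit 2) (BT.and (nat_lit 1) (nat_lit 0) (BT.cnt (nat_lit 0)))))) BT.nil)))))))))))))))) BT.nil))))))))))) BT.nil)))))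

theorem yt_nc135_133_cnt : Cnt 324 (grp 324 y_E0) [z_g1375] [z_g1367] 0 0 0 0 0 :=
  BT.sound yt_nc135_133_cnt_P Known.nil (t := yt_nc135_133_cnt_t) (d := 0) (by decide +kernel)

theorem yt_nc135_133 : ¬ CjIn (grp 324 y_E0) (Net.toPerm 324 z_g1375) (Net.toPerm 324 z_g1367) :=
  not_cjIn yt_nc135_133_cnt

noncomputable def yt_nc135_134_cnt_L : List ℕ := [1, 4, z_T111_s1_O, 0, 0]

theorem yt_nc135_134_cnt_P : Prob 324 9 (grp 324 y_E0) yt_nc135_134_cnt_EG [z_g1375] [z_g1371] yt_c134_K yt_nc135_134_cnt_L 0 0 :=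
  Sym.prob z_hn z_hk yt_c134_sym yt_nc135_134_cnt_EG_ok (grp_cons_le z_g39_z_T111 (grp_cons_le zg1_z_T111 (grp_cons_le zg3_z_T111 (grp_cons_le z_g43_z_T111 (grp_cons_le z_g42_z_T111 (grp_cons_le zg2_z_T111 (grp_cons_le z_g44_z_T111 (grp_cons_le z_g54_z_T111 (grp_cons_le z_g55_z_T111 (grp_cons_le z_g49_z_T111 (grp_cons_le z_g50_z_T111 (grp_cons_le z_g51_z_T111 (grp_cons_le z_g62_z_T111 (grp_cons_le z_g58_z_T111 (grp_cons_le z_g59_z_T111 (grp_cons_le z_g65_z_T111 (grp_cons_le z_g66_z_T111 (grp_cons_le z_g67_z_T111 (grp_cons_le z_g77_z_T111 (grp_cons_le z_g78_z_T111 (grp_cons_le z_g72_z_T111 (grp_cons_le z_g73_z_T111 (grp_cons_le z_g74_z_T111 (grp_cons_le z_g81_z_T111 (grp_cons_le z_g82_z_T111 (grp_cons_le z_g87_z_T111 (grp_cons_le zg0_z_T111 (grp_cons_le z_g91_z_T111 (grp_cons_le z_g28_z_T111 (grp_cons_le z_g88_z_T111 (grp_nil_le _))))))))))))))))))))))))))))))) (Frames.cons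 z_T111_s1_F Frames.nil) (okE_cons.2 ⟨z_g1375_ok, okE_nil _⟩) _

noncomputable def yt_nc135_134_cnt_t : BT := (BT.fix (nat_lit 0x10101010101010101) (BT.fix (nat_lit 65793) (BT.dif (nat_lit 1) (nat_lit 0) (BT.br (nat_lit 0) (nat_lit 31) [nat_lit 1] (BT.dead (nat_lit 1) (BT.frm (nat_lit 0) (nat_lit 328208) (nat_lit 777) [nat_lit 0] (BT.pln (nat_lit 0) (nat_lit 1) (BT.and (nat_lit 0) (nat_lit 4) (BT.cnt (nat_lit 0))))) BT.nil)))))

theorem yt_nc135_134_cnt : Cnt 324 (grp 324 y_E0) [z_g1375] [z_g1371] 0 0 0 0 0 :=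
  BT.sound yt_nc135_134_cnt_P Known.nil (t := yt_nc135_134_cnt_t) (d := 0) (by decide +kernel)

theorem yt_nc135_134 : ¬ CjIn (grp 324 y_E0) (Net.toPerm 324 z_g1375) (Net.toPerm 324 z_g1371) :=
  not_cjIn yt_nc135_134_cnt

noncomputable def yt_nc138_137_cnt_L : List ℕ := [2, 9, z_T111_s41_O, 0, 0, 5, 12, z_T111_s44_O, 0, 0]

theorem yt_nc138_137_cnt_P : Prob 324 9 (grp 324 y_E0) yt_nc138_137_cnt_EG [z_g1391] [z_g1389] yt_c137_K yt_nc138_137_cnt_L 0 0 :=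
  Sym.prob z_hn z_hk yt_c137_sym yt_nc138_137_cnt_EG_ok (grp_cons_le z_g43_z_T111 (grp_cons_le z_g42_z_T111 (grp_cons_le zg2_z_T111 (grp_cons_le z_g44_z_T111 (grp_cons_le z_g54_z_T111 (grp_cons_le z_g55_z_T111 (grp_cons_le z_g49_z_T111 (grp_cons_le z_g50_z_T111 (grp_cons_le z_g51_z_T111 (grp_cons_le z_g62_z_T111 (grp_cons_le z_g58_z_T111 (grp_cons_le z_g59_z_T111 (grp_cons_le z_g65_z_T111 (grp_cons_le z_g66_z_T111 (grp_cons_le z_g67_z_T111 (grp_cons_le z_g77_z_T111 (grp_cons_le z_g78_z_T111 (grp_cons_le z_g72_z_T111 (grp_cons_le z_g73_z_T111 (grp_cons_le z_g74_z_T111 (grp_cons_le z_g81_z_T111 (grp_cons_le z_g82_z_T111 (grp_cons_le z_g87_z_T111 (grp_cons_le zg0_z_T111 (grp_cons_le z_g91_z_T111 (grp_cons_le z_g28_z_T111 (grp_cons_le z_g88_z_T111 (grp_cons_le z_g39_z_T111 (grp_cons_le zg1_z_T111 (grp_cons_le zg3_z_T111 (grp_cons_le z_g346_z_T111 (grp_cons_le z_g347_z_T111 (grp_cons_le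 z_g345_z_T111 (grp_cons_le z_g344_z_T111 (grp_nil_le _))))))))))))))))))))))))))))))))))) (Frames.cons z_T111_s41_F (Frames.cons z_T111_s44_F Frames.nil)) (okE_cons.2 ⟨z_g1391_ok, okE_nil _⟩) _

noncomputable def yt_nc138_137_cnt_t : BT := (BT.fix (nat_lit 0x10101010101) (BT.fix (nat_lit 65793) (BT.dif (nat_lit 1) (nat_lit 0) (BT.br (nat_lit 0) (nat_lit 5) [nat_lit 1] (BT.dead (nat_lit 5) (BT.img (nat_lit 1) (nat_lit 0) (BT.frm (nat_lit 0) (nat_lit 0x2a373538) (nat_lit 0x325373538) [nat_lit 0, nat_lit 1] (BT.pln (nat_lit 0) (nat_lit 7) (BT.br (nat_lit 0) (nat_lit 181) [nat_lit 3] (BT.dead (nat_lit 195) (BT.img (nat_lit 1) (nat_lit 3) (BT.img (nat_lit 1) (nat_lit 0) (BT.frm (nat_lit 1) (nat_lit 0x3e404243412a373538) (nat_lit 0x3e4041413e44440325373538) [nat_lit 2, nat_lit 0, nat_lit 1, nat_lit 5, nat_lit 6] (BT.pln (nat_lit 0) (nat_lit 5) (BT.img (nat_lit 1) (nat_lit 4) (BT.img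 (nat_lit 1) (nat_lit 0) (BT.img (nat_lit 1) (nat_lit 0) (BT.img (nat_lit 1) (nat_lit 0) (BT.img (nat_lit 1) (nat_lit 0) (BT.img (nat_lit 1) (nat_lit 0) (BT.img (nat_lit 1) (nat_lit 0) (BT.img (nat_lit 1) (nat_lit 0) (BT.img (nat_lit 1) (nat_lit 0) (BT.img (nat_lit 1) (nat_lit 0) (BT.and (nat_lit 10) (nat_lit 0) (BT.cnt (nat_lit 0))))))))))))))))) (BT.dead (nat_lit 38) (BT.img (nat_lit 1) (nat_lit 3) (BT.img (nat_lit 1) (nat_lit 0) (BT.frm (nat_lit 1) (nat_lit 0x3e404243412a373538) (nat_lit 0x3d41413e44440325373538) [nat_lit 2, nat_lit 0, nat_lit 1, nat_lit 5, nat_lit 6] (BT.pln (nat_lit 0) (nat_lit 5) (BT.img (nat_lit 1) (nat_lit 4) (BT.and (nat_lit 1) (nat_lit 0) (BT.cnt (nat_lit 0)))))))) BT.nil)))))) BT.nil)))))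

theorem yt_nc138_137_cnt : Cnt 324 (grp 324 y_E0) [z_g1391] [z_g1389] 0 0 0 0 0 :=
  BT.sound yt_nc138_137_cnt_P Known.nil (t := yt_nc138_137_cnt_t) (d := 0) (by decide +kernel)

theorem yt_nc138_137 : ¬ CjIn (grp 324 y_E0) (Net.toPerm 324 z_g1391) (Net.toPerm 324 z_g1389) :=
  not_cjIn yt_nc138_137_cnt

noncomputable def yt_nc139_137_cnt_L : List ℕ := [1, 4, z_T111_s1_O, 0, 0]

theorem yt_nc139_137_cnt_P : Prob 324 9 (grp 324 y_E0) yt_nc139_137_cnt_EG [z_g1393] [z_g1389] yt_c137_K yt_nc139_137_cnt_L 0 0 :=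
  Sym.prob z_hn z_hk yt_c137_sym yt_nc139_137_cnt_EG_ok (grp_cons_le z_g39_z_T111 (grp_cons_le zg1_z_T111 (grp_cons_le zg3_z_T111 (grp_cons_le z_g43_z_T111 (grp_cons_le z_g42_z_T111 (grp_cons_le zg2_z_T111 (grp_cons_le z_g44_z_T111 (grp_cons_le z_g54_z_T111 (grp_cons_le z_g55_z_T111 (grp_cons_le z_g49_z_T111 (grp_cons_le z_g50_z_T111 (grp_cons_le z_g51_z_T111 (grp_cons_le z_g62_z_T111 (grp_cons_le z_g58_z_T111 (grp_cons_le z_g59_z_T111 (grp_cons_le z_g65_z_T111 (grp_cons_le z_g66_z_T111 (grp_cons_le z_g67_z_T111 (grp_cons_le z_g77_z_T111 (grp_cons_le z_g78_z_T111 (grp_cons_le z_g72_z_T111 (grp_cons_le z_g73_z_T111 (grp_cons_le z_g74_z_T111 (grp_cons_le z_g81_z_T111 (grp_cons_le z_g82_z_T111 (grp_cons_le z_g87_z_T111 (grp_cons_le zg0_z_T111 (grp_cons_le z_g91_z_T111 (grp_cons_le z_g28_z_T111 (grp_cons_le z_g88_z_T111 (grp_nil_le _))))))))))))))))))))))))))))))) (Frames.cons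 z_T111_s1_F Frames.nil) (okE_cons.2 ⟨z_g1393_ok, okE_nil _⟩) _

noncomputable def yt_nc139_137_cnt_t : BT := (BT.fix (nat_lit 0x10101010101) (BT.fix (nat_lit 65793) (BT.dif (nat_lit 1) (nat_lit 0) (BT.br (nat_lit 0) (nat_lit 5) [nat_lit 1] (BT.dead (nat_lit 5) (BT.frm (nat_lit 0) (nat_lit 80642) (nat_lit 80642) [nat_lit 0] (BT.pln (nat_lit 0) (nat_lit 1) (BT.and (nat_lit 0) (nat_lit 4) (BT.cnt (nat_lit 0))))) BT.nil)))))

theorem yt_nc139_137_cnt : Cnt 324 (grp 324 y_E0) [z_g1393] [z_g1389] 0 0 0 0 0 :=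
  BT.sound yt_nc139_137_cnt_P Known.nil (t := yt_nc139_137_cnt_t) (d := 0) (by decide +kernel)

theorem yt_nc139_137 : ¬ CjIn (grp 324 y_E0) (Net.toPerm 324 z_g1393) (Net.toPerm 324 z_g1389) :=
  not_cjIn yt_nc139_137_cnt

noncomputable def yt_nc139_138_cnt_L : List ℕ := [1, 4, z_T111_s1_O, 0, 0]

theorem yt_nc139_138_cnt_P : Prob 324 9 (grp 324 y_E0) yt_nc139_138_cnt_EG [z_g1393] [z_g1391] yt_c138_K yt_nc139_138_cnt_L 0 0 :=
  Sym.prob z_hn z_hk yt_c138_sym yt_nc139_138_cnt_EG_ok (grp_cons_le z_g39_z_T111 (grp_cons_le zg1_z_T111 (grp_cons_le zg3_z_T111 (grp_cons_le z_g43_z_T111 (grp_cons_le z_g42_z_T111 (grp_cons_le zg2_z_T111 (grp_cons_le z_g44_z_T111 (grp_cons_le z_g54_z_T111 (grp_cons_le z_g55_z_T111 (grp_cons_le z_g49_z_T111 (grp_cons_le z_g50_z_T111 (grp_cons_le z_g51_z_T111 (grp_cons_le z_g62_z_T111 (grp_cons_le z_g58_z_T111 (grp_cons_le z_g59_z_T111 (grp_cons_le z_g65_z_T111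 (grp_cons_le z_g66_z_T111 (grp_cons_le z_g67_z_T111 (grp_cons_le z_g77_z_T111 (grp_cons_le z_g78_z_T111 (grp_cons_le z_g72_z_T111 (grp_cons_le z_g73_z_T111 (grp_cons_le z_g74_z_T111 (grp_cons_le z_g81_z_T111 (grp_cons_le z_g82_z_T111 (grp_cons_le z_g87_z_T111 (grp_cons_le zg0_z_T111 (grp_cons_le z_g91_z_T111 (grp_cons_le z_g28_z_T111 (grp_cons_le z_g88_z_T111 (grp_nil_le _))))))))))))))))))))))))))))))) (Frames.cons z_T111_s1_F Frames.nil) (okE_cons.2 ⟨z_g1393_ok, okE_nil _⟩) _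

noncomputable def yt_nc139_138_cnt_t : BT := (BT.fix (nat_lit 0x10101010101) (BT.fix (nat_lit 65793) (BT.dif (nat_lit 1) (nat_lit 0) (BT.br (nat_lit 0) (nat_lit 5) [nat_lit 1] (BT.dead (nat_lit 5) (BT.frm (nat_lit 0) (nat_lit 80642) (nat_lit 80642) [nat_lit 0] (BT.pln (nat_lit 0) (nat_lit 1) (BT.and (nat_lit 0) (nat_lit 4) (BT.cnt (nat_lit 0))))) BT.nil)))))

theorem yt_nc139_138_cnt : Cnt 324 (grp 324 y_E0) [z_g1393] [z_g1391] 0 0 0 0 0 :=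
  BT.sound yt_nc139_138_cnt_P Known.nil (t := yt_nc139_138_cnt_t) (d := 0) (by decide +kernel)

theorem yt_nc139_138 : ¬ CjIn (grp 324 y_E0) (Net.toPerm 324 z_g1393) (Net.toPerm 324 z_g1391) :=
  not_cjIn yt_nc139_138_cnt

noncomputable def yt_nc140_137_cnt_L : List ℕ := [1, 4, z_T111_s1_O, 0, 0]

theorem yt_nc140_137_cnt_P : Prob 324 9 (grp 324 y_E0) yt_nc140_137_cnt_EG [z_g1395] [z_g1389] yt_c137_K yt_nc140_137_cnt_L 0 0 :=
  Sym.prob z_hn z_hk yt_c137_sym yt_nc140_137_cnt_EG_ok (grp_cons_le z_g39_z_T111 (grp_cons_le zg1_z_T111 (grp_cons_le zg3_z_T111 (grp_cons_le z_g43_z_T111 (grp_cons_le z_g42_z_T111 (grp_cons_le zg2_z_T111 (grp_cons_le z_g44_z_T111 (grp_cons_le z_g54_z_T111 (grp_cons_le z_g55_z_T111 (grp_cons_le z_g49_z_T111 (grp_cons_le z_g50_z_T111 (grp_cons_le z_g51_z_T111 (grp_cons_le z_g62_z_T111 (grp_cons_le z_g58_z_T111 (grp_cons_le z_g59_z_T111 (grp_cons_le z_g65_z_T111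 (grp_cons_le z_g66_z_T111 (grp_cons_le z_g67_z_T111 (grp_cons_le z_g77_z_T111 (grp_cons_le z_g78_z_T111 (grp_cons_le z_g72_z_T111 (grp_cons_le z_g73_z_T111 (grp_cons_le z_g74_z_T111 (grp_cons_le z_g81_z_T111 (grp_cons_le z_g82_z_T111 (grp_cons_le z_g87_z_T111 (grp_cons_le zg0_z_T111 (grp_cons_le z_g91_z_T111 (grp_cons_le z_g28_z_T111 (grp_cons_le z_g88_z_T111 (grp_nil_le _))))))))))))))))))))))))))))))) (Frames.cons z_T111_s1_F Frames.nil) (okE_cons.2 ⟨z_g1395_ok, okE_nil _⟩) _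

noncomputable def yt_nc140_137_cnt_t : BT := (BT.fix (nat_lit 0x10101010101) (BT.fix (nat_lit 65793) (BT.dif (nat_lit 1) (nat_lit 0) (BT.br (nat_lit 0) (nat_lit 5) [nat_lit 1] (BT.dead (nat_lit 5) (BT.frm (nat_lit 0) (nat_lit 80642) (nat_lit 80642) [nat_lit 0] (BT.pln (nat_lit 0) (nat_lit 1) (BT.and (nat_lit 0) (nat_lit 4) (BT.cnt (nat_lit 0))))) BT.nil)))))

theorem yt_nc140_137_cnt : Cnt 324 (grp 324 y_E0) [z_g1395] [z_g1389] 0 0 0 0 0 :=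
  BT.sound yt_nc140_137_cnt_P Known.nil (t := yt_nc140_137_cnt_t) (d := 0) (by decide +kernel)

theorem yt_nc140_137 : ¬ CjIn (grp 324 y_E0) (Net.toPerm 324 z_g1395) (Net.toPerm 324 z_g1389) :=
  not_cjIn yt_nc140_137_cnt

noncomputable def yt_nc140_138_cnt_L : List ℕ := [1, 4, z_T111_s1_O, 0, 0]

theorem yt_nc140_138_cnt_P : Prob 324 9 (grp 324 y_E0) yt_nc140_138_cnt_EG [z_g1395] [z_g1391] yt_c138_K yt_nc140_138_cnt_L 0 0 :=
  Sym.prob z_hn z_hk yt_c138_sym yt_nc140_138_cnt_EG_ok (grp_cons_le z_g39_z_T111 (grp_cons_le zg1_z_T111 (grp_cons_le zg3_z_T111 (grp_cons_le z_g43_z_T111 (grp_cons_le z_g42_z_T111 (grp_cons_le zg2_z_T111 (grp_cons_le z_g44_z_T111 (grp_cons_le z_g54_z_T111 (grp_cons_le z_g55_z_T111 (grp_cons_le z_g49_z_T111 (grp_cons_le z_g50_z_T111 (grp_cons_le z_g51_z_T111 (grp_cons_le z_g62_z_T111 (grp_cons_le z_g58_z_T111 (grp_cons_le z_g59_z_T111 (grp_cons_le z_g65_z_T111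 (grp_cons_le z_g66_z_T111 (grp_cons_le z_g67_z_T111 (grp_cons_le z_g77_z_T111 (grp_cons_le z_g78_z_T111 (grp_cons_le z_g72_z_T111 (grp_cons_le z_g73_z_T111 (grp_cons_le z_g74_z_T111 (grp_cons_le z_g81_z_T111 (grp_cons_le z_g82_z_T111 (grp_cons_le z_g87_z_T111 (grp_cons_le zg0_z_T111 (grp_cons_le z_g91_z_T111 (grp_cons_le z_g28_z_T111 (grp_cons_le z_g88_z_T111 (grp_nil_le _))))))))))))))))))))))))))))))) (Frames.cons z_T111_s1_F Frames.nil) (okE_cons.2 ⟨z_g1395_ok, okE_nil _⟩) _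

noncomputable def yt_nc140_138_cnt_t : BT := (BT.fix (nat_lit 0x10101010101) (BT.fix (nat_lit 65793) (BT.dif (nat_lit 1) (nat_lit 0) (BT.br (nat_lit 0) (nat_lit 5) [nat_lit 1] (BT.dead (nat_lit 5) (BT.frm (nat_lit 0) (nat_lit 80642) (nat_lit 80642) [nat_lit 0] (BT.pln (nat_lit 0) (nat_lit 1) (BT.and (nat_lit 0) (nat_lit 4) (BT.cnt (nat_lit 0))))) BT.nil)))))

theorem yt_nc140_138_cnt : Cnt 324 (grp 324 y_E0) [z_g1395] [z_g1391] 0 0 0 0 0 :=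
  BT.sound yt_nc140_138_cnt_P Known.nil (t := yt_nc140_138_cnt_t) (d := 0) (by decide +kernel)

theorem yt_nc140_138 : ¬ CjIn (grp 324 y_E0) (Net.toPerm 324 z_g1395) (Net.toPerm 324 z_g1391) :=
  not_cjIn yt_nc140_138_cnt

noncomputable def yt_nc140_139_cnt_L : List ℕ := [2, 11, z_T111_s49_O, 0, 0, 4, 10, z_T111_s153_O, 0, 0, 5, 14, z_T111_s154_O, 1, 0]

theorem yt_nc140_139_cnt_P : Prob 324 9 (grp 324 y_E0) yt_nc140_139_cnt_EG [z_g1395] [z_g1393] yt_c139_K yt_nc140_139_cnt_L 0 0 :=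
  Sym.prob z_hn z_hk yt_c139_sym yt_nc140_139_cnt_EG_ok (grp_cons_le z_g43_z_T111 (grp_cons_le z_g42_z_T111 (grp_cons_le zg2_z_T111 (grp_cons_le z_g44_z_T111 (grp_cons_le z_g54_z_T111 (grp_cons_le z_g55_z_T111 (grp_cons_le z_g49_z_T111 (grp_cons_le z_g50_z_T111 (grp_cons_le z_g51_z_T111 (grp_cons_le z_g62_z_T111 (grp_cons_le z_g58_z_T111 (grp_cons_le z_g59_z_T111 (grp_cons_le z_g65_z_T111 (grp_cons_le z_g66_z_T111 (grp_cons_le z_g67_z_T111 (grp_cons_le z_g77_z_T111 (grp_cons_le z_g78_z_T111 (grp_cons_le z_g72_z_T111 (grp_cons_le z_g73_z_T111 (grp_cons_le z_g74_z_T111 (grp_cons_le z_g81_z_T111 (grp_cons_le z_g82_z_T111 (grp_cons_le z_g87_z_T111 (grp_cons_le zg0_z_T111 (grp_cons_le z_g91_z_T111 (grp_cons_le z_g28_z_T111 (grp_cons_le z_g88_z_T111 (grp_cons_le z_g39_z_T111 (grp_cons_le zg1_z_T111 (grp_cons_le zg3_z_T111 (grp_cons_le z_g1038_z_T111 (grp_cons_le z_g1039_z_T111 (grp_cons_le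 z_g1040_z_T111 (grp_cons_le z_g372_z_T111 (grp_cons_le z_g373_z_T111 (grp_cons_le z_g374_z_T111 (grp_cons_le z_g375_z_T111 (grp_cons_le z_g376_z_T111 (grp_cons_le z_g377_z_T111 (grp_cons_le z_g378_z_T111 (grp_nil_le _))))))))))))))))))))))))))))))))))))))))) (Frames.cons z_T111_s49_F (Frames.cons z_T111_s153_F (Frames.cons z_T111_s154_F Frames.nil))) (okE_cons.2 ⟨z_g1395_ok, okE_nil _⟩) _

noncomputable def yt_nc140_139_cnt_t : BT := (BT.fix (nat_lit 0x10101010101) (BT.fix (nat_lit 65793) (BT.dif (nat_lit 1) (nat_lit 0) (BT.br (nat_lit 0) (nat_lit 5) [nat_lit 1] (BT.dead (nat_lit 5) (BT.img (nat_lit 1) (nat_lit 0) (BT.frm (nat_lit 0) (nat_lit 0xc18373538) (nat_lit 0x212373538) [nat_lit 0, nat_lit 1] (BT.pln (nat_lit 0) (nat_lit 2) (BT.img (nat_lit 1) (nat_lit 2) (BT.img (nat_lit 1) (nat_lit 0) (BT.frm (nat_lit 1) (nat_lit 0x3d41454e0c18373538) (nat_lit 0x3d42454e0212373538)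 [nat_lit 0, nat_lit 1, nat_lit 4, nat_lit 5] (BT.pln (nat_lit 0) (nat_lit 5) (BT.dif (nat_lit 4) (nat_lit 0) (BT.pln (nat_lit 2) (nat_lit 6) (BT.dif (nat_lit 1) (nat_lit 0) (BT.br (nat_lit 0) (nat_lit 57) [nat_lit 3] (BT.dead (nat_lit 58) (BT.frm (nat_lit 2) (nat_lit 0x403d41454e0c18373538) (nat_lit 0x413d42454e0212373538) [nat_lit 0, nat_lit 6, nat_lit 7, nat_lit 10, nat_lit 11] (BT.pln (nat_lit 0) (nat_lit 5) (BT.img (nat_lit 1) (nat_lit 2) (BT.img (nat_lit 1) (nat_lit 0) (BT.img (nat_lit 1) (nat_lit 0) (BT.img (nat_lit 1) (nat_lit 0) (BT.img (nat_lit 1) (nat_lit 0) (BT.img (nat_lit 1) (nat_lit 0) (BT.and (nat_lit 6) (nat_lit 0) (BT.cnt (nat_lit 0))))))))))) (BT.dead (nat_lit 92) (BT.frm (nat_lit 2) (nat_lit 0x403d41454e0c18373538) (nat_lit 0x3f3f3d42454e0212373538) [nat_lit 0, nat_lit 6, nat_lit 7, nat_lit 10, nat_lit 11] (BT.pln (nat_lit 0) (nat_lit 5) (BT.img (nat_lit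 1) (nat_lit 2) (BT.and (nat_lit 1) (nat_lit 0) (BT.cnt (nat_lit 0)))))) BT.nil))))))))))))) BT.nil)))))

theorem yt_nc140_139_cnt : Cnt 324 (grp 324 y_E0) [z_g1395] [z_g1393] 0 0 0 0 0 :=
  BT.sound yt_nc140_139_cnt_P Known.nil (t := yt_nc140_139_cnt_t) (d := 0) (by decide +kernel)

theorem yt_nc140_139 : ¬ CjIn (grp 324 y_E0) (Net.toPerm 324 z_g1395) (Net.toPerm 324 z_g1393) :=
  not_cjIn yt_nc140_139_cnt

theorem yt_exc : Exc 324 (grp 324 y_E0) yt_xs [140139, 140138, 140137, 139138, 139137, 138137, 135134, 135133, 135131, 135130, 135128, 134133, 134131, 134130, 134128, 133131, 133130, 133128, 131130, 131128, 130128, 127126, 127125, 126125, 121117, 119116, 108107, 105104, 105103, 104103, 102099, 102097, 102096, 101100, 101098, 100098, 99097, 99096, 97096, 95094, 93092, 93091, 93090, 92091, 92090, 91090, 89087, 88086, 85083, 75071, 65062, 64063, 59058, 59055, 59054, 58055,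 58054, 57056, 55054, 52050, 45043, 33032, 27026, 24023, 24022, 23022, 6005] :=
  (Exc.cons 140 139 (by decide) yt_nc140_139 (Exc.cons 140 138 (by decide) yt_nc140_138 (Exc.cons 140 137 (by decide) yt_nc140_137 (Exc.cons 139 138 (by decide) yt_nc139_138 (Exc.cons 139 137 (by decide) yt_nc139_137 (Exc.cons 138 137 (by decide) yt_nc138_137 (Exc.cons 135 134 (by decide) yt_nc135_134 (Exc.cons 135 133 (by decide) yt_nc135_133 (Exc.cons 135 131 (by decide) yt_nc135_131 (Exc.cons 135 130 (by decide) yt_nc135_130 (Exc.cons 135 128 (by decide) yt_nc135_128 (Exc.cons 134 133 (by decide) yt_nc134_133 (Exc.cons 134 131 (by decide) yt_nc134_131 (Exc.cons 134 130 (by decide) yt_nc134_130 (Exc.cons 134 128 (by decide) yt_nc134_128 (Exc.cons 133 131 (by decide) yt_nc133_131 (Exc.cons 133 130 (by decide) yt_nc133_130 (Exc.cons 133 128 (by decide) yt_nc133_128 (Exc.cons 131 130 (by decide)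 yt_nc131_130 (Exc.cons 131 128 (by decide) yt_nc131_128 (Exc.cons 130 128 (by decide) yt_nc130_128 (Exc.cons 127 126 (by decide) yt_nc127_126 (Exc.cons 127 125 (by decide) yt_nc127_125 (Exc.cons 126 125 (by decide) yt_nc126_125 (Exc.cons 121 117 (by decide) yt_nc121_117 (Exc.cons 119 116 (by decide) yt_nc119_116 (Exc.cons 108 107 (by decide) yt_nc108_107 (Exc.cons 105 104 (by decide) yt_nc105_104 (Exc.cons 105 103 (by decide) yt_nc105_103 (Exc.cons 104 103 (by decide) yt_nc104_103 (Exc.cons 102 99 (by decide) yt_nc102_99 (Exc.cons 102 97 (by decide) yt_nc102_97 (Exc.cons 102 96 (by decide) yt_nc102_96 (Exc.cons 101 100 (by decide) yt_nc101_100 (Exc.cons 101 98 (by decide) yt_nc101_98 (Exc.cons 100 98 (by decide) yt_nc100_98 (Exc.cons 99 97 (by decide) yt_nc99_97 (Exc.cons 99 96 (by decide) yt_nc99_96 (Exc.cons 97 96 (by decide) yt_nc97_96 (Exc.cons 95 94 (by decide) yt_nc95_94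 (Exc.cons 93 92 (by decide) yt_nc93_92 (Exc.cons 93 91 (by decide) yt_nc93_91 (Exc.cons 93 90 (by decide) yt_nc93_90 (Exc.cons 92 91 (by decide) yt_nc92_91 (Exc.cons 92 90 (by decide) yt_nc92_90 (Exc.cons 91 90 (by decide) yt_nc91_90 (Exc.cons 89 87 (by decide) yt_nc89_87 (Exc.cons 88 86 (by decide) yt_nc88_86 (Exc.cons 85 83 (by decide) yt_nc85_83 (Exc.cons 75 71 (by decide) yt_nc75_71 (Exc.cons 65 62 (by decide) yt_nc65_62 (Exc.cons 64 63 (by decide) yt_nc64_63 (Exc.cons 59 58 (by decide) yt_nc59_58 (Exc.cons 59 55 (by decide) yt_nc59_55 (Exc.cons 59 54 (by decide) yt_nc59_54 (Exc.cons 58 55 (by decide) yt_nc58_55 (Exc.cons 58 54 (by decide) yt_nc58_54 (Exc.cons 57 56 (by decide) yt_nc57_56 (Exc.cons 55 54 (by decide) yt_nc55_54 (Exc.cons 52 50 (by decide) yt_nc52_50 (Exc.cons 45 43 (by decide) yt_nc45_43 (Exc.cons 33 32 (by decide) yt_nc33_32 (Exc.cons 27 26 (by decide)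 yt_nc27_26 (Exc.cons 24 23 (by decide) yt_nc24_23 (Exc.cons 24 22 (by decide) yt_nc24_22 (Exc.cons 23 22 (by decide) yt_nc23_22 (Exc.cons 6 5 (by decide) yt_nc6_5 Exc.nil)))))))))))))))))))))))))))))))))))))))))))))))))))))))))))))))))))

theorem yt : Table 324 (grp 324 y_E0) yt_xs yt_cs yt_os :=
  Reps.table (D := 4) z_hn z_hk yt_reps yt_exc y_card0 (by decide +kernel)

end Cfsg.Agent.H99.HB
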