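import Mathlib
import Cfsg.Agent.H99.FiHN
import Cfsg.Agent.H99.FiC3
import Cfsg.Agent.H99.FiSm

/-!
# The normaliser of a 3B-subgroup of the level 23 acting on the 324 fixed points
-/

set_option autoImplicit false
set_option maxRecDepth 200000
set_option linter.style.longLine false

namespace Cfsg.Agent.H99.HB

open Cfsg.Agent.H41 (wp wp_mem)
open Cfsg.Agent.H43 Cfsg.Agent.H47 Subgroup
open Cfsg.Agent.H45 (md23 mem23 cf23)

/-- The normaliser of the subgroup generated by an element of class 3B. -/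
noncomputable abbrev NZ : Subgroup (Equiv.Perm (Fin 31671)) :=
  H41.L23.F.grp ⊓ normalizer (zpowers (wp H41.N23.π (w23 2)) : Set (Equiv.Perm (Fin 31671)))

/-- The fixed points. -/
def tZ : ℕ := (nat_lit 0x7b9907b8507b7d07b7707b6907b6007b0507b0407aeb07ae407ad107acd07aac07a9907a8407a6507a5f07a3307a1e079c8079c5079c0079be079b8079b607989079150790e078be0782b0782a0782107810077f0077e6077e4077d50773e077260772307722076b407619075f7075d407518074dd074da074ba074b50749207443074110736a0722f071780712807122070d4070c6070c5070c0070930708c07069070170701506e5e06e5c06e5a06d9b06d8f06d8906c0806b5006b4706b2006b0906a08069ca067fc067bb065630649306480063a8062a905ea405ea305e7805e6c05e0105dc505cfa058f5058a0058980584e0584c0583a05768055d5055cc055cb05567054b80546f053b8050a90509f04ee704ee604ee504e4804e4104e3a04e3904cb904cac04ca504c9004c8f04c8e04889047c3047c0047bf0474f046a90466a0466404662046320462604623045e4045e0045d4045cf045ce045c5045bb045b4045af045a704596045700456c04499044850447d0447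704469044600440504404043eb043e4043d1043cd043ac0439904384043650435f043330431e042c8042c5042c0042be042b8042b604289042150420e041be0412b0412a0412104110040f0040e6040e4040d50403e04026040230402203fb403f1903ef703ed403e1803ddd03dda03dba03db503d9203d4303d1103c6a03b2f03a7803a2803a22039d4039c6039c5039c0039930398c0396903917039150375e0375c0375a0369b0368f03689035080345003447034200340903308032ca030fc030bb02e6302d9302d8002ca802ba9027a4027a3027780276c02701026c5025fa021f5021a0021980214e0214c0213a0206801ed501ecc01ecb01e6701db801d6f01cb8019a90199f017e7017e6017e501748017410173a01739015b9015ac015a5015900158f0158e01189010c3010c0010bf0104f00fa900f6a00f6400f6200f3200f2600f2300ee400ee000ed400ecf00ece00ec500ebb00eb400eaf00ea700e9600e7000e6c00db600a2c00a03008d5008d0004ac004830035500350002b50027a0026a0021d001ea001e1001c70017e0016d0011a000ee000e8000de000d8000ce000cb000b80007c00075)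

theorem tZ_ok : tOk 31671 tZ 324 = true := by decide +kernel

/-- A generator. -/
def gw0 : List ℕ := [12]

theorem gw0_act : Acts (ptsT 31671 tZ 324) (wp H41.N23.π gw0) (zg0.toPerm 324) :=
  acts_of_actB tZ_ok md23 zg0_ok (by decide +kernel)

theorem gw0_mem : wp H41.N23.π gw0 ∈ NZ :=
  ⟨wp_mem fun i _ => mem23 i, w_norm md23 (r := 1) (by decide +kernel)⟩

/-- A generator. -/
def gw1 : List ℕ := [8, 3, 1]

theorem gw1_act : Acts (ptsT 31671 tZ 324) (wp H41.N23.π gw1) (zg1.toPerm 324) :=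
  acts_of_actB tZ_ok md23 zg1_ok (by decide +kernel)

theorem gw1_mem : wp H41.N23.π gw1 ∈ NZ :=
  ⟨wp_mem fun i _ => mem23 i, w_norm md23 (r := 2) (by decide +kernel)⟩

/-- A generator. -/
def gw2 : List ℕ := [2, 3, 7, 3]

theorem gw2_act : Acts (ptsT 31671 tZ 324) (wp H41.N23.π gw2) (zg2.toPerm 324) :=
  acts_of_actB tZ_ok md23 zg2_ok (by decide +kernel)

theorem gw2_mem : wp H41.N23.π gw2 ∈ NZ :=
  ⟨wp_mem fun i _ => mem23 i, w_norm md23 (r := 1) (by decide +kernel)⟩

/-- A generator. -/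
def gw3 : List ℕ := [13, 8, 7, 3, 13, 9, 4, 1, 2, 3, 13, 8, 7, 8, 13, 3, 2, 1, 4, 9, 13, 3, 7, 8, 13]

theorem gw3_act : Acts (ptsT 31671 tZ 324) (wp H41.N23.π gw3) (zg3.toPerm 324) :=
  acts_of_actB tZ_ok md23 zg3_ok (by decide +kernel)

theorem gw3_mem : wp H41.N23.π gw3 ∈ NZ :=
  ⟨wp_mem fun i _ => mem23 i, w_norm md23 (r := 1) (by decide +kernel)⟩

/-- A generator. -/
def gw4 : List ℕ := [9, 4, 3, 7, 8, 0, 1, 2, 3, 13, 12, 9, 2, 3, 1, 2, 0, 1, 7, 4, 2, 3, 13, 8, 7, 3, 2, 0, 4, 13, 3, 7, 8, 13, 3, 4]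

theorem gw4_act : Acts (ptsT 31671 tZ 324) (wp H41.N23.π gw4) (zg4.toPerm 324) :=
  acts_of_actB tZ_ok md23 zg4_ok (by decide +kernel)

theorem gw4_mem : wp H41.N23.π gw4 ∈ NZ :=
  ⟨wp_mem fun i _ => mem23 i, w_norm md23 (r := 1) (by decide +kernel)⟩

theorem z_act : Acts (ptsT 31671 tZ 324) (wp H41.N23.π (w23 2)) 1 :=
  acts_of_actB tZ_ok md23 (o := .nil) rfl (by decide +kernel)

theorem z_ord : orderOf (wp H41.N23.π (w23 2)) = 3 := (Subgroup.orderOf_coe (x23 2)).trans (lift23.ord 2)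

theorem z_le : zpowers (wp H41.N23.π (w23 2)) ≤ NZ := le_inf (zpowers_le.2 (x23 2).2) le_normalizer

theorem sm_aux : (∃ ρ, Sm (ptsT 31671 tZ 324) NZ (zpowers (wp H41.N23.π (w23 2))) E5 ρ) ∧
    Nat.card (zpowers (wp H41.N23.π (w23 2))) = 3 ∧ Nat.card (grp 324 E5) = 1088391168 ∧ Nat.card NZ = 3 * 1088391168 := by
  refine exists_sm (ptsT_inj tZ_ok) (fun o ho => ?_) z_le (fun g hg => ?_) (by rw [Nat.card_zpowers, z_ord]) z_lb_ge
    (card_normz_le (x23 2) (lift23.ord 2) cent23_B)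
  · simp only [E5, List.mem_cons, List.not_mem_nil, or_false] at ho
    rcases ho with rfl | rfl | rfl | rfl | rfl
    exacts [⟨_, gw0_mem, gw0_act⟩, ⟨_, gw1_mem, gw1_act⟩, ⟨_, gw2_mem, gw2_act⟩, ⟨_, gw3_mem, gw3_act⟩,
      ⟨_, gw4_mem, gw4_act⟩]
  · rcases mem_zpowers_three z_ord hg with rfl | rfl | rfl
    exacts [Acts.one _, z_act, z_act.inv]

/-- The action on the fixed points. -/
noncomputable def ρ : NZ →* Equiv.Perm (Fin 324) := sm_aux.1.choose

theorem sm : Sm (ptsT 31671 tZ 324) NZ (zpowers (wp H41.N23.π (w23 2))) E5 ρ := sm_aux.1.choose_spec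

theorem card_E5 : Nat.card (grp 324 E5) = 1088391168 := sm_aux.2.2.1

theorem card_NZ : Nat.card NZ = 3265173504 := sm_aux.2.2.2

end Cfsg.Agent.H99.HB
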