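import Mathlib
import Cfsg.Agent.H41.RecL
import Cfsg.Agent.H43.FiAut

/-!
# A Sylow 2-subgroup of the automorphism group of `U₆(2)`
-/

set_option autoImplicit false
set_option maxRecDepth 1000000

namespace Cfsg.Agent.H99.F22

open Cfsg.Agent.H41 Cfsg.Agent.H41.Rec Cfsg.Agent.H42 Cfsg.Agent.H45 Cfsg.Agent.H60 Equiv

/-- The facts on the outer involutions. -/
structure Out {X : Type*} (F : FS X) (s : ℕ → X) (S : Subgroup (Perm X)) (σ : Perm X) : Prop where
  aut : S ≤ F.aut
  mem : σ ∈ S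
  sq : σ * σ = 1
  out : σ ∉ F.grp
  pg : IsPGroup 2 S
  syl : ¬ 2 ∣ S.relIndex F.aut
  le : sp (fun i => F.T (s i)) 9 ≤ S
  two : ∀ g ∈ S, g ∉ F.grp → g * σ ∈ F.grp
  um : ∀ B ≤ S, EA B → 512 ≤ Nat.card B → B ≤ sp (fun i => F.T (s i)) 9
  ev : ∀ g ∈ S, ∃ π : Perm (Fin 21), (∀ j : Fin 21, g (s j) = s (π j)) ∧ (Perm.sign π = 1 ↔ g ∈ F.grp)
  hep : ∃ l, Clq F l ∧ Odd l.length ∧ H60.pr F l = 1 ∧ ∀ p ∈ l, σ p = p
  cen : ∀ g ∈ S, g ∉ F.grp → g * g ∈ sp (fun i => F.T (s i)) 9 →
    Nat.card (sp (fun i => F.T (s i)) 9 ⊓ Subgroup.centralizer {g} : Subgroup _) ≤ 64 ∧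
      64 ≤ Nat.card (F.gen {p | (∃ j < 21, p = s j) ∧ g p = p})
  inn : ∃ g ∈ S, g ∈ F.grp ∧ g * g = 1 ∧ g (s 4) = s 5 ∧
    Nat.card (sp (fun i => F.T (s i)) 9 ⊓ Subgroup.centralizer {g} : Subgroup _) ≤ 32
  tri : ∀ i < 21, ∀ j < 21, ∀ k < 21, i ≠ j → F.T (s i) * F.T (s j) ≠ F.T (s k)
  kr : Kr F s 9 21

section
variable {Γ : Type*} [Group Γ] {e : ℕ → Γ} {k : ℕ}

theorem card_le_small [Finite Γ] (he : CI e k) {B : Subgroup Γ} {x b : ℕ} (hx : small x b = true)
    (h : ∀ y < 2 ^ k, th e k y ∈ B → x.testBit y = true) : Nat.card (sp e k ⊓ B : Subgroup Γ) ≤ b := by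
  obtain ⟨h4, h5⟩ := ncard_le_of_small hx
  refine le_trans ?_ ((Set.ncard_image_le (f := th e k) h4).trans h5)
  refine Set.ncard_le_ncard (s := ((sp e k ⊓ B : Subgroup Γ) : Set Γ)) (fun z hz => ?_) (h4.image _)
  obtain ⟨y, hy, rfl⟩ := he.mem_sp.mp hz.1
  exact ⟨y, h y hy hz.2, rfl⟩

theorem fix_bit (he : CI e k) (hi : Ind e k) {g : Γ} {c : ℕ} (hc : Cd e k g c) {y : ℕ} (hy : y < 2 ^ k)
    (h : th e k y * g = g * th e k y) : (fixS k c).testBit y = true :=
  (testBit_setB _ _ _).mpr ⟨hy, beq_iff.mpr (hi _ (hc.lt _) _ hy (by rw [← hc.conj he, ← h, mul_inv_cancel_right]))⟩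

theorem cen_le [Finite Γ] (he : CI e k) (hi : Ind e k) {g : Γ} {c b : ℕ} (hc : Cd e k g c)
    (h : small (fixS k c) b = true) : Nat.card (sp e k ⊓ Subgroup.centralizer {g} : Subgroup Γ) ≤ b :=
  card_le_small he h fun _ hy h' => fix_bit he hi hc hy (Subgroup.mem_centralizer_singleton_iff.mp h')

theorem sq_of (he : CI e k) (hi : Ind e k) {g : Γ} {c : ℕ} (hc : Cd e k g c) (h : g * g ∈ sp e k) :
    sqB k c = true := allB_iff.mpr fun i hi' => beq_iff.mpr (hi _ (hc.lt _) _ (pt_lt hi') (by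
  rw [← hc.conj he, ← (hc i hi').2, th_pt hi', show g * (g * e i * g⁻¹) * g⁻¹ = (g * g) * e i * (g * g)⁻¹ by group,
    he.ea.comm h (mem_clos e (List.mem_range.mpr hi')), mul_inv_cancel_right]))

theorem cmm_of (he : CI e k) (hi : Ind e k) {g g' : Γ} {c c' : ℕ} (hc : Cd e k g c) (hc' : Cd e k g' c')
    (h : g * g' = g' * g) : cmmB k c c' = true :=
  allB_iff.mpr fun i hi' => beq_iff.mpr (hi _ (hc.lt _) _ (hc'.lt _) (by
    rw [← hc.conj he, ← hc'.conj he, ← (hc i hi').2, ← (hc' i hi').2,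
      show g * (g' * e i * g'⁻¹) * g⁻¹ = (g * g') * e i * (g * g')⁻¹ by group, h]
    group))

/-- The span of the fixed points. -/
noncomputable def spanB (k V c m : ℕ) : ℕ :=
  Nat.rec (pt 0) (fun j S => force S fun S => force (fld 12 V j) fun v => iteB (Nat.beq (lin k c v) v)
    (setB (fun y => iteB (tb S y) true (tb S (Nat.xor y v))) (Nat.pow 2 k)) S) m

theorem spanB_sound (he : CI e k) {V c m : ℕ} {H : Subgroup Γ}
    (h : ∀ j < m, lin k c (fld 12 V j) = fld 12 V j → th e k (fld 12 V j) ∈ H) :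
    ∀ y, (spanB k V c m).testBit y = true → th e k y ∈ H := by
  induction m with
  | zero =>
    intro y hy
    change (pt 0).testBit y = true at hy
    rw [testBit_pt, decide_eq_true_iff] at hy
    rw [← hy, th_zero]; exact H.one_mem
  | succ m ih =>
    intro y hy
    replace ih := ih fun j hj => h j (by omega)
    change (force (spanB k V c m) fun S => force (fld 12 V m) fun v => iteB (Nat.beq (lin k c v) v)
      (setB (fun y => iteB (tb S y) true (tb S (Nat.xor y v))) (Nat.pow 2 k)) S).testBit y = true at hy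
    rw [force_eq, force_eq, iteB_eq] at hy
    split_ifs at hy with h1
    · have h2 := ((testBit_setB _ _ _).mp hy).2
      rw [iteB_eq, tb_eq, tb_eq] at h2
      split_ifs at h2 with h3
      · exact ih y h3
      · have h4 := mul_mem (ih _ h2) (h m (by omega) (beq_iff.mp h1))
        rwa [← he.th_xor, show Nat.xor y (fld 12 V m) ^^^ fld 12 V m = y from Nat.xor_xor_cancel_right _ _] at h4
    · exact ih y hy

theorem le_card_of_cnt [Finite Γ] (hi : Ind e k) {H : Subgroup Γ} {x : ℕ}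
    (h : ∀ y, x.testBit y = true → th e k y ∈ H) : cnt (tb x) (2 ^ k) ≤ Nat.card H := by
  rw [← ncard_eq_cnt {a | ∃ y < 2 ^ k, tb x y = true ∧ th e k y = a} (th e k) _ _
    (fun i hi' j hj _ _ => hi i hi' j hj) fun _ => Iff.rfl]
  refine Set.ncard_le_ncard (t := (H : Set Γ)) ?_
  rintro _ ⟨y, -, h1, rfl⟩
  exact h y (tb_eq x y ▸ h1)

end

namespace O21

open J21

/-- The points. -/
abbrev s : ℕ → Fin 693 := sB B
/-- The basis. -/
noncomputable abbrev e : ℕ → Perm (Fin 693) := fun i => L21.F.T (s i)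
/-- The macro letters. -/
noncomputable abbrev gm : ℕ → Perm (Fin 693) := genM N21.π (pals B ++ ex)

/-- Generators with their actions. -/
def tl : List (ℕ × ℕ × ℕ) := [(21, 17044558753511718211649014958112, 25277246781744866652216381939713), (22, 10752070921314965010431098325024, 32166944509650544100910628347905), (23, 24891611428771864027328269041760, 10146156637577751961671164788737), (24, 24889211813617228147027710381568, 20284885559861124912874497568769)]

/-- The action of the outer involution on the points. -/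
def ps : ℕ := 24888146835116495672812519852128
/-- The code of the outer involution. -/
def cs : ℕ := 25278194305708630755111694532609
/-- The outer codes. -/
def L2 : List ℕ := [25278194305708630755111694532609, 20286684941496994414216198782977, 33753558098125897263449492193281, 18070191486230357267645980483585, 14188823921718294256490832216065, 32167872997677788874280865398785, 10147936676991956361359206129665, 20286686377151876325567063146497, 33753558698076308330942400831489, 9674076909137553202856280997889, 17514375826943768665672332091393, 9674076469796087462026232733697, 28604829334001263564547160076289, 10147936252429790544621236928513, 2544915183453211011669108473857, 36049124935730252503743998205953, 36049125133922059010211317825537, 14188824147959526358726433841153, 1276452657149428033256624758785, 10147938112536157807099296935937, 25278195920861854400353170112513, 32167873427520411744686198243329, 32167873626006213233866426032129, 25278196152690143832438575472641,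 9674077508773216698423004164097, 5078456660031890621615923281921, 18070191713358186007886085242881, 5078456428488372800206571315201, 27573876586232109011311242805249, 17514378022899609000396309196801, 9674077074468864730088807104513, 33753557659107249544527685414913, 27573877011695859445270090674177, 39377016783668251880555387351041, 1276452425899905196483856580609, 20286684516933675675630109257729, 10147938448273797492780025544705, 2544915787706324851711277068289, 39377016344334856590601100492801, 39377016948902718002569454559233, 27573878447238907970055766548481, 32167872766429418958669190590465, 39377017383198999520714917167105, 27573878782077268882761478848513, 2544915622479929180779649703937, 28604829106895340333238098886657, 25278194079489304161120109522945, 5078457089873360568729808699393, 5078457288066319996358221688833, 14188825762905224131970160717825, 1276453086777607502636567818241, 33753558263465279243001106808833, 18070193559453102447001784610817,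 14188825994755419072986609647617, 36049124506100920112309256384513, 36049124274558555212748024741889, 20286686712890668932408885125121, 18070193328489504142753190150145, 17514376252406366178470086590465, 1276453285264561913664915931137, 28604830948968866846928608960513, 17514377688062401009538717220865, 28604831179910559642933186805761, 2544916222325424390528332496897]

theorem exists_sig : ∃ σ ∈ L21.F.aut, σ * σ = 1 ∧ ∀ j < 21, σ (s j) = s (fld 5 ps j) := by
  obtain ⟨s1, s2, -⟩ := Amb.sw_wg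
  obtain ⟨σ, h1, h2⟩ := Amb.emb21.exists_res s1 (Amb.range21 ▸ FS.aut_presv_N s1 s2)
  refine ⟨σ, h1, ?_, fun j hj => Amb.emb21.inj ?_⟩
  · have h3 : wp Amb.π [9, 6, 12, 9] * wp Amb.π [9, 6, 12, 9] = 1 := by
      have a : ∀ i < 14, Amb.π i * Amb.π i = 1 := fun i hi => Amb.TP hi ▸ Amb.F.sq _
      have c : Amb.π 6 * Amb.π 12 = Amb.π 12 * Amb.π 6 := by
        rw [← Amb.TP (i := 6) (by norm_num), ← Amb.TP (i := 12) (by norm_num)]
        refine FS.fix_iff_commute.mp ?_
        rw [Amb.TP (i := 6) (by norm_num)]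
        exact N24.act.apply_eq1 (by decide +kernel)
      simp only [wp_cons, wp_nil, mul_one]
      calc _ = Amb.π 9 * (Amb.π 6 * Amb.π 12) * (Amb.π 9 * Amb.π 9) * (Amb.π 6 * Amb.π 12) * Amb.π 9 := by
            simp only [mul_assoc]
        _ = Amb.π 9 * Amb.π 6 * (Amb.π 12 * Amb.π 12) * Amb.π 6 * Amb.π 9 := by
            rw [a 9 (by norm_num), mul_one]; nth_rw 2 [c]; simp only [mul_assoc]
        _ = 1 := by
            rw [a 12 (by norm_num), mul_one, mul_assoc (Amb.π 9), a 6 (by norm_num), mul_one, a 9 (by norm_num)]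
    ext p : 1
    refine Amb.emb21.inj ?_
    rw [Perm.mul_apply, ← h2, ← h2, ← Perm.mul_apply, h3]; rfl
  · rw [← h2]
    exact N24.act.apply_eq ((by decide +kernel : ∀ j < 21,
      ptW N24.ap [9, 6, 12, 9] (Amb.ι21 (s j)) (Amb.ι21 (s (fld 5 ps j))) = true) j hj)

theorem cd_of {g : Perm (Fin 693)} (hg : g ∈ L21.F.aut) {a c : ℕ} (h : ∀ j < 21, g (s j) = s (fld 5 a j))
    (H : ∀ i < 9, fld 5 a i < 21 ∧ fld 12 c i = fld 12 V (fld 5 a i)) : Cd e 9 g c := fun i hi => by
  rw [(H i hi).2, ← cq.rel _ (H i hi).1]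
  refine ⟨cq.lt _ (H i hi).1, ?_⟩
  change _ = L21.F.T (s _)
  rw [← h i (by omega), FS.aut_T hg]

theorem tl_pt : ∀ t ∈ tl, ∀ j < 21, gm t.1 (s j) = s (fld 5 t.2.1 j) := fun t ht j hj =>
  md21.apply_eq ((by decide +kernel : ∀ t ∈ tl, ∀ j < 21,
    pW cf21.pp (nth (pals B ++ ex) t.1) (s j) = s (fld 5 t.2.1 j)) t ht j hj)

theorem gm_mem (i : ℕ) : gm i ∈ L21.F.grp := wp_mem fun j _ => mem21 j

theorem e_eq {i : ℕ} (hi : i < 9) : e i = gm i := T_sB md21 L21.TP ok ex (hi.trans_le (by decide))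

theorem tl_cd : ∀ t ∈ tl, Cd e 9 (gm t.1) t.2.2 := fun t ht =>
  cd_of (FS.grp_le_aut (gm_mem _)) (tl_pt t ht) ((by decide +kernel : ∀ t ∈ tl, ∀ i < 9,
    fld 5 t.2.1 i < 21 ∧ fld 12 t.2.2 i = fld 12 V (fld 5 t.2.1 i)) t ht)

/-- The generators of the Sylow subgroup of `U₆(2)`. -/
def gen0 : Set (Perm (Fin 693)) := gm '' {i | i ∈ List.range 9 ++ tl.map Prod.fst}

theorem gen0_cd : ∀ g ∈ gen0, (∀ i < 9, g * e i = e i * g) ∨ ∃ c ∈ tl.map fun t => t.2.2, Cd e 9 g c := by
  rintro _ ⟨i, hi, rfl⟩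
  rcases List.mem_append.mp hi with hi | hi
  · rw [← e_eq (List.mem_range.mp hi)]
    exact Or.inl fun j hj => cq.ci.comm i (List.mem_range.mp hi) j hj
  · obtain ⟨t, ht, rfl⟩ := List.mem_map.mp hi
    exact Or.inr ⟨_, List.mem_map_of_mem ht, tl_cd t ht⟩

theorem cl0 : clB 9 (tl.map fun t => t.2.2) L = true := by decide +kernel

theorem cl1 : clB 9 (cs :: tl.map fun t => t.2.2) (L ++ L2) = true := by decide +kernel

theorem card0 : 2 ^ 15 ≤ Nat.card (Subgroup.closure gen0) :=
  le_trans (by decide +kernel) ((((md21.act.macroAct (pals B ++ ex)).chP_le (d := 5)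
    (l := [(0, 2, 16, [[21], [22], [23], [24]]), (101, 1, 4, [[24, 23], [21, 23, 21]]),
      (16, 1, 32, [[4], [5], [6], [7], [8]]), (52, 1, 8, [[1], [2], [3]]), (437, 1, 2, [[0]])])
    (by decide +kernel))).trans (Subgroup.card_le_of_le (closW_le_clos _ (by decide +kernel))))

theorem kr' {g : Perm (Fin 693)} (hg : g ∈ L21.F.aut) (h : ∀ i < 9, g * e i = e i * g) : g ∈ sp e 9 :=
  kr g hg fun j hj => (FS.commute_T_iff hg).mp (by rw [cq.rel j hj, th_comm fun i hi => (h i hi).symm])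

/-- The permutation with a given table. -/
def tab (a : ℕ) (j : Fin 21) : Fin 21 := Fin.ofNat 21 (fld 5 a j)

theorem exists_perm {a : ℕ} (h : ∀ j, tab a (tab a j) = j) (h' : ∀ j < 21, fld 5 a j < 21) {n : ℕ}
    (hn : (Finset.univ.filter fun j => tab a j = j).card = n) :
    ∃ π : Perm (Fin 21), (∀ j : Fin 21, (π j : ℕ) = fld 5 a j) ∧ Perm.sign π = (-1) ^ ((21 - n) / 2) := by
  refine ⟨Function.Involutive.toPerm (tab a) h, fun j => Nat.mod_eq_of_lt (h' j j.2), ?_⟩
  rw [Perm.sign_of_pow_two_eq_one (by ext j : 1; exact h j), Fintype.card_fin, ← hn, Fintype.card_subtype]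
  rfl

/-- The even elements. -/
def Ev : Subgroup (Perm (Fin 693)) where
  carrier := {g | ∃ π : Perm (Fin 21), (∀ j : Fin 21, g (s j) = s (π j)) ∧ Perm.sign π = 1}
  one_mem' := ⟨1, fun _ => rfl, by simp⟩
  mul_mem' := by
    rintro a b ⟨π, h1, h2⟩ ⟨π', h3, h4⟩
    exact ⟨π * π', fun j => by rw [Perm.mul_apply, h3, h1]; rfl, by simp [h2, h4]⟩
  inv_mem' := by
    rintro a ⟨π, h1, h2⟩
    exact ⟨π⁻¹, fun j => by rw [Perm.inv_eq_iff_eq, h1]; simp, by simp [h2]⟩

theorem gen0_ev : Subgroup.closure gen0 ≤ Ev := (Subgroup.closure_le _).mpr <| by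
  rintro _ ⟨i, hi, rfl⟩
  rcases List.mem_append.mp hi with hi | hi
  · rw [← e_eq (List.mem_range.mp hi)]
    exact ⟨1, fun j => cq.cl i ((List.mem_range.mp hi).trans (by norm_num)) j j.2, by simp⟩
  · obtain ⟨t, ht, rfl⟩ := List.mem_map.mp hi
    obtain ⟨h1, h2, h3⟩ := (by decide +kernel : ∀ t ∈ tl, (∀ j, tab t.2.1 (tab t.2.1 j) = j) ∧
      (∀ j < 21, fld 5 t.2.1 j < 21) ∧ (Finset.univ.filter fun j => tab t.2.1 j = j).card = 5) t ht
    obtain ⟨π, h4, h5⟩ := exists_perm h1 h2 h3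
    exact ⟨π, fun j => by rw [h4]; exact tl_pt t ht j j.2, h5⟩

theorem chk1 : allL (fun c => iteB (sqB 9 c) (iteB (small (fixS 9 c) 64) (iteB (Nat.ble 64
    (force (spanB 9 V c 21) fun x => cnt (tb x) 512))
    (Nat.ble (cntL (fun u => iteB (sqB 9 u) (cmmB 9 c u) false) (L ++ L2)) 15) false) false) true) L2 = true := by
  decide +kernel

theorem chk2 : allL (fun c => iteB (sqB 9 c) (iteB (trivB 9 c) true (small (fixS 9 c) 32)) true) L = true := by
  decide +kernel

theorem chk3 : allL (fun a => iteB (allB (fun i => Nat.beq (fld 12 a i) (fld 12 cs i)) 9) false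
    (anyL (cmpB 9 a cs) L2)) L = true := by
  decide +kernel

theorem out : ∃ S σ, Out L21.F s S σ := by
  obtain ⟨σ, s1, s2, s3⟩ := exists_sig
  have s4 : Cd e 9 σ cs := cd_of s1 s3 (by decide +kernel)
  set T := Subgroup.closure gen0 with hT
  set S := Subgroup.closure (insert σ gen0) with hS
  have t1 : T ≤ L21.F.grp := clos_le.mpr fun i _ => gm_mem i
  have t2 : T ≤ S := Subgroup.closure_mono (Set.subset_insert _ _)
  have t3 : sp e 9 ≤ T := clos_le.mpr fun i hi => by
    rw [e_eq (List.mem_range.mp hi)]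
    exact mem_clos _ (List.mem_append_left _ hi)
  have m : σ ∈ S := Subgroup.subset_closure (Set.mem_insert _ _)
  have a1 : S ≤ L21.F.aut := (Subgroup.closure_le _).mpr (Set.insert_subset s1 fun g hg =>
    FS.grp_le_aut (t1 (Subgroup.subset_closure hg)))
  have c0 : ∀ g ∈ T, ∃ c ∈ L, Cd e 9 g c := cq.ci.exists_cd cl0 gen0_cd
  have c1 : ∀ g ∈ S, ∃ c ∈ L ++ L2, Cd e 9 g c := cq.ci.exists_cd cl1 (by
    rintro g (rfl | hg)
    · exact Or.inr ⟨cs, List.mem_cons_self, s4⟩
    · exact (gen0_cd g hg).imp_right fun ⟨c, h1, h2⟩ => ⟨c, List.mem_cons_of_mem _ h1, h2⟩)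
  have n1 : σ ∉ T := fun h => by
    obtain ⟨a, h1, h2⟩ := c0 σ h
    have h3 := allL_iff.mp chk3 a h1
    rw [iteB_eq, if_pos (allB_iff.mpr fun i hi => beq_iff.mpr (cq.ind _ (h2 i hi).1 _ (s4 i hi).1
      ((h2 i hi).2.symm.trans (s4 i hi).2)))] at h3
    exact absurd h3 (by simp)
  have k1 : Nat.card S ≤ 2 ^ 16 := by
    choose! c h5 h6 using c1
    refine (card_le_codes h6 (fun g hg => kr' (a1 hg)) (S := (L ++ L2).toFinset) (Finset.finite_toSet _)
      (by simpa using h5)).trans ?_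
    rw [Set.ncard_coe_finset, show 2 ^ 16 = (L ++ L2).length * 2 ^ 9 by decide +kernel, ← cq.ci.card_sp cq.ind]
    exact Nat.mul_le_mul (List.toFinset_card_le _) (Subgroup.card_le_of_le inf_le_right)
  have k2 : Nat.card T * T.relIndex S = Nat.card S := by
    rw [← (T.subgroupOf S).card_mul_index, Nat.card_congr (Subgroup.subgroupOfEquivOfLe t2).toEquiv]; rfl
  have k3 : T.relIndex S ≠ 1 := fun h => n1 (Subgroup.relIndex_eq_one.mp h m)
  have k4 : T.relIndex S ≠ 0 := Subgroup.index_ne_zero_of_finite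
  have k5 := card0
  rw [← hT] at k5
  have k6 : T.relIndex S = 2 := by
    by_contra h
    have := Nat.mul_le_mul k5 (show 3 ≤ T.relIndex S by omega)
    omega
  have k7 : Nat.card S = 2 ^ 16 := by rw [k6] at k2; omega
  have k8 : Nat.card T = 2 ^ 15 := by rw [k6] at k2; omega
  have n2 : σ ∉ L21.F.grp := fun h => by
    have := Subgroup.card_dvd_of_le ((Subgroup.closure_le L21.F.grp).mpr (Set.insert_subset h fun g hg =>
      t1 (Subgroup.subset_closure hg)))
    rw [← hS, k7, L21.card_grp] at this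
    norm_num at this
  have i1 : ∀ g ∈ S, g ∉ T → g * σ ∈ T := fun g hg h =>
    (Subgroup.mul_mem_iff_of_index_two (H := T.subgroupOf S) k6 (a := ⟨g, hg⟩) (b := ⟨σ, m⟩)).mpr (iff_of_false h n1)
  have i2 : ∀ g ∈ S, g ∈ L21.F.grp → g ∈ T := fun g hg h => by_contra fun h' =>
    n2 ((mul_mem_cancel_left h).mp (t1 (i1 g hg h')))
  have c2 : ∀ g ∈ S, g ∉ T → ∃ c ∈ L2, Cd e 9 g c := fun g hg h => by
    obtain ⟨a, h1, h2⟩ := c0 _ (i1 g hg h)
    have h3 := allL_iff.mp chk3 a h1
    rw [iteB_eq] at h3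
    split_ifs at h3
    obtain ⟨c, h4, h5⟩ := anyL_iff.mp h3
    refine ⟨c, h4, ?_⟩
    have := h2.mul s4 cq.ci h5
    rwa [mul_assoc, s2, mul_one] at this
  have c3 : ∀ g ∈ S, g ∉ T → g * g ∈ sp e 9 → ∃ c, Cd e 9 g c ∧ small (fixS 9 c) 64 = true ∧
      64 ≤ cnt (tb (spanB 9 V c 21)) (2 ^ 9) ∧ cntL (fun u => iteB (sqB 9 u) (cmmB 9 c u) false) (L ++ L2) ≤ 15 :=
    fun g hg h h' => by
      obtain ⟨c, h1, h2⟩ := c2 g hg h
      have h3 := allL_iff.mp chk1 c h1
      simp only [iteB_eq, force_eq] at h3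
      rw [if_pos (sq_of cq.ci cq.ind h2 h')] at h3
      split_ifs at h3 with h4 h5
      exact ⟨c, h2, h4, ble_iff.mp h5, by simpa only [iteB_eq] using ble_iff.mp h3⟩
  have c4 : ∀ g ∈ T, g * g = 1 → g ∉ sp e 9 →
      Nat.card (sp e 9 ⊓ Subgroup.centralizer {g} : Subgroup _) ≤ 32 := fun g hg h h' => by
    obtain ⟨c, h1, h2⟩ := c0 g hg
    have h3 := allL_iff.mp chk2 c h1
    simp only [iteB_eq] at h3
    rw [if_pos (sq_of cq.ci cq.ind h2 (h ▸ one_mem _))] at h3
    split_ifs at h3 with h4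
    · refine absurd (kr' (a1 (t2 hg)) fun i hi => ?_) h'
      have := (h2 i hi).2
      rwa [beq_iff.mp (of_allB h4 hi), th_pt hi, mul_inv_eq_iff_eq_mul] at this
    · exact cen_le cq.ci cq.ind h2 h3
  obtain ⟨πs, p1, p2⟩ := exists_perm (a := ps) (n := 7) (by decide +kernel) (by decide +kernel) (by decide +kernel)
  refine ⟨S, σ, a1, m, s2, n2, IsPGroup.of_card k7, fun h => ?_, t3.trans t2, fun g hg h => t1 (i1 g hg fun h' => h (t1 h')),
    fun B hB h1 h2 => ?_, fun g hg => ?_, ?_, fun g hg h h' => ?_, ?_, fun i hi j hj k hk hij h => ?_, kr⟩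
  · have := (S.subgroupOf L21.F.aut).card_mul_index
    rw [Nat.card_congr (Subgroup.subgroupOfEquivOfLe a1).toEquiv, k7, H43.Fi.card_aut21, L21.card_grp] at this
    obtain ⟨c, hc⟩ := h
    rw [show (S.subgroupOf L21.F.aut).index = 2 * c from hc] at this
    omega
  · by_cases h3 : B ≤ T
    · exact cq.ci.le_sp cq.ind (by norm_num) jok h1 (fun g hg => c0 g (h3 hg)) (fun g hg => kr' (a1 (hB hg))) h2
    exfalso
    obtain ⟨g, hg, h4⟩ := SetLike.not_le_iff_exists.mp h3
    obtain ⟨c, h5, h6, -, h7⟩ := c3 g (hB hg) h4 (h1 g hg ▸ one_mem _)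
    have h8 : ∀ b ∈ B, B ⊓ sp e 9 ≤ sp e 9 ⊓ Subgroup.centralizer {b} := fun b hb x hx =>
      ⟨hx.2, Subgroup.mem_centralizer_singleton_iff.mpr (h1.comm hx.1 hb)⟩
    by_cases h9 : B ⊓ T ≤ sp e 9
    · have h10 : Nat.card (B ⊓ T : Subgroup _) ≤ 64 :=
        (Subgroup.card_le_of_le ((le_inf inf_le_left h9).trans (h8 g hg))).trans (cen_le cq.ci cq.ind h5 h6)
      have h11 := ((B ⊓ T).subgroupOf B).card_mul_index
      rw [Nat.card_congr (Subgroup.subgroupOfEquivOfLe inf_le_left).toEquiv] at h11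
      have h12 : ((B ⊓ T).subgroupOf B).index ≤ 2 := by
        rw [← k6]
        exact (Subgroup.inf_relIndex_left B T).trans_le (Subgroup.relIndex_le_of_le_right hB k4)
      have := Nat.mul_le_mul h10 h12
      omega
    · obtain ⟨b, hb, h10⟩ := SetLike.not_le_iff_exists.mp h9
      have h11 := (Subgroup.card_le_of_le (h8 b hb.1)).trans (c4 b hb.2 (h1 b hb.1) h10)
      choose! c' h12 h13 using c1
      have h14 := card_le_codes (fun g hg => h13 g (hB hg)) (fun g hg => kr' (a1 (hB hg))) (S := c' '' B)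
        (Set.toFinite _) fun g hg => ⟨g, hg, rfl⟩
      have h15 : (c' '' B).ncard ≤ 15 := le_trans (ncard_le_cntL (f := id) (by
        rintro _ ⟨x, hx, rfl⟩
        refine ⟨_, h12 x (hB hx), ?_, rfl⟩
        rw [iteB_eq, if_pos (sq_of cq.ci cq.ind (h13 x (hB hx)) (h1 x hx ▸ one_mem _))]
        exact cmm_of cq.ci cq.ind h5 (h13 x (hB hx)) (h1.comm hg hx))) h7
      have := Nat.mul_le_mul h15 h11
      omega
  · by_cases h : g ∈ T
    · obtain ⟨π, h1, h2⟩ := gen0_ev h
      exact ⟨π, h1, iff_of_true h2 (t1 h)⟩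
    · obtain ⟨π, h1, h2⟩ := gen0_ev (i1 g hg h)
      refine ⟨π * πs, fun j => ?_, iff_of_false (by rw [map_mul, h2, p2]; decide) fun h' => h (i2 g hg h')⟩
      rw [Perm.mul_apply, ← h1, p1, ← s3 j j.2, ← Perm.mul_apply, mul_assoc, s2, mul_one]
  · refine ⟨_, cq.clq (l := [0, 2, 4, 5, 6, 10, 16]) (by decide) (by decide), by decide,
      cq.pr_one (by decide) (by decide +kernel), List.forall_mem_map.mpr fun j hj => ?_⟩
    obtain ⟨h1, h2⟩ := (by decide +kernel : ∀ j ∈ [0, 2, 4, 5, 6, 10, 16], j < 21 ∧ fld 5 ps j = j) j hj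
    rw [s3 j h1, h2]
  · obtain ⟨c, h5, h6, h7, -⟩ := c3 g hg (fun h1 => h (t1 h1)) h'
    refine ⟨cen_le cq.ci cq.ind h5 h6, h7.trans (le_card_of_cnt cq.ind (spanB_sound cq.ci fun j hj h8 => ?_))⟩
    rw [← cq.rel j hj]
    refine FS.T_mem_gen ⟨⟨j, hj, rfl⟩, L21.F.inj ?_⟩
    rw [FS.aut_T (a1 hg), cq.rel j hj, h5.conj cq.ci, h8]
  · have h1 : gm 21 ∈ T := mem_clos _ (by decide)
    have h2 : gm 21 (s 4) = s 5 := tl_pt _ List.mem_cons_self 4 (by norm_num)
    have h3 : gm 21 * gm 21 = 1 := by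
      have := md21.rel (u := [3, 2, 7, 3, 3, 2, 7, 3]) (v := []) (by decide +kernel)
      exact (wp_append _ [3, 2, 7, 3] [3, 2, 7, 3]).symm.trans this
    refine ⟨_, t2 h1, t1 h1, h3, h2, c4 _ h1 h3 fun h => ?_⟩
    have h4 := cq.ci.ea.comm h (mem_clos e (i := 4) (by decide))
    rw [(FS.commute_T_iff (a1 (t2 h1))).mp h4] at h2
    exact absurd (cq.inj 4 (by norm_num) 5 (by norm_num) h2) (by norm_num)
  · rw [cq.rel i hi, cq.rel j hj, cq.rel k hk, ← cq.ci.th_xor] at h
    exact (by decide +kernel : ∀ i < 21, ∀ j < 21, ∀ k < 21, i ≠ j → fld 12 V i ^^^ fld 12 V j ≠ fld 12 V k) i hi j hj k hk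
      hij (cq.ind _ (Nat.xor_lt_two_pow (cq.lt i hi) (cq.lt j hj)) _ (cq.lt k hk) h)

end O21

end Cfsg.Agent.H99.F22
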