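import Mathlib
import Cfsg.Agent.H99.F22Out

/-!
# The group `2 · U₆(2) · 2`
-/

set_option autoImplicit false
set_option linter.unusedSectionVars false

universe u

namespace Cfsg.Agent.H99.F22

open Cfsg.Agent.H41 Cfsg.Agent.H41.Rec Cfsg.Agent.H42 Cfsg.Agent.H45 Cfsg.Agent.H60 Equiv Subgroup

section
variable {Γ : Type*} [Group Γ] {A B : Subgroup Γ}

theorem cjS_eq {c : Γ} (h : c ∈ normalizer (A : Set Γ)) : cjS c A = A := by
  ext x
  rw [mem_cjS]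
  simpa using (mem_normalizer_iff.mp (inv_mem h) x).symm

theorem norm_of_cjS {c : Γ} (h : cjS c A = A) : c ∈ normalizer (A : Set Γ) :=
  mem_normalizer_iff.mpr fun x => by
    conv_rhs => rw [← h, mem_cjS]
    simp [mul_assoc]

theorem cjS_cjS (a b : Γ) (A : Subgroup Γ) : cjS a (cjS b A) = cjS (a * b) A := by
  ext x; simp [mem_cjS, mul_assoc]

theorem cjS_one (A : Subgroup Γ) : cjS 1 A = A := by
  ext x; simp [mem_cjS]

theorem norm_mem {c a : Γ} (h : c ∈ normalizer (A : Set Γ)) (ha : a ∈ A) : c * a * c⁻¹ ∈ A :=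
  (mem_normalizer_iff.mp h a).mp ha

theorem norm_mem' {c a : Γ} (h : c ∈ normalizer (A : Set Γ)) (ha : a ∈ A) : c⁻¹ * a * c ∈ A := by
  simpa using norm_mem (inv_mem h) ha

theorem card_cen_conj {c : Γ} (h : c ∈ normalizer (A : Set Γ)) (x : Γ) :
    Nat.card (A ⊓ centralizer {c * x * c⁻¹} : Subgroup Γ) = Nat.card (A ⊓ centralizer {x} : Subgroup Γ) := by
  rw [← card_cjS c (A ⊓ centralizer {x})]
  congr 2
  ext y
  rw [mem_cjS, mem_inf, mem_inf, mem_centralizer_singleton_iff, mem_centralizer_singleton_iff]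
  refine and_congr ⟨norm_mem' h, fun e => by simpa [mul_assoc] using norm_mem h e⟩ ⟨fun e => ?_, fun e => ?_⟩
  · calc _ = c⁻¹ * (y * (c * x * c⁻¹)) * c := by group
      _ = _ := by rw [e]; group
  · calc _ = c * (c⁻¹ * y * c * x) * c⁻¹ := by group
      _ = _ := by rw [e]; group

theorem cjS_map {Δ : Type*} [Group Δ] (f : Γ →* Δ) (c : Γ) (A : Subgroup Γ) :
    (cjS c A).map f = cjS (f c) (A.map f) := by
  rw [cjS, cjS, map_map, map_map]
  congr 1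
  ext x; simp

theorem um_of_js [Finite Γ] (h : JS A) (hA : EA A) (hB : EA B) (h1 : B ≤ normalizer (A : Set Γ))
    (h2 : Nat.card A ≤ Nat.card B) : B = A := by
  have : Fact (Nat.Prime 2) := ⟨Nat.prime_two⟩
  obtain ⟨P, hP⟩ := (IsPGroup.to_sup_of_normal_left' hA.isPGroup hB.isPGroup h1).exists_le_sylow
  obtain ⟨c, hc⟩ := h P
  rw [hc.eq (le_sup_right.trans hP) hB (by rwa [card_cjS]), ← hc.eq (le_sup_left.trans hP) hA (card_cjS _ _).le]

end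

/-- An extension of a double cover by an outer involution. -/
structure Ex2 {X Q : Type*} [Group Q] (F : FS X) (σ : Perm X) (ρ : Q →* Perm X) (d : Q) : Prop where
  aut : ∀ h, ρ h ∈ F.aut
  le : F.grp ≤ ρ.range
  sig : σ ∈ ρ.range
  two : ∀ a, ρ a ∉ F.grp → ρ a * σ ∈ F.grp
  ker : ∀ h, ρ h = 1 ↔ h = 1 ∨ h = d
  ne : d ≠ 1
  perf : Group.IsPerfect (F.grp.comap ρ)

theorem grp_conj {X : Type*} {F : FS X} {g h : Perm X} (hg : g ∈ F.aut) (hh : h ∈ F.grp) : g * h * g⁻¹ ∈ F.grp := by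
  have : F.grp ≤ F.grp.comap (MulAut.conj g).toMonoidHom := FS.gen_le.mpr fun p _ =>
    mem_comap.mpr (by simpa [← FS.aut_T hg] using FS.T_mem_grp (F := F) (g p))
  exact this hh

section
variable {X : Type*} [Finite X] {F : FS X} {O : X} {s : ℕ → X} {V : ℕ} {S : Subgroup (Perm X)} {σ : Perm X}
  {Q : Type u} [Group Q] [Finite Q] {ρ : Q →* Perm X} {d : Q} {ψ : X → Q}

theorem Ex2.rho_d (h : Ex2 F σ ρ d) : ρ d = 1 := (h.ker d).mpr (Or.inr rfl)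

theorem Ex2.d_mem (h : Ex2 F σ ρ d) : d ∈ F.grp.comap ρ := mem_comap.mpr (h.rho_d ▸ one_mem _)

theorem Ex2.ex (h : Ex2 F σ ρ d) : Ex F (ρ.comp (F.grp.comap ρ).subtype) ⟨d, h.d_mem⟩ :=
  ⟨by rw [MonoidHom.range_comp, range_subtype, map_comap_eq_self h.le], fun y => by
    rw [Subtype.ext_iff, Subtype.ext_iff]; exact h.ker y, fun e => h.ne (congrArg Subtype.val e)⟩

theorem Ex2.sq (h : Ex2 F σ ρ d) : d * d = 1 := congrArg Subtype.val h.ex.sq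

theorem Ex2.comm (h : Ex2 F σ ρ d) (g : Q) : g * d = d * g :=
  mul_inv_eq_iff_eq_mul.mp (((h.ker (g * d * g⁻¹)).mp (by simp [h.rho_d])).resolve_left fun e => h.ne (by simpa using e))

theorem Ex2.eq_or (h : Ex2 F σ ρ d) {a b : Q} (e : ρ a = ρ b) : a = b ∨ a = b * d :=
  ((h.ker (b⁻¹ * a)).mp (by simp [e])).imp (fun e => (inv_mul_eq_one.mp e).symm) inv_mul_eq_iff_eq_mul.mp

theorem Ex2.card_ker (h : Ex2 F σ ρ d) : Nat.card ρ.ker = 2 := by
  rw [← SetLike.coe_sort_coe, show (ρ.ker : Set Q) = {1, d} from Set.ext h.ker, Nat.card_coe_set_eq,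
    Set.ncard_pair h.ne.symm]

theorem Ex2.mul_mem (h : Ex2 F σ ρ d) (U : Out F s S σ) {a b : Q} (ha : ρ a ∉ F.grp) (hb : ρ b ∉ F.grp) :
    ρ (a * b) ∈ F.grp := by
  have := F.grp.mul_mem (h.two a ha) (inv_mem (h.two b⁻¹ (by rwa [map_inv, inv_mem_iff])))
  simpa [mul_assoc] using this

theorem Ex2.relIndex (h : Ex2 F σ ρ d) (U : Out F s S σ) : (F.grp.comap ρ).index = 2 := by
  obtain ⟨t, ht⟩ := h.sig
  refine index_eq_two_iff.mpr ⟨t, fun b => ?_⟩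
  by_cases hb : ρ b ∈ F.grp
  · exact Or.inr ⟨hb, fun e => U.out (ht ▸ (mul_mem_cancel_left hb).mp (by simpa using e))⟩
  · exact Or.inl ⟨h.mul_mem U hb (ht ▸ U.out), hb⟩

theorem AA_le : AA F s 9 ρ ≤ F.grp.comap ρ := comap_mono (clos_le.mpr fun _ _ => FS.T_mem_grp _)

theorem AA_map : (AA F s 9 (ρ.comp (F.grp.comap ρ).subtype)).map (F.grp.comap ρ).subtype = AA F s 9 ρ := by
  rw [AA, ← comap_comap, map_comap_eq_self (by rw [range_subtype]; exact AA_le)]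

theorem Ex2.lf (h : Ex2 F σ ρ d) (M : Mo.{u} F O s 9 21 V) (U : Out F s S σ) {ψ : X → F.grp.comap ρ}
    (L : Lf F (ρ.comp (F.grp.comap ρ).subtype) ψ) : Lf F ρ fun p => ψ p := by
  obtain ⟨t, ht⟩ := h.sig
  have r : ∀ p, ρ (ψ p) = F.T p := L.rho
  have e0 : ∀ n, ρ n ∈ F.grp → ∀ p, (ψ (ρ n p) : Q) = n * ψ p * n⁻¹ := fun n hn p =>
    congrArg Subtype.val (L.eqv ⟨n, hn⟩ p)
  have k0 : ∀ p, t * ψ p * t⁻¹ = ψ (σ p) ∨ t * ψ p * t⁻¹ = ψ (σ p) * d := fun p =>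
    h.eq_or (by rw [r, map_mul, map_mul, map_inv, r, ht, FS.aut_T (U.aut U.mem)])
  have k1 : ∃ p, t * ψ p * t⁻¹ = ψ (σ p) := by
    by_contra hc
    push Not at hc
    obtain ⟨l, l1, ⟨n, hn⟩, l3, l4⟩ := U.hep
    have : ∀ l : List X, (∀ p ∈ l, σ p = p) →
        t * (l.map fun p => (ψ p : Q)).prod * t⁻¹ = (l.map fun p => (ψ p : Q)).prod * d ^ l.length := fun l hl => by
      induction l with
      | nil => simp
      | cons p l ih =>
        have e := (k0 p).resolve_left (hc p)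
        rw [hl p (by simp)] at e
        rw [List.map_cons, List.prod_cons, ← _root_.conj_mul, e, ih fun q hq => hl q (by simp [hq]), List.length_cons,
          pow_succ', mul_assoc, ← mul_assoc d, ← h.comm, mul_assoc, mul_assoc]
    have e := this l l4
    rw [hn, pow_succ, pow_mul, pow_two, h.sq, one_pow, one_mul] at e
    rcases (h.ker _).mp ((rho_prod r l).trans l3) with e' | e' <;> rw [e'] at e
    · exact h.ne (by simpa using e.symm)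
    · rw [h.comm, mul_inv_cancel_right, h.sq] at e; exact h.ne e
  obtain ⟨p, hp⟩ := k1
  have k2 : ∀ q, t * ψ q * t⁻¹ = ψ (σ q) := fun q => by
    obtain ⟨g, hg, rfl⟩ := (M.r3.at p).tr q
    obtain ⟨n, rfl⟩ := h.le hg
    have e1 := e0 (t * n * t⁻¹) (by rw [map_mul, map_mul, map_inv]; exact grp_conj (h.aut t) hg) (σ p)
    rw [← hp, map_mul, map_mul, map_inv, ht, Perm.mul_apply, Perm.mul_apply, show σ⁻¹ (σ p) = p by simp] at e1
    rw [e1, e0 n hg]; group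
  refine ⟨h.aut, r, fun p => congrArg Subtype.val (L.sq p), fun y p => ?_⟩
  by_cases hy : ρ y ∈ F.grp
  · exact e0 y hy p
  · have e1 := e0 (y * t⁻¹) (h.mul_mem U hy (by rw [map_inv, inv_mem_iff, ht]; exact U.out)) (σ p)
    rw [← k2, map_mul, map_inv, ht, Perm.mul_apply, show σ⁻¹ (σ p) = p by simp] at e1
    rw [e1]; group

theorem Ex2.ea (h : Ex2 F σ ρ d) (M : Mo.{u} F O s 9 21 V) : EA (AA F s 9 ρ) := by
  rw [← AA_map]
  rintro _ ⟨y, hy, rfl⟩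
  exact congrArg Subtype.val (M.ea h.ex y hy)

theorem Ex2.card (h : Ex2 F σ ρ d) (M : Mo.{u} F O s 9 21 V) : Nat.card (AA F s 9 ρ) = 1024 := by
  rw [← AA_map, card_subtype, M.cq.card_AA h.ex]; norm_num

theorem Ex2.sq_one (h : Ex2 F σ ρ d) (M : Mo.{u} F O s 9 21 V) {y : Q} (hy : ρ y ∈ F.grp) (e : ρ y * ρ y = 1) :
    y * y = 1 := congrArg Subtype.val (M.sq h.ex (y := ⟨y, hy⟩) e)

theorem Ex2.not_sq (h : Ex2 F σ ρ d) (M : Mo.{u} F O s 9 21 V) {y : Q} (hy : ρ y ∈ F.grp) : y * y ≠ d := fun e =>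
  h.ne (e.symm.trans (h.sq_one M hy (by rw [← map_mul, e, h.rho_d])))

theorem Ex2.exists_conj (h : Ex2 F σ ρ d) (M : Mo.{u} F O s 9 21 V) {y : Q} (hy : ρ y ∈ F.grp) (e : y * y = 1) :
    ∃ c, c * y * c⁻¹ ∈ AA F s 9 ρ := by
  obtain ⟨c, hc⟩ := M.exists_conj h.ex (y := ⟨y, hy⟩) (Subtype.ext e)
  exact ⟨c, hc⟩

theorem Ex2.S_le (h : Ex2 F σ ρ d) (U : Out F s S σ) : S ≤ ρ.range := fun g hg => by
  by_cases h1 : g ∈ F.grp
  · exact h.le h1
  · exact (mul_mem_cancel_right h.sig).mp (h.le (U.two g hg h1))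

theorem Ex2.um (h : Ex2 F σ ρ d) (M : Mo.{u} F O s 9 21 V) (U : Out F s S σ) : UM (S.comap ρ) (AA F s 9 ρ) := by
  refine ⟨comap_mono U.le, h.ea M, fun B hB hB' hc => ?_⟩
  refine map_le_iff_le_comap.mp (U.um _ (map_le_iff_le_comap.mpr hB) ?_ ?_)
  · rintro _ ⟨y, hy, rfl⟩
    rw [← map_mul, hB' y hy, map_one]
  · rw [h.card M, card_eq_map_mul ρ B] at hc
    have := (card_le_of_le (inf_le_left : ρ.ker ⊓ B ≤ _)).trans_eq h.card_ker
    nlinarith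

theorem Ex2.pg (h : Ex2 F σ ρ d) (U : Out F s S σ) : IsPGroup 2 (S.comap ρ) :=
  U.pg.comap_of_ker_isPGroup ρ (IsPGroup.of_card (n := 1) h.card_ker)

theorem Ex2.odd (h : Ex2 F σ ρ d) (U : Out F s S σ) : ¬ 2 ∣ (S.comap ρ).index := fun e => U.syl (by
  rw [index_comap] at e
  exact e.trans (Dvd.intro _ (relIndex_mul_relIndex _ _ _ (h.S_le U) (by rintro _ ⟨y, rfl⟩; exact h.aut y))))

theorem Ex2.js (h : Ex2 F σ ρ d) (M : Mo.{u} F O s 9 21 V) (U : Out F s S σ) : JS (AA F s 9 ρ) :=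
  js_of (h.um M U) (h.pg U) (h.odd U)

theorem Ex2.norm (h : Ex2 F σ ρ d) (M : Mo.{u} F O s 9 21 V) (U : Out F s S σ) {y : Q} (hy : ρ y ∈ S) :
    y ∈ normalizer (AA F s 9 ρ : Set Q) :=
  mem_normalizer_fintype fun _ ha => (h.um M U).conj_mem hy ha

theorem Ex2.into (h : Ex2 F σ ρ d) (M : Mo.{u} F O s 9 21 V) (U : Out F s S σ) {y : Q}
    (hy : y ∈ normalizer (AA F s 9 ρ : Set Q)) (e : y * y ∈ AA F s 9 ρ) :
    ∃ c ∈ normalizer (AA F s 9 ρ : Set Q), ρ (c * y * c⁻¹) ∈ S := by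
  have : Fact (Nat.Prime 2) := ⟨Nat.prime_two⟩
  have h1 : IsPGroup 2 (zpowers y) := by
    refine IsPGroup.of_card_dvd_pow (n := 2) ?_
    rw [Nat.card_zpowers, orderOf_dvd_iff_pow_eq_one, show y ^ 2 ^ 2 = y * y * (y * y) by
      rw [show 2 ^ 2 = 2 + 2 from rfl, pow_add, pow_two]]
    exact h.ea M _ e
  obtain ⟨P, hP⟩ := (IsPGroup.to_sup_of_normal_left' (h.ea M).isPGroup h1 (zpowers_le.mpr hy)).exists_le_sylow
  obtain ⟨c, hc⟩ := MulAction.exists_smul_eq Q P ((h.pg U).toSylow (h.odd U))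
  have h2 : S.comap ρ = cjS c P := (congrArg (fun P : Sylow 2 Q => (P : Subgroup Q)) hc).symm
  refine ⟨c, norm_of_cjS ((h.um M U).eq (h2 ▸ map_mono (le_sup_left.trans hP)) ((h.ea M).cjS c) (card_cjS _ _).ge), ?_⟩
  change _ ∈ S.comap ρ
  rw [h2, mem_cjS]
  simpa [mul_assoc] using hP (mem_sup_right (mem_zpowers y))

theorem Ex2.cen_le (h : Ex2 F σ ρ d) {y : Q} {g : Perm X} {n : ℕ}
    (h1 : ∀ a ∈ sp (fun i => F.T (s i)) 9, a * ρ y = ρ y * a → a * g = g * a)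
    (h2 : Nat.card (sp (fun i => F.T (s i)) 9 ⊓ centralizer {g} : Subgroup _) ≤ n) :
    Nat.card (AA F s 9 ρ ⊓ centralizer {y} : Subgroup Q) ≤ n * 2 := by
  rw [card_eq_map_mul ρ]
  refine Nat.mul_le_mul ((card_le_of_le ?_).trans h2) ((card_le_of_le inf_le_left).trans_eq h.card_ker)
  rintro _ ⟨a, ha, rfl⟩
  exact ⟨ha.1, mem_centralizer_singleton_iff.mpr (h1 _ ha.1 (by
    rw [← map_mul, ← map_mul, mem_centralizer_singleton_iff.mp ha.2]))⟩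

theorem Ex2.cenO (h : Ex2 F σ ρ d) (M : Mo.{u} F O s 9 21 V) (U : Out F s S σ) {y : Q}
    (hy : y ∈ normalizer (AA F s 9 ρ : Set Q)) (e : y * y ∈ AA F s 9 ρ) (ho : ρ y ∉ F.grp) :
    Nat.card (AA F s 9 ρ ⊓ centralizer {y} : Subgroup Q) = 128 := by
  obtain ⟨c, hc, h1⟩ := h.into M U hy e
  obtain ⟨ψ, L⟩ := M.lf h.ex
  replace L := h.lf M U L
  rw [← card_cen_conj hc]
  have h2 : ρ (c * y * c⁻¹) ∉ F.grp := fun e => ho (by
    simpa [mul_assoc] using grp_conj (h.aut c⁻¹) e)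
  have h3 : c * y * c⁻¹ * (c * y * c⁻¹) ∈ AA F s 9 ρ := by rw [_root_.conj_mul]; exact norm_mem hc e
  generalize c * y * c⁻¹ = x at h1 h2 h3
  obtain ⟨h4, h5⟩ := U.cen _ h1 h2 (map_mul ρ x x ▸ h3)
  refine le_antisymm (h.cen_le (fun _ _ e => e) h4) ?_
  rw [card_eq_map_mul ρ, (inf_eq_left (a := ρ.ker)).mpr, h.card_ker]
  · refine Nat.mul_le_mul_right 2 (h5.trans (card_le_of_le (FS.gen_le.mpr ?_)))
    rintro _ ⟨⟨j, hj, rfl⟩, h6⟩
    refine ⟨ψ (s j), ⟨mem_comap.mpr ?_, mem_centralizer_singleton_iff.mpr ?_⟩, L.rho _⟩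
    · rw [L.rho, M.cq.sp_eq]; exact FS.T_mem_gen ⟨j, hj, rfl⟩
    · have := L.eqv x (s j)
      rw [h6] at this
      exact eq_mul_inv_iff_mul_eq.mp this
  · intro a ha
    rcases (h.ker a).mp ha with rfl | rfl
    · exact one_mem _
    · exact ⟨mem_comap.mpr (h.rho_d ▸ one_mem _), mem_centralizer_singleton_iff.mpr (h.comm x).symm⟩

theorem Ex2.root (h : Ex2 F σ ρ d) (M : Mo.{u} F O s 9 21 V) (U : Out F s S σ) (L : Lf F ρ ψ) :
    ∃ a ∈ normalizer (AA F s 9 ρ : Set Q), a * a ∈ AA F s 9 ρ ∧ IsConj (ψ (s 0) * ψ (s 1)) (a * a) ∧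
      Nat.card (AA F s 9 ρ ⊓ centralizer {a} : Subgroup Q) ≤ 64 := by
  obtain ⟨g, g1, g2, g3, g4, g5⟩ := U.inn
  obtain ⟨y, rfl⟩ := h.le g2
  have m : ∀ j < 21, F.T (s j) ∈ sp (fun i => F.T (s i)) 9 := fun j hj => by
    rw [M.cq.sp_eq]; exact FS.T_mem_gen ⟨j, hj, rfl⟩
  have e : y * ψ (s 4) * (y * ψ (s 4)) = ψ (s 5) * ψ (s 4) := by
    rw [← g4, L.eqv, inv_eq_of_mul_eq_one_left (h.sq_one M g2 g3)]; simp only [mul_assoc]
  refine ⟨y * ψ (s 4), h.norm M U (by rw [map_mul, L.rho]; exact S.mul_mem g1 (U.le (m 4 (by norm_num)))), ?_, ?_,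
    h.cen_le (fun a ha e => ?_) g5⟩
  · rw [e]
    exact Subgroup.mul_mem _ (mem_comap.mpr (L.rho _ ▸ m 5 (by norm_num))) (mem_comap.mpr (L.rho _ ▸ m 4 (by norm_num)))
  · obtain ⟨a, ha, a1⟩ := (M.r3.at (s 0)).tr (s 5)
    obtain ⟨b, hb, b1, b2⟩ := (M.r3.at (s 5)).trN (a (s 1)) (by
      rw [← a1, FS.aut_mem_nb (FS.grp_le_aut ha)]
      exact ⟨fun e => absurd (M.cq.inj 1 (by norm_num) 0 (by norm_num) e) (by norm_num),
        M.cq.cl 0 (by norm_num) 1 (by norm_num)⟩) (s 4)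
      ⟨fun e => absurd (M.cq.inj 4 (by norm_num) 5 (by norm_num) e) (by norm_num), M.cq.cl 5 (by norm_num) 4 (by norm_num)⟩
    obtain ⟨c, hc⟩ := h.le (F.grp.mul_mem hb ha)
    refine isConj_iff.mpr ⟨c, ?_⟩
    rw [e, ← _root_.conj_mul, ← L.eqv, ← L.eqv, hc, Perm.mul_apply, Perm.mul_apply, a1, b1, b2]
  · rw [map_mul, L.rho, mul_assoc, ← M.cq.ci.ea.comm ha (m 4 (by norm_num)), ← mul_assoc, ← mul_assoc] at e
    exact mul_right_cancel e

theorem tri (M : Mo.{u} F O s 9 21 V) (U : Out F s S σ) {p q r : X} (h : q ∈ F.nb p) : F.T p * F.T q ≠ F.T r := by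
  intro e
  have n1 : ∀ p, F.T p ≠ 1 := fun p e => M.r3.t_ne_one p (Subtype.ext e)
  have c := FS.fix_iff_commute.mp h.2
  have c1 : r ∈ F.nb p := ⟨fun e' => n1 q (by rw [e'] at e; simpa using e),
    FS.fix_iff_commute.mpr (e ▸ (Commute.refl _).mul_right c)⟩
  have c2 : r ∈ F.nb q := ⟨fun e' => n1 p (by rw [e'] at e; simpa using e),
    FS.fix_iff_commute.mpr (e ▸ c.symm.mul_right (Commute.refl _))⟩
  obtain ⟨g, hg, h1⟩ := M.cs [p, q, r] (clq_cons.mpr ⟨by simp [h, c1], clq_cons.mpr ⟨by simp [c2],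
    clq_cons.mpr ⟨by simp, clq_nil⟩⟩⟩) le_rfl
  obtain ⟨i, hi, e1⟩ := h1 p (by simp)
  obtain ⟨j, hj, e2⟩ := h1 q (by simp)
  obtain ⟨k, hk, e3⟩ := h1 r (by simp)
  refine U.tri i hi j hj k hk (fun e' => h.1 (g.injective (by rw [e1, e2, e']))) ?_
  have := FS.aut_T (FS.grp_le_aut hg)
  rw [← e1, ← e2, ← e3, this, this, this, _root_.conj_mul, e]

theorem T_mem (M : Mo.{u} F O s 9 21 V) (U : Out F s S σ) {p : X} (h : ∀ j < 21, F.T p (s j) ∈ F.cl (s j)) :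
    F.T p ∈ sp (fun i => F.T (s i)) 9 :=
  U.kr _ (FS.T_mem_aut p) fun j hj => by_contra fun e => e (FS.cl_comm.mp (by
    have := h j hj
    rwa [FS.T_swap e, FS.aut_mem_cl_of_fix (FS.T_mem_aut _) (F.self _)] at this))

end

end Cfsg.Agent.H99.F22
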