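import Mathlib
import Cfsg.Agent.H99.F22K

/-!
# Groups with an involution centraliser `2 · U₆(2) · 2`: the conjugates of the involution
-/

set_option autoImplicit false
set_option linter.unusedSectionVars false

universe u

namespace Cfsg.Agent.H99.F22

open Cfsg.Agent.H41 Cfsg.Agent.H41.Rec Cfsg.Agent.H42 Cfsg.Agent.H45 Cfsg.Agent.H60 Equiv Subgroup

section
variable {Γ Δ : Type*} [Group Γ] [Group Δ] {A : Subgroup Γ} {f : Γ →* Δ}

theorem map_cen (hf : Function.Injective f) (y : Γ) :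
    Nat.card (A.map f ⊓ centralizer {f y} : Subgroup Δ) = Nat.card (A ⊓ centralizer {y} : Subgroup Γ) := by
  rw [← card_map_of_injective hf (K := A ⊓ centralizer {y})]
  congr 2
  ext x
  constructor
  · rintro ⟨⟨a, ha, rfl⟩, h⟩
    exact ⟨a, ⟨ha, mem_centralizer_singleton_iff.mpr (hf (by
      rw [map_mul, map_mul]; exact mem_centralizer_singleton_iff.mp h))⟩, rfl⟩
  · rintro ⟨a, ha, rfl⟩
    exact ⟨⟨a, ha.1, rfl⟩, mem_centralizer_singleton_iff.mpr (by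
      rw [← map_mul, ← map_mul, mem_centralizer_singleton_iff.mp ha.2])⟩

theorem map_norm (hf : Function.Injective f) {y : Γ} :
    f y ∈ normalizer (A.map f : Set Δ) ↔ y ∈ normalizer (A : Set Γ) :=
  ⟨fun h => norm_of_cjS (map_injective hf (by rw [cjS_map, cjS_eq h])),
    fun h => norm_of_cjS (by rw [← cjS_map, cjS_eq h])⟩

/-- The commutator map. -/
def cm (hA : EA A) {x : Γ} (hx : x ∈ normalizer (A : Set Γ)) : A →* Γ where
  toFun a := a * (x * a * x⁻¹)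
  map_one' := by simp
  map_mul' a b := by
    rw [coe_mul, ← _root_.conj_mul, mul_assoc, mul_assoc (a : Γ), ← mul_assoc (b : Γ), ← mul_assoc (x * a * x⁻¹),
      hA.comm b.2 (norm_mem hx a.2)]

theorem card_cm [Finite Γ] (hA : EA A) {x : Γ} (hx : x ∈ normalizer (A : Set Γ)) :
    Nat.card (A ⊓ centralizer {x} : Subgroup Γ) * Nat.card (cm hA hx).range = Nat.card A := by
  rw [← card_mul_index (cm hA hx).ker, index_ker, ← card_subtype A (cm hA hx).ker]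
  congr 3
  ext a
  constructor
  · rintro ⟨h1, h2⟩
    refine ⟨⟨a, h1⟩, ?_, rfl⟩
    change a * (x * a * x⁻¹) = 1
    rw [← mem_centralizer_singleton_iff.mp h2, mul_inv_cancel_right, hA a h1]
  · rintro ⟨a, h, rfl⟩
    refine ⟨a.2, mem_centralizer_singleton_iff.mpr ?_⟩
    have h1 : (a : Γ) * (x * a * x⁻¹) = a * a := h.trans (hA a a.2).symm
    exact (mul_inv_eq_iff_eq_mul.mp (mul_left_cancel h1)).symm

theorem exists_orbit_le {H Ω : Type*} [Group H] [MulAction H Ω] [Finite H] [Finite Ω] (h : IsPGroup 2 H)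
    (hΩ : ¬ 4 ∣ Nat.card Ω) : ∃ ω : Ω, (MulAction.stabilizer H ω).index ≤ 2 := by
  classical
  have : Fact (Nat.Prime 2) := ⟨Nat.prime_two⟩
  by_contra hc
  push Not at hc
  refine hΩ ?_
  have := Fintype.ofFinite (MulAction.orbitRel.Quotient H Ω)
  rw [Nat.card_congr (MulAction.selfEquivSigmaOrbits H Ω), Nat.card_sigma]
  refine Finset.dvd_sum fun ω _ => ?_
  obtain ⟨n, hn⟩ := h.index (MulAction.stabilizer H ω.out)
  have h1 := hc ω.out
  rw [Nat.card_coe_set_eq, ← MulAction.index_stabilizer, hn]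
  rw [hn] at h1
  exact pow_dvd_pow 2 (show 2 ≤ n by by_contra h2; interval_cases n <;> omega)

end

section
variable {X : Type*} [Finite X] {F : FS X} {O : X} {s : ℕ → X} {V : ℕ} {S : Subgroup (Perm X)} {σ : Perm X}
  {Q : Type u} [Group Q] [Finite Q] {ρ : Q →* Perm X} {d : Q} {ψ : X → Q}
  {G : Type u} [Group G] [Finite G] {ι : Q →* G}

/-- A variant of the classification of the conjugates in the large elementary abelian group. -/
theorem exists_lf {k m : ℕ} (M : Mo.{u} F O s k m V) (h : Ex F ρ d) (hp : Group.IsPerfect Q)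
    (inj : Function.Injective ι) (h2 : ∀ ψ, Lf F ρ ψ → ¬ IsConj (ι d) (ι (ψ (s 0)) * ι (ψ (s 1))))
    (hn : ∃ y, IsConj (ι d) (ι y) ∧ y ≠ d)
    (fus : ∀ x, IsConj (ι d) x → x ∈ (AA F s k ρ).map ι →
      ∃ g, (∀ a ∈ (AA F s k ρ).map ι, g * a * g⁻¹ ∈ (AA F s k ρ).map ι) ∧ g * ι d * g⁻¹ = x) :
    ∃ ψ, Lf F ρ ψ ∧ ∀ x, (IsConj (ι d) x ∧ x ∈ (AA F s k ρ).map ι) ↔ x = ι d ∨ ∃ j < m, x = ι (ψ (s j)) := by
  obtain ⟨ψ, L⟩ := M.lf h
  obtain ⟨σs, a, f1, f2⟩ := M.fin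
  have c0 := M.cq.ci_ee h L
  have c1 : CI (fun i => ι (ee d (fun i => ψ (s i)) i)) (k + 1) :=
    ⟨fun i hi => by rw [← map_mul, c0.sq i hi, map_one], fun i hi j hj => by rw [← map_mul, c0.comm i hi j hj, map_mul]⟩
  have c2 : sp (fun i => ι (ee d (fun i => ψ (s i)) i)) (k + 1) = (AA F s k ρ).map ι := by
    rw [← M.cq.sp_ee h L, map_clos]
  have dd : ∀ x, IsConj (ι d) x → x * x = 1 ∧ x ≠ 1 := fun x hx => by
    obtain ⟨g, rfl⟩ := isConj_iff.mp hx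
    exact ⟨by rw [_root_.conj_mul, ← map_mul, h.sq]; simp, fun e => h.ne (inj (by simpa using e))⟩
  obtain ⟨z, z1, z2⟩ := c1.fin (f := fun j => ι (ψ (s j))) (D := conjugatesOf (ι d)) (c1.ind_of_card (by
      rw [c2, Subgroup.card_map_of_injective inj, M.cq.card_AA h])) f1 M.cq.km M.hm (fun j hj => by
      rw [← map_th, ← map_th, th_shift, th_shift, Nat.mul_add_div two_pos, Nat.mul_div_cancel_left _ two_pos]
      simp only [Nat.testBit_zero, Nat.mul_mod_right, Nat.mul_add_mod, Nat.reduceDiv, add_zero, Nat.reduceMod,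
        decide_true, decide_false, Nat.zero_ne_one, if_true, Bool.false_eq_true, if_false, one_mul]
      change ι _ = ι (th (fun i => ψ (s i)) k _) ∨ _ ∧ ι _ = ι (d * th (fun i => ψ (s i)) k _)
      rcases lt_or_ge j k with hk | hk
      · exact Or.inl (by rw [M.cq.bas j hk, th_two_pow, if_pos hk])
      · exact (h.eq_or ((L.rho _).trans ((M.cq.rel j hj).trans (L.rho_th _).symm))).imp (congrArg ι)
          fun e => ⟨hk, by rw [e, h.comm]⟩)
    (fun _ _ => rfl) (fun σ hσ => by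
      obtain ⟨g, hg, g1⟩ := f2 σ hσ
      obtain ⟨c, rfl⟩ := h.surj hg
      refine ⟨ι c, ?_, fun j hj => ⟨(g1 j hj).1, by rw [← (g1 j hj).2, L.eqv]; simp⟩⟩
      change ι c * ι d * _ = ι d
      rw [← map_mul, h.comm, map_mul, mul_inv_cancel_right])
    (fun g x hx => hx.trans (isConj_iff.mpr ⟨g, rfl⟩)) (fun e => (dd 1 e).2 rfl) (IsConj.refl _) (h2 ψ L)
    (by
      obtain ⟨y, x1, x3⟩ := hn
      obtain ⟨c, hc⟩ := M.exists_conj h (y := y) (inj (by rw [map_mul, map_one]; exact (dd _ x1).1))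
      refine ⟨ι (c * y * c⁻¹), x1.trans (isConj_iff.mpr ⟨ι c, by simp⟩), c2 ▸ ⟨_, hc, rfl⟩, fun e => x3 ?_⟩
      have e' : c * y * c⁻¹ = d := inj e
      rw [mul_inv_eq_iff_eq_mul, ← h.comm] at e'
      rw [mul_left_cancel e'])
    (fun x hx hA => by rw [c2] at hA ⊢; exact fus x hx hA)
  obtain ⟨z, rfl, z3⟩ : ∃ y, ι y = z ∧ (y = 1 ∨ y = d) := by
    rcases z1 with rfl | rfl
    exacts [⟨1, map_one ι, Or.inl rfl⟩, ⟨d, rfl, Or.inr rfl⟩]
  have L' := L.mul h z3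
  simp only [← map_mul, c2] at z2
  exact ⟨_, L', z2.resolve_left fun e => M.nsp Q ρ d _ h L' (fun j hj => inj (by rw [map_th]; exact e j hj)) hp⟩

/-- The standing hypotheses. -/
structure Cf (F : FS X) (O : X) (s : ℕ → X) (V : ℕ) (S : Subgroup (Perm X)) (σ : Perm X) (ρ : Q →* Perm X) (d : Q)
    (ι : Q →* G) : Prop where
  M : Mo.{u} F O s 9 21 V
  U : Out F s S σ
  h : Ex2 F σ ρ d
  I : In ι d
  hn : ∃ y, ρ y ∈ F.grp ∧ IsConj (ι d) (ι y) ∧ y ≠ d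

/-- The elementary abelian group of order `2 ^ 10`. -/
abbrev AG (F : FS X) (s : ℕ → X) (ρ : Q →* Perm X) (ι : Q →* G) : Subgroup G := (AA F s 9 ρ).map ι

variable (C : Cf F O s V S σ ρ d ι)
include C

theorem Cf.ea : EA (AG F s ρ ι) := by
  rintro _ ⟨y, hy, rfl⟩
  rw [← map_mul, C.h.ea C.M y hy, map_one]

theorem Cf.card : Nat.card (AG F s ρ ι) = 1024 := by rw [card_map_of_injective C.I.inj, C.h.card C.M]

theorem Cf.d_mem : ι d ∈ AG F s ρ ι := ⟨d, mem_comap.mpr (C.h.rho_d ▸ one_mem _), rfl⟩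

theorem Cf.comm (y : Q) : Commute (ι d) (ι y) := Commute.map (C.h.comm y).symm ι

theorem Cf.dd {x : G} (hx : IsConj (ι d) x) : x * x = 1 ∧ x ≠ 1 := by
  obtain ⟨g, rfl⟩ := isConj_iff.mp hx
  exact ⟨by rw [_root_.conj_mul, ← map_mul, C.h.sq]; simp, fun e => C.h.ne (C.I.inj (by simpa using e))⟩

theorem Cf.big {B : Subgroup G} (hB : EA B) (h1 : ∀ b ∈ B, Commute (ι d) b) (h2 : 1024 ≤ Nat.card B) :
    ∃ c, B = cjS (ι c) (AG F s ρ ι) := by
  have h3 : B ≤ ι.range := fun b hb => C.I.cen b (h1 b hb)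
  have h4 : Nat.card (B.comap ι) = Nat.card B := by
    rw [card_comap _ h3, (MonoidHom.ker_eq_bot_iff _).mpr C.I.inj, card_bot, mul_one]
  obtain ⟨c, hc⟩ := (C.h.js C.M C.U).exists_le (B := B.comap ι)
    (fun y hy => C.I.inj (by rw [map_mul, map_one]; exact hB _ hy)) (by rwa [h4, C.h.card C.M])
  refine ⟨c, ?_⟩
  rw [← cjS_map, ← eq_of_le_of_card_ge hc (by rwa [card_cjS, h4, C.h.card C.M]), map_comap_eq_self h3]

theorem Cf.fusion {x : G} (hx : IsConj (ι d) x) (hA : x ∈ AG F s ρ ι) :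
    ∃ g ∈ normalizer (AG F s ρ ι : Set G), g * ι d * g⁻¹ = x := by
  obtain ⟨g, rfl⟩ := isConj_iff.mp hx
  obtain ⟨c, hc⟩ := C.big (C.ea.cjS g⁻¹) (fun a ha => by
    simpa [mul_assoc] using Commute.map (C.ea.comm hA (mem_cjS.mp ha)) (MulAut.conj g⁻¹)) (by rw [card_cjS, C.card])
  refine ⟨g * ι c, norm_of_cjS (by rw [← cjS_cjS, ← hc, cjS_cjS, mul_inv_cancel, cjS_one]), ?_⟩
  rw [mul_assoc g, ← (C.comm c).eq]; group

theorem Cf.cenO {y : Q} (hy : ι y ∈ normalizer (AG F s ρ ι : Set G)) (e : ι y * ι y ∈ AG F s ρ ι) (ho : ρ y ∉ F.grp) :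
    Nat.card (AG F s ρ ι ⊓ centralizer {ι y} : Subgroup G) = 128 := by
  rw [map_cen C.I.inj]
  exact C.h.cenO C.M C.U ((map_norm C.I.inj).mp hy) (by rwa [← map_mul, mem_map_iff_mem C.I.inj] at e) ho

theorem Cf.not_conj (L : Lf F ρ ψ) : ¬ IsConj (ι d) (ι (ψ (s 0)) * ι (ψ (s 1))) := fun e => by
  obtain ⟨a, a1, a2, a3, a4⟩ := C.h.root C.M C.U L
  obtain ⟨g, g1, g2⟩ := C.fusion (e.trans (map_mul ι _ _ ▸ ι.map_isConj a3)) ⟨_, a2, rfl⟩
  have e1 : g⁻¹ * ι a * g * (g⁻¹ * ι a * g) = ι d := by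
    calc _ = g⁻¹ * ι (a * a) * g := by rw [map_mul]; group
      _ = _ := by rw [← g2]; group
  obtain ⟨y, hy⟩ := C.I.cen (g⁻¹ * ι a * g) (e1 ▸ (Commute.refl _).mul_left (Commute.refl _))
  have h1 := C.cenO (y := y) (hy ▸ mul_mem (mul_mem (inv_mem g1) ((map_norm C.I.inj).mpr a1)) g1)
    (by rw [hy, e1]; exact C.d_mem) fun h => C.h.not_sq C.M h (C.I.inj (by rw [map_mul, hy, e1]))
  have h2 := card_cen_conj (inv_mem g1) (ι a)
  rw [inv_inv, ← hy, h1, map_cen C.I.inj] at h2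
  omega

theorem Cf.cls : ∃ ψ, Lf F ρ ψ ∧ ∀ x, (IsConj (ι d) x ∧ x ∈ AG F s ρ ι) ↔ x = ι d ∨ ∃ j < 21, x = ι (ψ (s j)) := by
  have e : (AA F s 9 (ρ.comp (F.grp.comap ρ).subtype)).map (ι.comp (F.grp.comap ρ).subtype) = AG F s ρ ι := by
    rw [← map_map, AA_map]
  obtain ⟨ψ, L, h⟩ := exists_lf (ι := ι.comp (F.grp.comap ρ).subtype) C.M C.h.ex C.h.perf
    (C.I.inj.comp Subtype.val_injective) (fun ψ L => C.not_conj (C.h.lf C.M C.U L))
    (let ⟨y, h1, h2, h3⟩ := C.hn; ⟨⟨y, h1⟩, h2, fun e => h3 (congrArg Subtype.val e)⟩) fun x hx hA => by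
      rw [e] at hA ⊢
      obtain ⟨g, h1, h2⟩ := C.fusion hx hA
      exact ⟨g, fun a => norm_mem h1, h2⟩
  rw [e] at h
  exact ⟨_, C.h.lf C.M C.U L, h⟩

theorem Cf.inner : ∃ ψ, Lf F ρ ψ ∧ ∀ y, ρ y ∈ F.grp → IsConj (ι d) (ι y) → y = d ∨ ∃ p, y = ψ p := by
  obtain ⟨ψ, L, h⟩ := C.cls
  refine ⟨ψ, L, fun y hy h1 => ?_⟩
  obtain ⟨c, hc⟩ := C.h.exists_conj C.M hy (C.I.inj (by rw [map_mul, map_one]; exact (C.dd h1).1))
  rcases (h (ι (c * y * c⁻¹))).mp ⟨h1.trans (isConj_iff.mpr ⟨ι c, by simp⟩), _, hc, rfl⟩ with e | ⟨j, -, e⟩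
  · have e' := C.I.inj e
    rw [mul_inv_eq_iff_eq_mul, ← C.h.comm] at e'
    exact Or.inl (mul_left_cancel e')
  · exact Or.inr ⟨ρ c⁻¹ (s j), by rw [L.eqv, ← C.I.inj e]; simp [mul_assoc]⟩

theorem Cf.four {u v : Q} (hu : ρ u ∈ F.grp) (hv : ρ v ∈ F.grp) (c : u * v = v * u) (h1 : IsConj (ι d) (ι (d * u)))
    (h2 : IsConj (ι d) (ι (d * v))) (h3 : IsConj (ι d) (ι (d * (u * v)))) (hu1 : u ≠ 1) (hv1 : v ≠ 1) : u * v = 1 := by
  obtain ⟨ψ, L, h⟩ := C.inner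
  have r : ∀ y, ρ (d * y) = ρ y := fun y => by rw [map_mul, C.h.rho_d, one_mul]
  by_contra h4
  obtain ⟨p, hp⟩ := (h _ (r u ▸ hu) h1).resolve_left fun e => hu1 (by simpa using e)
  obtain ⟨q, hq⟩ := (h _ (r v ▸ hv) h2).resolve_left fun e => hv1 (by simpa using e)
  obtain ⟨t, ht⟩ := (h _ (by rw [r, map_mul]; exact mul_mem hu hv) h3).resolve_left fun e => h4 (by simpa using e)
  have e1 : F.T p = ρ u := by rw [← L.rho, ← hp, r]
  have e2 : F.T q = ρ v := by rw [← L.rho, ← hq, r]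
  refine tri C.M C.U (p := p) (q := q) (r := t) ⟨fun e => h4 ?_, FS.fix_iff_commute.mpr ?_⟩ ?_
  · have e3 := L.sq p
    nth_rw 2 [← e] at e3
    rwa [← hp, ← hq, mul_assoc, ← mul_assoc u, C.h.comm u, ← mul_assoc, ← mul_assoc, C.h.sq, one_mul] at e3
  · rw [e1, e2]; exact Commute.map c ρ
  · rw [e1, e2, ← L.rho, ← ht, r, map_mul]

theorem Cf.card_le_four {x : G} (hx : IsConj (ι d) x) {W : Subgroup G} (hW : EA W) (h1 : ∀ w ∈ W, Commute x w)
    (h2 : ∀ w ∈ W, IsConj (ι d) (x * w)) : Nat.card W ≤ 4 := by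
  obtain ⟨g, rfl⟩ := isConj_iff.mp hx
  have h3 : cjS g⁻¹ W ≤ ι.range := fun w hw => C.I.cen w (by
    simpa [mul_assoc] using (h1 _ (mem_cjS.mp hw)).map (MulAut.conj g⁻¹))
  have h4 : ∀ y ∈ (cjS g⁻¹ W).comap ι, IsConj (ι d) (ι (d * y)) := fun y hy =>
    (h2 _ (mem_cjS.mp hy)).trans (isConj_iff.mpr ⟨g⁻¹, by rw [map_mul ι]; group⟩)
  have h5 : EA ((cjS g⁻¹ W).comap ι) := fun y hy => C.I.inj (by
    rw [map_mul, map_one]; exact hW.cjS g⁻¹ (ι y) hy)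
  rw [← card_cjS g⁻¹, ← show Nat.card ((cjS g⁻¹ W).comap ι) = Nat.card (cjS g⁻¹ W) by
    rw [card_comap _ h3, (MonoidHom.ker_eq_bot_iff _).mpr C.I.inj, card_bot, mul_one]]
  generalize (cjS g⁻¹ W).comap ι = B at h4 h5
  have h6 : ((F.grp.comap ρ).subgroupOf B).index ≤ 2 := by
    rw [← C.h.relIndex C.U, ← relIndex_top_right (F.grp.comap ρ)]
    exact relIndex_le_of_le_right (H := F.grp.comap ρ) le_top index_ne_zero_of_finite
  have h7 : Nat.card ((F.grp.comap ρ).subgroupOf B) ≤ 2 := by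
    by_contra h8
    have := Fintype.ofFinite ((F.grp.comap ρ).subgroupOf B)
    rw [not_le, Nat.card_eq_fintype_card, Fintype.two_lt_card_iff] at h8
    obtain ⟨⟨⟨a, ha⟩, ha'⟩, ⟨⟨b, hb⟩, hb'⟩, ⟨⟨c, hc⟩, hc'⟩, n1, n2, n3⟩ := h8
    have n : ∀ {x y : Q}, y ∈ B → x * y = 1 → x = y := fun {x y} hy e =>
      mul_right_cancel (e.trans (h5 y hy).symm)
    have := C.four (u := a * b) (v := a * c) (mul_mem ha' hb' : a * b ∈ F.grp.comap ρ)
      (mul_mem ha' hc' : a * c ∈ F.grp.comap ρ) (h5.comm (mul_mem ha hb) (mul_mem ha hc)) (h4 _ (mul_mem ha hb))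
      (h4 _ (mul_mem ha hc)) (h4 _ (mul_mem (mul_mem ha hb) (mul_mem ha hc)))
      (fun e => n1 (by simpa using n hb e)) (fun e => n2 (by simpa using n hc e))
    exact n3 (by simpa using n (mul_mem ha hc) this)
  rw [← ((F.grp.comap ρ).subgroupOf B).card_mul_index]
  exact Nat.mul_le_mul h7 h6

theorem Cf.uf {e f w : G} (he : IsConj (ι d) e) (hf : IsConj (ι d) f) (he' : e ∈ AG F s ρ ι) (hf' : f ∈ AG F s ρ ι)
    (hw : w ∈ AG F s ρ ι) (h1 : w ≠ 1) (h2 : IsConj (ι d) (e * w)) (h3 : IsConj (ι d) (f * w)) : f = e ∨ f = e * w := by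
  obtain ⟨g, g1, rfl⟩ := C.fusion he he'
  obtain ⟨u, hu, eu⟩ := norm_mem' g1 hw
  obtain ⟨v, hv, ev⟩ := norm_mem' g1 (mul_mem he' hf')
  have cj : ∀ {x y : G}, IsConj (ι d) x → y = g⁻¹ * x * g → IsConj (ι d) y := fun h e =>
    h.trans (isConj_iff.mpr ⟨g⁻¹, by rw [e, inv_inv]⟩)
  have s0 : ι d * ι d = 1 := C.ea _ C.d_mem
  have a1 : ι (d * v) = g⁻¹ * f * g := by
    rw [map_mul, ev]
    calc _ = ι d * ι d * (g⁻¹ * f * g) := by group
      _ = _ := by rw [s0, one_mul]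
  by_cases h4 : v = 1
  · left
    rw [h4, mul_one] at a1
    rw [a1]; group
  right
  have := C.four (u := u) (v := v) (AA_le hu) (AA_le hv) ((C.h.ea C.M).comm hu hv)
    (cj h2 (by rw [map_mul, eu]; group)) (cj hf a1)
    (cj h3 (by rw [(C.h.ea C.M).comm hu hv, ← mul_assoc, map_mul, a1, eu]; group))
    (fun e => h1 (by rw [e, map_one] at eu; rw [show w = g * (g⁻¹ * w * g) * g⁻¹ by group, ← eu]; group)) h4
  rw [mul_right_cancel (this.trans (C.h.ea C.M v hv).symm)] at eu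
  calc f = g * (g⁻¹ * f * g) * g⁻¹ := by group
    _ = _ := by rw [← a1, map_mul, eu]; group

theorem Cf.pts : ∃ e : Option (Fin 21) → G, Function.Injective e ∧
    (∀ x, (IsConj (ι d) x ∧ x ∈ AG F s ρ ι) ↔ x ∈ Set.range e) ∧ ∀ (y : Q) (π : Perm (Fin 21)),
      (∀ j : Fin 21, ρ y (s j) = s (π j)) → ∀ i, ι y * e i * (ι y)⁻¹ = e (π.optionCongr i) := by
  obtain ⟨ψ, L, h⟩ := C.cls
  have n : ∀ p, ψ p ≠ d := fun p e => C.M.r3.t_ne_one p (Subtype.ext ((L.rho _).symm.trans (e ▸ C.h.rho_d)))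
  refine ⟨fun i => i.elim (ι d) fun j => ι (ψ (s j)), ?_, fun x => (h x).trans ⟨?_, ?_⟩, fun y π hπ i => ?_⟩
  · rintro (_ | i) (_ | j) e
    · rfl
    · exact absurd (C.I.inj e).symm (n _)
    · exact absurd (C.I.inj e) (n _)
    · exact congrArg some (Fin.ext (C.M.cq.inj i i.2 j j.2 (L.inj (C.I.inj e))))
  · rintro (rfl | ⟨j, hj, rfl⟩)
    exacts [⟨none, rfl⟩, ⟨some ⟨j, hj⟩, rfl⟩]
  · rintro ⟨_ | j, rfl⟩
    exacts [Or.inl rfl, Or.inr ⟨j, j.2, rfl⟩]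
  · rcases i with _ | j
    · exact mul_inv_eq_iff_eq_mul.mpr (C.comm y).eq.symm
    · change ι y * ι (ψ (s j)) * (ι y)⁻¹ = ι (ψ (s (π j)))
      rw [← hπ, L.eqv, map_mul, map_mul, map_inv]

theorem Cf.fixed {x : G} (hx : x ∈ normalizer (AG F s ρ ι : Set G))
    (h : 256 ≤ Nat.card (AG F s ρ ι ⊓ centralizer {x} : Subgroup G)) :
    ∃ e, IsConj (ι d) e ∧ e ∈ AG F s ρ ι ∧ Commute x e := by
  classical
  obtain ⟨e, e1, e2, -⟩ := C.pts
  have m := fun i => (e2 _).mpr ⟨i, rfl⟩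
  have h1 : Nat.card (cm C.ea hx).range ≤ 4 := by
    have := card_cm C.ea hx
    rw [C.card] at this
    nlinarith
  have := Fintype.ofFinite (cm C.ea hx).range
  obtain ⟨w, hw⟩ := Fintype.exists_lt_card_fiber_of_mul_lt_card (n := 2)
    (fun i => (⟨_, ⟨e i, (m i).2⟩, rfl⟩ : (cm C.ea hx).range)) (by
      rw [← Nat.card_eq_fintype_card]; simp only [Fintype.card_option, Fintype.card_fin]; omega)
  obtain ⟨a, b, c, ha, hb, hc, n1, n2, n3⟩ := Finset.two_lt_card_iff.mp hw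
  have k : ∀ i ∈ Finset.univ.filter fun i => (⟨_, ⟨e i, (m i).2⟩, rfl⟩ : (cm C.ea hx).range) = w,
      e i * w = x * e i * x⁻¹ := fun i hi => by
    rw [← (Finset.mem_filter.mp hi).2]
    change e i * (e i * (x * e i * x⁻¹)) = _
    rw [← mul_assoc, C.ea _ (m i).2, one_mul]
  have cj : ∀ i, IsConj (ι d) (x * e i * x⁻¹) := fun i => (m i).1.trans (isConj_iff.mpr ⟨x, rfl⟩)
  by_cases h2 : (w : G) = 1
  · refine ⟨e a, (m a).1, (m a).2, ?_⟩
    have := k a ha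
    rw [h2, mul_one] at this
    exact (eq_mul_inv_iff_mul_eq.mp this).symm
  have hw' : (w : G) ∈ AG F s ρ ι := (mul_mem_cancel_left (m a).2).mp (k a ha ▸ norm_mem hx (m a).2)
  have u := fun i hi => C.uf (m a).1 (m i).1 (m a).2 (m i).2 hw' h2 (k a ha ▸ cj a) (k i hi ▸ cj i)
  exact absurd (e1 (((u b hb).resolve_left fun e => n1 (e1 e).symm).trans
    ((u c hc).resolve_left fun e => n2 (e1 e).symm).symm)) n3

theorem Cf.big_cen {x : G} (hD : IsConj (ι d) x) (hx : x ∈ normalizer (AG F s ρ ι : Set G)) :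
    256 ≤ Nat.card (AG F s ρ ι ⊓ centralizer {x} : Subgroup G) := by
  have ix : x⁻¹ = x := inv_eq_of_mul_eq_one_left (C.dd hD).1
  have k : ∀ a ∈ AG F s ρ ι, x * (a * (x * a * x⁻¹)) = a * x * a⁻¹ := fun a ha => by
    rw [C.ea.comm ha (norm_mem hx ha), inv_eq_of_mul_eq_one_left (C.ea a ha), ix, ← mul_assoc, ← mul_assoc, ← mul_assoc,
      (C.dd hD).1, one_mul]
  have h1 := C.card_le_four hD (W := (cm C.ea hx).range) (by
    rintro _ ⟨a, rfl⟩
    exact C.ea _ (mul_mem a.2 (norm_mem hx a.2))) (by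
    rintro _ ⟨a, rfl⟩
    change x * (a * (x * a * x⁻¹)) = a * (x * a * x⁻¹) * x
    rw [k a a.2, inv_eq_of_mul_eq_one_left (C.ea a a.2)]; group) (by
    rintro _ ⟨a, rfl⟩
    change IsConj _ (x * (a * (x * a * x⁻¹)))
    rw [k a a.2]
    exact hD.trans (isConj_iff.mpr ⟨a, rfl⟩))
  have := card_cm C.ea hx
  rw [C.card] at this
  nlinarith

theorem Cf.wc {x : G} (hD : IsConj (ι d) x) (hx : x ∈ normalizer (AG F s ρ ι : Set G)) : x ∈ AG F s ρ ι := by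
  obtain ⟨e, e1, e2, e3⟩ := C.fixed hx (C.big_cen hD hx)
  obtain ⟨g, g1, rfl⟩ := C.fusion e1 e2
  obtain ⟨y, hy⟩ := C.I.cen (g⁻¹ * x * g) (by simpa [mul_assoc] using e3.symm.map (MulAut.conj g⁻¹))
  have h1 : IsConj (ι d) (ι y) := hD.trans (isConj_iff.mpr ⟨g⁻¹, by rw [hy, inv_inv]⟩)
  have h2 : ι y ∈ normalizer (AG F s ρ ι : Set G) := hy ▸ mul_mem (mul_mem (inv_mem g1) hx) g1
  suffices ι y ∈ AG F s ρ ι by simpa [hy, mul_assoc] using norm_mem g1 this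
  have h3 : ρ y ∈ F.grp := by_contra fun h => by
    have := C.big_cen h1 h2
    rw [C.cenO h2 ((C.dd h1).1 ▸ one_mem _) h] at this
    omega
  obtain ⟨ψ, L, h⟩ := C.inner
  rcases h y h3 h1 with rfl | ⟨p, rfl⟩
  · exact C.d_mem
  refine ⟨_, mem_comap.mpr (L.rho p ▸ T_mem C.M C.U fun j hj => FS.fix_iff_commute.mpr ?_), rfl⟩
  have m : ψ (s j) ∈ AA F s 9 ρ := mem_comap.mpr (by rw [L.rho, C.M.cq.sp_eq]; exact FS.T_mem_gen ⟨j, hj, rfl⟩)
  have := (C.h.ea C.M).comm m (norm_mem ((map_norm C.I.inj).mp h2) m)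
  rw [← L.eqv, L.rho] at this
  rw [← L.rho, ← L.rho (F.T p (s j))]
  exact Commute.map this ρ

end

end Cfsg.Agent.H99.F22
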