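import Mathlib
import Cfsg.Agent.H99.F22G
import Cfsg.Agent.H87.Transfer

/-!
# Groups with an involution centraliser `2 · U₆(2) · 2`: the subgroup of index two
-/

set_option autoImplicit false
set_option linter.unusedSectionVars false

universe u

namespace Cfsg.Agent.H99.F22

open Cfsg.Agent.H41 Cfsg.Agent.H41.Rec Cfsg.Agent.H42 Cfsg.Agent.H45 Cfsg.Agent.H60 Equiv Subgroup

section
variable {Γ : Type*} [Group Γ] {A : Subgroup Γ}

/-- The conjugates of `d` in `A`. -/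
abbrev Om (d : Γ) (A : Subgroup Γ) : Type _ := {x : Γ // IsConj d x ∧ x ∈ A}

instance omAct (d : Γ) (A : Subgroup Γ) : MulAction (normalizer (A : Set Γ)) (Om d A) where
  smul n x := ⟨n * x.1 * (n : Γ)⁻¹, x.2.1.trans (isConj_iff.mpr ⟨n, rfl⟩), norm_mem n.2 x.2.2⟩
  one_smul x := Subtype.ext (by change ((1 : normalizer (A : Set Γ)) : Γ) * x.1 * _ = _; simp)
  mul_smul a b x := Subtype.ext (by
    change ((a * b : normalizer (A : Set Γ)) : Γ) * x.1 * ((a * b : normalizer (A : Set Γ)) : Γ)⁻¹ =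
      a * (b * x.1 * (b : Γ)⁻¹) * (a : Γ)⁻¹
    rw [coe_mul]; group)

theorem om_smul {d : Γ} (n : normalizer (A : Set Γ)) (x : Om d A) : (n • x).1 = n * x.1 * (n : Γ)⁻¹ := rfl

theorem om_fix {d : Γ} {n : normalizer (A : Set Γ)} {x : Om d A} : n • x = x ↔ Commute (n : Γ) x.1 := by
  rw [Subtype.ext_iff, om_smul, mul_inv_eq_iff_eq_mul]; rfl

theorem js_of_norm [Finite Γ] (hA : EA A)
    (h : ∀ B ≤ normalizer (A : Set Γ), EA B → Nat.card A ≤ Nat.card B → B ≤ A) :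
    JS A ∧ Odd (normalizer (A : Set Γ)).index := by
  have : Fact (Nat.Prime 2) := ⟨Nat.prime_two⟩
  obtain ⟨T, hT⟩ := hA.isPGroup.exists_le_sylow
  have h1 : (T : Subgroup Γ) ≤ normalizer (A : Set Γ) := by
    have := T.isPGroup'.isNilpotent
    have h2 := normalizerCondition_iff_only_full_group_self_normalizing.mp
      (Group.normalizerCondition_of_isNilpotent (G := T)) ((normalizer (A : Set Γ)).subgroupOf T) (le_antisymm
      (fun t ht => norm_of_cjS (eq_of_le_of_card_ge (h _ (fun x hx => ?_) (hA.cjS _) (card_cjS _ _).ge)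
        (card_cjS _ _).ge)) le_normalizer)
    · exact subgroupOf_eq_top.mp h2
    · have h3 := mem_cjS.mp hx
      have := (mem_normalizer_iff.mp ht ⟨_, hT h3⟩).mp (le_normalizer h3)
      simpa [mem_subgroupOf, mul_assoc] using this
  exact ⟨js_of ⟨hT, hA, fun B hB => h B (hB.trans h1)⟩ T.isPGroup' T.not_dvd_index,
    Nat.not_even_iff_odd.mp fun e => T.not_dvd_index (e.two_dvd.trans (index_dvd_of_le h1))⟩

end

section
variable {X : Type*} [Finite X] {F : FS X} {O : X} {s : ℕ → X} {V : ℕ} {S : Subgroup (Perm X)} {σ : Perm X}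
  {Q : Type u} [Group Q] [Finite Q] {ρ : Q →* Perm X} {d : Q} {ψ : X → Q}
  {G : Type u} [Group G] [Finite G] {ι : Q →* G}

variable (C : Cf F O s V S σ ρ d ι)
include C

theorem Cf.le_of_fix {B : Subgroup G} (h1 : B ≤ normalizer (AG F s ρ ι : Set G)) (hB : EA B) (h2 : 1024 ≤ Nat.card B)
    {e : G} (he : IsConj (ι d) e) (he' : e ∈ AG F s ρ ι) (h3 : ∀ b ∈ B, Commute b e) : B ≤ AG F s ρ ι := by
  obtain ⟨g, g1, rfl⟩ := C.fusion he he'
  obtain ⟨c, hc⟩ := C.big (hB.cjS g⁻¹) (fun a ha => by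
    simpa [mul_assoc] using (h3 _ (mem_cjS.mp ha)).symm.map (MulAut.conj g⁻¹)) (by rwa [card_cjS])
  have h4 : cjS c (AA F s 9 ρ) = AA F s 9 ρ := um_of_js (C.h.js C.M C.U) (C.h.ea C.M) ((C.h.ea C.M).cjS c)
    (fun y hy => (map_norm C.I.inj).mp (by
      have : ι y ∈ cjS g⁻¹ B := by rw [hc, ← cjS_map]; exact mem_map_of_mem _ hy
      simpa [mul_assoc] using mul_mem (mul_mem (inv_mem g1) (h1 (mem_cjS.mp this))) g1)) (card_cjS _ _).ge
  rw [← cjS_map, h4] at hc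
  intro b hb
  have : g⁻¹ * b * g ∈ AG F s ρ ι := hc.le (mem_cjS.mpr (by simpa [mul_assoc] using hb))
  simpa [mul_assoc] using norm_mem g1 this

theorem Cf.equiv : ∃ e : Option (Fin 21) ≃ Om (ι d) (AG F s ρ ι), ∀ (y : Q) (π : Perm (Fin 21)),
    (∀ j : Fin 21, ρ y (s j) = s (π j)) → ∀ i, ι y * (e i).1 * (ι y)⁻¹ = (e (π.optionCongr i)).1 := by
  obtain ⟨e, e1, e2, e3⟩ := C.pts
  exact ⟨Equiv.ofBijective (fun i => ⟨e i, (e2 _).mpr ⟨i, rfl⟩⟩) ⟨fun i j h => e1 (congrArg Subtype.val h),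
    fun x => ((e2 _).mp x.2).imp fun i hi => Subtype.ext hi⟩, e3⟩

theorem Cf.card_om : Nat.card (Om (ι d) (AG F s ρ ι)) = 22 := by
  obtain ⟨e, -⟩ := C.equiv
  rw [← Nat.card_congr e]; simp

theorem Cf.um {B : Subgroup G} (h1 : B ≤ normalizer (AG F s ρ ι : Set G)) (hB : EA B) (h2 : 1024 ≤ Nat.card B) :
    B ≤ AG F s ρ ι := by
  obtain ⟨e, he⟩ := exists_orbit_le (H := B.subgroupOf (normalizer (AG F s ρ ι : Set G))) (Ω := Om (ι d) (AG F s ρ ι))
    (hB.isPGroup.of_equiv (subgroupOfEquivOfLe h1).symm) (by rw [C.card_om]; norm_num)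
  have h3 : 512 ≤ Nat.card (B ⊓ centralizer {e.1} : Subgroup G) := by
    have h4 := (MulAction.stabilizer (B.subgroupOf (normalizer (AG F s ρ ι : Set G))) e).card_mul_index
    rw [Nat.card_congr (subgroupOfEquivOfLe h1).toEquiv] at h4
    have h5 : Nat.card (MulAction.stabilizer (B.subgroupOf (normalizer (AG F s ρ ι : Set G))) e) ≤
        Nat.card (B ⊓ centralizer {e.1} : Subgroup G) :=
      Nat.card_le_card_of_injective (fun x => ⟨x.1.1.1, x.1.2, mem_centralizer_singleton_iff.mpr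
        (om_fix.mp x.2)⟩) fun x y h => Subtype.ext (Subtype.ext (Subtype.ext (Subtype.mk.inj h)))
    nlinarith
  by_cases h4 : ∀ b ∈ B, Commute b e.1
  · exact C.le_of_fix h1 hB h2 e.2.1 e.2.2 h4
  push Not at h4
  obtain ⟨b, hb, h4⟩ := h4
  have h5 : e.1 ∉ B := fun h => h4 (hB.comm hb h)
  have s1 := C.ea _ e.2.2
  have h6 : B ⊓ centralizer {e.1} ≤ AG F s ρ ι := by
    let B1 : Subgroup G :=
      { carrier := {x | x ∈ B ⊓ centralizer {e.1} ∨ x * e.1 ∈ B ⊓ centralizer {e.1}}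
        one_mem' := Or.inl (one_mem _)
        mul_mem' := by
          rintro x y (hx | hx) (hy | hy)
          · exact Or.inl (mul_mem hx hy)
          · exact Or.inr (mul_assoc x y _ ▸ mul_mem hx hy)
          · refine Or.inr ?_
            rw [mul_assoc, mem_centralizer_singleton_iff.mp hy.2, ← mul_assoc]
            exact mul_mem hx hy
          · refine Or.inl ?_
            have := mul_mem hx hy
            rwa [mul_assoc, ← mem_centralizer_singleton_iff.mp hy.2, mul_assoc y, s1, mul_one] at this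
        inv_mem' := by
          rintro x (hx | hx)
          · exact Or.inl (inv_mem hx)
          · refine Or.inr ?_
            have := inv_mem hx
            have h7 := Commute.mul_left (mem_centralizer_singleton_iff.mp hx.2) (Commute.refl e.1)
            rw [mul_assoc, s1, mul_one] at h7
            rwa [mul_inv_rev, inv_eq_of_mul_eq_one_left s1, ← h7.inv_left.eq] at this }
    have k1 : ∀ x ∈ B1, Commute x e.1 := by
      rintro x (hx | hx)
      · exact mem_centralizer_singleton_iff.mp hx.2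
      · have := Commute.mul_left (mem_centralizer_singleton_iff.mp hx.2) (Commute.refl e.1)
        rwa [mul_assoc, s1, mul_one] at this
    have k2 : B ⊓ centralizer {e.1} < B1 := lt_of_le_of_ne (fun x hx => Or.inl hx) fun h =>
      h5 (h.ge (Or.inr (s1 ▸ one_mem _) : e.1 ∈ B1)).1
    refine k2.le.trans (C.le_of_fix ?_ ?_ ?_ e.2.1 e.2.2 k1)
    · rintro x (hx | hx)
      exacts [h1 hx.1, (mul_mem_cancel_right (le_normalizer e.2.2)).mp (h1 hx.1)]
    · intro x hx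
      rcases id hx with h | h
      · exact hB x h.1
      · have := hB _ h.1
        rwa [mul_assoc, ← mul_assoc e.1, ← (k1 x hx).eq, mul_assoc, s1, mul_one] at this
    · obtain ⟨n, hn⟩ := card_dvd_of_le k2.le
      have h7 : n ≠ 1 := fun h => k2.ne (eq_of_le_of_card_ge k2.le (by rw [hn, h, mul_one]))
      have h8 : n ≠ 0 := fun h => (Nat.card_pos (α := B1)).ne' (by rw [hn, h, mul_zero])
      have := Nat.mul_le_mul h3 (show 2 ≤ n by omega)
      omega
  have k : ∀ x ∈ B, 512 ≤ Nat.card (AG F s ρ ι ⊓ centralizer {x} : Subgroup G) := fun x hx =>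
    h3.trans (card_le_of_le fun y hy => ⟨h6 hy, mem_centralizer_singleton_iff.mpr (hB.comm hy.1 hx)⟩)
  obtain ⟨f, f1, f2, f3⟩ := C.fixed (h1 hb) (le_trans (by norm_num) (k b hb))
  refine C.le_of_fix h1 hB h2 f1 f2 fun x hx => ?_
  by_cases h7 : Commute x e.1
  · exact C.ea.comm (h6 ⟨hx, mem_centralizer_singleton_iff.mpr h7⟩) f2
  · have h8 : Commute (b * x) e.1 := by
      have h9 : ∀ y (hy : y ∈ B), (⟨⟨y, h1 hy⟩, hy⟩ : B.subgroupOf (normalizer (AG F s ρ ι : Set G))) ∈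
          MulAction.stabilizer (B.subgroupOf (normalizer (AG F s ρ ι : Set G))) e ↔ Commute y e.1 := fun y hy => om_fix
      have h10 : (MulAction.stabilizer (B.subgroupOf (normalizer (AG F s ρ ι : Set G))) e).index = 2 := by
        have h11 := index_ne_zero_of_finite (H := MulAction.stabilizer (B.subgroupOf (normalizer (AG F s ρ ι : Set G))) e)
        have h12 : (MulAction.stabilizer (B.subgroupOf (normalizer (AG F s ρ ι : Set G))) e).index ≠ 1 := fun h =>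
          h4 ((h9 b hb).mp (index_eq_one.mp h ▸ mem_top _))
        omega
      exact (h9 _ (mul_mem hb hx)).mp ((mul_mem_iff_of_index_two h10 (a := ⟨⟨b, h1 hb⟩, hb⟩) (b := ⟨⟨x, h1 hx⟩, hx⟩)).mpr
        (iff_of_false (mt (h9 b hb).mp h4) (mt (h9 x hx).mp h7)))
    have := f3.inv_left.mul_left
      (C.ea.comm (h6 ⟨mul_mem hb hx, mem_centralizer_singleton_iff.mpr h8⟩) f2)
    rwa [inv_mul_cancel_left] at this

theorem Cf.even : ∃ E : Subgroup G, E ≤ normalizer (AG F s ρ ι : Set G) ∧ AG F s ρ ι ≤ E ∧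
    (∀ n ∈ normalizer (AG F s ρ ι : Set G), ∀ x ∈ E, n * x * n⁻¹ ∈ E) ∧
    E.relIndex (normalizer (AG F s ρ ι : Set G)) = 2 ∧
    (∀ x ∈ E, x * x ∈ AG F s ρ ι → ∃ e, IsConj (ι d) e ∧ e ∈ AG F s ρ ι ∧ Commute x e) ∧
    ∀ y, ι y ∈ E → ι y * ι y ∈ AG F s ρ ι → ρ y ∈ F.grp := by
  classical
  obtain ⟨e, he⟩ := C.equiv
  have := Fintype.ofFinite (Om (ι d) (AG F s ρ ι))
  let χ : normalizer (AG F s ρ ι : Set G) →* ℤˣ := Perm.sign.comp (MulAction.toPermHom _ (Om (ι d) (AG F s ρ ι)))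
  have m : ∀ {x} (hx : x ∈ normalizer (AG F s ρ ι : Set G)), x ∈ χ.ker.map (Subgroup.subtype _) ↔ χ ⟨x, hx⟩ = 1 :=
    fun {x} hx => mem_map_iff_mem (f := Subgroup.subtype _) (x := ⟨x, hx⟩) Subtype.val_injective
  have a : ∀ x (hx : x ∈ AG F s ρ ι), MulAction.toPermHom (normalizer (AG F s ρ ι : Set G)) (Om (ι d) (AG F s ρ ι))
      ⟨x, le_normalizer hx⟩ = 1 := fun x hx => Equiv.ext fun y => om_fix.mpr (C.ea.comm hx y.2.2)
  have c : ∀ n ∈ normalizer (AG F s ρ ι : Set G), ∀ x ∈ χ.ker.map (Subgroup.subtype _),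
      n * x * n⁻¹ ∈ χ.ker.map (Subgroup.subtype _) := by
    rintro n hn _ ⟨x, hx, rfl⟩
    exact ⟨_, χ.normal_ker.conj_mem x hx ⟨n, hn⟩, rfl⟩
  have k : ∀ y (hy : ρ y ∈ S), χ ⟨ι y, (map_norm C.I.inj).mpr (C.h.norm C.M C.U hy)⟩ = 1 ↔ ρ y ∈ F.grp := fun y hy => by
    obtain ⟨π, h1, h2⟩ := C.U.ev _ hy
    rw [← h2, ← Equiv.optionCongr_sign, Perm.sign_eq_sign_of_equiv _ (MulAction.toPermHom _ (Om (ι d) (AG F s ρ ι))
      (⟨ι y, (map_norm C.I.inj).mpr (C.h.norm C.M C.U hy)⟩ : normalizer (AG F s ρ ι : Set G))) e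
      fun i => Subtype.ext (he y π h1 i).symm]
    rfl
  refine ⟨χ.ker.map (Subgroup.subtype _), map_subtype_le _, fun x hx => (m (le_normalizer hx)).mpr
    ((congrArg Perm.sign (a x hx)).trans (map_one _)), c, ?_, fun x hx h => ?_, fun y hy h => ?_⟩
  · obtain ⟨t, ht⟩ := C.h.sig
    have h1 := mt (k t (ht ▸ C.U.mem)).mp (ht ▸ C.U.out)
    rw [relIndex, subgroupOf, comap_map_eq_self_of_injective Subtype.val_injective, index_ker,
      MonoidHom.range_eq_top.mpr fun u => ?_, card_top, Nat.card_eq_fintype_card, Fintype.card_units_int]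
    rcases Int.units_eq_one_or u with rfl | rfl
    exacts [⟨1, map_one _⟩, ⟨_, (Int.units_eq_one_or _).resolve_left h1⟩]
  · have hx' := map_subtype_le _ hx
    have h1 := (m hx').mp hx
    have h2 : MulAction.toPermHom (normalizer (AG F s ρ ι : Set G)) (Om (ι d) (AG F s ρ ι)) ⟨x, hx'⟩ ^ 2 = 1 := by
      rw [pow_two, ← map_mul]; exact a _ h
    by_contra h3
    push Not at h3
    have h4 : Fintype.card (Function.fixedPoints
        (MulAction.toPermHom (normalizer (AG F s ρ ι : Set G)) (Om (ι d) (AG F s ρ ι)) ⟨x, hx'⟩)) = 0 :=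
      Fintype.card_eq_zero_iff.mpr ⟨fun y => h3 _ y.1.2.1 y.1.2.2 (om_fix.mp y.2)⟩
    have h5 := Perm.sign_of_pow_two_eq_one h2
    rw [h4, ← Nat.card_eq_fintype_card, C.card_om] at h5
    exact absurd (h1.symm.trans h5) (by decide)
  · obtain ⟨c', h1, h2⟩ := C.h.into C.M C.U ((map_norm C.I.inj).mp (map_subtype_le _ hy))
      (by rwa [← map_mul, mem_map_iff_mem C.I.inj] at h)
    have h3 := (k _ h2).mp ((m _).mp (by
      rw [map_mul, map_mul, map_inv]; exact c _ ((map_norm C.I.inj).mpr h1) _ hy))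
    simpa [mul_assoc] using grp_conj (C.h.aut c'⁻¹) h3

theorem Cf.not_mem {t : Q} (ht : ρ t ∉ F.grp) (c : G) : ι t ∉ cjS c (AG F s ρ ι) := fun h => by
  have : Fact (Nat.Prime 2) := ⟨Nat.prime_two⟩
  obtain ⟨js, -⟩ := js_of_norm C.ea fun B h1 h2 h3 => C.um h1 h2 (C.card ▸ h3)
  have e1 := C.ea.cjS c
  have h1 : cjS c (AG F s ρ ι) ≤ centralizer {ι t} := fun x hx => mem_centralizer_singleton_iff.mpr (e1.comm hx h)
  have h2 : ι d ∈ centralizer {ι t} := mem_centralizer_singleton_iff.mpr (C.comm t)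
  obtain ⟨P, hP⟩ := (e1.isPGroup.comap_subtype (K := centralizer {ι t})).exists_le_sylow
  obtain ⟨P', hP'⟩ := (IsPGroup.of_card (p := 2) (n := 1) (G := zpowers (⟨ι d, h2⟩ : centralizer {ι t})) (by
    rw [Nat.card_zpowers]
    exact orderOf_eq_prime (Subtype.ext (by simpa [pow_two] using C.ea _ C.d_mem)) fun e =>
      (C.dd (IsConj.refl _)).2 (congrArg Subtype.val e))).exists_le_sylow
  obtain ⟨k, rfl⟩ := MulAction.exists_smul_eq (centralizer {ι t}) P P'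
  obtain ⟨T, hT⟩ := ((k • P).isPGroup'.map (centralizer {ι t}).subtype).exists_le_sylow
  obtain ⟨b, hb⟩ := js T
  have h3 : cjS (k * c) (AG F s ρ ι) ≤ T := fun x hx => hT (by
    rw [← cjS_cjS, mem_cjS] at hx
    refine ⟨k * ⟨_, h1 hx⟩ * k⁻¹, ?_, by simp [mul_assoc]⟩
    exact smul_mem_pointwise_smul _ (MulAut.conj k) _ (hP hx))
  have h4 := hb.eq h3 (C.ea.cjS _) (by rw [card_cjS, card_cjS])
  have h5 : ι d ∈ cjS b (AG F s ρ ι) := mem_cjS.mpr (C.wc (isConj_iff.mpr ⟨b⁻¹, by rw [inv_inv]⟩)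
    (mem_normalizer_fintype fun a ha => by
      simpa [mul_assoc] using mem_cjS.mp (hb.conj_mem (hT ⟨_, hP' (mem_zpowers _), rfl⟩)
        (mem_cjS.mpr (by simpa [mul_assoc] using ha) : b * a * b⁻¹ ∈ _))))
  obtain ⟨y, hy⟩ := C.big (C.ea.cjS b) (fun x hx => (C.ea.cjS b).comm h5 hx) (by rw [card_cjS, C.card])
  have h6 : ι t ∈ cjS (k * c) (AG F s ρ ι) := by
    rw [← cjS_cjS, mem_cjS, mul_assoc, ← mem_centralizer_singleton_iff.mp k.2, inv_mul_cancel_left]
    exact h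
  rw [h4, hy, ← cjS_map, mem_map_iff_mem C.I.inj, mem_cjS] at h6
  exact ht (by simpa [mul_assoc] using grp_conj (C.h.aut y) (AA_le h6))

theorem Cf.exists_index_two : ∃ H : Subgroup G, H.Normal ∧ H.index = 2 ∧ ∃ t, ι t ∉ H := by
  obtain ⟨E, e1, e2, e3, e4, e5, e6⟩ := C.even
  obtain ⟨t, ht⟩ := C.h.sig
  have ho : ρ t ∉ F.grp := ht ▸ C.U.out
  have t2 := (C.h.ker (t * t)).mp (by rw [map_mul, ht, C.U.sq])
  have t4 : t ^ 2 ^ 2 = 1 := by
    rw [show 2 ^ 2 = 2 + 2 from rfl, pow_add, pow_two]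
    rcases t2 with e | e <;> rw [e]
    exacts [mul_one _, C.h.sq]
  have k1 : ∀ g x, IsConj (ι d) x → Commute (g * ι t * g⁻¹) x → x ∈ AG F s ρ ι → g * ι t * g⁻¹ ∈ E →
      g * ι t * g⁻¹ * (g * ι t * g⁻¹) ∈ AG F s ρ ι →
      ∃ n y, ρ y ∈ F.grp ∧ n * x * n⁻¹ = ι d ∧ ι y = n * (g * ι t * g⁻¹) * n⁻¹ := fun g x h1 h2 h3 h4 h5 => by
    obtain ⟨n, n1, rfl⟩ := C.fusion h1 h3
    obtain ⟨y, hy⟩ := C.I.cen (n⁻¹ * (g * ι t * g⁻¹) * n⁻¹⁻¹) (by
      simpa [mul_assoc] using h2.symm.map (MulAut.conj n⁻¹))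
    exact ⟨n⁻¹, y, e6 y (hy ▸ e3 _ (inv_mem n1) _ h4) (by
      rw [hy, _root_.conj_mul]; exact norm_mem (inv_mem n1) h5), by group, hy⟩
  refine (H87.thompson_transfer (js_of_norm C.ea fun B h1 h2 h3 => C.um h1 h2 (C.card ▸ h3)).2 e4
    (x := ι t) (n := 2) (by rw [← map_pow, t4, map_one]) (fun g hg => ?_) (fun g k hk hg => ?_)).imp
    fun H h => ⟨h.1, h.2.1, t, h.2.2⟩
  · have q : g * ι t * g⁻¹ * (g * ι t * g⁻¹) = g * ι (t * t) * g⁻¹ := by rw [_root_.conj_mul, map_mul]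
    rcases t2 with e | e <;> rw [e] at q
    · rw [map_one, mul_one, mul_inv_cancel] at q
      obtain ⟨x, x1, x2, x3⟩ := e5 _ hg (q ▸ one_mem _)
      obtain ⟨n, y, y1, -, y2⟩ := k1 g x x1 x3 x2 hg (q ▸ one_mem _)
      obtain ⟨c, hc⟩ := C.h.exists_conj C.M y1 (C.I.inj (by rw [map_mul, y2, _root_.conj_mul, q]; simp))
      refine C.not_mem ho (ι c * n * g)⁻¹ (mem_cjS.mpr ?_)
      have := mem_map_of_mem ι hc
      rw [map_mul, map_mul, map_inv, y2] at this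
      simpa [mul_assoc] using this
    · have h1 : IsConj (ι d) (g * ι d * g⁻¹) := isConj_iff.mpr ⟨g, rfl⟩
      have h2 := C.wc h1 (q ▸ mul_mem (e1 hg) (e1 hg))
      obtain ⟨n, y, y1, y2, y3⟩ := k1 g _ h1 (q ▸ (Commute.refl _).mul_right (Commute.refl _)) h2 hg (q ▸ h2)
      exact C.h.not_sq C.M y1 (C.I.inj (by rw [map_mul, y3, _root_.conj_mul, q, y2]))
  · obtain ⟨k, rfl⟩ := Nat.exists_eq_add_of_le hk
    have q : t ^ 2 ^ (1 + k) = 1 ∨ t ^ 2 ^ (1 + k) = d := by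
      rcases k with _ | k
      · simpa [pow_two] using t2
      · left
        rw [show 1 + (k + 1) = 2 + k by ring, pow_add, pow_mul, t4, one_pow]
    rw [← map_pow] at hg ⊢
    rcases q with e | e <;> rw [e] at hg ⊢
    · simp
    · exact e2 (C.wc (isConj_iff.mpr ⟨g, rfl⟩) hg)

theorem Cf.hub {X' : Type*} {F' : FS X'} {O' : X'} (hu : UpS.{u} F F') (ht : Upr F' O') :
    ∃ H : Subgroup G, H.Normal ∧ H.index = 2 ∧ Nonempty (F'.grp ≃* H) ∧ centralizer (H : Set G) = ⊥ := by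
  obtain ⟨H, h1, h2, t, h3⟩ := C.exists_index_two
  have k1 : ∀ y : F.grp.comap ρ, ι y ∈ H := fun y => by
    have : (⊤ : Subgroup (F.grp.comap ρ)) ≤ H.comap (ι.comp (F.grp.comap ρ).subtype) := by
      rw [← C.h.perf.commutator_eq_top, commutator_def, commutator_le]
      intro a _ b _
      rw [mem_comap, map_commutatorElement, commutatorElement_def, mul_assoc (_ * _), mul_mem_iff_of_index_two h2,
        ← mul_inv_rev, inv_mem_iff, mul_mem_iff_of_index_two h2, mul_mem_iff_of_index_two h2]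
      exact Iff.comm
    exact this (mem_top y)
  have k2 : ∀ y, ι y ∈ H → ρ y ∈ F.grp := fun y hy => by_contra fun h => h3 (by
    have := k1 ⟨y * t, C.h.mul_mem C.U h fun e => h3 (k1 ⟨t, e⟩)⟩
    rw [map_mul] at this
    exact (mul_mem_cancel_left hy).mp this)
  let j : F.grp.comap ρ →* H := (ι.comp (F.grp.comap ρ).subtype).codRestrict H k1
  have I : In j ⟨d, C.h.d_mem⟩ := ⟨fun a b e => Subtype.ext (C.I.inj (congrArg Subtype.val e)), fun g hg => by
    obtain ⟨y, hy⟩ := C.I.cen g (hg.map H.subtype)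
    exact ⟨⟨y, k2 y (hy ▸ g.2)⟩, Subtype.ext hy⟩⟩
  obtain ⟨y, y1, y2, y3⟩ := C.hn
  have k3 : ∃ g ∈ H, g * ι d * g⁻¹ = ι y := by
    obtain ⟨g, hg⟩ := isConj_iff.mp y2
    by_cases h : g ∈ H
    · exact ⟨g, h, hg⟩
    · exact ⟨g * ι t, (mul_mem_iff_of_index_two h2).mpr (iff_of_false h h3), by
        rw [mul_assoc g, ← (C.comm t).eq, ← hg]; group⟩
  obtain ⟨g, g1, g2⟩ := k3
  obtain ⟨e, -⟩ := (C.M.cl C.h.ex C.h.perf I ⟨j ⟨y, y1⟩, isConj_iff.mpr ⟨⟨g, g1⟩, Subtype.ext g2⟩,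
    Subtype.ext (C.comm y), fun e => y3 (C.I.inj (congrArg Subtype.val e))⟩).exists_equiv C.M.r3 C.M.diam hu ht
    (IsConj.refl _)
  refine ⟨H, h1, h2, ⟨e⟩, eq_bot_iff.mpr fun c hc => ?_⟩
  obtain ⟨x, rfl⟩ := C.I.cen c (hc _ (k1 ⟨d, C.h.d_mem⟩))
  obtain ⟨ψ, L, -⟩ := C.cls
  rcases (C.h.ker x).mp (Equiv.ext fun p => L.inj (by
    rw [L.eqv, mul_inv_eq_iff_eq_mul]
    exact C.I.inj (by
      rw [map_mul, map_mul]; exact (hc _ (k1 ⟨ψ p, mem_comap.mpr (L.rho p ▸ FS.T_mem_grp p)⟩)).symm))) with rfl | rfl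
  · exact map_one ι
  · exact absurd (C.I.inj (by rw [← g2, hc g g1, mul_inv_cancel_right])) y3

end

end Cfsg.Agent.H99.F22
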