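import Mathlib
import Cfsg.Agent.H99.F22H

/-!
# Groups with an involution centraliser `2 · U₆(2)` or `2 · U₆(2) · 2`
-/

set_option autoImplicit false
set_option linter.unusedSectionVars false

universe u

namespace Cfsg.Agent.H99.F22

open Cfsg.Agent.H41 Cfsg.Agent.H41.Rec Cfsg.Agent.H42 Cfsg.Agent.H45 Cfsg.Agent.H60 Equiv Subgroup

section
variable {X : Type*} [Finite X] {F : FS X} {O : X} {s : ℕ → X} {V : ℕ} {S : Subgroup (Perm X)} {σ : Perm X}
  {Q : Type u} [Group Q] [Finite Q] {d : Q} {G : Type u} [Group G] [Finite G] {ι : Q →* G}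

theorem exists_ext {N : Subgroup Q} [hN : N.Normal] {hd : d ∈ N} {ρ : N →* Perm X} (h : Ex F ρ ⟨d, hd⟩)
    (hc : ∀ g, g * d = d * g) (ha : ∀ (φ : MulAut F.grp) p, ∃ q, φ (F.t p) = F.t q)
    (hC : ∀ k, (∀ n ∈ N, k * n * k⁻¹ = n ∨ k * n * k⁻¹ = n * d) → k ∈ N) :
    ∃ τ : Q →* Perm X, (∀ k, τ k ∈ F.aut) ∧ F.grp ≤ τ.range ∧ F.grp.comap τ = N ∧ ∀ k, τ k = 1 ↔ k = 1 ∨ k = d := by
  let r : N →* F.grp := ρ.codRestrict _ h.mem
  have hr : Function.Surjective r := fun x => (h.surj x.2).imp fun _ e => Subtype.ext e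
  have k0 : ∀ (k : Q) (n : N), ρ (MulAut.conjNormal k n) = 1 ↔ ρ n = 1 := fun k n => by
    rw [h.ker, h.ker]
    refine or_congr (map_eq_one_iff _ (MulEquiv.injective _)) ?_
    rw [Subtype.ext_iff, Subtype.ext_iff, MulAut.conjNormal_apply, mul_inv_eq_iff_eq_mul, ← hc, mul_right_inj]
  have k1 : ∀ (k : Q) p, ∃ q, ∀ n : N, ρ n = F.T p → ρ (MulAut.conjNormal k n) = F.T q := fun k p => by
    let φ : F.grp →* F.grp := r.liftOfSurjective hr ⟨r.comp (MulAut.conjNormal k : MulAut N).toMonoidHom, fun n hn =>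
      Subtype.ext ((k0 k n).mpr (congrArg Subtype.val hn))⟩
    have e : ∀ n, φ (r n) = r (MulAut.conjNormal k n) := fun n => r.liftOfRightInverse_comp_apply _ _ _ n
    have i : Function.Injective φ := (injective_iff_map_eq_one φ).mpr fun x hx => by
      obtain ⟨n, rfl⟩ := hr x
      exact Subtype.ext ((k0 k n).mp (congrArg Subtype.val ((e n).symm.trans hx)))
    obtain ⟨q, hq⟩ := ha (MulEquiv.ofBijective φ ⟨i, Finite.injective_iff_surjective.mp i⟩) p
    exact ⟨q, fun n hn => congrArg Subtype.val ((e n).symm.trans ((congrArg φ (Subtype.ext hn)).trans hq))⟩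
  choose f hf using k1
  choose w hw using fun p => h.surj (FS.T_mem_grp (F := F) p)
  have f0 : ∀ (n : N) p, f n p = ρ n p := fun n p => F.inj (by
    rw [← hf n p _ (hw p), FS.aut_T (FS.grp_le_aut (h.mem n)), ← hw, ← map_mul, ← map_inv, ← map_mul]
    exact congrArg ρ (Subtype.ext (MulAut.conjNormal_apply _ _)))
  letI : MulAction Q X :=
    { smul := f
      one_smul := fun p => F.inj (by change F.T (f 1 p) = _; rw [← hf 1 p _ (hw p), map_one, MulAut.one_apply, hw])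
      mul_smul := fun a b p => F.inj (by
        change F.T (f (a * b) p) = F.T (f a (f b p))
        rw [← hf _ p _ (hw p), ← hf a _ _ (hf b p _ (hw p)), map_mul, MulAut.mul_apply]) }
  have e0 : ∀ n : N, MulAction.toPermHom Q X n = ρ n := fun n => Equiv.ext (f0 n)
  have e1 : ∀ k, MulAction.toPermHom Q X k = 1 → k ∈ N := fun k hk => hC k fun n hn => by
    have h1 : F.grp ≤ ((ρ.comp (MulAut.conjNormal k : MulAut N).toMonoidHom).eqLocus ρ).map ρ := FS.gen_le.mpr fun p _ =>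
      ⟨w p, (hf k p _ (hw p)).trans ((congrArg F.T (congrArg (fun g : Perm X => g p) hk)).trans (hw p).symm), hw p⟩
    obtain ⟨y, hy, e⟩ := h1 (h.mem ⟨n, hn⟩)
    have h2 : ρ (MulAut.conjNormal k ⟨n, hn⟩) = ρ ⟨n, hn⟩ := by
      have := (k0 k (y⁻¹ * ⟨n, hn⟩)).mpr (by rw [map_mul, map_inv, e, inv_mul_cancel])
      rw [map_mul, map_mul, map_inv, map_inv, inv_mul_eq_one] at this
      rw [← this, ← e]; exact hy
    exact (h.eq_or h2).imp (fun e => (MulAut.conjNormal_apply _ _).symm.trans (congrArg Subtype.val e))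
      fun e => (MulAut.conjNormal_apply _ _).symm.trans (congrArg Subtype.val e)
  refine ⟨MulAction.toPermHom Q X, fun k => FS.mem_aut_iff.mpr fun p q => F.inj ?_, fun x hx => ?_,
    le_antisymm (fun k hk => ?_) fun k hk => ?_, fun k => ⟨fun hk => ?_, ?_⟩⟩
  · change F.T (F.T (f k p) (f k q)) = F.T (f k (F.T p q))
    rw [F.conj, ← hf k p _ (hw p), ← hf k q _ (hw q), ← hf k _ (w p * w q * w p) (by
      rw [map_mul, map_mul, hw, hw, F.conj])]
    simp only [map_mul]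
  · obtain ⟨n, rfl⟩ := h.surj hx
    exact ⟨n, e0 n⟩
  · obtain ⟨n, hn⟩ := h.surj hk
    exact (mul_mem_cancel_left (inv_mem n.2)).mp (e1 _ (by rw [map_mul, map_inv, e0, hn, inv_mul_cancel]))
  · exact mem_comap.mpr (e0 ⟨k, hk⟩ ▸ h.mem _)
  · exact ((h.ker ⟨k, e1 k hk⟩).mp ((e0 ⟨k, e1 k hk⟩).symm.trans hk)).imp (congrArg Subtype.val) (congrArg Subtype.val)
  · rintro (rfl | rfl)
    exacts [map_one _, (e0 ⟨_, hd⟩).trans h.rho_d]

theorem exists_ex2 (U : Out F s S σ) {τ : Q →* Perm X} (h1 : ∀ k, τ k ∈ F.aut) (h2 : F.grp ≤ τ.range)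
    (h3 : (F.grp.comap τ).index = 2) (h4 : ∀ k, τ k = 1 ↔ k = 1 ∨ k = d) (h5 : d ≠ 1)
    (h6 : Group.IsPerfect (F.grp.comap τ)) : ∃ ρ, Ex2 F σ ρ d ∧ F.grp.comap ρ = F.grp.comap τ := by
  have : Fact (Nat.Prime 2) := ⟨Nat.prime_two⟩
  obtain ⟨P⟩ : Nonempty (Sylow 2 Q) := inferInstance
  obtain ⟨m, m1, m2⟩ := SetLike.not_le_iff_exists.mp fun h : (P : Subgroup Q) ≤ F.grp.comap τ =>
    P.not_dvd_index (h3.symm.dvd.trans (index_dvd_of_le h))
  obtain ⟨R, hR⟩ := (P.isPGroup'.map (τ.codRestrict _ h1)).exists_le_sylow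
  obtain ⟨c, hc⟩ := MulAction.exists_smul_eq F.aut R ((U.pg.comap_subtype (K := F.aut)).toSylow U.syl)
  have g1 : c * τ m * (c : Perm X)⁻¹ ∈ S := by
    have := smul_mem_pointwise_smul _ (MulAut.conj c) _ (hR (mem_map_of_mem _ m1))
    change _ ∈ ((c • R : Sylow 2 F.aut) : Subgroup F.aut) at this
    rw [hc] at this
    exact this
  have n : ∀ x, c * x * (c : Perm X)⁻¹ ∈ F.grp ↔ x ∈ F.grp := fun x =>
    ⟨fun e => by simpa [mul_assoc] using grp_conj (inv_mem c.2) e, grp_conj c.2⟩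
  have e : F.grp.comap ((MulAut.conj (c : Perm X)).toMonoidHom.comp τ) = F.grp.comap τ := Subgroup.ext fun x => n _
  have l : F.grp ≤ ((MulAut.conj (c : Perm X)).toMonoidHom.comp τ).range := fun x hx => by
    obtain ⟨y, hy⟩ := h2 (grp_conj (inv_mem c.2) hx)
    exact ⟨y, by simp [hy, mul_assoc]⟩
  have g2 := U.two _ g1 (mt (n _).mp m2)
  refine ⟨_, ⟨fun k => mul_mem (mul_mem c.2 (h1 k)) (inv_mem c.2), l,
    (Subgroup.mul_mem_cancel_left _ (MonoidHom.mem_range.mpr ⟨m, rfl⟩)).mp (l g2),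
    fun a ha => ?_, fun k => by rw [← h4]; simp, h5, e ▸ h6⟩, e⟩
  have := mul_mem ((n _).mpr ((mul_mem_iff_of_index_two h3 (a := a) (b := m⁻¹)).mpr
    (iff_of_false (mt (n _).mpr ha) (by rwa [inv_mem_iff])))) g2
  simpa [mul_assoc] using this

theorem exists_inner {ρ : Q →* Perm X} (M : Mo.{u} F O s 9 21 V) (U : Out F s S σ) (h : Ex2 F σ ρ d) (I : In ι d)
    (hn : ∃ x, IsConj (ι d) x ∧ Commute (ι d) x ∧ x ≠ ι d) : ∃ y, ρ y ∈ F.grp ∧ IsConj (ι d) (ι y) ∧ y ≠ d := by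
  have : Fact (Nat.Prime 2) := ⟨Nat.prime_two⟩
  obtain ⟨x, x1, x2, x3⟩ := hn
  obtain ⟨y, rfl⟩ := I.cen x x2
  by_cases hy : ρ y ∈ F.grp
  · exact ⟨y, hy, x1, fun e => x3 (congrArg ι e)⟩
  have y2 : y * y = 1 := I.inj (by
    obtain ⟨g, hg⟩ := isConj_iff.mp x1
    rw [map_mul, ← hg, _root_.conj_mul, ← map_mul, h.sq]; simp)
  obtain ⟨P, hP⟩ := (IsPGroup.of_card_dvd_pow (p := 2) (n := 1) (G := zpowers y) (by
    rw [Nat.card_zpowers, orderOf_dvd_iff_pow_eq_one, pow_one, pow_two, y2])).exists_le_sylow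
  obtain ⟨c, hc⟩ := h.js M U P
  have h1 : c⁻¹ * y * c ∈ normalizer (AA F s 9 ρ : Set Q) := mem_normalizer_fintype fun a ha => by
    simpa [mul_assoc] using mem_cjS.mp (hc.conj_mem (hP (mem_zpowers y))
      (mem_cjS.mpr (by simpa [mul_assoc] using ha) : c * a * c⁻¹ ∈ _))
  have h2 : IsConj (ι d) (ι (c⁻¹ * y * c)) := x1.trans (isConj_iff.mpr ⟨ι c⁻¹, by simp⟩)
  have h3 : ρ (c⁻¹ * y * c) ∉ F.grp := fun e => hy (by simpa [mul_assoc] using grp_conj (h.aut c) e)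
  have h4 : c⁻¹ * y * c * (c⁻¹ * y * c) = 1 := by
    calc _ = c⁻¹ * (y * y) * c := by group
      _ = 1 := by rw [y2]; group
  generalize c⁻¹ * y * c = z at h1 h2 h3 h4
  have hA := h.ea M
  have h5 := card_cm hA h1
  rw [h.cenO M U h1 (h4 ▸ one_mem _) h3, h.card M] at h5
  have iz : z⁻¹ = z := inv_eq_of_mul_eq_one_left h4
  have k : ∀ a ∈ AA F s 9 ρ, z * (a * (z * a * z⁻¹)) = a * z * a⁻¹ := fun a ha => by
    rw [hA.comm ha (norm_mem h1 ha), inv_eq_of_mul_eq_one_left (hA a ha), iz, ← mul_assoc, ← mul_assoc, ← mul_assoc, h4,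
      one_mul]
  obtain ⟨g, hg⟩ := isConj_iff.mp h2
  have h6 : ∀ w : (cm hA h1).range, ∃ v, ι v = g⁻¹ * ι w * g ∧ IsConj (ι d) (ι (d * v)) := by
    rintro ⟨_, a, rfl⟩
    have c1 : Commute z (a * (z * a * z⁻¹)) := by
      rw [Commute, SemiconjBy, k a a.2, inv_eq_of_mul_eq_one_left (hA a a.2)]; group
    obtain ⟨v, hv⟩ := I.cen (g⁻¹ * ι (a * (z * a * z⁻¹)) * g) (by
      simpa [mul_assoc, ← hg] using (c1.map ι).map (MulAut.conj g⁻¹))
    refine ⟨v, hv, h2.trans (isConj_iff.mpr ⟨g⁻¹ * ι a, ?_⟩)⟩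
    calc _ = g⁻¹ * ι (a * z * (a : Q)⁻¹) * g := by simp only [map_mul, map_inv]; group
      _ = _ := by rw [← k a a.2, map_mul, map_mul ι d, hv, ← hg]; group
  choose v v1 v2 using h6
  have vi : Function.Injective v := fun a b e => Subtype.ext (I.inj
    (mul_left_cancel (mul_right_cancel ((v1 a).symm.trans (e ▸ v1 b)))))
  by_contra h7
  push Not at h7
  have h8 : ∀ w, ρ (v w) ∈ F.grp → v w = 1 := fun w hw => by
    simpa using h7 _ (by rwa [map_mul, h.rho_d, one_mul]) (v2 w)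
  have vm : ∀ a b, v (a * b) = v a * v b := fun a b => I.inj (by rw [map_mul, v1, v1, v1, coe_mul, map_mul]; group)
  have := Fintype.ofFinite (cm hA h1).range
  obtain ⟨a, b, c, n1, n2, n3⟩ := Fintype.two_lt_card_iff.mp (show 2 < Fintype.card (cm hA h1).range by
    rw [← Nat.card_eq_fintype_card]; omega)
  have q : ∀ a b, a ≠ b → (ρ (v a) ∈ F.grp ↔ ρ (v b) ∈ F.grp) → False := fun a b n e => n (by
    have e1 := h8 (a * b⁻¹) (by
      rw [vm]
      refine (mul_mem_iff_of_index_two (h.relIndex U)).mpr (e.trans ?_)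
      have := vm b b⁻¹
      rw [mul_inv_cancel, show v 1 = 1 from mul_left_cancel (a := v 1) (by rw [← vm, mul_one, mul_one])] at this
      rw [eq_inv_of_mul_eq_one_right this.symm, inv_mem_iff]; rfl)
    exact mul_inv_eq_one.mp (vi (e1.trans (mul_left_cancel (a := v 1) (by rw [← vm, mul_one, mul_one])))))
  have := q a b n1
  have := q a c n2
  have := q b c n3
  tauto

end

/-- The centraliser of `d` has a perfect subgroup `2 · U₆(2)` of index at most two. -/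
theorem hub {G Q : Type u} [Group G] [Finite G] [Group Q] [Finite Q] {ι : Q →* G} {d : Q} (I : In ι d)
    (hc : ∀ g, g * d = d * g) {N : Subgroup Q} (hN : N.index ∣ 2) (hp : Group.IsPerfect N) {hd : d ∈ N}
    {ρ : N →* Perm (Fin 693)} (h : Ex L21.F ρ ⟨d, hd⟩)
    (hC : ∀ k, (∀ n ∈ N, k * n * k⁻¹ = n ∨ k * n * k⁻¹ = n * d) → k ∈ N)
    (hn : ∃ x, IsConj (ι d) x ∧ Commute (ι d) x ∧ x ≠ ι d) :
    ∃ H : Subgroup G, H.Normal ∧ H.index = N.index ∧ Nonempty (L22.F.grp ≃* H) ∧ centralizer (H : Set G) = ⊥ := by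
  rcases (Nat.dvd_prime Nat.prime_two).mp hN with h1 | h1
  · obtain rfl := index_eq_one.mp h1
    obtain ⟨e, -⟩ := (mo21.cl (ι := ι.comp (⊤ : Subgroup Q).subtype) h hp ⟨I.inj.comp Subtype.val_injective,
      fun g hg => let ⟨y, hy⟩ := I.cen g hg; ⟨⟨y, mem_top y⟩, hy⟩⟩ hn).exists_equiv L21.r3 diam21 up22 upr22 (IsConj.refl _)
    refine ⟨⊤, inferInstance, by rw [index_top, index_top], ⟨e.trans topEquiv.symm⟩, eq_bot_iff.mpr fun c hc => ?_⟩
    obtain ⟨c, rfl⟩ := e.surjective c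
    have : (c : Perm (Fin 3510)) = 1 := Equiv.ext fun p => (FS.commute_T_iff (FS.grp_le_aut c.2)).mp
      (congrArg Subtype.val (e.injective (by
        rw [map_mul, map_mul]; exact (hc _ (mem_top _)).symm) : c * L22.F.t p = L22.F.t p * c))
    rw [show c = 1 from Subtype.ext this, map_one]; exact one_mem _
  · have := normal_of_index_eq_two h1
    obtain ⟨S, σ, U⟩ := O21.out
    obtain ⟨τ, t1, t2, t3, t4⟩ := exists_ext h hc aut21_t hC
    obtain ⟨ρ', h2, -⟩ := exists_ex2 U t1 t2 (t3 ▸ h1) t4 (fun e => h.ne (Subtype.ext e)) (t3 ▸ hp)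
    rw [h1]
    exact Cf.hub ⟨mo21, U, h2, I, exists_inner mo21 U h2 I hn⟩ up22 upr22

end Cfsg.Agent.H99.F22
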