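import Mathlib
import Cfsg.Agent.H99.F22Defs
import Cfsg.Agent.H99.F22I
import Cfsg.Agent.H23.X3d
import Cfsg.Agent.H60.FitF22
import Cfsg.Agent.H41.U6
import Cfsg.Agent.H41.RecS

/-!
# From the local configuration to `Fi₂₂`
-/

set_option autoImplicit false
set_option linter.unusedSectionVars false

universe u

namespace Cfsg.Agent.H99.F22

open Cfsg Subgroup H95.L3 H23 H41 H41.Rec
open scoped commutatorElement

theorem hyp0_of_swap {G : Type u} [Group G] [Finite G] {z : G} {A B : Subgroup G} (hA : X3 A z) (hB : X3 B z)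
    (cA : Nat.card A = 27) (cB : Nat.card B = 27) (eA : ∀ q ∈ A, q ^ 3 = 1) (eB : ∀ q ∈ B, q ^ 3 = 1)
    (hc : ∀ a ∈ A, ∀ b ∈ B, Commute a b) (sw : SwapOr z A B)
    (self : centralizer ((A ⊔ B : Subgroup G) : Set G) ≤ A ⊔ B)
    (two : 64 ∣ Nat.card ↥(centralizer {z} ⊓ (normalizer (A : Set G) ⊓ normalizer (B : Set G))))
    (wc : ∀ q ∈ A ⊔ B, ZT z q → q ∈ zpowers z) (nwc : ∃ y, ZT z y ∧ Commute y z ∧ y ∉ zpowers z) : Hyp0 z A B := by
  have hi := hA.inf_eq hB hc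
  refine ⟨hA.ord, cA, cB, eA, eB, hA.mem, hB.mem, hA.nab (by omega), hB.nab (by omega), hc, fun h hh => ?_, self, two,
    fun h3 => ?_, fun h hh q q1 q2 q3 => (sw h hh).resolve_right fun e => q2 (hi.le ⟨q1, ?_⟩),
    fun h hh q q1 q2 q3 => (sw h hh).resolve_right fun e => q2 (hi.le ⟨?_, q1⟩), wc, nwc⟩
  · refine mem_normalizer_of_cj fun q hq => ?_
    obtain ⟨a, ha, b, hb, rfl⟩ := (mem_sup_of_commute hc).1 hq
    rw [← _root_.conj_mul]
    rcases sw h (mem_centralizer_singleton_iff.1 hh) with e | e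
    · exact mul_mem_sup ((mem_normalizer_iff.1 e.1 a).1 ha) ((mem_normalizer_iff.1 e.2 b).1 hb)
    · exact mul_mem (mem_sup_right (e.1 a ha)) (mem_sup_left (e.2 b hb))
  · refine absurd (h3.trans (index_dvd_two_iff.2 ?_)) (by decide)
    by_cases hall : ∀ h : centralizer ({z} : Set G), (h : G) ∈ normalizer (A : Set G) ⊓ normalizer (B : Set G)
    · exact ⟨1, fun b => .inr (hall b)⟩
    · push Not at hall
      obtain ⟨a, ha⟩ := hall
      have e := (sw a (mem_centralizer_singleton_iff.1 a.2)).resolve_left ha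
      refine ⟨a, fun b => (sw b (mem_centralizer_singleton_iff.1 b.2)).symm.imp_left fun e' =>
        ⟨mem_normalizer_of_cj fun q hq => ?_, mem_normalizer_of_cj fun q hq => ?_⟩⟩
      · simpa [mul_assoc] using e'.2 _ (e.1 q hq)
      · simpa [mul_assoc] using e'.1 _ (e.2 q hq)
  · simpa [mul_assoc] using mul_mem (inv_mem (hB.zp_le q3)) (e.1 q q1)
  · simpa [mul_assoc] using mul_mem (inv_mem (hA.zp_le q3)) (e.2 q q1)

section
variable {G Δ : Type u} [Group G] [Finite G] [Group Δ] [Finite Δ] {K : Subgroup G}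

/-- The image of `X ⊓ K`. -/
def br (f : K →* Δ) (X : Subgroup G) : Subgroup Δ := (X.subgroupOf K).map f

/-- `f` is injective on the elements of order dividing three. -/
def I3 (f : K →* Δ) : Prop := ∀ a b : K, (a : G) ^ 3 = 1 → (b : G) ^ 3 = 1 → f a = f b → a = b

variable {f : K →* Δ} {X Y : Subgroup G}

theorem mem_br {x : Δ} : x ∈ br f X ↔ ∃ a : K, (a : G) ∈ X ∧ f a = x := mem_map

theorem br_sup (hX : X ≤ K) (hY : Y ≤ K) : br f (X ⊔ Y) = br f X ⊔ br f Y := by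
  rw [br, subgroupOf_sup hX hY, Subgroup.map_sup]; rfl

theorem br_zp (a : K) : br f (zpowers (a : G)) = zpowers (f a) := by
  rw [← MonoidHom.map_zpowers, br]
  exact congrArg _ (Subgroup.ext fun x => ⟨fun ⟨k, hk⟩ => ⟨k, Subtype.ext hk⟩, fun ⟨k, hk⟩ => ⟨k, congrArg Subtype.val hk⟩⟩)

theorem I3.mem (h : I3 f) (e : ∀ q ∈ X, q ^ 3 = 1) {a : K} (ha : (a : G) ^ 3 = 1) : f a ∈ br f X ↔ (a : G) ∈ X :=
  ⟨fun ⟨b, hb, e'⟩ => h b a (e _ hb) ha e' ▸ hb, fun e' => ⟨a, e', rfl⟩⟩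

theorem I3.cj (h : I3 f) {k a b : K} (ha : (a : G) ^ 3 = 1) (hb : (b : G) ^ 3 = 1) (e : f k * f a * (f k)⁻¹ = f b) :
    (k : G) * a * (k : G)⁻¹ = b :=
  congrArg Subtype.val (h (k * a * k⁻¹) b (by simp [conj_pow, ha]) hb (by simpa using e))

theorem I3.comm (h : I3 f) {k a : K} (ha : (a : G) ^ 3 = 1) (e : Commute (f k) (f a)) : Commute (k : G) a :=
  mul_inv_eq_iff_eq_mul.1 (h.cj ha ha (mul_inv_eq_iff_eq_mul.2 e))

theorem comm_f {k a : K} (e : Commute (k : G) a) : Commute (f k) (f a) :=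
  Commute.map (show Commute k a from Subtype.ext e) f

theorem I3.card (h : I3 f) (e : ∀ q ∈ X, q ^ 3 = 1) (hX : X ≤ K) : Nat.card (br f X) = Nat.card X := by
  rw [← Nat.card_congr (subgroupOfEquivOfLe hX).toEquiv, card_eq_map_mul f (X.subgroupOf K),
    show f.ker ⊓ X.subgroupOf K = ⊥ from eq_bot_iff.2 fun a ha => h a 1 (e _ ha.2) (by simp) (by rw [map_one]; exact ha.1),
    Subgroup.card_bot, mul_one, br]

theorem br_cj {k : K} (e : ∀ q ∈ X, (k : G) * q * (k : G)⁻¹ ∈ Y) : ∀ q ∈ br f X, f k * q * (f k)⁻¹ ∈ br f Y := by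
  rintro _ ⟨a, ha, rfl⟩
  exact ⟨k * a * k⁻¹, e _ ha, by simp⟩

theorem br_norm {k : K} (e : (k : G) ∈ normalizer (X : Set G)) : f k ∈ normalizer (br f X : Set Δ) :=
  mem_normalizer_of_cj (br_cj fun q hq => (mem_normalizer_iff.1 e q).1 hq)

theorem I3.x3 (h : I3 f) (e : ∀ q ∈ X, q ^ 3 = 1) (hX : X ≤ K) {z : K} (x : X3 X z) (c : Nat.card X = 27) :
    X3 (br f X) (f z) := by
  obtain ⟨a, ha, b, hb, n⟩ := x.nab (by omega)
  refine X3.of_card (c ▸ h.card e hX) ⟨f ⟨a, hX ha⟩, ⟨_, ha, rfl⟩, f ⟨b, hX hb⟩, ⟨_, hb, rfl⟩, fun e' =>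
    n (h.comm (e b hb) e')⟩ ⟨z, x.mem, rfl⟩ (fun e' => x.ne_one (congrArg Subtype.val (h z 1 x.z3 (by simp)
      (by rw [e', map_one])))) ?_
  rintro _ ⟨q, hq, rfl⟩
  exact comm_f (x.cen _ hq)

end

section
variable {G Δ : Type u} [Group G] [Finite G] [Group Δ] [Finite Δ] {z r r' : G} {A B : Subgroup G}

theorem Loc22.xA (L : Loc22 z A B r r') : X3 A z :=
  X3.of_card L.cardA L.nabA L.zA (fun e => by have := L.ord; rw [e, orderOf_one] at this; omega)
    fun q hq => L.comm q hq z L.zB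

theorem Loc22.xB (L : Loc22 z A B r r') : X3 B z :=
  X3.of_card L.cardB L.nabB L.zB L.xA.ne_one fun q hq => (L.comm z L.zA q hq).symm

theorem Loc22.hyp0 (L : Loc22 z A B r r') {f : centralizer ({r} : Set G) →* Δ} (hs : Function.Surjective f)
    (hk : ∀ x, f x = 1 ↔ x = 1 ∨ x = dC r) : ∃ (z' : Δ) (A' B' : Subgroup Δ), Hyp0 z' A' B' ∧ SwapOr z' A' B' ∧
      ¬ 3 ^ 7 ∣ Nat.card (centralizer ({z'} : Set Δ)) := by
  have r2 : r * r = 1 := by rw [← pow_two, ← L.ord_r, pow_orderOf_eq_one]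
  have r1 : r ≠ 1 := fun e => by have := L.ord_r; rw [e, orderOf_one] at this; omega
  have cm : ∀ k : centralizer ({r} : Set G), Commute (k : G) r := fun k => mem_centralizer_singleton_iff.1 k.2
  have h : I3 f := fun a b ha hb e => by
    rcases (hk (a⁻¹ * b)).1 (by rw [map_mul, map_inv, e, inv_mul_cancel]) with e | e
    · exact inv_mul_eq_one.1 e
    · have : (b : G) = a * r := eq_mul_of_inv_mul_eq (congrArg Subtype.val e) ▸ rfl
      rw [this, (cm a).mul_pow, ha, one_mul, pow_three, r2, mul_one] at hb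
      exact absurd hb r1
  have hA : A ≤ centralizer {r} := fun a ha => mem_centralizer_singleton_iff.2 (L.rA a ha)
  have hB : B ≤ centralizer {r} := fun a ha => mem_centralizer_singleton_iff.2 (L.rB a ha)
  have eQ : ∀ q ∈ A ⊔ B, q ^ 3 = 1 := fun q hq => by
    obtain ⟨a, ha, b, hb, rfl⟩ := (mem_sup_of_commute L.comm).1 hq
    rw [(L.comm a ha b hb).mul_pow, L.expA a ha, L.expB b hb, one_mul]
  have eb : ∀ X : Subgroup G, (∀ q ∈ X, q ^ 3 = 1) → ∀ q ∈ br f X, q ^ 3 = 1 := by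
    rintro X e _ ⟨a, ha, rfl⟩
    rw [← map_pow, show a ^ 3 = 1 from Subtype.ext (e _ ha), map_one]
  let w : centralizer ({r} : Set G) := ⟨z, hA L.zA⟩
  have w3 : (w : G) ^ 3 = 1 := L.xA.z3
  have sw : SwapOr (f w) (br f A) (br f B) := fun k hk => by
    obtain ⟨k, rfl⟩ := hs k
    exact (L.swap k (h.comm w3 hk) (cm k)).imp (fun e => ⟨br_norm e.1, br_norm e.2⟩) fun e => ⟨br_cj e.1, br_cj e.2⟩
  have cd : ∀ T : Subgroup G, T ≤ centralizer {r} → ∃ m, m ∣ 2 ∧ Nat.card T = Nat.card (br f T) * m := fun T hT =>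
    ⟨_, (card_dvd_of_le (H := f.ker ⊓ T.subgroupOf _) (K := zpowers (dC r)) fun x hx => by
      rcases (hk x).1 hx.1 with rfl | rfl
      exacts [one_mem _, mem_zpowers _]).trans (by rw [Nat.card_zpowers, ← orderOf_coe, L.ord_r]),
      (Nat.card_congr (subgroupOfEquivOfLe hT).toEquiv).symm.trans (card_eq_map_mul f _)⟩
  refine ⟨f w, br f A, br f B, hyp0_of_swap (h.x3 L.expA hA L.xA L.cardA) (h.x3 L.expB hB L.xB L.cardB)
    (L.cardA ▸ h.card L.expA hA) (L.cardB ▸ h.card L.expB hB) (eb A L.expA) (eb B L.expB) ?_ sw ?_ ?_ ?_ ?_, sw,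
    fun h7 => L.three ?_⟩
  · rintro _ ⟨a, ha, rfl⟩ _ ⟨b, hb, rfl⟩
    exact comm_f (L.comm _ ha _ hb)
  · intro k hk'
    obtain ⟨k, rfl⟩ := hs k
    rw [← br_sup hA hB] at hk' ⊢
    rcases L.self k (cm k) fun q hq => h.comm (a := ⟨q, sup_le hA hB hq⟩) (eQ q hq) (hk' _ ⟨_, hq, rfl⟩).symm with e | e
    · exact ⟨k, e, rfl⟩
    · exact ⟨k * dC r, e, by rw [map_mul, (hk _).2 (.inr rfl), mul_one]⟩
  · obtain ⟨m, m1, m2⟩ := cd (centralizer {z} ⊓ centralizer {r} ⊓ (normalizer (A : Set G) ⊓ normalizer (B : Set G)))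
      (inf_le_left.trans inf_le_right)
    refine (Nat.dvd_of_mul_dvd_mul_right two_pos ((m2 ▸ L.two).trans (Nat.mul_dvd_mul_left _ m1))).trans
      (card_dvd_of_le ?_)
    rintro _ ⟨k, hk, rfl⟩
    exact ⟨mem_centralizer_singleton_iff.2 (comm_f (a := w) (mem_centralizer_singleton_iff.1 hk.1.1)),
      br_norm hk.2.1, br_norm hk.2.2⟩
  · rw [← br_sup hA hB, ← br_zp]
    rintro _ ⟨q, hq, rfl⟩ hz
    refine ⟨q, L.wc q hq (hz.imp (fun e => ?_) fun e => ?_), rfl⟩ <;> obtain ⟨k, e⟩ := isConj_iff.1 e <;>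
      obtain ⟨k, rfl⟩ := hs k
    · exact isConj_iff.2 ⟨k, h.cj w3 (eQ _ hq) e⟩
    · exact isConj_iff.2 ⟨k, h.cj (a := w⁻¹) (by simp [w3]) (eQ _ hq) (by rwa [map_inv])⟩
  · obtain ⟨k, k1, k2, k3⟩ := L.nwc
    let k' : centralizer ({r} : Set G) := ⟨k, mem_centralizer_singleton_iff.2 k1⟩
    refine ⟨f (k' * w * k'⁻¹), .inl (isConj_iff.2 ⟨f k', by simp⟩), comm_f k2, fun e => k3 ?_⟩
    rw [← br_zp, h.mem (fun q hq => L.expA q (L.xA.zp_le hq)) (by simp [conj_pow, w3])] at e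
    exact e
  · obtain ⟨m, -, m2⟩ := cd (centralizer {z} ⊓ centralizer {r}) inf_le_right
    refine m2 ▸ (h7.trans (card_dvd_of_le fun k hk => ?_)).mul_right m
    obtain ⟨k, rfl⟩ := hs k
    exact ⟨k, ⟨mem_centralizer_singleton_iff.2 (h.comm w3 (mem_centralizer_singleton_iff.1 hk)), k.2⟩, rfl⟩

theorem perfect_comap {Γ : Type u} [Group Γ] {f : Γ →* Δ} (hs : Function.Surjective f) {c : Γ}
    (hc : ∀ g, g * c = c * g) (hk : ∀ x, f x = 1 → x = 1 ∨ x = c) (hd : c ∈ commutator Γ) {N : Subgroup Δ} [N.Normal]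
    (hN : N.index ∣ 2) (hp : Group.IsPerfect N) : Group.IsPerfect (N.comap f) := by
  rw [isPerfect_iff] at hp ⊢
  have h1 : ∀ n ∈ N.comap f, n ∈ ⁅N.comap f, N.comap f⁆ ∨ n * c⁻¹ ∈ ⁅N.comap f, N.comap f⁆ := fun n hn => by
    obtain ⟨m, hm, e⟩ : f n ∈ ⁅N.comap f, N.comap f⁆.map f := by
      rwa [Subgroup.map_commutator, map_comap_eq_self_of_surjective hs, hp]
    rcases hk (m⁻¹ * n) (by rw [map_mul, map_inv, e, inv_mul_cancel]) with e | e
    · exact .inl (inv_mul_eq_one.1 e ▸ hm)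
    · exact .inr (by rwa [← e, mul_inv_rev, mul_inv_cancel_left, inv_inv])
  have h2 : ∀ n ∈ N.comap f, ∀ g, ⁅n, g⁆ ∈ ⁅N.comap f, N.comap f⁆ := fun n hn g => by
    have k : ∀ n ∈ ⁅N.comap f, N.comap f⁆, ⁅n, g⁆ ∈ ⁅N.comap f, N.comap f⁆ := fun n hn => by
      simpa [commutatorElement_def, mul_assoc] using mul_mem hn (Normal.conj_mem inferInstance _ (inv_mem hn) g)
    rcases h1 n hn with e | e
    · exact k n e
    · convert k _ e using 1
      simp only [commutatorElement_def, mul_inv_rev, inv_inv, mul_assoc]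
      rw [← mul_assoc g c, hc g, mul_assoc, inv_mul_cancel_left]
  have h3 : c ∈ ⁅N.comap f, N.comap f⁆ := by
    refine (commutator_le.2 fun a _ b _ => ?_ : ⁅(⊤ : Subgroup Γ), ⊤⁆ ≤ _) hd
    obtain ⟨t, ht⟩ := index_dvd_two_iff.1 ((N.index_comap_of_surjective hs).symm ▸ hN)
    rcases ht a with ha | ha
    · rcases ht b with hb | hb
      · convert h2 _ (mul_mem ha (inv_mem hb)) b using 1
        simp only [commutatorElement_def]; group
      · rw [← commutatorElement_inv]; exact inv_mem (h2 b hb a)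
    · exact h2 a ha b
  exact le_antisymm (commutator_le_left _ _) fun n hn => (h1 n hn).elim id fun e => by simpa using mul_mem e h3

open H28 in
theorem Loc22.fi22 (hU : U63Stmt.{u}) (L : Loc22 z A B r r') :
    ∃ N : Subgroup G, N.Normal ∧ N.index ∣ 2 ∧ Spor.IsoFi22 N ∧ centralizer (N : Set G) = ⊥ := by
  have hc : ∀ g, g * dC r = dC r * g := fun g => Subtype.ext (mem_centralizer_singleton_iff.1 g.2)
  have : (zpowers (dC r)).Normal := ⟨fun x ⟨k, hk⟩ g => ⟨k, by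
    rw [← hk]; exact (mul_inv_eq_iff_eq_mul.2 (Commute.zpow_right (hc g) k)).symm⟩⟩
  have o2 : orderOf (dC r) = 2 := by rw [← orderOf_coe, L.ord_r]
  have r1 : dC r ≠ 1 := fun e => by rw [e, orderOf_one] at o2; omega
  obtain ⟨f, hf⟩ : ∃ f, f = QuotientGroup.mk' (zpowers (dC r)) := ⟨_, rfl⟩
  have hs : Function.Surjective f := hf ▸ QuotientGroup.mk'_surjective _
  have hk : ∀ x, f x = 1 ↔ x = 1 ∨ x = dC r := fun x => by
    classical
    rw [hf, QuotientGroup.mk'_apply, QuotientGroup.eq_one_iff, mem_zpowers_iff_mem_range_orderOf, o2,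
      Finset.range_add_one, Finset.range_one, Finset.image_insert, Finset.image_singleton, pow_one, pow_zero,
      Finset.mem_insert, Finset.mem_singleton, or_comm]
  obtain ⟨z', A', B', h1, h2, h3⟩ := L.hyp0 hs hk
  obtain ⟨N, hN, n2, ⟨e⟩, hC⟩ := hU _ z' A' B' h1 h2 h3
  obtain ⟨u⟩ := exists_u6_equiv K4 card_K4
  have := simple21
  have : IsSimpleGroup N := (e.trans u.symm).isSimpleGroup
  have hp : Group.IsPerfect N := ⟨(IsSimpleGroup.eq_bot_or_eq_top_of_normal (commutator N) inferInstance).resolve_left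
    fun h => by
      obtain ⟨a, ha⟩ := exists_ne (1 : N)
      exact ha (Subtype.ext (hC.le (show (a : _ ⧸ _) ∈ centralizer (N : Set _) from fun b hb =>
        congrArg Subtype.val (commutatorElement_eq_one_iff_mul_comm.1
          (h.le (commutator_mem_commutator (mem_top (⟨b, hb⟩ : N)) (mem_top a)))))))⟩
  obtain ⟨H, a1, a2, ⟨a3⟩, a4⟩ := hub (in_C r) hc (N := N.comap f) ((N.index_comap_of_surjective hs).symm ▸ n2)
    (perfect_comap hs hc (fun x => (hk x).1) (by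
      obtain ⟨x, hx, e⟩ := (map_subtype_commutator _).ge L.der
      exact (Subtype.ext e : x = dC r) ▸ hx) n2 hp)
    (hd := mem_comap.2 ((hk _).2 (.inr rfl) ▸ one_mem _))
    (ρ := L21.F.grp.subtype.comp ((e.trans u.symm).toMonoidHom.comp (f.subgroupComap N)))
    ⟨by rw [MonoidHom.range_comp, MonoidHom.range_eq_top.mpr ((e.trans u.symm).surjective.comp
        (f.subgroupComap_surjective_of_surjective N hs)), ← MonoidHom.range_eq_map, range_subtype],
      fun x => (map_eq_one_iff L21.F.grp.subtype Subtype.val_injective).trans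
        (((e.trans u.symm).map_eq_one_iff (x := f.subgroupComap N x)).trans
        (Subtype.ext_iff.trans ((hk x).trans ⟨Or.imp (fun e => Subtype.ext e) fun e => Subtype.ext e,
          Or.imp (congrArg Subtype.val) (congrArg Subtype.val)⟩))),
      fun e => r1 (congrArg Subtype.val e)⟩
    (fun k hk' => mem_comap.2 ((hC.le fun n hn => by
      obtain ⟨n, rfl⟩ := hs n
      refine (mul_inv_eq_iff_eq_mul.1 ?_).symm
      rw [← map_inv, ← map_mul, ← map_mul]
      rcases hk' n hn with e | e <;> rw [e]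
      rw [map_mul, (hk _).2 (.inr rfl), mul_one] : f k = 1) ▸ one_mem _))
    ⟨r', L.conj, (mem_centralizer_singleton_iff.1 (commutator_le_self _ L.der')).symm, L.ne⟩
  obtain ⟨v⟩ := H60.exists_fi22_equiv
  exact ⟨H, a1, by rw [a2, N.index_comap_of_surjective hs]; exact n2, ⟨a3.symm.trans v⟩, a4⟩

end

theorem fi22Stmt (hU : U63Stmt.{u}) (hL : Loc22Stmt.{u}) : Fi22Stmt.{u} := fun G _ _ z Q P h =>
  let ⟨_, _, _, _, _, L⟩ := hL G z Q P h
  L.fi22 hU

end Cfsg.Agent.H99.F22
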