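import Mathlib
import Cfsg.Agent.H99.F22End
import Cfsg.Agent.H43.FiAut
import Cfsg.Agent.H60.FitTower
import Cfsg.Agent.H52.FStar

/-!
# The `3`-local recognition of `Fi₂₂`: hypotheses and conclusion
-/

set_option autoImplicit false
set_option linter.unusedSectionVars false

universe u

namespace Cfsg.Agent.H99.F22

open Cfsg Subgroup H95.L3 H23 H41

variable {G : Type u} [Group G] [Finite G]

theorem le_pc {X : Type*} [Group X] {p : ℕ} {N : Subgroup X} (h : N.Normal) (h' : IsPGroup p N) : N ≤ pCore p X :=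
  le_sSup ⟨h, h'⟩

theorem nwc_syl {z : G} (hz : orderOf z = 3) {S : Subgroup G} (hS : IsPGroup 3 S) (hm : z ∈ S)
    (h : ¬ IsWeaklyClosed (zpowers z) S) : ∃ y, ZT z y ∧ Commute y z ∧ y ∉ zpowers z := by
  have : Fact (Nat.Prime 3) := ⟨by norm_num⟩
  by_cases hc : S ≤ centralizer {z}
  · exact nwc_of hc hm h
  have := hS.isNilpotent
  obtain ⟨n, n1, n2⟩ := SetLike.exists_of_lt (Group.normalizerCondition_of_isNilpotent
    ((centralizer {z}).subgroupOf S) (lt_top_iff_ne_top.2 fun e => hc (subgroupOf_eq_top.1 e)))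
  refine ⟨n * z * (n : G)⁻¹, .inl (isConj_iff.2 ⟨n, rfl⟩), mem_centralizer_singleton_iff.1
    ((mem_normalizer_iff.1 n1 ⟨z, hm⟩).1 (mem_centralizer_singleton_iff.2 rfl)), fun e => n2 ?_⟩
  rcases (mem_zp3 hz).1 e with e | e | e
  · rw [show z = 1 by simpa using e, orderOf_one] at hz; omega
  · exact mem_centralizer_singleton_iff.2 (mul_inv_eq_iff_eq_mul.1 e)
  · obtain ⟨k, hk⟩ := IsPGroup.iff_orderOf.1 hS n
    refine zpowers_le.2 (show n ^ 2 ∈ (centralizer {z}).subgroupOf S from mem_centralizer_singleton_iff.2 ?_)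
      (mem_zpowers_pow_iff.2 (by rw [hk]; exact Nat.Coprime.pow_right k (by norm_num)))
    change (n : G) ^ 2 * z = z * (n : G) ^ 2
    calc _ = n * (n * z * (n : G)⁻¹) * n := by rw [pow_two]; group
      _ = n * z⁻¹ * n := by rw [e]
      _ = (n * z * (n : G)⁻¹)⁻¹ * n * n := by group
      _ = _ := by rw [e, pow_two]; group

theorem iso_or_aut {N : Subgroup G} (hN : N.Normal) (h2 : N.index ∣ 2) (e : Spor.IsoFi22 N)
    (hc : centralizer (N : Set G) = ⊥) : Spor.IsoFi22 G ∨ Nonempty (G ≃* MulAut Spor.Fi22) := by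
  obtain ⟨e⟩ := e
  rcases (Nat.dvd_prime Nat.prime_two).1 h2 with h | h
  · obtain rfl := index_eq_one.1 h
    exact .inl ⟨topEquiv.symm.trans e⟩
  obtain ⟨v⟩ := H60.exists_fi22_equiv
  obtain ⟨w, -⟩ := H60.exists_autEquiv (H60.cls22.aut_t L22.r3)
  have i : Function.Injective (MulAut.conjNormal : G →* MulAut N) := (injective_iff_map_eq_one _).2 fun g hg =>
    hc.le fun n hn => (mul_inv_eq_iff_eq_mul.1 ((MulAut.conjNormal_apply g ⟨n, hn⟩).symm.trans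
      (by rw [hg]; rfl))).symm
  refine .inr ⟨(MulEquiv.ofBijective _ (i.bijective_of_nat_card_le (le_of_eq ?_))).trans (MulAut.congr e)⟩
  rw [Nat.card_congr (MulAut.congr (e.trans v.symm)).toEquiv, ← Nat.card_congr w.toEquiv, H43.Fi.card_aut22,
    ← N.card_mul_index, h, Nat.card_congr (e.trans v.symm).toEquiv, mul_comm]

theorem hyp22_of {z : G} (hz : orderOf z = 3) {Q : Subgroup (centralizer ({z} : Set G))}
    (hQF : Q = generalizedFittingSubgroup _) [Q.Normal] (hZ : ∀ x, x ∈ center (centralizer ({z} : Set G)) ↔ ↑x ∈ zpowers z)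
    {P : Subgroup (centralizer ({z} : Set G))} (hP : P = (pCore 2 (_ ⧸ Q)).comap (QuotientGroup.mk' Q))
    (hPc : Nat.card (pCore 2 (_ ⧸ Q)) = 2 ^ 7) (q : Fin 3 → Subgroup (centralizer ({z} : Set G)))
    (hs : ⨆ i, q i = Q) (hZle : ∀ i, center _ ≤ q i) (hex : ∀ i, IsExtraspecial 3 (q i)) (hc : ∀ i, Nat.card (q i) = 27)
    (hcm : ∀ i j, i ≠ j → ∀ a ∈ q i, ∀ b ∈ q j, a * b = b * a) (hn : ∀ x ∈ P, ∀ i, ∀ a ∈ q i, x * a * x⁻¹ ∈ q i)
    (hi : ∀ i, ∃ x ∈ P, (∀ a ∈ q i, x * a * x⁻¹ * a ∈ center _) ∧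
      ∀ j, q j ≠ q i → ∀ a ∈ q j, x * a * x⁻¹ * a⁻¹ ∈ center _)
    (nwc : ∃ y, ZT z y ∧ Commute y z ∧ y ∉ zpowers z) :
    Hyp22 z (fun i => (q i).map (centralizer {z}).subtype) (P.map (centralizer {z}).subtype) := by
  have : Fact (Nat.Prime 3) := ⟨by norm_num⟩
  have e : ⨆ i, (q i).map (centralizer {z}).subtype = Q.map (centralizer {z}).subtype := by rw [← hs, Subgroup.map_iSup]
  have nm : ∀ N : Subgroup (centralizer ({z} : Set G)), N.Normal →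
      centralizer {z} ≤ normalizer (N.map (centralizer {z}).subtype : Set G) := fun N hN h hh =>
    mem_normalizer_of_cj (by rintro _ ⟨a, ha, rfl⟩; exact ⟨_, hN.conj_mem a ha ⟨h, hh⟩, rfl⟩)
  have nm' : ∀ T : Subgroup G, centralizer {z} ≤ normalizer (T : Set G) → (T.subgroupOf (centralizer {z})).Normal :=
    fun T h => ⟨fun a ha g => (mem_normalizer_iff.1 (h g.2) a).1 ha⟩
  have nab : ∀ i, ∃ a ∈ q i, ∃ b ∈ q i, ¬ Commute a b := fun i => by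
    by_contra h
    push Not at h
    have := (hex i).2
    rw [show center (q i) = ⊤ from eq_top_iff.2 fun a _ => mem_center_iff.2 fun b => Subtype.ext (h b b.2 a a.2),
      card_top, hc] at this
    omega
  have zm : ∀ i, z ∈ (q i).map (centralizer {z}).subtype := fun i =>
    ⟨⟨z, mem_centralizer_singleton_iff.2 rfl⟩, hZle i ((hZ _).2 (mem_zpowers z)), rfl⟩
  have rk : ∀ K, Q.relIndex K = Nat.card (K.map (QuotientGroup.mk' Q)) := fun K => by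
    rw [← relIndex_ker, QuotientGroup.ker_mk']
  have hQP : Q ≤ P := hP ▸ (QuotientGroup.ker_mk' Q).ge.trans (ker_le_comap _ _)
  refine ⟨hz, fun i => (card_map_of_injective Subtype.val_injective).trans (hc i), zm, fun i => ?_, fun i j h => ?_,
    e ▸ nm Q inferInstance, e ▸ fun c hc => ?_, e ▸ fun T h1 h2 h3 => ?_, e ▸ map_mono hQP, map_subtype_le _,
    nm P (hP ▸ Normal.comap inferInstance _), ?_, e ▸ fun T h1 h2 h3 ⟨n, h4⟩ => ?_, fun i => ?_, fun i => ?_, nwc⟩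
  · obtain ⟨a, ha, b, hb, n⟩ := nab i
    exact ⟨a, ⟨a, ha, rfl⟩, b, ⟨b, hb, rfl⟩, fun h => n (Subtype.ext h)⟩
  · rintro _ ⟨a, ha, rfl⟩ _ ⟨b, hb, rfl⟩
    exact congrArg Subtype.val (hcm i j h a ha b hb)
  · exact ⟨⟨c, mem_centralizer_singleton_iff.2 (hc z (e ▸ mem_iSup_of_mem 0 (zm 0))).symm⟩,
      hQF.ge (H52.centralizer_fstar_le fun a ha => Subtype.ext (hc _ ⟨a, hQF.ge ha, rfl⟩)), rfl⟩
  · rw [← map_subgroupOf_eq_of_le h2, hQF]
    exact map_mono ((le_pc (nm' T h3) h1.comap_subtype).trans H52.pCore_le_fstar)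
  · rw [e, relIndex_map_map_of_injective _ _ Subtype.val_injective, rk, hP,
      map_comap_eq_self_of_surjective (QuotientGroup.mk'_surjective Q), hPc]
    norm_num
  · rw [← map_subgroupOf_eq_of_le h2] at h4 ⊢
    rw [relIndex_map_map_of_injective _ _ Subtype.val_injective, rk] at h4
    exact map_mono (hP ▸ map_le_iff_le_comap.1 (le_pc ((nm' T h3).map _ (QuotientGroup.mk'_surjective Q))
      (IsPGroup.of_card h4)))
  · rintro _ ⟨x, hx, rfl⟩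
    exact mem_normalizer_of_cj (by rintro _ ⟨a, ha, rfl⟩; exact ⟨_, hn x hx i a ha, rfl⟩)
  · obtain ⟨x, hx, h1, h2⟩ := hi i
    refine ⟨x, ⟨x, hx, rfl⟩, ?_, fun j hj => ?_⟩
    · rintro _ ⟨a, ha, rfl⟩
      exact (hZ _).1 (h1 a ha)
    · rintro _ ⟨a, ha, rfl⟩
      refine (hZ _).1 (h2 j (fun e => ?_) a ha)
      obtain ⟨a, ha, b, hb, n⟩ := nab i
      exact n (hcm j i hj a (e ▸ ha) b hb)

theorem s3368 (hU : U63Stmt.{u}) (hL : Loc22Stmt.{u})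
    (H : Subgroup G) (Q : Subgroup H) (hQF : Q = Cfsg.generalizedFittingSubgroup H) [hQn : Q.Normal]
    (hQex : Cfsg.IsExtraspecial 3 Q)
    (hZZ : (Subgroup.center Q).map Q.subtype = Subgroup.center H)
    (P : Subgroup H) (hP : P = (Cfsg.pCore 2 (H ⧸ Q)).comap (QuotientGroup.mk' Q))
    (hPcard : Nat.card (Cfsg.pCore 2 (H ⧸ Q)) = 2 ^ 7)
    (Q₁ Q₂ Q₃ : Subgroup H)
    (hZle : Subgroup.center H ≤ Q₁ ∧ Subgroup.center H ≤ Q₂ ∧ Subgroup.center H ≤ Q₃)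
    (hex : Cfsg.IsExtraspecial 3 Q₁ ∧ Cfsg.IsExtraspecial 3 Q₂ ∧ Cfsg.IsExtraspecial 3 Q₃)
    (hcard : Nat.card Q₁ = 27 ∧ Nat.card Q₂ = 27 ∧ Nat.card Q₃ = 27)
    (hcomm : (∀ a ∈ Q₁, ∀ b ∈ Q₂, a * b = b * a) ∧ (∀ a ∈ Q₁, ∀ b ∈ Q₃, a * b = b * a) ∧ (∀ a ∈ Q₂, ∀ b ∈ Q₃, a * b = b * a))
    (hprod : Q₁ ⊔ Q₂ ⊔ Q₃ = Q)
    (hnorm : ∀ x ∈ P, ∀ Qᵢ ∈ [Q₁, Q₂, Q₃], ∀ q ∈ Qᵢ, x * q * x⁻¹ ∈ Qᵢ)
    (hcent : ∀ Qᵢ ∈ [Q₁, Q₂, Q₃], ∃ x ∈ P, (∀ q ∈ Qᵢ, x * q * x⁻¹ * q ∈ Subgroup.center H) ∧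
      ∀ Qⱼ ∈ [Q₁, Q₂, Q₃], Qⱼ ≠ Qᵢ → ∀ q ∈ Qⱼ, x * q * x⁻¹ * q⁻¹ ∈ Subgroup.center H)
    (Z : Subgroup G) (hZ : Z = (Subgroup.center H).map H.subtype) (hHC : H = Subgroup.centralizer (Z : Set G))
    (S : Sylow 3 G) (hZS : Z ≤ S) (hnwc : ¬ Cfsg.IsWeaklyClosed Z S) :
    ¬ Cfsg.IsWeaklyClosed Z ((Cfsg.pCore 3 H).map H.subtype) ∧
    (Cfsg.Spor.IsoFi22 G ∨ Nonempty (G ≃* MulAut Cfsg.Spor.Fi22)) := by
  have : Fact (Nat.Prime 3) := ⟨by norm_num⟩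
  have hZ3 : Nat.card Z = 3 := by
    rw [hZ, card_map_of_injective Subtype.val_injective, ← hZZ, card_map_of_injective Subtype.val_injective, hQex.2]
  obtain ⟨z, rfl⟩ := (Subgroup.isCyclic_iff_exists_zpowers_eq_top Z).1 (isCyclic_of_prime_card hZ3)
  have hz : orderOf z = 3 := by rwa [Nat.card_zpowers] at hZ3
  obtain rfl : H = centralizer {z} := by rw [hHC, zpowers_eq_closure, centralizer_closure]
  have m : ∀ i, ![Q₁, Q₂, Q₃] i ∈ [Q₁, Q₂, Q₃] := fun i => by fin_cases i <;> simp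
  have hs : ⨆ i, ![Q₁, Q₂, Q₃] i = Q := hprod ▸ le_antisymm (iSup_le fun i => by
      fin_cases i
      exacts [le_sup_left.trans le_sup_left, le_sup_right.trans le_sup_left, le_sup_right])
    (sup_le (sup_le (le_iSup ![Q₁, Q₂, Q₃] 0) (le_iSup ![Q₁, Q₂, Q₃] 1)) (le_iSup ![Q₁, Q₂, Q₃] 2))
  have h := hyp22_of hz hQF (fun x => by rw [hZ]; exact (mem_map_iff_mem Subtype.val_injective).symm) hP hPcard ![Q₁, Q₂, Q₃] hs
    (fun i => by fin_cases i; exacts [hZle.1, hZle.2.1, hZle.2.2])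
    (fun i => by fin_cases i; exacts [hex.1, hex.2.1, hex.2.2])
    (fun i => by fin_cases i; exacts [hcard.1, hcard.2.1, hcard.2.2])
    (fun i j h a ha b hb => by
      fin_cases i <;> fin_cases j
      exacts [absurd rfl h, hcomm.1 a ha b hb, hcomm.2.1 a ha b hb, (hcomm.1 b hb a ha).symm, absurd rfl h,
        hcomm.2.2 a ha b hb, (hcomm.2.1 b hb a ha).symm, (hcomm.2.2 b hb a ha).symm, absurd rfl h])
    (fun x hx i => hnorm x hx _ (m i)) (fun i => (hcent _ (m i)).imp fun x hx => ⟨hx.1, hx.2.1, fun j => hx.2.2 _ (m j)⟩)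
    (nwc_syl hz S.isPGroup' (hZS (mem_zpowers z)) hnwc)
  obtain ⟨N, n1, n2, n3, n4⟩ := fi22Stmt hU hL G _ _ _ h
  obtain ⟨y, y1, y2, y3⟩ := (hL G _ _ _ h).1
  refine ⟨fun hw => y3 ?_, iso_or_aut n1 n2 n3 n4⟩
  obtain ⟨g, e⟩ := zt_map y2
  rw [← Subgroup.map_iSup, hs] at y1
  rw [← hw.2 g (e ▸ zpowers_le.2 (map_mono (le_pc hQn hQex.1.1) y1)), e]
  exact mem_zpowers y

end Cfsg.Agent.H99.F22
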