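import Mathlib
import Cfsg.Agent.H99.NormalModel
import Cfsg.Agent.H99.Control
import Cfsg.Agent.H98.PIndex
import Cfsg.Agent.H95.PPrime
import Cfsg.Agent.H24.PSolv

/-! Terminating residual series and `p`-solvable models. -/

set_option autoImplicit false

namespace Cfsg.Agent.H99

open Cfsg Cfsg.FusionSystem Cfsg.Agent.H97 Cfsg.Agent.H98

universe u

section group

variable {p : ℕ} [hp : Fact p.Prime]

theorem isPSolvable_of_normal (G : Type u) [Group G] [Finite G] (N : Subgroup G) [N.Normal]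
    (hN : IsPSolvable p N) (hQ : IsPSolvable p (G ⧸ N)) : IsPSolvable p G := by
  induction h : Nat.card G using Nat.strong_induction_on generalizing G with
  | _ n ih =>
  by_cases h1 : N = ⊥
  · subst h1
    exact H24.isPSolvable_of_surjective hp.out (QuotientGroup.quotientBot (G := G)).toMonoidHom
      (QuotientGroup.quotientBot (G := G)).surjective hQ
  have : Nontrivial N := (Subgroup.nontrivial_iff_ne_bot N).2 h1
  obtain ⟨M₀, hM₀n, hM₀, hM₀p⟩ := H24.exists_normal_ne_bot_of_isPSolvable hN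
  obtain ⟨M, hMn, hMN, hM1, hMp⟩ : ∃ M : Subgroup G, M.Normal ∧ M ≤ N ∧ M ≠ ⊥ ∧
      ((∃ m, Nat.card M = p ^ m) ∨ (Nat.card M).Coprime p) := by
    rcases hM₀p with ⟨m, hm⟩ | hc
    · refine ⟨_, H3.map_pCore_normal (p := p) N, Subgroup.map_subtype_le _, fun h => hM₀ ?_,
        Or.inl (IsPGroup.iff_card.1 (H3.map_pCore_isPGroup N))⟩
      rw [Subgroup.map_eq_bot_iff_of_injective _ N.subtype_injective] at h
      exact le_bot_iff.1 ((H3.le_pCore (IsPGroup.of_card hm)).trans h.le)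
    · refine ⟨_, H3.map_pPrimeCore_normal (p := p) N, Subgroup.map_subtype_le _, fun h => hM₀ ?_,
        Or.inr (by rw [H3.card_map_subtype]; exact H3.pPrimeCore_coprime p N)⟩
      rw [Subgroup.map_eq_bot_iff_of_injective _ N.subtype_injective] at h
      exact le_bot_iff.1 ((H3.le_pPrimeCore hc).trans h.le)
  refine H24.isPSolvable_of_normal_of_quotient M hMp (ih _ ?_ (G ⧸ M)
    (N.map (QuotientGroup.mk' M)) ?_ ?_ rfl)
  · rw [← h, Subgroup.card_eq_card_quotient_mul_card_subgroup M]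
    exact lt_mul_of_one_lt_right Nat.card_pos ((Subgroup.one_lt_card_iff_ne_bot M).2 hM1)
  · exact H24.isPSolvable_of_surjective hp.out _
      (MonoidHom.subgroupMap_surjective (QuotientGroup.mk' M) N) hN
  · exact H24.isPSolvable_of_injective hp.out
      (QuotientGroup.quotientQuotientEquivQuotient M N hMN).toMonoidHom
      (QuotientGroup.quotientQuotientEquivQuotient M N hMN).injective hQ

theorem isPSolvable_of_isPGroup {G : Type*} [Group G] [Finite G] (h : IsPGroup p G) :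
    IsPSolvable p G := by
  have := h.isNilpotent
  exact H24.isPSolvable_of_isSolvable hp.out G inferInstance

theorem isPSolvable_of_coprime {G : Type*} [Group G] [Finite G] (h : (Nat.card G).Coprime p) :
    IsPSolvable p G :=
  H24.isPSolvable_of_normal_of_quotient ⊤ (Or.inr (by rwa [Subgroup.card_top]))
    (by
      have := QuotientGroup.subsingleton_quotient_top (G := G)
      exact isPSolvable_of_isPGroup (IsPGroup.of_subsingleton p _))

theorem isPGroup_quotient_of_coprime_mem {G : Type*} [Group G] [Finite G] (N : Subgroup G)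
    [N.Normal] (h : ∀ g : G, (orderOf g).Coprime p → g ∈ N) : IsPGroup p (G ⧸ N) := by
  intro x
  obtain ⟨g, rfl⟩ := QuotientGroup.mk_surjective x
  obtain ⟨k, m, hm, e⟩ := Nat.exists_eq_pow_mul_and_not_dvd (orderOf_pos g).ne' p hp.out.ne_one
  refine ⟨k, ?_⟩
  rw [← QuotientGroup.mk_pow, QuotientGroup.eq_one_iff]
  refine h _ (Nat.Coprime.coprime_dvd_left (orderOf_dvd_of_pow_eq_one (n := m) ?_)
    ((Nat.Prime.coprime_iff_not_dvd hp.out).2 hm).symm)
  rw [← pow_mul, ← e, pow_orderOf_eq_one]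

theorem coprime_quotient_of_pElement_mem {G : Type*} [Group G] [Finite G] (N : Subgroup G)
    [N.Normal] (h : ∀ g : G, (∃ k, g ^ p ^ k = 1) → g ∈ N) : (Nat.card (G ⧸ N)).Coprime p := by
  obtain ⟨P⟩ := (inferInstance : Nonempty (Sylow p G))
  have h1 : (P : Subgroup G) ≤ N := fun g hg =>
    h g (H96.exists_pow_eq_one_of_isPGroup P.isPGroup' hg)
  exact ((Nat.Prime.coprime_iff_not_dvd hp.out).2 fun hd =>
    P.not_dvd_index (hd.trans (Subgroup.index_dvd_of_le h1))).symm

/-- in a `p`-solvable group with a nontrivial Sylow `p`-subgroup `T`, the subgroup generated by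
the `p`-elements has a normal subgroup of `p`-power index not containing `T` -/
theorem exists_normal_not_sylow_le {G : Type*} [Group G] [Finite G] (hG : IsPSolvable p G)
    (T : Sylow p G) (hT : (T : Subgroup G) ≠ ⊥) :
    ∃ H M : Subgroup G, (∀ g : G, (∃ k, g ^ p ^ k = 1) → g ∈ H) ∧
      (∀ h ∈ H, (orderOf h).Coprime p → h ∈ M) ∧ (∀ h ∈ H, ∀ m ∈ M, h * m * h⁻¹ ∈ M) ∧
      ¬ (T : Subgroup G) ≤ M := by
  set H := H95.pGen p (⊤ : Subgroup G)
  have hH : ∀ g : G, (∃ k, g ^ p ^ k = 1) → g ∈ H := fun g ⟨_, hk⟩ =>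
    H95.mem_pGen (Subgroup.mem_top g) hk
  have hTH : (T : Subgroup G) ≤ H := fun g hg =>
    hH g (H96.exists_pow_eq_one_of_isPGroup T.isPGroup' hg)
  have : Nontrivial H := (Subgroup.nontrivial_iff_ne_bot H).2 fun h =>
    hT (le_bot_iff.1 (hTH.trans h.le))
  obtain ⟨M, hMn, hM, hMp⟩ := H24.exists_normal_ne_top_of_isPSolvable
    (H24.isPSolvable_subgroup hp.out hG H)
  rcases hMp with ⟨m, hm⟩ | hc
  · have hq : IsPGroup p (H ⧸ M) := IsPGroup.of_card hm
    refine ⟨H, M.map H.subtype, hH, fun h hh hc => ⟨⟨h, hh⟩, ?_, rfl⟩, ?_, fun hle => hM ?_⟩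
    · obtain ⟨k, hk⟩ := hq ((⟨h, hh⟩ : H) : H ⧸ M)
      rw [SetLike.mem_coe, ← QuotientGroup.eq_one_iff]
      refine eq_one_of_pow_eq_one_of_not_dvd hk (n := orderOf h) ?_
        ((Nat.Prime.coprime_iff_not_dvd hp.out).1 hc.symm)
      rw [← QuotientGroup.mk_pow, QuotientGroup.eq_one_iff]
      convert one_mem M
      exact Subtype.ext (pow_orderOf_eq_one h)
    · rintro h hh _ ⟨x, hx, rfl⟩
      exact ⟨_, hMn.conj_mem x hx ⟨h, hh⟩, rfl⟩
    · have h1 : ((T.subtype hTH : Sylow p H) : Subgroup H) ≤ M := fun x hx => by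
        obtain ⟨y, hy, e⟩ := hle hx
        rwa [← Subtype.ext e]
      have h2 := (T.subtype hTH).not_dvd_index
      rw [← Subgroup.index_eq_one]
      cases m with
      | zero => simpa using hm
      | succ m =>
        exact absurd ((hm ▸ dvd_pow_self p (Nat.succ_ne_zero m)).trans
          (Subgroup.index_dvd_of_le h1)) h2
  · exfalso
    refine hM (eq_top_iff.2 fun x _ => ?_)
    have h1 : H ≤ M.map H.subtype := by
      refine H95.pGen_le_iff.2 fun g _ ⟨k, hk⟩ => ⟨⟨g, hH g ⟨k, hk⟩⟩, ?_, rfl⟩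
      rw [SetLike.mem_coe, ← QuotientGroup.eq_one_iff]
      refine eq_one_of_pow_eq_one_of_not_dvd (k := k) ?_ (pow_card_eq_one' (G := H ⧸ M))
        ((Nat.Prime.coprime_iff_not_dvd hp.out).1 hc.symm)
      rw [← QuotientGroup.mk_pow, QuotientGroup.eq_one_iff]
      convert one_mem M
      exact Subtype.ext hk
    obtain ⟨y, hy, e⟩ := h1 x.2
    rwa [← Subtype.ext e]

end group

section realized

variable {Ω : Type*} [Group Ω] {S : Subgroup Ω} {F : FusionSystem S} {G : Type*} [Group G]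
  {ι : S →* G} {p : ℕ} [hp : Fact p.Prime]

theorem Realized.exists_conj_aut (h : F.IsRealizedBy ι) {P : Subgroup Ω} (hP : P ≤ S)
    {α : MulAut P} (hα : α ∈ F.autGroup P) :
    ∃ g : G, ∀ n : ℕ, ∀ x ∈ P, fn ι (ext (α ^ n) x) = g ^ n * fn ι x * (g ^ n)⁻¹ := by
  obtain ⟨g, hg⟩ := Realized.exists_conj h (mor_of_mem_autGroup hP hα)
  refine ⟨g, fun n => ?_⟩
  induction n with
  | zero => simp
  | succ n ih =>
    intro x hx
    rw [pow_succ', ext_mul, hg _ (ext_mem _ hx), ih x hx, pow_succ']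
    group

theorem Realized.isPSolvable_autGroup [Finite S] (h : F.IsRealizedBy ι) (hG : IsPSolvable p G)
    {P : Subgroup Ω} (hP : P ≤ S) : IsPSolvable p (F.autGroup P) := by
  let r : G → F.autGroup P → Prop := fun g α =>
    ∀ x ∈ P, g * fn ι x * g⁻¹ = fn ι (ext (α : MulAut P) x)
  have hmul : ∀ a a' b b', r a b → r a' b' → r (a * a') (b * b') := fun a a' b b' h1 h2 x hx => by
    rw [Subgroup.coe_mul, ext_mul, ← h1 _ (ext_mem _ hx), ← h2 x hx]
    group
  have hfun : ∀ a b b', r a b → r a b' → b = b' := fun a b b' h1 h2 =>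
    Subtype.ext (aut_ext fun x hx => fn_inj h.1 (hP (ext_mem _ hx)) (hP (ext_mem _ hx))
      ((h1 x hx).symm.trans (h2 x hx)))
  have hH : ∀ a ∈ actSub F ι P, ∃ b, r a b := fun a ha => by
    obtain ⟨α, hα, e⟩ := mem_actSub.1 ha
    exact ⟨⟨α, hα⟩, e⟩
  refine H24.isPSolvable_of_surjective hp.out (relHom r hmul hfun _ hH) (fun α => ?_)
    (H24.isPSolvable_subgroup hp.out hG _)
  obtain ⟨g, hg⟩ := Realized.exists_conj h (mor_of_mem_autGroup hP α.2)
  have h1 : r g α := fun x hx => (hg x hx).symm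
  exact ⟨⟨g, mem_actSub.2 ⟨α, α.2, h1⟩⟩, hfun g _ _
    (relHom_spec r hmul hfun _ hH ⟨g, mem_actSub.2 ⟨α, α.2, h1⟩⟩) h1⟩

/-- the subsystem of maps induced by a subgroup `H` containing the image of `S` -/
theorem Realized.exists_sub (h : F.IsRealizedBy ι) {H : Subgroup G} (hH : ∀ s, ι s ∈ H) :
    ∃ D : FusionSystem S, D.IsRealizedBy (ι.codRestrict H hH) ∧ D.IsSubsystemOf F ∧
      ∀ P f, Mor D P f ↔ Mor F P f ∧ ∃ g ∈ H, ∀ x ∈ P, fn ι (f x) = g * fn ι x * g⁻¹ := by
  have hD := H96.isFusionPred_sub F S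
    (fun P f => ∃ g ∈ H, ∀ x ∈ P, fn ι (f x) = g * fn ι x * g⁻¹) le_rfl
    (fun P f hf _ => ⟨hf.le, fun x hx => hf.mem hx⟩)
    (fun P f g _ e ⟨k, hk, h⟩ => ⟨k, hk, fun x hx => e x hx ▸ h x hx⟩)
    (fun P t hP ht => ⟨fn ι t, by rw [fn_apply ι ht]; exact hH _, fun x hx =>
      fn_conj ι ht (hP hx)⟩)
    (fun P Q f g _ _ hm ⟨k, hk, h1⟩ ⟨l, hl, h2⟩ => ⟨l * k, mul_mem hl hk, fun x hx => by
      rw [h2 _ (hm x hx), h1 x hx]; group⟩)
    (fun P Q f g hf _ h1 _ ⟨k, hk, h⟩ => ⟨k⁻¹, inv_mem hk, fun y hy => by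
      obtain ⟨x, hx, rfl⟩ := hf.surj y hy
      rw [h1 x hx, h x hx]; group⟩)
  refine ⟨hD.toFS, isRealizedBy_of_mor (fun a b e => h.1 (congrArg Subtype.val e)) ?_ ?_,
    isSubsystemOf_iff.2 fun P f hf => (hD.mor_toFS.1 hf).1, fun P f => hD.mor_toFS⟩
  · intro P f hf
    obtain ⟨-, g, hg, e⟩ := hD.mor_toFS.1 hf
    refine ⟨⟨g, hg⟩, fun x hx => Subtype.ext ?_⟩
    simp only [Subgroup.coe_mul, fn_codRestrict, Subgroup.coe_inv]
    exact e x hx
  · intro P f g hP hf e
    have e' : ∀ x ∈ P, fn ι (f x) = g * fn ι x * (g : G)⁻¹ := fun x hx => by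
      have := congrArg Subtype.val (e x hx)
      simpa only [Subgroup.coe_mul, fn_codRestrict, Subgroup.coe_inv] using this
    exact hD.mor_toFS.2 ⟨(realized_mor_iff h hP hf).2 ⟨g, e'⟩, g, g.2, e'⟩

/-- for a system realized by a `p`-solvable group, `hyp (O^{p'}(F))` is proper -/
theorem Realized.hyp_lt [Finite S] [Finite G] (h : F.IsRealizedBy ι) (T : Sylow p G)
    (hT : (T : Subgroup G) = ι.range) (hG : IsPSolvable p G) (hS1 : S ≠ ⊥) {E : FusionSystem S}
    (hE : F.IsPPrimeResidual p E) : E.hyperfocalSubgroup p < S := by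
  obtain ⟨H, M, hH, hM, hMn, hTM⟩ := exists_normal_not_sylow_le hG T fun hc => hS1 (by
    rw [hT, MonoidHom.range_eq_bot_iff] at hc
    refine le_bot_iff.1 fun x hx => ?_
    have : (⟨x, hx⟩ : S) = 1 := h.1 (by rw [hc]; rfl)
    exact congrArg Subtype.val this)
  have hTH : (T : Subgroup G) ≤ H := fun g hg =>
    hH g (H96.exists_pow_eq_one_of_isPGroup T.isPGroup' hg)
  have hιH : ∀ s, ι s ∈ H := fun s => hTH (hT.ge ⟨s, rfl⟩)
  have hfn : ∀ x, fn ι x ∈ H := fun x => hTH (hT.ge (fn_mem_range ι x))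
  obtain ⟨D, hD, hDF, hD'⟩ := Realized.exists_sub h hιH
  have hDs : D.IsSaturated p := isSaturated_of_isRealizedBy hD (T.subtype hTH) (by
    ext x
    rw [Sylow.coe_subtype, Subgroup.mem_subgroupOf, hT]
    exact ⟨fun ⟨s, e⟩ => ⟨s, Subtype.ext e⟩, fun ⟨s, e⟩ => ⟨s, congrArg Subtype.val e⟩⟩)
  have hED : E.IsSubsystemOf D := hE.2.2 D hDs (H95.hasPrimeToPIndexIn_iff.2 ⟨hDF, by
    rintro P hP α hα ⟨k, hk⟩
    obtain ⟨g, hg⟩ := Realized.exists_conj_aut h hP hα
    obtain ⟨e, he, hj⟩ := H96.exists_pow_p_element (p := p) (isOfFinOrder_of_finite g) k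
    refine (hD' _ _).2 ⟨mor_of_mem_autGroup hP hα, g ^ e, hH _ hj, fun x hx => ?_⟩
    rw [← hg e x hx, H96.pow_eq_self_of_modEq he hk]⟩)
  refine lt_of_le_of_ne (hyperfocalSubgroup_le E p) fun hc => hTM ?_
  have h1 : D.hyperfocalSubgroup p ≤ pre ι M := by
    refine hyp_le_iff.2 fun P hP α hα hco x hx => mem_pre.2
      ⟨mul_mem (inv_mem (hP hx)) (hP (ext_mem α hx)), ?_⟩
    obtain ⟨g, hg⟩ := Realized.exists_conj_aut hD hP hα
    obtain ⟨e, he, hj⟩ := H96.exists_pow_p'_element (p := p) (isOfFinOrder_of_finite g) hco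
    have h2 := congrArg Subtype.val (hg e x hx)
    rw [H96.pow_eq_self_of_modEq he (pow_orderOf_eq_one α)] at h2
    simp only [Subgroup.coe_mul, fn_codRestrict, Subgroup.coe_inv] at h2
    have h3 : ((g ^ e : H) : G) ∈ M := hM _ (g ^ e).2 (by rwa [Subgroup.orderOf_coe])
    rw [fn_mul ι (inv_mem (hP hx)) (hP (ext_mem α hx)), fn_inv ι (hP hx), h2]
    have := mul_mem (hMn _ (inv_mem (hfn x)) _ h3) (inv_mem h3)
    simpa only [inv_inv, mul_assoc] using this
  intro t ht
  obtain ⟨s, hs, rfl⟩ := mem_range_iff_fn.1 (hT.le ht)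
  exact (mem_pre.1 (h1 (hyp_mono hED (hc.ge hs)))).2

end realized

section series

variable {Ω : Type u} [Group Ω] {p : ℕ} [hp : Fact p.Prime]

theorem isNormal_core_of_invariant {S T : Subgroup Ω} [Finite S] {F : FusionSystem S}
    {E : FusionSystem T} (hS : IsPGroup p S) (hF : F.IsSaturated p) (hE : E.IsInvariantIn F) :
    F.IsNormal E.core := by
  have : Finite T := finite_of_le_S (inv_le hE)
  exact H96.sat_isNormal_of_invariant hS hF hE (H97.isNormal_core E) fun α hα x hx =>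
    (inv_fsIso hE hα).core.le (mem_img_of_mem _ hx)

theorem normal_autGroup_subgroupOf {S T P : Subgroup Ω} {F : FusionSystem S}
    {E : FusionSystem T} (hE : E.IsInvariantIn F) (hP : P ≤ T) :
    ((E.autGroup P).subgroupOf (F.autGroup P)).Normal :=
  ⟨fun _ hκ α => inv_conj_mem_autGroup hE hP α.2 hκ⟩

theorem isPSolvable_subgroupOf {G : Type*} [Group G] {A B : Subgroup G} (h : IsPSolvable p A) :
    IsPSolvable p (A.subgroupOf B) :=
  H24.isPSolvable_of_injective hp.out
    (((B.subtype.comp (A.subgroupOf B).subtype)).codRestrict A fun x => x.2)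
    (fun _ _ e => Subtype.ext (Subtype.ext (congrArg (fun a : A => (a : G)) e))) h

/-- constrained with `p`-solvable models, as a property of the automizer of the core -/
def PSolvCon (p : ℕ) {S : Subgroup Ω} (F : FusionSystem S) : Prop :=
  F.IsConstrained p ∧ ∀ P, P ≤ S → IsPSolvable p (F.autGroup P)

theorem pSolvCon_of_normal {S R : Subgroup Ω} [Finite S] {F : FusionSystem S} (hS : IsPGroup p S)
    (hF : F.IsSaturated p) (hR : F.IsNormal R) (hc : centralizerIn S R ≤ R)
    (h : IsPSolvable p (F.autGroup R)) : PSolvCon p F := by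
  obtain ⟨G, _, ι, hG⟩ := exists_model hS hF hR (isCentric_of_isNormal hR hc)
  exact ⟨IsModel.isConstrained hG, fun P hP =>
    Realized.isPSolvable_autGroup hG.2.1 ((IsModel.isPSolvable_iff hG hR hc).2 h) hP⟩

theorem pSolvCon_iff {S : Subgroup Ω} [Finite S] {F : FusionSystem S} (hS : IsPGroup p S) :
    PSolvCon p F ↔ F.IsConstrained p ∧
      ∀ (G : Type u) [Group G] (ι : S →* G), F.IsModel p G ι → IsPSolvable p G := by
  refine and_congr_right fun hF => ?_
  have hc := H96.centralizerIn_le_of_isCentric (IsConstrained.isCentric_core hF)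
  constructor
  · exact fun h G _ ι hG => (IsModel.isPSolvable_iff hG (H97.isNormal_core F) hc).2
      (h _ (H97.isNormal_core F).1)
  · intro h P hP
    obtain ⟨G, _, ι, hG⟩ := exists_model_of_centralizerIn_le hS hF.1 hc
    exact Realized.isPSolvable_autGroup hG.2.1 (h G ι hG) hP

theorem PSolvCon.of_sub {S T : Subgroup Ω} [Finite S] {F : FusionSystem S} {E : FusionSystem T}
    (h : PSolvCon p F) (hS : IsPGroup p S) (hT : F.StronglyClosed T) (hE : E.IsSaturated p)
    (hEF : E.IsSubsystemOf F) : PSolvCon p E :=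
  ⟨IsConstrained.of_sub hS h.1 hT hE hEF, fun P hP => H24.isPSolvable_of_injective hp.out
    (Subgroup.inclusion (autGroup_mono hEF)) (Subgroup.inclusion_injective _)
    (h.2 P (hP.trans hT.1))⟩

theorem PSolvCon.of_pPrime {S : Subgroup Ω} [Finite S] {F E : FusionSystem S}
    (h : PSolvCon p E) (hS : IsPGroup p S) (hF : F.IsSaturated p)
    (hE : F.IsPPrimeResidual p E) : PSolvCon p F := by
  have hinv : E.IsInvariantIn F := by
    rw [H95.eq_opPrime hS hF hE]
    exact H95.opPrime_invariant hS (isInvariantIn_refl F) hF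
  have hQ := isNormal_core_of_invariant hS hF hinv
  have := normal_autGroup_subgroupOf hinv hQ.1
  have := H96.finite_autGroup F hQ.1
  refine pSolvCon_of_normal hS hF hQ
    (H96.centralizerIn_le_of_isCentric (IsConstrained.isCentric_core h.1))
    (isPSolvable_of_normal _ _ (isPSolvable_subgroupOf (h.2 _ hQ.1)) (isPSolvable_of_coprime
      (coprime_quotient_of_pElement_mem _ fun α ⟨k, hk⟩ => ?_)))
  exact mem_autGroup_of_mor ((H95.hasPrimeToPIndexIn_iff.1 hE.2.1).2 _ hQ.1 α α.2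
    ⟨k, congrArg Subtype.val hk⟩)

theorem PSolvCon.of_pResidual {S : Subgroup Ω} [Finite S] {F : FusionSystem S}
    {D : FusionSystem (F.hyperfocalSubgroup p)} (h : PSolvCon p D) (hS : IsPGroup p S)
    (hF : F.IsSaturated p) (hD : F.IsPResidual p D) : PSolvCon p F := by
  have hTS : F.hyperfocalSubgroup p ≤ S := hyperfocalSubgroup_le F p
  have : Finite (F.hyperfocalSubgroup p) := finite_of_le_S hTS
  have hinv : D.IsInvariantIn F := pIndex_isInvariantIn hS hF le_normalizer_hyp hD.1 hD.2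
  have hR := isNormal_core_of_invariant hS hF hinv
  have hRT : D.core ≤ F.hyperfocalSubgroup p := (H97.isNormal_core D).1
  have hRc := H96.centralizerIn_le_of_isCentric (IsConstrained.isCentric_core h.1)
  have hA : IsPSolvable p (F.autGroup D.core) := by
    have := normal_autGroup_subgroupOf hinv hRT
    have := H96.finite_autGroup F hR.1
    refine isPSolvable_of_normal _ _ (isPSolvable_subgroupOf (h.2 _ hRT))
      (isPSolvable_of_isPGroup (isPGroup_quotient_of_coprime_mem _ fun α hα => ?_))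
    exact pIndex_mem hD.2 hRT α.2 ((Subgroup.orderOf_coe α).symm ▸ hα)
  generalize D.core = R at hR hRT hRc hA
  have hRs := H96.stronglyClosed_of_isNormal hR
  have hCs := stronglyClosed_centralizerIn_of_isNormal hR
  have hQs := stronglyClosed_sup_centralizerIn hS hF hRs
  have hCn := H96.le_normalizer_of_stronglyClosed hCs
  -- `p'`-elements centralizing `R` act trivially on subgroups of `N_S(R)` once they act
  -- trivially modulo `R` on the hyperfocal subgroup
  have key : ∀ P, P ≤ S → ∀ κ ∈ F.autGroup P, (∀ x ∈ P, x ∈ R → ext κ x = x) →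
      (∀ x ∈ P, x ∈ F.hyperfocalSubgroup p → x⁻¹ * ext κ x ∈ R) → ∃ k, κ ^ p ^ k = 1 := by
    intro P hP κ hκ h1 h2
    have : Finite P := finite_of_le_S hP
    have : Finite (MulAut P) := finite_mulAut hP
    obtain ⟨k, m, hm, e⟩ := Nat.exists_eq_pow_mul_and_not_dvd (orderOf_pos κ).ne' p hp.out.ne_one
    have hco : (orderOf (κ ^ p ^ k)).Coprime p :=
      Nat.Coprime.coprime_dvd_left (orderOf_dvd_of_pow_eq_one (n := m)
        (by rw [← pow_mul, ← e, pow_orderOf_eq_one]))
        ((Nat.Prime.coprime_iff_not_dvd hp.out).2 hm).symm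
    obtain ⟨j, hj⟩ := H96.exists_pow_fix_step (hS.to_le hP) κ hRT ⟨0, by simpa using h1⟩ h2
    obtain ⟨l, hl⟩ := H96.pow_eq_one_of_fix_of_comm (hS.to_le hP) ((κ ^ p ^ j) ^ p ^ k)
      (Q := F.hyperfocalSubgroup p) (fun x hx hxT => ext_pow_of_fixed _ (hj x hx hxT) _)
      (fun x hx => mem_hyp_of_coprime hP (pow_mem (pow_mem hκ _) _) (by
        rw [← pow_mul, mul_comm, pow_mul]
        exact Nat.Coprime.coprime_dvd_left (orderOf_pow_dvd _) hco) hx)
    exact ⟨j + k + l, by rw [pow_add, pow_add, pow_mul, pow_mul, hl]⟩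
  have hQn : F.IsNormal (R ⊔ centralizerIn S R) := by
    refine (H96.sat_isNormal_iff_centric_radical hS hF).2 ⟨hQs, fun P hc hr => ?_⟩
    have hRP := H96.le_of_isNormal_of_centric_radical hS hR hc hr
    refine sup_le hRP (H96.le_of_conjAut_mem_pCoreIn hS hc hr centralizerIn_le (hc.1.trans hCn)
      fun s hs hsn => ?_)
    let K : Subgroup (MulAut P) := F.autGroup P ⊓ fixK P R ⊓
      { carrier := {κ | ∀ x ∈ P, x ∈ F.hyperfocalSubgroup p → x⁻¹ * ext κ x ∈ R}
        mul_mem' := fun {a b} ha hb x hx hxT => by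
          have h1 := hb x hx hxT
          have h2 := ha _ (ext_mem b hx) ((mul_mem_cancel_left (inv_mem hxT)).1 (hRT h1))
          rw [ext_mul]
          simpa only [mul_assoc, mul_inv_cancel_left] using mul_mem h1 h2
        one_mem' := fun x _ _ => by simp
        inv_mem' := fun {a} ha x hx hxT => by
          have : Finite (MulAut P) := finite_mulAut hc.1
          have h1 := H96.inv_mul_ext_pow_mem a hRT ha (orderOf a - 1) x hx hxT
          rwa [show a ^ (orderOf a - 1) = a⁻¹ from eq_inv_of_mul_eq_one_left (by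
            rw [← pow_succ, Nat.sub_add_cancel (orderOf_pos a), pow_orderOf_eq_one])] at h1 }
    have hTs := stronglyClosed_hyp hS hF
    refine H96.le_pCoreIn (K := K) (inf_le_left.trans inf_le_left)
      (H96.isPGroup_of_forall fun κ hκ => key P hc.1 κ hκ.1.1 (fun x _ hx => hκ.1.2 x hx) hκ.2)
      (fun α hα κ hκ => ⟨⟨Subgroup.mul_mem _ (Subgroup.mul_mem _ hα hκ.1.1)
        (Subgroup.inv_mem _ hα), fixK_conj (fun x hx =>
        H96.ext_mem_of_stronglyClosed hRs hc.1 (inv_mem hα) (hRP hx) hx) hκ.1.2⟩,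
        fun x hx hxT => ?_⟩) ⟨⟨autInducedBy_le_autGroup F hc.1 le_rfl
          (conjAut_mem_autInducedBy hs.1 hsn), fun x hx => ?_⟩, fun x hx hxT => ?_⟩
    · have h1 := hκ.2 _ (ext_mem α⁻¹ hx)
        (H96.ext_mem_of_stronglyClosed hTs hc.1 (inv_mem hα) hx hxT)
      have h2 := H96.ext_mem_of_stronglyClosed hRs hc.1 hα (hRP h1) h1
      rw [(homOn_ext α).map_mul (inv_mem (ext_mem _ hx)) (ext_mem _ (ext_mem _ hx)),
        (homOn_ext α).map_inv (ext_mem _ hx), ext_ext_inv] at h2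
      rwa [ext_mul, ext_mul]
    · rw [ext_conjAut hsn (hRP hx), H96.mem_centralizer_conj.1 hs.2 x hx]
    · rw [ext_conjAut hsn hx]
      refine hRc ⟨Subgroup.mul_mem _ (Subgroup.inv_mem _ hxT) (hyp_conj_mem hs.1 hxT), ?_⟩
      exact (H96.comm_mem_of_normalizes hs (hCn (hc.1 hx))).2
  refine pSolvCon_of_normal hS hF hQn ((H96.centralizerIn_anti le_sup_left).trans le_sup_right) ?_
  have := H96.finite_autGroup F hQn.1
  let r : F.autGroup (R ⊔ centralizerIn S R) → F.autGroup R → Prop := fun α β =>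
    ∀ x ∈ R, ext (α : MulAut (R ⊔ centralizerIn S R : Subgroup Ω)) x = ext (β : MulAut R) x
  have hmul : ∀ a a' b b', r a b → r a' b' → r (a * a') (b * b') := fun a a' b b' h1 h2 x hx => by
    rw [Subgroup.coe_mul, Subgroup.coe_mul, ext_mul, ext_mul, h2 x hx, h1 _ (ext_mem _ hx)]
  have hfun : ∀ a b b', r a b → r a b' → b = b' := fun a b b' h1 h2 =>
    Subtype.ext (aut_ext fun x hx => (h1 x hx).symm.trans (h2 x hx))
  have hH : ∀ a ∈ (⊤ : Subgroup (F.autGroup (R ⊔ centralizerIn S R))), ∃ b, r a b := fun a _ => by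
    have hm := (mor_of_mem_autGroup hQn.1 a.2).mono (le_sup_left : R ≤ _)
    obtain ⟨β, hβ, e⟩ := hm.exists_aut (IsNormal.img_eq' hR hm le_rfl)
    exact ⟨⟨β, hβ⟩, fun x hx => (e x hx).symm⟩
  refine H24.isPSolvable_of_surjective hp.out (Subgroup.subtype ⊤)
    (fun x => ⟨⟨x, trivial⟩, rfl⟩)
    (isPSolvable_of_ker (relHom r hmul hfun ⊤ hH) (H96.isPGroup_of_forall fun a ha => ?_) hA)
  have h1 := relHom_spec r hmul hfun ⊤ hH a
  rw [MonoidHom.mem_ker.1 ha] at h1
  obtain ⟨k, hk⟩ := key _ hQn.1 _ a.1.2 (fun x _ hx => (h1 x hx).trans (ext_one x))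
    fun x hx hxT => by
      obtain ⟨y, hy, c, hc, rfl⟩ := (mem_sup_of_normalizes (hR.1.trans hCn)).1 hx
      have hxR : y * c ∈ R := mul_mem hy (hRc ⟨(mul_mem_cancel_left (hRT hy)).1 hxT, hc.2⟩)
      rw [h1 _ hxR]
      exact mul_mem (inv_mem hxR) (ext_mem _ hxR)
  exact ⟨k, Subtype.ext (Subtype.ext hk)⟩

theorem pSolvCon_of_series {S : Subgroup Ω} {F : FusionSystem S} {q : ℕ}
    (h : F.HasTerminatingResidualSeries q) : q = p → Finite S → IsPGroup p S → F.IsSaturated p →
      PSolvCon p F := by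
  induction h with
  | trivial F q h =>
    intro _ _ hS hF
    subst h
    have := H96.finite_autGroup F le_rfl
    exact pSolvCon_of_normal hS hF (H96.isNormal_bot F) centralizerIn_le
      (isPSolvable_of_isPGroup (IsPGroup.of_subsingleton p _))
  | step F E q D hE hD _ ih =>
    rintro rfl _ hS hF
    have hT := hyperfocalSubgroup_le E q
    exact ((ih rfl (finite_of_le_S hT) (hS.to_le hT) hD.1).of_pResidual hS hE.1 hD).of_pPrime
      hS hF hE

theorem series_of_pSolvCon {S : Subgroup Ω} [Finite S] {F : FusionSystem S} (hS : IsPGroup p S)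
    (h : PSolvCon p F) : F.HasTerminatingResidualSeries p := by
  refine fs_induction (p := p) (fun Ω _ S F => PSolvCon p F → F.HasTerminatingResidualSeries p)
    ?_ F hS h.1.1 h
  intro Ω _ S _ F hS hF ih _ h
  by_cases hS1 : S = ⊥
  · exact .trivial F p hS1
  have hE := H95.isPPrimeResidual_opPrime hS hF
  have hT := hyperfocalSubgroup_le (H95.opPrime F p) p
  have := finite_of_le_S hT
  obtain ⟨D, hD⟩ := exists_pIndex hS hE.1 hT le_rfl
  obtain ⟨G, _, ι, hG⟩ := exists_model_of_centralizerIn_le hS hF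
    (H96.centralizerIn_le_of_isCentric (IsConstrained.isCentric_core h.1))
  have := hG.1
  obtain ⟨T, hT'⟩ := hG.2.2.1
  have hlt := Realized.hyp_lt hG.2.1 T hT' (((pSolvCon_iff hS).1 h).2 G ι hG) hS1 hE
  exact .step F _ p D hE hD (ih _ _ D (hS.to_le hT) hD.1 (H96.card_lt_of_lt hlt le_rfl)
    ((h.of_sub hS (H96.stronglyClosed_top F) hE.1 hE.2.1.1).of_sub hS
      (stronglyClosed_hyp hS hE.1) hD.1 hD.2.1))

end series

end Cfsg.Agent.H99
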