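import Mathlib
import Cfsg.Agent.H99.Control
import Cfsg.Agent.H51.Replacement

/-! Generation of a fusion system by the centralizer of the `p`-th powers of the centre and the
normalizer of a characteristic subgroup with the quadratic element property. -/

set_option autoImplicit false

namespace Cfsg.Agent.H99

open Cfsg Cfsg.FusionSystem Cfsg.Agent.H97 Cfsg.Agent.H98

universe u

section agemo

variable {Ω : Type*} [Group Ω] {p n : ℕ} {U V K : Subgroup Ω}

/-- the subgroup generated by the `p ^ n`-th powers of the elements of the centre of `U` -/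
def agZ (p n : ℕ) (U : Subgroup Ω) : Subgroup Ω := powerClosure p n (centralizerIn U U)

theorem agZ_le_iff : agZ p n U ≤ K ↔ ∀ x ∈ centralizerIn U U, x ^ p ^ n ∈ K := by
  unfold agZ powerClosure
  rw [Subgroup.closure_le]
  exact ⟨fun h x hx => h ⟨x, hx, rfl⟩, by rintro h _ ⟨x, hx, rfl⟩; exact h x hx⟩

theorem pow_mem_agZ {x : Ω} (hx : x ∈ centralizerIn U U) : x ^ p ^ n ∈ agZ p n U :=
  agZ_le_iff.1 le_rfl x hx

theorem agZ_le_center : agZ p n U ≤ centralizerIn U U := agZ_le_iff.2 fun _ hx => pow_mem hx _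

theorem agZ_le : agZ p n U ≤ U := agZ_le_center.trans centralizerIn_le

theorem agZ_le_agZ (hVU : V ≤ U) (h : centralizerIn U U ≤ V) : agZ p n U ≤ agZ p n V :=
  agZ_le_iff.2 fun _ hx => pow_mem_agZ ⟨h hx, fun y hy => hx.2 y (hVU hy)⟩

theorem HomOn.mem_agZ {Ω' : Type*} [Group Ω'] {f : Ω → Ω'} (hf : HomOn U f) {U' : Subgroup Ω'}
    (hU : img U f = U') {x : Ω} (hx : x ∈ agZ p n U) : f x ∈ agZ p n U' := by
  have h : agZ p n U ≤ ((agZ p n U').comap hf.toHom).map U.subtype := by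
    refine agZ_le_iff.2 fun y hy => ⟨⟨y ^ p ^ n, pow_mem hy.1 _⟩, ?_, rfl⟩
    change f (y ^ p ^ n) ∈ agZ p n U'
    rw [hf.map_pow hy.1]
    refine pow_mem_agZ ⟨hU.le (mem_img_of_mem f hy.1), fun z hz => ?_⟩
    obtain ⟨w, hw, rfl⟩ := hf.mem_img.1 (hU.ge hz)
    rw [← hf.map_mul hw hy.1, ← hf.map_mul hy.1 hw, hy.2 w hw]
  obtain ⟨y, hy, rfl⟩ := h hx
  exact hy

theorem le_centralizer_agZ : U ≤ Subgroup.centralizer (agZ p n U : Set Ω) :=
  fun x hx y hy => ((agZ_le_center hy).2 x hx).symm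

theorem le_normalizer_agZ : U ≤ Subgroup.normalizer (agZ p n U : Set Ω) :=
  le_centralizer_agZ.trans (Subgroup.centralizer_le_normalizer _)

theorem mem_centralizer_agZ {g : Ω}
    (h : ∀ x ∈ centralizerIn U U, g * x ^ p ^ n * g⁻¹ = x ^ p ^ n) :
    g ∈ Subgroup.centralizer (agZ p n U : Set Ω) := by
  have : agZ p n U ≤ Subgroup.centralizer {g} := agZ_le_iff.2 fun x hx =>
    Subgroup.mem_centralizer_singleton_iff.2 (mul_inv_eq_iff_eq_mul.1 (h x hx)).symm
  exact fun y hy => Subgroup.mem_centralizer_singleton_iff.1 (this hy)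

theorem isNormal_agZ {S : Subgroup Ω} {F : FusionSystem S} [Finite S] (hQ : F.IsNormal U) :
    F.IsNormal (agZ p n U) :=
  H96.isNormal_of_isNormal_of_invariant hQ agZ_le fun _ hg _ hx =>
    HomOn.mem_agZ hg.mor.homOn hg.img_eq hx

/-- some power of an element of a `p`-group outside `Q` is outside `Q` with `p`-th power in `Q` -/
theorem exists_pow_not_mem_pow_mem {g : Ω} {k : ℕ} (hk : g ^ p ^ k = 1) (hg : g ∉ K) :
    ∃ m : ℕ, g ^ m ∉ K ∧ (g ^ m) ^ p ∈ K := by
  induction k generalizing g with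
  | zero => exact absurd (by simpa using hk : g = 1) fun h => hg (h ▸ one_mem K)
  | succ k ih =>
    by_cases h : g ^ p ∈ K
    · exact ⟨1, by simpa using hg, by simpa using h⟩
    · obtain ⟨m, h1, h2⟩ := ih (g := g ^ p) (by rw [← pow_mul, ← pow_succ', hk]) h
      exact ⟨p * m, by rwa [pow_mul], by rwa [pow_mul]⟩

end agemo

section main

variable {p : ℕ} [Fact p.Prime] {W : ∀ (Q : Type u) [Group Q], Subgroup Q}
  (hW1 : ∀ (Q : Type u) [Group Q] [Finite Q], IsPGroup p Q → Nontrivial Q → W Q ≠ ⊥)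
  (hW2 : ∀ (Q R : Type u) [Group Q] [Group R] [Finite Q], IsPGroup p Q →
      ∀ φ : Q ≃* R, (W Q).map φ.toMonoidHom = W R)

/-- If `Aut_F(Q) = Aut_S(Q)` for a normal subgroup `Q` and every map of `F/Q` lifts to `E`, then
`F ≤ E`. -/
theorem sub_of_factor_le {Ω : Type*} [Group Ω] {S T' : Subgroup Ω} [Finite S] {F : FusionSystem S}
    {E : FusionSystem T'} (hS : IsPGroup p S) (hF : F.IsSaturated p) (hST : S ≤ T')
    {Q : Subgroup Ω} (hQ : F.IsNormal Q)
    (hA : ∀ α ∈ F.autGroup Q, ∃ k, α ^ p ^ k = 1)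
    (h : ∀ P f, Q ≤ P → Mor F P f → ∃ g, Mor F P g ∧ Mor E P g ∧ ∀ x ∈ P, (g x)⁻¹ * f x ∈ Q) :
    F.IsSubsystemOf E := by
  have hQs := H96.stronglyClosed_of_isNormal hQ
  refine sub_of_aut_step hS hF hST fun P hP ih α hα => ?_
  have hm := mor_of_mem_autGroup hP.1 hα
  have : Finite P := finite_of_le_S hP.1
  by_cases hQP : Q ≤ P
  swap
  · obtain ⟨g, hg, e, -⟩ := (isNormal_iff.1 hQ).2 P _ hm
    exact ((ih _ g (lt_of_le_of_ne le_sup_left fun h => hQP (le_sup_right.trans h.ge)) hg).mono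
      le_sup_left).congr e
  obtain ⟨g, hg, hgE, e⟩ := h P _ hQP hm
  have hgP : ∀ x ∈ P, g x ∈ P := fun x hx => by
    have := mul_mem (ext_mem α hx) (inv_mem (hQP (e x hx)))
    simpa using this
  obtain ⟨β, hβ, e'⟩ := hg.exists_aut (hg.img_eq_of_mapsTo hgP)
  have hinv : ∀ γ ∈ F.autGroup P, ∀ x ∈ P, x ∈ Q → ext γ x ∈ Q := fun γ hγ x hx hxQ =>
    H96.ext_mem_of_stronglyClosed hQs hP.1 hγ hx hxQ
  have hκ : β⁻¹ * α ∈ H96.pCoreIn p (F.autGroup P) := by
    refine H96.mem_pCoreIn_of_chain (hS.to_le hP.1) _ (fun i => if i = 0 then Q else P) 1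
      (by simp) (fun i hi => by
        obtain rfl : i = 0 := by omega
        simpa using hQP) (fun i _ γ hγ x hx hxi => ?_) (fun γ hγ => ?_)
      (mul_mem (inv_mem hβ) hα) fun i hi x hx _ => ?_
    · by_cases hi : i = 0
      · simp only [hi, if_true] at hxi ⊢
        exact hinv γ hγ x hx hxi
      · simp only [hi, if_false]
        exact ext_mem γ hx
    · have hγQ := (mor_of_mem_autGroup hP.1 hγ).mono hQP
      obtain ⟨δ, hδ, e2⟩ := hγQ.exists_aut (hγQ.img_eq_of_mapsTo fun x hx => hinv γ hγ x (hQP hx) hx)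
      obtain ⟨k, hk⟩ := hA δ hδ
      refine ⟨k, fun x _ hx => ?_⟩
      simp only [if_true] at hx
      rw [H96.ext_pow_congr (fun y hy => (e2 y hy).symm) _ x hx, hk, ext_one]
    · obtain rfl : i = 0 := by omega
      simp only [if_true]
      have h1 := hinv _ (inv_mem hβ) _ (hQP (e x hx)) (e x hx)
      rw [(homOn_ext β⁻¹).map_mul (inv_mem (hgP x hx)) (ext_mem α hx),
        (homOn_ext β⁻¹).map_inv (hgP x hx), ← e' x hx, ext_inv_ext] at h1
      rw [ext_mul]
      exact h1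
  obtain ⟨s, hs, e2⟩ := mem_autInducedBy_iff.1
    (H96.pCoreIn_le_of_sylIn (H96.sat_sylIn hS hF hP) hκ)
  have h2 := (mor_conj E (hP.1.trans hST) (hST hs)).comp hgE fun x hx => e2 x hx ▸ ext_mem _ hx
  exact h2.congr fun x hx => by
    rw [← e2 x hx, ← e' _ (ext_mem _ hx), ext_mul, ext_ext_inv]

include hW1 hW2 in
/-- `F` is generated by `C_F(℧¹(Z(S)))` and `N_F(W(S))`, given the local condition. -/
theorem sub_of_cLe_of_nLe
    (hloc : ∀ (Ω : Type u) [Group Ω] (S : Subgroup Ω) [Finite S] (F : FusionSystem S),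
      IsPGroup p S → F.IsSaturated p → centralizerIn S F.core ≤ F.core →
      ¬ F.IsNormal (wf W S) →
      ∃ g ∈ S, g ∉ F.core ∧ g ∈ Subgroup.centralizer (agZ p 1 F.core : Set Ω))
    {Ω : Type u} [Group Ω] {S : Subgroup Ω} [Finite S] (F : FusionSystem S) (hS : IsPGroup p S)
    (hF : F.IsSaturated p) : ∀ (T' : Subgroup Ω) (E : FusionSystem T'),
      CLe F (agZ p 1 S) E → NLe F (wf W S) E → F.IsSubsystemOf E := by
  refine fs_induction (p := p) (fun Ω _ S F => ∀ (T' : Subgroup Ω) (E : FusionSystem T'),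
      CLe F (agZ p 1 S) E → NLe F (wf W S) E → F.IsSubsystemOf E) ?_ F hS hF
  intro Ω _ S _ F hS hF ih1 ih2 T' E hC hN
  have hST : S ≤ T' := (hC S _ agZ_le (mor_id F le_rfl) fun _ _ => rfl).le
  have hproper : ∀ L, L ≤ S → S ≤ Subgroup.normalizer (L : Set Ω) → ¬ L ≤ F.core →
      ∀ P f, L ≤ P → Mor F P f → img L f = L → Mor E P f := by
    intro L hL hn hc
    obtain ⟨N, -, -, h1, h2, h3, h4⟩ := exists_proper_nsys hS hF hL hn hc
    have he := normalizerIn_eq_self hn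
    have := ih2 _ N h1 h2 h3 T' E (hC.of_sub h2 (by rw [he])) (by
      rw [congrArg (wf W) he]
      exact hN.of_sub h2)
    exact fun P f hP hf hi => (h4 P f hP hf hi).of_sub this
  by_cases hQ : F.core = ⊥
  · refine le_of_wellPlaced_wf hW1 hW2 hS hF hN fun T hT1 hT N hN' hNE => ?_
    have h2 := nsys_sub hN'
    exact ih2 _ N (normalizerSystem_saturated hS hF hT hN') h2
      (not_sub_nsys hT.1 hN' fun h => hT1 (le_bot_iff.1 (h.trans hQ.le))) T' E
      (hC.of_sub h2 (agZ_le_agZ normalizerIn_le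
        ((H96.centralizerIn_anti hT.1).trans centralizerIn_le_normalizerIn))) hNE
  have hQn := H97.isNormal_core F
  have hQs := H96.stronglyClosed_of_isNormal hQn
  by_cases hc : centralizerIn S F.core ≤ F.core
  · by_cases hw : F.IsNormal (wf W S)
    · exact hN.of_isNormal hw
    obtain ⟨g, hg, hgQ, hgV⟩ := hloc Ω S F hS hF hc hw
    have hV : F.IsNormal (agZ p 1 F.core) := isNormal_agZ hQn
    have hsc := stronglyClosed_centralizerIn_of_isNormal hV
    refine sub_of_frattini hS hF hV (hC.of_sub (isSubsystemOf_iff.2 fun _ _ h => h)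
      (agZ_le_agZ hQn.1 ((H96.centralizerIn_anti hQn.1).trans hc))) fun P f hP hf => ?_
    exact hproper _ centralizerIn_le (H96.le_normalizer_of_stronglyClosed hsc)
      (fun h => hgQ (h ⟨hg, hgV⟩)) P f (le_sup_right.trans hP) hf
      (hf.img_eq_of_stronglyClosed hsc (le_sup_right.trans hP))
  have hR := stronglyClosed_sup_centralizerIn hS hF hQs
  have hfr : CLe F F.core E → F.IsSubsystemOf E := fun h =>
    sub_of_frattini hS hF hQn h fun P f hP hf =>
      hproper _ hR.1 (H96.le_normalizer_of_stronglyClosed hR) (fun h => hc (le_sup_right.trans h))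
        P f hP hf (hf.img_eq_of_stronglyClosed hR hP)
  by_cases hVQ : agZ p 1 S ≤ F.core
  · exact hfr (hC.of_sub (isSubsystemOf_iff.2 fun _ _ h => h) hVQ)
  have hNK : S = NK S F.core (autInducedBy S F.core) := by
    refine le_antisymm (fun s hs => mem_NK.2 ⟨hs, conjAut _ (IsNormal.le_normalizer' hQn hs),
      conjAut_mem_autInducedBy hs _, fun x hx => ext_conjAut _ hx⟩) NK_le
  obtain ⟨D, hD⟩ := exists_kNormalizer F hQn.1 (autInducedBy S F.core) hNK
  have hDs : D.IsSaturated p := kNormalizer_saturated hS hF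
    ((kFull_top_of_fullyNormalized hS hF (H96.fullyNormalized_of_stronglyClosed hQs)).mono le_top
      inf_le_left) hNK hD
  have hDF : D.IsSubsystemOf F := isSubsystemOf_iff.2 fun P f hf => ((hD P f).1 hf).mor
  by_cases hFD : F.IsSubsystemOf D
  swap
  · have hDE := ih2 _ D hDs hDF hFD T' E (hC.of_sub hDF le_rfl) (hN.of_sub hDF)
    refine hfr fun P f hP hf hfix => Mor.of_sub ((hD P f).2 ⟨hf.le.trans hNK.le, f, ?_,
      fun _ _ => rfl, 1, one_mem _, fun x hx => by rw [hfix x hx, ext_one]⟩) hDE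
    rwa [sup_eq_left.2 hP]
  -- the quotient argument
  have := normal_subgroupOf_of_stronglyClosed hQs
  obtain ⟨F', hF'⟩ := exists_factorSystem_quotient hQs
  set θ := QuotientGroup.mk' (F.core.subgroupOf S)
  obtain ⟨E₁, hE₁⟩ := exists_inter F E hST
  have hE₁F : E₁.IsSubsystemOf F := isSubsystemOf_iff.2 fun P f hf => ((hE₁ P f).1 hf).1
  obtain ⟨E', hE'⟩ := exists_factorSystem_quotient (stronglyClosed_of_sub hE₁F hQs hQn.1)
  have hS' := factor_isPGroup hS hF'
  have hlift : ∀ T₀ : Subgroup (S ⧸ F.core.subgroupOf S), T₀ ≠ ⊥ →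
      (⊤ : Subgroup _) ≤ Subgroup.normalizer (T₀ : Set (S ⧸ F.core.subgroupOf S)) →
      ∀ P' f', T₀ ≤ P' → Mor F' P' f' → img T₀ f' = T₀ → Mor E' P' f' := by
    intro T₀ h1 hn P' f' hP' hf' hi
    obtain ⟨f, hf, e, hi'⟩ := factor_lift_normalizing hF' hQs hf' hP' hi
    exact (factor_mor_iff hE').2 ⟨le_top, f, (hE₁ _ _).2 ⟨hf, hproper _ preimageAlong_le
      (factor_preimage_normalizer hF' le_top hn) (factor_not_preimage_le hF' le_top h1) _ f
      (preimageAlong_mono hP') hf hi'⟩, e⟩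
  have hV' : agZ p 1 (⊤ : Subgroup (S ⧸ F.core.subgroupOf S)) ≠ ⊥ := by
    intro h
    refine hVQ fun x hx => (factor_ker hF' x (agZ_le hx)).1 ?_
    have := HomOn.mem_agZ (homOn_fn θ) (factor_img_top hF') hx
    rwa [h, Subgroup.mem_bot] at this
  have hSQ : ¬ S ≤ F.core := fun h => hc (centralizerIn_le.trans h)
  have hFE' := ih1 _ _ F' hS' (factor_saturated hS hF hF' hQs) (factor_card_lt hF' hQ) _ E'
    (fun P' f' hP' hf' hfix => hlift _ hV' le_normalizer_agZ P' f' hP' hf'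
      ((img_congr hfix).trans (img_id _)))
    (fun P' f' hP' _ hf' hi => hlift _ (wf_ne_bot hW1 hS' (factor_ne_bot hF' hSQ))
      (le_normalizer_wf hW2 hS') P' f' hP' hf' hi)
  refine sub_of_factor_le hS hF hST hQn (fun α hα => ?_) fun P f hP hf => ?_
  · obtain ⟨-, g, -, e, κ, hκ, e'⟩ := (hD _ _).1 ((mor_of_mem_autGroup hQn.1 hα).of_sub hFD)
    obtain rfl : α = κ := aut_ext fun x hx => (e x hx).symm.trans (e' x hx)
    exact H96.exists_pow_eq_one_of_isPGroup (isPGroup_autInducedBy hS) hκ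
  · obtain ⟨f', hf', e⟩ := hf.factor_mor_sat hS hF hF' hQs
    obtain ⟨-, g, hg, e'⟩ := (factor_mor_iff hE').1 (hf'.of_sub hFE')
    rw [factor_preimage_img hF' hf.le, sup_eq_left.2 hP] at hg e'
    obtain ⟨hg1, hg2⟩ := (hE₁ _ _).1 hg
    exact ⟨g, hg1, hg2, fun x hx => (fn_eq_iff_of_ker (factor_ker hF') (hg1.mem hx)
      (hf.mem hx)).1 ((e' x hx).symm.trans (e x hx))⟩

/-- a quadratic element with `p`-th power centralizing `Z` centralizes the `p`-th powers -/
theorem conj_pow_eq_of_quadratic {G : Type*} [Group G] {Z : Subgroup G} {g z : G}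
    (hZ : ∀ a ∈ Z, ∀ b ∈ Z, a * b = b * a) (hz : z ∈ Z) (hgz : g * z * g⁻¹ ∈ Z)
    (hq : g * (g * z * g⁻¹ * z⁻¹) * g⁻¹ = g * z * g⁻¹ * z⁻¹)
    (hp : g ^ p * z * (g ^ p)⁻¹ = z) : g * z ^ p * g⁻¹ = z ^ p := by
  have h1 : ∀ n : ℕ, g ^ n * z * (g ^ n)⁻¹ = (g * z * g⁻¹ * z⁻¹) ^ n * z := by
    intro n
    induction n with
    | zero => simp
    | succ n ih =>
      have : g ^ (n + 1) * z * (g ^ (n + 1))⁻¹ = g * (g ^ n * z * (g ^ n)⁻¹) * g⁻¹ := by
        rw [pow_succ']; group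
      rw [this, ih]
      have h2 : g * (g * z * g⁻¹ * z⁻¹) ^ n * g⁻¹ = (g * z * g⁻¹ * z⁻¹) ^ n := by
        rw [← conj_pow, hq]
      calc g * ((g * z * g⁻¹ * z⁻¹) ^ n * z) * g⁻¹
          = (g * (g * z * g⁻¹ * z⁻¹) ^ n * g⁻¹) * (g * z * g⁻¹ * z⁻¹) * z := by group
        _ = _ := by rw [h2, pow_succ]
  have h2 : (g * z * g⁻¹ * z⁻¹) ^ p = 1 := by
    have := h1 p
    rw [hp] at this
    exact right_eq_mul.1 this
  have h3 : Commute (g * z * g⁻¹) z⁻¹ := hZ _ hgz _ (inv_mem hz)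
  rw [h3.mul_pow, inv_pow, mul_inv_eq_one, conj_pow] at h2
  exact h2

include hW2 in
/-- the local condition from the quadratic element condition in groups -/
theorem exists_centralizing_of_quadratic
    (hq : ∀ (G : Type u) [Group G] [Finite G] (P : Sylow p G),
      ¬ (wf W (P : Subgroup G)).Normal → ∃ g : G, g ∈ (P : Subgroup G) ∧ g ∉ pCore p G ∧
        ⁅⁅(Subgroup.center (pCore p G)).map (pCore p G).subtype, Subgroup.zpowers g⁆,
          Subgroup.zpowers g⁆ = ⊥)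
    (Ω : Type u) [Group Ω] (S : Subgroup Ω) [Finite S] (F : FusionSystem S)
    (hS : IsPGroup p S) (hF : F.IsSaturated p) (hc : centralizerIn S F.core ≤ F.core)
    (hw : ¬ F.IsNormal (wf W S)) :
    ∃ g ∈ S, g ∉ F.core ∧ g ∈ Subgroup.centralizer (agZ p 1 F.core : Set Ω) := by
  obtain ⟨G, _, ι, hG⟩ := exists_model_of_centralizerIn_le hS hF hc
  have := hG.1
  obtain ⟨T, hT⟩ := hG.2.2.1
  have hι := hG.2.1.1
  have hQn := H97.isNormal_core F
  have hQ := IsModel.pCore_eq_img_core hS hG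
  obtain ⟨g, hgT, hgQ, hg⟩ := hq G T fun h => hw (Realized.isNormal_of_normal hG.2.1 (wf_le W S)
    (by rw [img_wf_range hW2 hS hι hT]; exact h))
  obtain ⟨k, hk⟩ := H96.exists_pow_eq_one_of_isPGroup T.isPGroup' hgT
  obtain ⟨m, h1, h2⟩ := exists_pow_not_mem_pow_mem hk hgQ
  obtain ⟨s, hs, e⟩ := mem_range_iff_fn.1 (hT.le (pow_mem hgT m))
  have hgm : fn ι s ∈ Subgroup.zpowers g := e ▸ pow_mem (Subgroup.mem_zpowers g) m
  rw [← e, hQ] at h1 h2
  have hsn := IsNormal.le_normalizer' hQn hs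
  refine ⟨s, hs, fun h => h1 (mem_img_of_mem _ h), mem_centralizer_agZ fun z hz => ?_⟩
  rw [pow_one]
  have hconj : ∀ y ∈ centralizerIn F.core F.core, s * y * s⁻¹ ∈ centralizerIn F.core F.core :=
    fun y hy => H96.conj_mem_of_mem_normalizer
      (H51.normalizer_le_normalizer_inf_centralizer _ hsn) hy
  have hzS : z ∈ S := hQn.1 hz.1
  have hcS : s * z * s⁻¹ * z⁻¹ ∈ S := mul_mem (hQn.1 (hconj z hz).1) (inv_mem hzS)
  refine conj_pow_eq_of_quadratic (Z := centralizerIn F.core F.core)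
    (fun a ha b hb => hb.2 a ha.1) hz (hconj z hz) ?_ ?_
  · refine fn_inj hι (mul_mem (mul_mem hs hcS) (inv_mem hs)) hcS ?_
    have hzZ : fn ι z ∈ (Subgroup.center (pCore p G)).map (pCore p G).subtype := by
      refine ⟨⟨fn ι z, hQ.ge (mem_img_of_mem _ hz.1)⟩, Subgroup.mem_center_iff.2 fun y => ?_, rfl⟩
      obtain ⟨x, hx, e'⟩ := (mem_img_fn hQn.1).1 (hQ.le y.2)
      refine Subtype.ext ?_
      change (y : G) * fn ι z = fn ι z * y
      rw [← e', ← fn_mul ι (hQn.1 hx) hzS, ← fn_mul ι hzS (hQn.1 hx), hz.2 x hx]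
    have h3 := H51.commute_of_commutator_eq_bot hg
      (inv_mem (Subgroup.commutator_mem_commutator hzZ hgm)) hgm
    rw [commutatorElement_inv, commutatorElement_def] at h3
    rw [fn_conj ι hs hcS, fn_mul ι (hQn.1 (hconj z hz).1) (inv_mem hzS), fn_conj ι hs hzS,
      fn_inv ι hzS, ← h3.eq, mul_inv_cancel_right]
  · rw [← (homOn_fn ι).map_pow hs, fn_mem_img_iff hι hQn.1 (pow_mem hs p)] at h2
    rw [hz.2 _ h2, mul_inv_cancel_right]

end main

section thompson

theorem thompsonA_ne_bot (p : ℕ) [Fact p.Prime] (Q : Type u) [Group Q] [Finite Q]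
    (hQ : IsPGroup p Q) (h : Nontrivial Q) : thompsonSubgroupA Q ≠ ⊥ := by
  intro hc
  refine H51.centerThompsonAOf_ne_bot (P := (⊤ : Subgroup Q)) (hQ.to_subgroup ⊤) top_ne_bot ?_
  unfold centerThompsonAOf
  rw [H51.thompsonSubgroupAOf_eq, H51.thompsonSubgroupOf_top, ← H51.thompsonSubgroupA_eq, hc,
    bot_inf_eq]

theorem map_thompsonA (p : ℕ) (Q R : Type u) [Group Q] [Group R] [Finite Q] (_ : IsPGroup p Q)
    (φ : Q ≃* R) : (thompsonSubgroupA Q).map φ.toMonoidHom = thompsonSubgroupA R := by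
  rw [H51.thompsonSubgroupA_eq, H51.thompsonSubgroupA_eq]
  exact H51.map_thompsonSubgroup_equiv 0 φ

/-- Replacement: if `J(P) ≰ D` and the abelian normal subgroup `B` of `P` centralizes `D`, some
abelian subgroup of largest order outside `D` is normalized by `B`. -/
theorem exists_maxEA_normalized {G : Type*} [Group G] [Finite G] {p : ℕ} [Fact p.Prime]
    {P B D : Subgroup G} (hP : IsPGroup p P) (hBP : B ≤ P)
    (hPB : P ≤ Subgroup.normalizer (B : Set G)) (hB : IsMulCommutative B)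
    (hBD : B ≤ Subgroup.centralizer (D : Set G)) (hJ : ¬ thompsonSubgroupAOf P ≤ D) :
    ∃ A ∈ H51.maxEA 0 P, ¬ A ≤ D ∧ B ≤ Subgroup.normalizer (A : Set G) := by
  rw [H51.thompsonSubgroupAOf_eq, H51.thompsonSubgroupOf_le_iff] at hJ
  push Not at hJ
  obtain ⟨U, hU, hUD⟩ := hJ
  obtain ⟨A, ⟨hA, hnA⟩, hmax⟩ := Set.Finite.exists_maximalFor (fun A : Subgroup G => A ⊓ B)
    {A | A ∈ H51.maxEA 0 P ∧ ¬ A ≤ D} (Set.toFinite _) ⟨U, hU, hUD⟩
  refine ⟨A, hA, hnA, ?_⟩
  by_contra hnot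
  obtain ⟨b, hb, hbN, hbA⟩ := H51.exists_replacement_elt hP hBP hPB hnot
  have h1 := (H51.replacement hP hBP hPB (fun _ => hB) hA.1 (H51.isEA_zero_iff.1 hA.2.1)
    (by rw [H51.isMulCommutative_iff_commutator.1 hB]; exact bot_le) hb hbN hbA).1
  have h2 := H51.mem_maxEA_of_card_le hA h1.le (H51.isEA_zero_iff.2 h1.comm) h1.card_eq.ge
  refine h1.inf_lt.not_ge (hmax (j := H51.repl A b) ⟨h2, fun h => h1.inf_lt'.ne ?_⟩ h1.inf_lt.le)
  exact inf_eq_right.2 (H51.le_of_mem_maxEA h2 hBP (H51.isEA_zero_iff.2 hB)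
    (hBD.trans (Subgroup.centralizer_le h)))

theorem thompsonA_normal_of_le_pCore {G : Type*} [Group G] [Finite G] {p : ℕ} (P : Sylow p G)
    (h : thompsonSubgroupAOf (P : Subgroup G) ≤ pCore p G) :
    (thompsonSubgroupAOf (P : Subgroup G)).Normal := by
  rw [H51.thompsonSubgroupAOf_eq] at h ⊢
  rw [← H51.thompsonSubgroupOf_eq_of_le h (H96.pCore_le_sylow P), ← Subgroup.normalizer_eq_top_iff,
    eq_top_iff]
  exact (Subgroup.normalizer_eq_top (H := pCore p G)).ge.trans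
    (H51.normalizer_le_normalizer_thompsonSubgroupOf 0 _)

theorem thompsonA_quadratic {p : ℕ} [Fact p.Prime] (G : Type u) [Group G] [Finite G]
    (P : Sylow p G) (h : ¬ (wf (@thompsonSubgroupA) (P : Subgroup G)).Normal) :
    ∃ g : G, g ∈ (P : Subgroup G) ∧ g ∉ pCore p G ∧
      ⁅⁅(Subgroup.center (pCore p G)).map (pCore p G).subtype, Subgroup.zpowers g⁆,
        Subgroup.zpowers g⁆ = ⊥ := by
  have hn : ((Subgroup.center (pCore p G)).map (pCore p G).subtype).Normal := inferInstance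
  obtain ⟨A, hA, hAD, hBA⟩ := exists_maxEA_normalized (D := pCore p G) P.isPGroup'
    ((Subgroup.map_subtype_le _).trans (H96.pCore_le_sylow P))
    (le_top.trans (Subgroup.normalizer_eq_top
      (H := (Subgroup.center (pCore p G)).map (pCore p G).subtype)).ge)
    (H51.isMulCommutative_map inferInstance _)
    (by
      rintro _ ⟨z, hz, rfl⟩ y hy
      exact congrArg Subtype.val (Subgroup.mem_center_iff.1 hz ⟨y, hy⟩))
    fun hc => h (thompsonA_normal_of_le_pCore P hc)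
  obtain ⟨g, hg, hgD⟩ := SetLike.not_le_iff_exists.1 hAD
  have hgA : Subgroup.zpowers g ≤ A := Subgroup.zpowers_le_of_mem hg
  refine ⟨g, hA.1 hg, hgD, H51.commutator_eq_bot_of_le
    (H51.isMulCommutative_iff_commutator.1 (H51.isEA_zero_iff.1 hA.2.1)) ?_ hgA⟩
  exact (Subgroup.commutator_mono le_rfl hgA).trans (H51.commutator_le_right_of_le_normalizer hBA)

end thompson

section cor

variable {p : ℕ} [Fact p.Prime] {Ω : Type*} [Group Ω] {S : Subgroup Ω} [Finite S]
  {F : FusionSystem S}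

/-- if `F` is generated by `C_F(V)` and `N_F(L)`, elements of `V` central in `N_F(L)` are central
in `F` -/
theorem inf_center_le_of_gen (hS : IsPGroup p S) (hF : F.IsSaturated p) {V L : Subgroup Ω}
    (hV : V ≤ centralizerIn S S) (hn : S ≤ Subgroup.normalizer (L : Set Ω))
    (h : ∀ E : FusionSystem S, CLe F V E → NLe F L E → F.IsSubsystemOf E)
    {N : FusionSystem (normalizerIn S L)} (hN : F.IsNormalizerSystem L N) :
    V ⊓ N.center ≤ F.center := by
  obtain ⟨E, hE⟩ := exists_fixSys F (Z := V ⊓ N.center) fun s hs z hz => by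
    rw [(hV hz.1).2 s hs, mul_inv_cancel_right]
  have hfix := fixN_center hN hn
  have key := h E (fun P f hP hf hfix => (hE P f).2 ⟨hf, ?_⟩)
    (fun P f hP _ hf hi => (hE P f).2 ⟨hf, ?_⟩)
  · exact FixAll.le_center hS hF (fun P f hf x hx hz => ((hE P f).1 (hf.of_sub key)).2 x hx
      (Or.inl hz)) (inf_le_left.trans (hV.trans centralizerIn_le))
  · rintro x hx (hz | hz)
    · exact hfix x hz.1
    · exact hf.inj (hP hz.1) hx (hfix _ hz.1)
  · rintro x hx (hz | hz)
    · exact hfix P f hP hf hi x hx hz.2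
    · exact hfix.of_mem_img hP hf hi hx hz.2

theorem closure_pow_eq_agZ (p : ℕ) (S : Subgroup Ω) :
    Subgroup.closure ((fun z => z ^ p) '' ((S ⊓ Subgroup.centralizer (S : Set Ω) : Subgroup Ω) :
      Set Ω)) = agZ p 1 S := by
  unfold agZ powerClosure
  congr 1
  ext y
  simp only [pow_one, Set.mem_image, Set.mem_ofPred_eq]
  exact ⟨fun ⟨x, hx, e⟩ => ⟨x, hx, e.symm⟩, fun ⟨x, hx, e⟩ => ⟨x, hx, e.symm⟩⟩

end cor

end Cfsg.Agent.H99
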