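import Cfsg.Agent.H96.CpDefs

/-!
A model `G = J ⋊ U` of the Sylow `3`-subgroup of `Sp₆(3)` and `Co₁`: `U` is the group of upper
unitriangular `3 × 3` matrices `u = [[1,a,c],[0,1,b],[0,0,1]]` over `ZMod 3` acting on the symmetric
matrices `s = [[z,y,x],[y,w,v],[x,v,t]]` by `s ↦ u s uᵀ`.
-/

set_option autoImplicit false

namespace Cfsg.Agent.H99.C1

open Cfsg.Agent.H97 Cfsg.Agent.H96.VB Cfsg.Agent.H96.CP Subgroup Matrix
open scoped commutatorElement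

abbrev K : Type := ZMod 3

theorem three : (3 : K) = 0 := rfl

@[ext] structure G : Type where
  a : K
  b : K
  c : K
  z : K
  y : K
  x : K
  w : K
  v : K
  t : K
deriving DecidableEq

namespace G

instance : Mul G := ⟨fun g h => ⟨g.a + h.a, g.b + h.b, g.c + h.c + g.a * h.b,
  g.z + h.z + 2 * g.a * h.y + 2 * g.c * h.x + g.a * g.a * h.w + 2 * g.a * g.c * h.v + g.c * g.c * h.t,
  g.y + h.y + g.b * h.x + g.a * h.w + (g.a * g.b + g.c) * h.v + g.b * g.c * h.t,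
  g.x + h.x + g.a * h.v + g.c * h.t, g.w + h.w + 2 * g.b * h.v + g.b * g.b * h.t,
  g.v + h.v + g.b * h.t, g.t + h.t⟩⟩

instance : One G := ⟨⟨0, 0, 0, 0, 0, 0, 0, 0, 0⟩⟩

instance : Inv G := ⟨fun g => ⟨-g.a, -g.b, g.a * g.b - g.c,
  -g.z + 2 * g.a * g.y + 2 * (g.c - g.a * g.b) * g.x - g.a * g.a * g.w
    + 2 * g.a * (g.a * g.b - g.c) * g.v - (g.a * g.b - g.c) * (g.a * g.b - g.c) * g.t,
  -g.y + g.b * g.x + g.a * g.w + (g.c - 2 * g.a * g.b) * g.v + g.b * (g.a * g.b - g.c) * g.t,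
  -g.x + g.a * g.v + (g.c - g.a * g.b) * g.t, -g.w + 2 * g.b * g.v - g.b * g.b * g.t,
  -g.v + g.b * g.t, -g.t⟩⟩

variable (g h : G)

@[simp] theorem mul_a : (g * h).a = g.a + h.a := rfl
@[simp] theorem mul_b : (g * h).b = g.b + h.b := rfl
@[simp] theorem mul_c : (g * h).c = g.c + h.c + g.a * h.b := rfl
@[simp] theorem mul_z : (g * h).z = g.z + h.z + 2 * g.a * h.y + 2 * g.c * h.x + g.a * g.a * h.w +
  2 * g.a * g.c * h.v + g.c * g.c * h.t := rfl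
@[simp] theorem mul_y : (g * h).y = g.y + h.y + g.b * h.x + g.a * h.w + (g.a * g.b + g.c) * h.v +
  g.b * g.c * h.t := rfl
@[simp] theorem mul_x : (g * h).x = g.x + h.x + g.a * h.v + g.c * h.t := rfl
@[simp] theorem mul_w : (g * h).w = g.w + h.w + 2 * g.b * h.v + g.b * g.b * h.t := rfl
@[simp] theorem mul_v : (g * h).v = g.v + h.v + g.b * h.t := rfl
@[simp] theorem mul_t : (g * h).t = g.t + h.t := rfl
@[simp] theorem one_a : (1 : G).a = 0 := rfl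
@[simp] theorem one_b : (1 : G).b = 0 := rfl
@[simp] theorem one_c : (1 : G).c = 0 := rfl
@[simp] theorem one_z : (1 : G).z = 0 := rfl
@[simp] theorem one_y : (1 : G).y = 0 := rfl
@[simp] theorem one_x : (1 : G).x = 0 := rfl
@[simp] theorem one_w : (1 : G).w = 0 := rfl
@[simp] theorem one_v : (1 : G).v = 0 := rfl
@[simp] theorem one_t : (1 : G).t = 0 := rfl
@[simp] theorem inv_a : g⁻¹.a = -g.a := rfl
@[simp] theorem inv_b : g⁻¹.b = -g.b := rfl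
@[simp] theorem inv_c : g⁻¹.c = g.a * g.b - g.c := rfl
@[simp] theorem inv_z : g⁻¹.z = -g.z + 2 * g.a * g.y + 2 * (g.c - g.a * g.b) * g.x - g.a * g.a * g.w
    + 2 * g.a * (g.a * g.b - g.c) * g.v - (g.a * g.b - g.c) * (g.a * g.b - g.c) * g.t := rfl
@[simp] theorem inv_y : g⁻¹.y = -g.y + g.b * g.x + g.a * g.w + (g.c - 2 * g.a * g.b) * g.v +
  g.b * (g.a * g.b - g.c) * g.t := rfl
@[simp] theorem inv_x : g⁻¹.x = -g.x + g.a * g.v + (g.c - g.a * g.b) * g.t := rfl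
@[simp] theorem inv_w : g⁻¹.w = -g.w + 2 * g.b * g.v - g.b * g.b * g.t := rfl
@[simp] theorem inv_v : g⁻¹.v = -g.v + g.b * g.t := rfl
@[simp] theorem inv_t : g⁻¹.t = -g.t := rfl

instance : Group G := Group.ofLeftAxioms
  (fun g h k => by ext <;> simp <;> ring) (fun g => by ext <;> simp)
  (fun g => by ext <;> simp <;> ring)

/-- the coordinates -/
def eqv : G ≃ K × K × K × K × K × K × K × K × K where
  toFun g := (g.a, g.b, g.c, g.z, g.y, g.x, g.w, g.v, g.t)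
  invFun p := ⟨p.1, p.2.1, p.2.2.1, p.2.2.2.1, p.2.2.2.2.1, p.2.2.2.2.2.1, p.2.2.2.2.2.2.1,
    p.2.2.2.2.2.2.2.1, p.2.2.2.2.2.2.2.2⟩
  left_inv _ := rfl
  right_inv _ := rfl

instance : Finite G := Finite.of_equiv _ eqv.symm

theorem card : Nat.card G = 3 ^ 9 := by
  rw [Nat.card_congr eqv]; simp [Nat.card_prod, K]

theorem isPGroup : IsPGroup 3 G := IsPGroup.of_card card

theorem forall_iff {p : G → Prop} : (∀ g, p g) ↔ ∀ a b c z y x w v t, p ⟨a, b, c, z, y, x, w, v, t⟩ :=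
  ⟨fun h _ _ _ _ _ _ _ _ _ => h _, fun h g => h g.a g.b g.c g.z g.y g.x g.w g.v g.t⟩

end G

/-- coordinates of commutators: `simp only [cm]` then `simp`, `ring` -/
theorem cm (g h : G) : ⁅g, h⁆ = g * h * g⁻¹ * h⁻¹ := rfl

def xa (k : K) : G := ⟨k, 0, 0, 0, 0, 0, 0, 0, 0⟩
def xb (k : K) : G := ⟨0, k, 0, 0, 0, 0, 0, 0, 0⟩
def xc (k : K) : G := ⟨0, 0, k, 0, 0, 0, 0, 0, 0⟩
def xz (k : K) : G := ⟨0, 0, 0, k, 0, 0, 0, 0, 0⟩
def xy (k : K) : G := ⟨0, 0, 0, 0, k, 0, 0, 0, 0⟩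
def xx (k : K) : G := ⟨0, 0, 0, 0, 0, k, 0, 0, 0⟩
def xw (k : K) : G := ⟨0, 0, 0, 0, 0, 0, k, 0, 0⟩
def xv (k : K) : G := ⟨0, 0, 0, 0, 0, 0, 0, k, 0⟩
def xt (k : K) : G := ⟨0, 0, 0, 0, 0, 0, 0, 0, k⟩

/-- `a = 0`: `J V₂` -/
def E1 : Subgroup G where
  carrier := {g | g.a = 0}
  one_mem' := rfl
  mul_mem' := by intro g h (e : _ = _) (k : _ = _); show _ = _; simp [e, k]
  inv_mem' := by intro g (e : _ = _); show _ = _; simp [e]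

/-- `b = 0`: `J V₁` -/
def E2 : Subgroup G where
  carrier := {g | g.b = 0}
  one_mem' := rfl
  mul_mem' := by intro g h (e : _ = _) (k : _ = _); show _ = _; simp [e, k]
  inv_mem' := by intro g (e : _ = _); show _ = _; simp [e]

/-- `t = 0` -/
def E3 : Subgroup G where
  carrier := {g | g.t = 0}
  one_mem' := rfl
  mul_mem' := by intro g h (e : _ = _) (k : _ = _); show _ = _; simp [e, k]
  inv_mem' := by intro g (e : _ = _); show _ = _; simp [e]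

/-- `J ⟨r⟩` for the regular element `r = (1, 1, 2)` -/
def E4 : Subgroup G where
  carrier := {g | g.b = g.a ∧ g.c = 2 * g.a * g.a}
  one_mem' := ⟨rfl, rfl⟩
  mul_mem' := by
    rintro g h ⟨e1, e2⟩ ⟨k1, k2⟩
    refine ⟨by simp [e1, k1], ?_⟩
    simp only [G.mul_c, G.mul_a, e2, k1, k2]
    linear_combination (-g.a * h.a) * three
  inv_mem' := by
    rintro g ⟨e1, e2⟩
    refine ⟨by simp [e1], ?_⟩
    simp only [G.inv_c, G.inv_a, e1, e2]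
    linear_combination (-g.a * g.a) * three

/-- the abelian normal subgroup of order `3⁶` -/
def J : Subgroup G where
  carrier := {g | g.a = 0 ∧ g.b = 0 ∧ g.c = 0}
  one_mem' := ⟨rfl, rfl, rfl⟩
  mul_mem' := by rintro g h ⟨e1, e2, e3⟩ ⟨k1, k2, k3⟩; simp [*]
  inv_mem' := by rintro g ⟨e1, e2, e3⟩; simp [*]

/-- `3^{3+4}` -/
def R : Subgroup G := E1 ⊓ E3
/-- `J ⟨c⟩` -/
def Jc : Subgroup G := E1 ⊓ E2
def J5 : Subgroup G := J ⊓ E3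

/-- the Frattini subgroup of `E3` -/
def N3 : Subgroup G where
  carrier := {g | g.a = 0 ∧ g.b = 0 ∧ g.v = 0 ∧ g.t = 0}
  one_mem' := ⟨rfl, rfl, rfl, rfl⟩
  mul_mem' := by rintro g h ⟨e1, e2, e3, e4⟩ ⟨k1, k2, k3, k4⟩; simp [*]
  inv_mem' := by rintro g ⟨e1, e2, e3, e4⟩; simp [*]

def J4 : Subgroup G := J ⊓ N3

/-- coordinates `z, y, x` -/
def Q0 : Subgroup G where
  carrier := {g | g.a = 0 ∧ g.b = 0 ∧ g.c = 0 ∧ g.w = 0 ∧ g.v = 0 ∧ g.t = 0}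
  one_mem' := ⟨rfl, rfl, rfl, rfl, rfl, rfl⟩
  mul_mem' := by rintro g h ⟨e1, e2, e3, e4, e5, e6⟩ ⟨k1, k2, k3, k4, k5, k6⟩; simp [*]
  inv_mem' := by rintro g ⟨e1, e2, e3, e4, e5, e6⟩; simp [*]

/-- coordinates `z, y, w` -/
def Dz : Subgroup G where
  carrier := {g | g.a = 0 ∧ g.b = 0 ∧ g.c = 0 ∧ g.x = 0 ∧ g.v = 0 ∧ g.t = 0}
  one_mem' := ⟨rfl, rfl, rfl, rfl, rfl, rfl⟩
  mul_mem' := by rintro g h ⟨e1, e2, e3, e4, e5, e6⟩ ⟨k1, k2, k3, k4, k5, k6⟩; simp [*]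
  inv_mem' := by rintro g ⟨e1, e2, e3, e4, e5, e6⟩; simp [*]

def Z2 : Subgroup G := Q0 ⊓ Dz

/-- the centre -/
def Z : Subgroup G where
  carrier := {g | g.a = 0 ∧ g.b = 0 ∧ g.c = 0 ∧ g.y = 0 ∧ g.x = 0 ∧ g.w = 0 ∧ g.v = 0 ∧ g.t = 0}
  one_mem' := ⟨rfl, rfl, rfl, rfl, rfl, rfl, rfl, rfl⟩
  mul_mem' := by rintro g h ⟨e1, e2, e3, e4, e5, e6, e7, e8⟩ ⟨k1, k2, k3, k4, k5, k6, k7, k8⟩; simp [*]
  inv_mem' := by rintro g ⟨e1, e2, e3, e4, e5, e6, e7, e8⟩; simp [*]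

section
variable {g : G}
theorem mem_E1 : g ∈ E1 ↔ g.a = 0 := Iff.rfl
theorem mem_E2 : g ∈ E2 ↔ g.b = 0 := Iff.rfl
theorem mem_E3 : g ∈ E3 ↔ g.t = 0 := Iff.rfl
theorem mem_E4 : g ∈ E4 ↔ g.b = g.a ∧ g.c = 2 * g.a * g.a := Iff.rfl
theorem mem_J : g ∈ J ↔ g.a = 0 ∧ g.b = 0 ∧ g.c = 0 := Iff.rfl
theorem mem_R : g ∈ R ↔ g.a = 0 ∧ g.t = 0 := Iff.rfl
theorem mem_Jc : g ∈ Jc ↔ g.a = 0 ∧ g.b = 0 := Iff.rfl
theorem mem_J5 : g ∈ J5 ↔ (g.a = 0 ∧ g.b = 0 ∧ g.c = 0) ∧ g.t = 0 := Iff.rfl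
theorem mem_N3 : g ∈ N3 ↔ g.a = 0 ∧ g.b = 0 ∧ g.v = 0 ∧ g.t = 0 := Iff.rfl
theorem mem_J4 : g ∈ J4 ↔ (g.a = 0 ∧ g.b = 0 ∧ g.c = 0) ∧ g.a = 0 ∧ g.b = 0 ∧ g.v = 0 ∧ g.t = 0 :=
  Iff.rfl
theorem mem_Q0 : g ∈ Q0 ↔ g.a = 0 ∧ g.b = 0 ∧ g.c = 0 ∧ g.w = 0 ∧ g.v = 0 ∧ g.t = 0 := Iff.rfl
theorem mem_Dz : g ∈ Dz ↔ g.a = 0 ∧ g.b = 0 ∧ g.c = 0 ∧ g.x = 0 ∧ g.v = 0 ∧ g.t = 0 := Iff.rfl
theorem mem_Z2 : g ∈ Z2 ↔ (g.a = 0 ∧ g.b = 0 ∧ g.c = 0 ∧ g.w = 0 ∧ g.v = 0 ∧ g.t = 0) ∧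
  g.a = 0 ∧ g.b = 0 ∧ g.c = 0 ∧ g.x = 0 ∧ g.v = 0 ∧ g.t = 0 := Iff.rfl
theorem mem_Z : g ∈ Z ↔
  g.a = 0 ∧ g.b = 0 ∧ g.c = 0 ∧ g.y = 0 ∧ g.x = 0 ∧ g.w = 0 ∧ g.v = 0 ∧ g.t = 0 := Iff.rfl
end

instance nE1 : E1.Normal := ⟨fun g (e : _ = _) s => show _ = _ by simp [e]⟩
instance nE2 : E2.Normal := ⟨fun g (e : _ = _) s => show _ = _ by simp [e]⟩
instance nE3 : E3.Normal := ⟨fun g (e : _ = _) s => show _ = _ by simp [e]⟩
instance nJ : J.Normal := ⟨fun g ⟨e1, e2, e3⟩ s => by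
  refine ⟨by simp [e1], by simp [e2], ?_⟩
  simp [e1, e2, e3]⟩

theorem J_comm {g h : G} (e : g ∈ J) (k : h ∈ J) : g * h = h * g := by
  obtain ⟨e1, e2, e3⟩ := e
  obtain ⟨k1, k2, k3⟩ := k
  ext <;> simp [*, add_comm]

theorem J_le_E1 : J ≤ E1 := fun _ h => h.1
theorem J_le_E2 : J ≤ E2 := fun _ h => h.2.1
theorem J_le_E4 : J ≤ E4 := fun g ⟨e1, e2, e3⟩ => ⟨by rw [e1, e2], by simp [e1, e3]⟩

/-! ### Automorphisms -/

/-- signs -/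
abbrev Sg : Type := Kˣ × Kˣ × Kˣ

theorem sgn (e : Kˣ) : e = 1 ∨ e = -1 := by revert e; decide

theorem sgn_sq (e : Kˣ) : (e : K) * e = 1 := by revert e; decide

/-- sign changes of the three simple root elements `xa`, `xb`, `xt` -/
def torF (e : Sg) (g : G) : G :=
  ⟨e.1 * g.a, e.2.1 * g.b, e.1 * e.2.1 * g.c, e.2.2 * g.z, e.1 * e.2.2 * g.y,
    e.1 * e.2.1 * e.2.2 * g.x, e.2.2 * g.w, e.2.1 * e.2.2 * g.v, e.2.2 * g.t⟩

theorem torF_mul (e f : Sg) (g : G) : torF (e * f) g = torF e (torF f g) := by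
  ext <;> simp [torF] <;> ring

theorem torF_one (g : G) : torF 1 g = g := by ext <;> simp [torF]

theorem torF_hom (e : Sg) (g h : G) : torF e (g * h) = torF e g * torF e h := by
  obtain ⟨e1, e2, e3⟩ := e
  rcases sgn e1 with rfl | rfl <;> rcases sgn e2 with rfl | rfl <;> rcases sgn e3 with rfl | rfl <;>
    ext <;> simp [torF] <;> ring

def tor : Sg →* MulAut G where
  toFun e :=
    { toFun := torF e
      invFun := torF e⁻¹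
      left_inv := fun g => by rw [← torF_mul, inv_mul_cancel, torF_one]
      right_inv := fun g => by rw [← torF_mul, mul_inv_cancel, torF_one]
      map_mul' := torF_hom e }
  map_one' := MulEquiv.ext torF_one
  map_mul' e f := MulEquiv.ext (torF_mul e f)

theorem tor_apply (e : Sg) (g : G) : tor e g = torF e g := rfl

def τ2 : Sg := (-1, 1, 1)
def τ3 : Sg := (1, -1, 1)
/-- `-1` on `J`, trivial on `G / J` -/
def σ : Sg := (1, 1, -1)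

/-- the central automorphism `xt 1 ↦ xt 1 * xz k` -/
def gk (k : K) : MulAut G where
  toFun g := ⟨g.a, g.b, g.c, g.z + k * g.t, g.y, g.x, g.w, g.v, g.t⟩
  invFun g := ⟨g.a, g.b, g.c, g.z - k * g.t, g.y, g.x, g.w, g.v, g.t⟩
  left_inv g := by ext <;> simp
  right_inv g := by ext <;> simp
  map_mul' g h := by ext <;> simp; ring

theorem gk_apply (k : K) (g : G) :
    gk k g = ⟨g.a, g.b, g.c, g.z + k * g.t, g.y, g.x, g.w, g.v, g.t⟩ := rfl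

/-- the reflection in the long simple root, an automorphism of `E3` -/
def w3 (g : G) : G :=
  ⟨g.a, -g.v, -g.x, g.z - 2 * g.c * g.x, g.y - g.b * g.x - g.c * g.v, g.c, g.w - 2 * g.b * g.v, g.b, 0⟩

theorem w3_mem (g : G) : w3 g ∈ E3 := rfl

theorem w3_mul {g h : G} (e : g ∈ E3) (k : h ∈ E3) : w3 (g * h) = w3 g * w3 h := by
  rw [mem_E3] at e k
  ext <;> simp [w3, e, k] <;> ring

theorem w3_w3 {g : G} (e : g ∈ E3) : w3 (w3 g) = tor τ3 g := by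
  rw [mem_E3] at e
  ext <;> simp [w3, e, tor_apply, torF, τ3] <;> ring

/-! ### The linear action on `J` -/

/-- coordinates `z, y, x, w, v, t` -/
abbrev V : Type := Fin 6 → K

abbrev GL6 : Type := GL (Fin 6) K

def jv (v : V) : G := ⟨0, 0, 0, v 0, v 1, v 2, v 3, v 4, v 5⟩

def vj (g : G) : V := ![g.z, g.y, g.x, g.w, g.v, g.t]

theorem jv_mem (v : V) : jv v ∈ J := ⟨rfl, rfl, rfl⟩

theorem vj_jv (v : V) : vj (jv v) = v := by ext i; fin_cases i <;> rfl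

theorem jv_vj {g : G} (h : g ∈ J) : jv (vj g) = g := by
  obtain ⟨e1, e2, e3⟩ := h
  ext <;> first | rfl | simp [jv, *]

theorem jv_injective : Function.Injective jv := Function.LeftInverse.injective vj_jv

theorem jv_add (u v : V) : jv (u + v) = jv u * jv v := by ext <;> simp [jv]

theorem jv_zero : jv 0 = 1 := rfl

def uM (a b c : K) : Matrix (Fin 6) (Fin 6) K :=
  !![1, 2 * a, 2 * c, a * a, 2 * a * c, c * c; 0, 1, b, a, a * b + c, b * c; 0, 0, 1, 0, a, c;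
    0, 0, 0, 1, 2 * b, b * b; 0, 0, 0, 0, 1, b; 0, 0, 0, 0, 0, 1]

theorem uM_mul (a b c a' b' c' : K) :
    uM a b c * uM a' b' c' = uM (a + a') (b + b') (c + c' + a * b') := by
  ext i j
  fin_cases i <;> fin_cases j <;> simp [uM, Matrix.mul_apply, Fin.sum_univ_six] <;> ring

theorem uM_zero : uM 0 0 0 = 1 := by decide

/-- the action of `U` on `J` -/
def um (a b c : K) : GL6 :=
  ⟨uM a b c, uM (-a) (-b) (a * b - c), by rw [uM_mul, ← uM_zero]; congr 1 <;> ring,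
    by rw [uM_mul, ← uM_zero]; congr 1 <;> ring⟩

theorem um_mul (a b c a' b' c' : K) :
    um a b c * um a' b' c' = um (a + a') (b + b') (c + c' + a * b') := Units.ext (uM_mul ..)

/-- the action of `G` on `J` -/
def ug : G →* GL6 where
  toFun g := um g.a g.b g.c
  map_one' := Units.ext uM_zero
  map_mul' g h := (um_mul ..).symm

theorem ug_apply (g : G) : ug g = um g.a g.b g.c := rfl

theorem jv_ug (g : G) (v : V) : jv ((ug g).1 *ᵥ v) = g * jv v * g⁻¹ := by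
  rw [eq_mul_inv_iff_mul_eq]
  ext <;> simp [jv, ug_apply, um, uM, Matrix.mulVec, dotProduct, Fin.sum_univ_six] <;> ring

def tM (e : Sg) : Matrix (Fin 6) (Fin 6) K :=
  !![e.2.2, 0, 0, 0, 0, 0; 0, e.1 * e.2.2, 0, 0, 0, 0; 0, 0, e.1 * e.2.1 * e.2.2, 0, 0, 0;
    0, 0, 0, e.2.2, 0, 0; 0, 0, 0, 0, e.2.1 * e.2.2, 0; 0, 0, 0, 0, 0, e.2.2]

theorem tM_mul (e f : Sg) : tM e * tM f = tM (e * f) := by revert e f; decide

theorem tM_one : tM 1 = 1 := by decide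

/-- the action of `tor e` on `J` -/
def tm : Sg →* GL6 where
  toFun e := ⟨tM e, tM e⁻¹, by rw [tM_mul, mul_inv_cancel, tM_one], by rw [tM_mul, inv_mul_cancel, tM_one]⟩
  map_one' := Units.ext tM_one
  map_mul' e f := Units.ext (tM_mul e f).symm

theorem tm_val (e : Sg) : (tm e).1 = tM e := rfl

theorem jv_tm (e : Sg) (v : V) : jv ((tm e).1 *ᵥ v) = tor e (jv v) := by
  rw [tm_val]
  ext <;> simp [jv, tM, tor_apply, torF, Matrix.mulVec, dotProduct, Fin.sum_univ_six]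

/-- the reflection `e₁ ↦ -e₂, e₂ ↦ e₁`, conjugated by `gk k`; it normalizes `V₂` -/
def w1m (k : K) : GL6 :=
  ⟨!![0, 0, 0, 1, 0, k; 0, -1, 0, 0, 0, 0; 0, 0, 0, 0, 1, 0; 1, 0, 0, 0, 0, -k; 0, 0, -1, 0, 0, 0;
      0, 0, 0, 0, 0, 1],
    !![0, 0, 0, 1, 0, k; 0, -1, 0, 0, 0, 0; 0, 0, 0, 0, -1, 0; 1, 0, 0, 0, 0, -k; 0, 0, 1, 0, 0, 0;
      0, 0, 0, 0, 0, 1], by revert k; decide, by revert k; decide⟩

/-- the reflection `e₂ ↦ -e₃, e₃ ↦ e₂`, conjugated by `gk k`; it normalizes `V₁` -/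
def w2m (k : K) : GL6 :=
  ⟨!![1, 0, 0, k, 0, -k; 0, 0, 1, 0, 0, 0; 0, -1, 0, 0, 0, 0; 0, 0, 0, 0, 0, 1; 0, 0, 0, 0, -1, 0;
      0, 0, 0, 1, 0, 0],
    !![1, 0, 0, k, 0, -k; 0, 0, -1, 0, 0, 0; 0, 1, 0, 0, 0, 0; 0, 0, 0, 0, 0, 1; 0, 0, 0, 0, -1, 0;
      0, 0, 0, 1, 0, 0], by revert k; decide, by revert k; decide⟩

/-- the action of `gk k` on `J` -/
def gm (k : K) : GL6 :=
  ⟨!![1, 0, 0, 0, 0, k; 0, 1, 0, 0, 0, 0; 0, 0, 1, 0, 0, 0; 0, 0, 0, 1, 0, 0; 0, 0, 0, 0, 1, 0;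
      0, 0, 0, 0, 0, 1],
    !![1, 0, 0, 0, 0, -k; 0, 1, 0, 0, 0, 0; 0, 0, 1, 0, 0, 0; 0, 0, 0, 1, 0, 0; 0, 0, 0, 0, 1, 0;
      0, 0, 0, 0, 0, 1], by revert k; decide, by revert k; decide⟩

theorem jv_gm (k : K) (v : V) : jv ((gm k).1 *ᵥ v) = gk k (jv v) := by
  ext <;> simp [jv, gm, gk_apply, Matrix.mulVec, dotProduct, Fin.sum_univ_six]

theorem gm_w1m (k l : K) : gm k * w1m l * (gm k)⁻¹ = w1m (k + l) :=
  Units.ext (by revert k l; decide)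

theorem gm_w2m (k l : K) : gm k * w2m l * (gm k)⁻¹ = w2m (k + l) :=
  Units.ext (by revert k l; decide)

theorem w1m_sq (k : K) : w1m k * w1m k = tm τ3 := Units.ext (by revert k; decide)

theorem w2m_sq (k : K) : w2m k * w2m k = tm τ2 := Units.ext (by revert k; decide)

/-- a conjugate of `um 0 0 1` in `2 M₁₂` that centralizes `um 1 1 2` -/
def m0 : GL6 :=
  ⟨!![2, 0, 1, 0, 0, 2; 0, 0, 0, 0, 2, 0; 2, 0, 2, 2, 0, 1; 1, 0, 2, 2, 0, 2; 0, 1, 0, 0, 2, 0;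
      0, 0, 1, 1, 0, 1],
    !![2, 0, 1, 0, 0, 2; 0, 0, 0, 0, 2, 0; 2, 0, 2, 2, 0, 1; 1, 0, 2, 2, 0, 2; 0, 1, 0, 0, 2, 0;
      0, 0, 1, 1, 0, 1] * !![2, 0, 1, 0, 0, 2; 0, 0, 0, 0, 2, 0; 2, 0, 2, 2, 0, 1; 1, 0, 2, 2, 0, 2;
      0, 1, 0, 0, 2, 0; 0, 0, 1, 1, 0, 1], by decide, by decide⟩

def mm (k : K) : GL6 := gm k * m0 * (gm k)⁻¹

end Cfsg.Agent.H99.C1
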