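import Mathlib

/-! The centraliser of a nonidentity element of odd order in `PSL₂(F)` is commutative. -/

set_option autoImplicit false

namespace Cfsg.Agent.H99.CyB2f

open Matrix

variable {F : Type*} [Field F]

theorem cen_sq {c : Matrix.SpecialLinearGroup (Fin 2) F} (hc : c ∈ Subgroup.center _) : c * c = 1 := by
  obtain ⟨r, hr, e⟩ := Matrix.SpecialLinearGroup.mem_center_iff.1 hc
  apply Subtype.ext
  rw [Matrix.SpecialLinearGroup.coe_mul, ← e, ← map_mul, ← sq]
  simp only [Fintype.card_fin] at hr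
  rw [hr, map_one, Matrix.SpecialLinearGroup.coe_one]

theorem mat_comm {G A B : Matrix (Fin 2) (Fin 2) F} (hG : ¬ (G 0 1 = 0 ∧ G 1 0 = 0 ∧ G 0 0 = G 1 1))
    (hA : G * A = A * G) (hB : G * B = B * G) : A * B = B * A := by
  have a1 := congrFun (congrFun hA 0) 0
  have a2 := congrFun (congrFun hA 0) 1
  have a3 := congrFun (congrFun hA 1) 0
  have b1 := congrFun (congrFun hB 0) 0
  have b2 := congrFun (congrFun hB 0) 1
  have b3 := congrFun (congrFun hB 1) 0
  simp only [mul_apply, Fin.sum_univ_two] at a1 a2 a3 b1 b2 b3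
  have key : A 0 1 * B 1 0 = A 1 0 * B 0 1 ∧ (A 0 0 - A 1 1) * B 0 1 = (B 0 0 - B 1 1) * A 0 1 ∧
      (A 0 0 - A 1 1) * B 1 0 = (B 0 0 - B 1 1) * A 1 0 := by
    by_cases h1 : G 0 1 = 0
    · by_cases h2 : G 1 0 = 0
      · have h3 : G 0 0 - G 1 1 ≠ 0 := fun e => hG ⟨h1, h2, sub_eq_zero.1 e⟩
        refine ⟨mul_left_cancel₀ h3 ?_, mul_left_cancel₀ h3 ?_, mul_left_cancel₀ h3 ?_⟩
        · linear_combination (B 1 0) * a2 + (B 0 1) * a3
            + ((A 0 0 - A 1 1) * B 1 0) * h1 - ((A 0 0 - A 1 1) * B 0 1) * h2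
        · linear_combination (A 0 0 - A 1 1) * b2 - (B 0 0 - B 1 1) * a2
        · linear_combination (B 0 0 - B 1 1) * a3 - (A 0 0 - A 1 1) * b3
      · refine ⟨mul_left_cancel₀ h2 ?_, mul_left_cancel₀ h2 ?_, mul_left_cancel₀ h2 ?_⟩
        · linear_combination (A 1 0) * b1 - (B 1 0) * a1
        · linear_combination (B 0 0 - B 1 1) * a1 - (A 0 0 - A 1 1) * b1
            + ((A 0 0 - A 1 1) * B 1 0 - (B 0 0 - B 1 1) * A 1 0) * h1
        · linear_combination (B 1 0) * a3 - (A 1 0) * b3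
    · have k1 : A 0 1 * B 1 0 = A 1 0 * B 0 1 :=
        mul_left_cancel₀ h1 (by linear_combination (A 0 1) * b1 - (B 0 1) * a1)
      refine ⟨k1, mul_left_cancel₀ h1 ?_, mul_left_cancel₀ h1 ?_⟩
      · linear_combination (A 0 1) * b2 - (B 0 1) * a2
      · linear_combination (A 1 0) * b2 - (B 1 0) * a2 + (G 0 0 - G 1 1) * k1
  obtain ⟨k1, k2, k3⟩ := key
  ext i j
  fin_cases i <;> fin_cases j <;> simp only [mul_apply, Fin.sum_univ_two, Fin.zero_eta, Fin.mk_one, Fin.isValue]
  · linear_combination k1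
  · linear_combination k2
  · linear_combination -k3
  · linear_combination -k1

theorem lift_comm {G A : Matrix.SpecialLinearGroup (Fin 2) F} {n : ℕ} (hn : Odd n)
    (hG : G ^ n ∈ Subgroup.center _)
    (h : Commute (QuotientGroup.mk G : Matrix.ProjectiveSpecialLinearGroup (Fin 2) F)
      (QuotientGroup.mk A)) : G * A = A * G := by
  have h1 : (G * A)⁻¹ * (A * G) ∈ Subgroup.center (Matrix.SpecialLinearGroup (Fin 2) F) := by
    rw [← QuotientGroup.eq, QuotientGroup.mk_mul, QuotientGroup.mk_mul]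
    exact h.eq
  generalize hd : (G * A)⁻¹ * (A * G) = d at h1
  have hc := Subgroup.mem_center_iff.1 h1
  have e1 : A * G * A⁻¹ = G * d := by
    have : A * G = G * A * d := by rw [← hd]; group
    rw [this, mul_assoc G A d, hc A]; group
  have e2 : (A * G * A⁻¹) ^ n = G ^ n := by
    rw [conj_pow, Subgroup.mem_center_iff.1 hG A]; group
  have cm : Commute G d := hc G
  rw [e1, cm.mul_pow, mul_eq_left] at e2
  obtain ⟨k, rfl⟩ := hn
  rw [pow_succ, pow_mul, sq, cen_sq h1, one_pow, one_mul] at e2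
  rw [e2, mul_one] at e1
  calc G * A = A * G * A⁻¹ * A := by rw [e1]
    _ = A * G := by group

theorem cab {g a b : Matrix.ProjectiveSpecialLinearGroup (Fin 2) F} (h1 : g ≠ 1)
    (ho : Odd (orderOf g)) (ha : Commute g a) (hb : Commute g b) : Commute a b := by
  obtain ⟨G, rfl⟩ := QuotientGroup.mk_surjective g
  obtain ⟨A, rfl⟩ := QuotientGroup.mk_surjective a
  obtain ⟨B, rfl⟩ := QuotientGroup.mk_surjective b
  have hG : G ^ orderOf (QuotientGroup.mk G : Matrix.ProjectiveSpecialLinearGroup (Fin 2) F) ∈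
      Subgroup.center _ := by
    rw [← QuotientGroup.eq_one_iff, QuotientGroup.mk_pow, pow_orderOf_eq_one]
  have eA := congrArg Subtype.val (lift_comm ho hG ha)
  have eB := congrArg Subtype.val (lift_comm ho hG hb)
  simp only [Matrix.SpecialLinearGroup.coe_mul] at eA eB
  have ns : ¬ (G.1 0 1 = 0 ∧ G.1 1 0 = 0 ∧ G.1 0 0 = G.1 1 1) := by
    rintro ⟨p1, p2, p3⟩
    apply h1
    rw [QuotientGroup.eq_one_iff, Subgroup.mem_center_iff]
    intro X
    apply Subtype.ext
    simp only [Matrix.SpecialLinearGroup.coe_mul]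
    ext i j
    fin_cases i <;> fin_cases j <;>
      simp only [mul_apply, Fin.sum_univ_two, Fin.zero_eta, Fin.mk_one, Fin.isValue, p1, p2, p3] <;>
      ring
  have e : A * B = B * A := Subtype.ext (by
    simp only [Matrix.SpecialLinearGroup.coe_mul]
    exact mat_comm ns eA eB)
  change QuotientGroup.mk A * QuotientGroup.mk B = QuotientGroup.mk B * QuotientGroup.mk A
  rw [← QuotientGroup.mk_mul, e, QuotientGroup.mk_mul]

end Cfsg.Agent.H99.CyB2f
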