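import Cfsg.Agent.H37.FkO

/-!
# S5161, piece O8: the orthogonal groups in odd characteristic
-/

set_option autoImplicit false

namespace Cfsg.Agent.H99.FkO8

open Cfsg Subgroup QuadraticMap Module H30 H37.FK

universe u

section Abstract

variable {H : Type*} [Group H] [Finite H] (N : Subgroup H)

omit [Finite H] in
theorem xc_push {X : Set N} (h : XC ⊤ X) : XC N (N.subtype '' X) where
  sub := by rintro _ ⟨x, -, rfl⟩; exact x.2
  two := by rintro _ ⟨x, hx, rfl⟩; exact (h.two x hx).map N.subtype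
  one := ⟨1, h.one, rfl⟩
  conj := by
    rintro _ ⟨x, hx, rfl⟩ g hg
    exact ⟨_, h.conj x hx ⟨g, hg⟩ trivial, rfl⟩
  mul := by
    rintro P hP _ ⟨x, hx, rfl⟩ _ ⟨y, hy, rfl⟩ h1 h2
    exact ⟨_, h.mul (P.comap N.subtype) (hP.comap_of_injective _ N.subtype_injective) x hx y hy
      h1 h2, rfl⟩

omit [Finite H] in
theorem ker_two (hz : ∀ z ∈ center N, z * z = 1) :
    IsPGroup 2 (QuotientGroup.mk' (center N)).ker := by
  rw [QuotientGroup.ker_mk']
  exact isPGroup_of_two fun z h => Two.of_sq (hz z h)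

theorem nsc_abs (hz : ∀ z ∈ center N, z * z = 1)
    (h4 : ∀ X : Set H, XC N X → (∃ t : N, (t : H) ∈ X ∧ t ∉ center N) →
      ∀ s ∈ N, s * s = 1 → s ∈ X)
    (h3 : ∀ S : Sylow 2 H, (S : Subgroup H) ⊓ N ≤
      closure {x | x ∈ (S : Subgroup H) ⊓ N ∧ x * x = 1}) : NSC (N ⧸ center N) := by
  refine nsc_of_xc fun X hX ⟨y, hy, y1⟩ x hx => ?_
  have hX' := xc_push N (hX.comap (QuotientGroup.mk' (center N)) (ker_two N hz))
  obtain ⟨t, rfl⟩ := QuotientGroup.mk'_surjective _ y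
  have hall := h4 _ hX' ⟨t, ⟨t, hy, rfl⟩, fun h => y1 ((QuotientGroup.eq_one_iff t).2 h)⟩
  obtain ⟨x, rfl⟩ := QuotientGroup.mk'_surjective _ x
  have h2 : Two x := by
    obtain ⟨k, e⟩ := hx
    obtain ⟨l, e'⟩ := Two.of_mem (ker_two N hz) (x := x ^ 2 ^ k)
      (by rw [MonoidHom.mem_ker, map_pow, e])
    exact ⟨k + l, by rw [pow_add, pow_mul, e']⟩
  obtain ⟨S, hS⟩ := (h2.map N.subtype).zpowers.exists_le_sylow
  have hm : (x : H) ∈ (S : Subgroup H) ⊓ N := ⟨hS (mem_zpowers _), x.2⟩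
  obtain ⟨x', hx', e⟩ := hX'.closure_sub S.isPGroup' (A := {x | x ∈ (S : Subgroup H) ⊓ N ∧ x * x = 1})
    (fun s hs => hall s hs.1.2 hs.2) (fun s hs => hs.1.1) _ (h3 S hm)
  have : x' = x := Subtype.ext e
  rwa [this] at hx'

theorem ns_abs (hz : ∀ z ∈ center N, z * z = 1)
    (h7 : ∀ (S : Sylow 2 H) (g : H), (∀ x ∈ (S : Subgroup H) ⊓ N,
      g * x * g⁻¹ ∈ (S : Subgroup H) ⊓ N) → Odd (orderOf g) → g = 1) : NS (N ⧸ center N) := by
  intro R g hg ho
  set π := QuotientGroup.mk' (center N) with hπ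
  have hR : IsPGroup 2 (((R : Subgroup (N ⧸ center N)).comap π).map N.subtype) :=
    (R.isPGroup'.comap_of_ker_isPGroup π (ker_two N hz)).map _
  obtain ⟨S, hS⟩ := hR.exists_le_sylow
  have key : ∀ x : N, (x : H) ∈ (S : Subgroup H) ↔ π x ∈ (R : Subgroup (N ⧸ center N)) := by
    intro x
    refine ⟨fun hx => ?_, fun hx => hS ⟨x, hx, rfl⟩⟩
    have hP : IsPGroup 2 (((S : Subgroup H).comap N.subtype).map π) :=
      (S.isPGroup'.comap_of_injective _ N.subtype_injective).map _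
    have e := R.is_maximal' hP (fun y hy => by
      obtain ⟨y, rfl⟩ := QuotientGroup.mk'_surjective _ y
      exact ⟨y, hS ⟨y, hy, rfl⟩, rfl⟩)
    rw [← e]
    exact ⟨x, hx, rfl⟩
  obtain ⟨g, rfl⟩ := QuotientGroup.mk'_surjective _ g
  set n := orderOf (π g) with hn
  have h1 : π (g ^ (n + 1)) = π g := by rw [map_pow, pow_succ, pow_orderOf_eq_one, one_mul]
  have h2 : g ^ n ∈ center N := by
    rw [← QuotientGroup.eq_one_iff]
    show π (g ^ n) = 1
    rw [map_pow, pow_orderOf_eq_one]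
  have h3 : (g ^ (n + 1)) ^ n = 1 := by
    obtain ⟨k, hk⟩ := ho
    have : (n + 1) * n = n * 2 * (k + 1) := by rw [hk]; ring
    rw [← pow_mul, this, pow_mul, pow_mul, pow_two, hz _ h2, one_pow]
  have h4 : Odd (orderOf ((g ^ (n + 1) : N) : H)) := by
    refine Odd.of_dvd_nat ho (orderOf_dvd_of_pow_eq_one ?_)
    exact congrArg Subtype.val h3
  have h5 := h7 S _ (fun x hx => ?_) h4
  · have : π g = 1 := by rw [← h1, show g ^ (n + 1) = 1 from Subtype.ext h5, map_one]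
    intro x _
    rw [this]; simp
  · have h6 := hg _ ((key ⟨x, hx.2⟩).1 hx.1)
    rw [← h1, ← map_inv, ← map_mul, ← map_mul, ← key] at h6
    exact ⟨h6, N.mul_mem (N.mul_mem (g ^ (n + 1)).2 hx.2) (N.inv_mem (g ^ (n + 1)).2)⟩

end Abstract

theorem good_O (o2 : O2Stmt) (o3 : O3Stmt) (o4 : O4Stmt) (o7 : O7Stmt)
    (F V : Type) [Field F] [Fintype F] [AddCommGroup V] [Module F V] [FiniteDimensional F V]
    (Q : QuadraticForm F V) (h2 : (2 : F) ≠ 0) (hQ : (polarBilin Q).Nondegenerate)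
    (h7 : 7 ≤ finrank F V) : Good (commutator (O Q) ⧸ center (commutator (O Q))) := by
  have : Finite V := Module.finite_of_finite F
  have : Finite (O Q) :=
    Finite.of_injective (fun g : O Q => (g.1 : V → V)) fun _ _ h => O_ext (congrFun h)
  have hc : ∀ z : commutator (O Q), z ∈ center (commutator (O Q)) ↔
      (z : O Q) = 1 ∨ (z : O Q) = negOne Q := by
    obtain ⟨e, f, h⟩ := exists_isHyp_of_three_le hQ (by omega)
    rw [commutator_eq_eichGroup hQ (not_isExc_of_finrank (by omega)) (by omega)]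
    exact mem_center_eichGroup_iff hQ h (by omega)
  have hz : ∀ z ∈ center (commutator (O Q)), z * z = 1 := by
    intro z h
    apply Subtype.ext
    rcases (hc z).1 h with e | e
    · simp [e]
    · rw [Subgroup.coe_mul, e]
      ext v
      simp [negOne_apply]
  refine ⟨nsc_abs _ hz (fun X hX ⟨t, ht, hn⟩ => o4 F V Q h2 hQ h7 X hX
    ⟨t, ht, fun e => hn ((hc t).2 (Or.inl e)), fun e => hn ((hc t).2 (Or.inr e))⟩) fun S => ?_,
    (ns_abs _ hz (o7 F V Q h2 hQ h7)).ofp⟩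
  obtain ⟨D⟩ := o2 F V Q h2 hQ S
  exact o3 F V Q h2 hQ _ D (by have := D.dim; have := D.m2; omega)

theorem good_POmega (o2 : O2Stmt) (o3 : O3Stmt) (o4 : O4Stmt) (o7 : O7Stmt)
    {F : Type} [Field F] [Fintype F] {ι : Type} [Fintype ι] [DecidableEq ι]
    (Q : QuadraticForm F (ι → F)) (h2 : (2 : F) ≠ 0) (hQ : (polarBilin Q).Nondegenerate)
    (h7 : 7 ≤ Fintype.card ι) {G : Type u} [Group G] [Finite G] (e : G ≃* POmega F ⇑Q) : Good G :=
  (good_O o2 o3 o4 o7 F _ Q h2 hQ (by rwa [finrank_pi'])).congr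
    (e.trans (H28.centerQuotEquiv (omegaEquivO Q)))

theorem two_ne {F : Type} [Field F] {p : ℕ} [CharP F p] (hp : p.Prime) (h2 : p ≠ 2) :
    (2 : F) ≠ 0 := fun h => by
  have : p ∣ 2 := (CharP.cast_eq_zero_iff F p 2).1 (by exact_mod_cast h)
  exact h2 ((Nat.prime_dvd_prime_iff_eq hp Nat.prime_two).1 this)

theorem o8 (o2 : O2Stmt) (o3 : O3Stmt) (o4 : O4Stmt) (o7 : O7Stmt) : OrthStmt.{u} := by
  intro G _ _ p hp hp2 h
  rcases h with ⟨F, _, _, _, m, hm, -, ⟨e⟩⟩ | ⟨F, _, _, _, m, hm, ⟨e⟩⟩ |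
    ⟨F, _, _, _, m, a, b, hm, hab, ⟨e⟩⟩
  · exact good_POmega o2 o3 o4 o7 (qOdd F m) (two_ne hp hp2) (qOdd_nondegenerate (two_ne hp hp2) m)
      (by simp; omega) e
  · exact good_POmega o2 o3 o4 o7 (qPlus F m) (two_ne hp hp2) (qPlus_nondegenerate m)
      (by simp; omega) e
  · exact good_POmega o2 o3 o4 o7 (qMinus F (m - 1) a b) (two_ne hp hp2)
      (qMinus_nondegenerate (m - 1) hab) (by simp; omega) e

end Cfsg.Agent.H99.FkO8
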