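import Cfsg.Agent.H63.GvDefs

/-! Project CY, chapter IV, route GV: a minimal bad subspace without flat elements does not exist. -/

set_option autoImplicit false

namespace Cfsg.Agent.H99.GvRel

open Subgroup MulAction Cfsg.Agent.H11.Cy Cfsg.Agent.H45.Iv Cfsg.Agent.H63.Gv
open scoped commutatorElement

theorem pres {G : Type} [Group G] {Ω : Type} [MulAction G Ω] {z u : G} (h : z * u = u * z) (w : Ω) :
    u • w ∈ Fx Ω z ↔ w ∈ Fx Ω z := by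
  change z • u • w = u • w ↔ z • w = w
  rw [← mul_smul, h, mul_smul, smul_left_cancel_iff]

theorem rel : RelStmt := by
  intro nof tra uex coq G _ _ Ω _ _ p A h c P mb mk nf
  have k := c.sk
  have ls := c.ls
  have ep := c.ep
  have t := c.an
  have RF : ∀ x y, x ≠ y → Rl A x y ≤ Fl A x y := fun x y hxy =>
    le_sup_left.trans (ls x y hxy).1.sup.le
  have sP := mb.1
  have invP : ∀ m ∈ Ms A P, ∀ w, m • w ∈ P ↔ w ∈ P := fun m hm w =>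
    ⟨fun e => by simpa using k.inv P sP m⁻¹ (inv_mem hm) _ e, k.inv P sP m hm w⟩
  have presP : ∀ z u : G, u ∈ Ms A P → z * u = u * z → ∀ w, u • w ∈ P ∩ Fx Ω z ↔ w ∈ P ∩ Fx Ω z :=
    fun z u hu e w => and_congr (invP u hu w) (pres e w)
  have good : ∀ x ∈ P, ∀ y ∈ P, x ≠ y → ∀ z ∈ Zl A x y, z ∉ Cs A P →
      Sub A (P ∩ Fx Ω z) ∧ Good A (P ∩ Fx Ω z) ∧ x ∈ P ∩ Fx Ω z ∧ y ∈ P ∩ Fx Ω z := by
    intro x hx y hy hxy z hz nz
    obtain ⟨sub, lsub, -⟩ := k.fx x y hxy z hz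
    have s : Sub A (P ∩ Fx Ω z) := fun a ha b hb e =>
      Set.subset_inter (sP a ha.1 b hb.1 e) (sub a ha.2 b hb.2 e)
    refine ⟨s, mb.2.2 _ s Set.inter_subset_left fun e => nz ?_, ⟨hx, lsub (k.ln x y).1⟩,
      ⟨hy, lsub (k.ln x y).2⟩⟩
    refine k.csof P x hx z (centralizer_le (SetLike.coe_subset_coe.2 le_sup_left) hz.2)
      fun w hw => ?_
    rw [← e] at hw
    exact hw.2
  obtain ⟨x, hxP, y, hyP, hxy, -⟩ := mk.two
  obtain ⟨r0, hr0, e0⟩ := (ls x y hxy).1.tr y (k.ln x y).2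
  have n0 : r0 ∉ Zl A x y := fun hz =>
    hxy (((ep.kfix x y hxy r0).1 hz.2 x (k.ln x y).1).symm.trans e0)
  have hz := (ls x y hxy).2.1.sq r0 hr0
  have z1 := nf x hxP y hyP hxy r0 hr0 n0
  generalize r0 * r0 = z at hz z1
  have zz := (ls x y hxy).2.2.1.zsq z hz
  obtain ⟨sub, gd, hx, hy⟩ := good x hxP y hyP hxy z hz z1
  have zM : z ∈ Ms A P := (k.fle P x hxP y hyP).1 hz.1
  obtain ⟨b, hbP, hb⟩ : ∃ b ∈ P, z • b ≠ b := by
    by_contra cc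
    exact z1 (k.csof P x hxP z (centralizer_le (SetLike.coe_subset_coe.2 le_sup_left) hz.2)
      fun w hw => by_contra fun e => cc ⟨w, hw, e⟩)
  have hb' : b ≠ z • b := hb.symm
  have hzb : z • b ∈ P := k.inv P sP z zM b hbP
  obtain ⟨r1, hr1, n1, k1⟩ := tra G Ω p A h c.p2 ep k ls z zz b hb
    (nof G Ω p A h ep k ls x y hxy z hz b hb)
  have RM : Rl A b (z • b) ≤ Ms A P := (RF _ _ hb').trans (k.fle P b hbP _ hzb).1
  have cz : ∀ u ∈ Rl A b (z • b), r1 * u = u * r1 → ∀ w,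
      u • w ∈ P ∩ Fx Ω z ↔ w ∈ P ∩ Fx Ω z := by
    intro u hu e
    refine presP z u (RM hu) ?_
    have e2 := mem_centralizer_iff.1 k1 u (RF _ _ hb' hu)
    calc z * u = r1 * (r1⁻¹ * z * u) := by group
      _ = r1 * u * (r1⁻¹ * z) := by rw [← e2]; group
      _ = u * z := by rw [e]; group
  obtain ⟨s, hs, c1, c2, c3⟩ := (t _ _ hb').2 r1 hr1 n1
  obtain ⟨u, hu, nu, cu, au⟩ := uex G Ω p A h k ls _ x hx (c.ga _ sub gd x hx) _ _ hb' r1 hr1 s hs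
    c1 n1 c2 c3 cz
  have pu := cz u hu cu
  have ad : ∀ d ∈ P ∩ Fx Ω z, ∀ a ∈ A d, (⁅u, a⁆ : G) ∈ Ts A (P ∩ Fx Ω z) := by
    intro d hd a ha
    obtain ⟨t', ht', a', ha', rfl⟩ := (c.ga _ sub gd x hx).dec a
      ((k.fle _ d hd d hd).1 (mem_sup_left ha))
    have e : (⁅u, t' * a'⁆ : G) = u * t' * u⁻¹ * ⁅u, a'⁆ * t'⁻¹ := by
      simp only [commutatorElement_def]; group
    rw [e]
    exact mul_mem (mul_mem ((k.nrm _ u pu).2.1 t' ht') (au a' ha')) (inv_mem ht')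
  have hw := (ls _ _ hb').2.1.sq u hu
  have w1 := nf b hbP _ hzb hb' u hu nu
  have u4 : u ^ 4 = 1 := by
    rw [← (ls _ _ hb').2.2.1.zsq _ hw]
    simp only [pow_succ, pow_zero, one_mul, mul_assoc]
  obtain ⟨sub1, gd1, b1, b2⟩ := good b hbP _ hzb hb' _ hw w1
  obtain ⟨d, hd, md⟩ : ∃ d ∈ P ∩ Fx Ω z, (u * u) • d ≠ d := by
    by_contra cc
    have c' : ∀ d ∈ P ∩ Fx Ω z, d ∈ P ∩ Fx Ω (u * u) := fun d hd =>
      ⟨hd.1, by_contra fun e => cc ⟨d, hd, e⟩⟩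
    exact hb (gd1 x (c' x hx) y (c' y hy) hxy z hz b b1)
  obtain ⟨z0, hz0, c0, y2, hy2, ny2, v, hv, nv, ev⟩ := coq G Ω p A h k ls
    (fun x y e => (t x y e).1) _ sub
    d hd (c.ga _ sub gd d hd) (c.gb _ sub gd ⟨d, hd⟩) u u4 pu (ad d hd) md
  have z0M : z0 ∈ Ms A P :=
    (mk.mono _ P Set.inter_subset_left).1 (mk.tle _ hz0.1)
  have uT := (k.fle _ b b1 _ b2).2 hu
  have zT : (⁅u, z0⁆ : G) ∈ Ts A (P ∩ Fx Ω (u * u)) := by
    have e : (⁅u, z0⁆ : G) = u * (z0 * u⁻¹ * z0⁻¹) := by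
      simp only [commutatorElement_def]; group
    rw [e]
    exact mul_mem uT ((k.nrm _ z0 (presP _ z0 z0M c0.symm)).2.1 _ (inv_mem uT))
  have hz2 := (ls d y2 ny2.symm).2.1.sq v hv
  have nz2 := nf d hd.1 y2 hy2.1 ny2.symm v hv nv
  rw [ev] at zT
  generalize v * v = z2 at hz2 nz2 zT
  have z22 := (ls d y2 ny2.symm).2.2.1.zsq z2 hz2
  have zC : z2 ∈ Cs A (P ∩ Fx Ω (u * u)) := mk.invol _ sub1 gd1 z2 zT z22
  have zC' := k.zc _ gd d hd y2 hy2 ny2.symm hz2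
  exact hb ((good d hd.1 y2 hy2.1 ny2.symm z2 hz2 nz2).2.1 x ⟨hxP, k.csfix _ z2 zC' x hx⟩ y
    ⟨hyP, k.csfix _ z2 zC' y hy⟩ hxy z hz b ⟨hbP, k.csfix _ z2 zC b b1⟩)

end Cfsg.Agent.H99.GvRel
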