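import Cfsg.Agent.H48.M2Defs

/-! Project M2L: the piece BU. -/

set_option autoImplicit false

namespace Cfsg.Agent.H48.M2

open Cfsg Subgroup Cfsg.Agent.H48 Cfsg.Agent.H48.Rec Cfsg.Agent.H49 Cfsg.Agent.H95.Par
open Cfsg.Agent.H97.Gr (DD ZZ)
open Cfsg.Agent.H97.Yt (M)

namespace BU

/-- an element normalising `{y, y w}` commutes with the commutator of `y` and `e` -/
theorem comm_aux {G : Type*} [Group G] {w y e j u : G} (h1 : y * w = w * y) (h2 : e * w = w * e)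
    (h3 : u * w = w * u) (h4 : e * y * e⁻¹ = y * u) (h5 : j * y * j⁻¹ = y ∨ j * y * j⁻¹ = y * w)
    (h6 : e⁻¹ * j * e⁻¹⁻¹ = j ∨ e⁻¹ * j * e⁻¹⁻¹ = j * w) : j * u = u * j := by
  have k1 : e⁻¹ * j * e⁻¹⁻¹ * y * (e⁻¹ * j * e⁻¹⁻¹)⁻¹ = j * y * j⁻¹ := by
    rcases h6 with h | h <;> rw [h]
    calc j * w * y * (j * w)⁻¹ = j * (w * y) * w⁻¹ * j⁻¹ := by group
      _ = _ := by rw [← h1]; group
  have k2 : j * y * j⁻¹ * (j * u * j⁻¹) = e * (j * y * j⁻¹) * e⁻¹ := by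
    calc _ = j * (y * u) * j⁻¹ := by group
      _ = _ := by rw [← h4, ← k1]; group
  rw [← mul_inv_eq_iff_eq_mul]
  rcases h5 with h | h <;> rw [h] at k2
  · exact mul_left_cancel (k2.trans h4)
  · refine mul_left_cancel (k2.trans ?_)
    calc e * (y * w) * e⁻¹ = e * y * (w * e⁻¹) := by group
      _ = e * y * e⁻¹ * w := by
        rw [show w * e⁻¹ = e⁻¹ * w by rw [eq_inv_mul_iff_mul_eq, ← mul_assoc, h2]; group]; group
      _ = _ := by rw [h4, mul_assoc, h3, mul_assoc]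

end BU

theorem bu_of (ta : TaStmt) (ak : AkStmt) (fo : FormStmt) (tr1 : Tr1Stmt) (idx : IdxStmt)
    (pf : PfStmt) : BuStmt := by
  intro w w' h
  obtain ⟨-, cm, nQ, wA, qa, cp, -, -⟩ := ta w w' h.t1
  have ark := h.t1.ark
  have hJ := (ak _ ark w wA h.z1 w' qa nQ).2.2
  set A := Ak w w' with hA
  have sp : Sp A w w' := ⟨qa, cp (ZZ_sq h.z2), ZZ_sq h.z2, fun hw => by
    obtain ⟨ν, q, f⟩ := fo A ark
    obtain ⟨a, ha⟩ := (f.mem _).1 wA
    obtain ⟨b, hb⟩ := (f.mem _).1 hw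
    have h1 := (f.sing a).2 (.inr (ha ▸ h.z1))
    have h2 := (f.sing b).2 (.inr (hb ▸ h.z2))
    have h3 := (f.sing (a + b)).2 (.inr (by rw [f.add, ha, hb]; exact h.z3))
    have h4 := (f.perp a (ha ▸ h.z1) b).2 (by rw [QuadraticMap.polar, h1, h2, h3]; simp)
    rw [ha, hb] at h4
    exact nQ h4⟩
  obtain ⟨c32, NA, sg, h4, -⟩ := tr1 A w w' ark wA h.z1 sp
  obtain ⟨N', mem, ix, cd⟩ := idx A _ ark NA sg w' h4
  have wN : w ∈ Us A w' := subset_closure ⟨wA, h.z1, qa⟩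
  have wN' : w ∉ N' := fun hw => ((mem w).1 hw).2.elim (ZZ_ne h.z1) nQ
  have le : N' ≤ Us A w' := fun u hu => ((mem u).1 hu).1
  have e : U0 w w' = N' := by
    refine le_antisymm ((closure_le _).2 fun u ⟨hu, h1, h2⟩ => ?_) fun u hu => ?_
    · have ne : w ≠ u := fun e => nQ (e ▸ h2)
      have uQ := sym hu h.z1 h1
      have h3 : w' ∉ CP (Qz u ⊓ Qz w) := fun c =>
        nQ ((self_cent hu h.z1 h1 ne).le (show w' ∈ Qz u ⊓ CP (Qz u ⊓ Qz w) from ⟨h2, c⟩)).2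
      rw [mem_centralizer_iff] at h3
      push Not at h3
      obtain ⟨x, ⟨x1, x2⟩, hx⟩ := h3
      have h5 := (lx hu).conj_of_ne x1 h2 hx
      have h6 : u ∈ A ⊓ Qz w := ((pf A ark).d2 w wA h.z1).le ⟨uQ, fun j hj => by
        have hj' : j ∈ Jh w w' := hJ.ge hj
        exact BU.comm_aux cm ((lx h.z1).cen x x2) ((lx h.z1).cen u uQ) h5
          ((mem_set_normalizer_iff.1 hj'.2 w').1 (.inl rfl))
          ((lx h.z1).conj (inv_mem x2) hj'.1)⟩
      exact (mem u).2 ⟨subset_closure ⟨h6.1, hu, mem_sup_left h2⟩, .inr h2⟩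
    · by_cases h1 : u = 1
      · rw [h1]; exact one_mem _
      exact subset_closure ⟨(sg u (le hu) h1).1, (sg u (le hu) h1).2 wN,
        ((mem u).1 hu).2.resolve_left h1⟩
  rw [e]
  refine ⟨sp, fun j hj => (hJ.le ⟨hj.1, ?_⟩).2, ?_, le, le.trans NA,
    fun u hu h1 => ⟨(sg u (le hu) h1).1, le.trans (sg u (le hu) h1).2⟩,
    fun u hu h1 => ⟨(sg u (le hu) h1).2 wN, ((mem u).1 hu).2.resolve_left h1⟩,
    fun u hu => (em _).imp_right fun h1 => ix u hu w wN h1 wN'⟩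
  · refine centralizer_le_normalizer _ fun y hy => ?_
    have h1 := mem_centralizer_singleton_iff.1 hj.2
    rcases hy with rfl | rfl
    · exact h1.symm
    · rw [mul_assoc, ← (lx h.z1).cen j hj.1, ← mul_assoc, ← h1, mul_assoc]
  · have h1 := card_dvd_of_le le
    have h2 : Nat.card N' ≠ 32 := fun c => wN' ((eq_of_le_of_card_ge le (by omega)).ge wN)
    rw [c32] at h1 cd
    obtain ⟨k, hk, h3⟩ := (Nat.dvd_prime_pow Nat.prime_two (m := 5)).1 h1
    rw [h3] at h2 cd ⊢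
    interval_cases k <;> omega

end Cfsg.Agent.H48.M2
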