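import Cfsg.Agent.H42.PcDefs

/-! Project PC: the transfer piece. -/

set_option autoImplicit false

namespace Cfsg.Agent.H99.PcTr

open Subgroup Cfsg.Agent.H42.Pc
open scoped commutatorElement

universe u

/-- elements of `T⟨y⟩` -/
theorem mem_ext {G : Type u} [Group G] {T : Subgroup G} {y : G} (hy : y ∈ normalizer (T : Set G))
    (h2 : y * y ∈ T) {g : G} (hg : g ∈ T ⊔ zpowers y) : g ∈ T ∨ y⁻¹ * g ∈ T := by
  have c1 : ∀ t ∈ T, y * t * y⁻¹ ∈ T := fun t ht => (mem_normalizer_iff.1 hy t).1 ht
  have c2 : ∀ t ∈ T, y⁻¹ * t * y ∈ T := fun t ht => by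
    simpa using (mem_normalizer_iff.1 (inv_mem hy) t).1 ht
  let K : Subgroup G :=
    { carrier := {g | g ∈ T ∨ y⁻¹ * g ∈ T}
      one_mem' := Or.inl T.one_mem
      mul_mem' := by
        rintro a b (ha | ha) (hb | hb)
        · exact Or.inl (mul_mem ha hb)
        · refine Or.inr ?_
          have := mul_mem (c2 a ha) hb
          convert this using 1
          group
        · refine Or.inr ?_
          have := mul_mem ha hb
          convert this using 1
          group
        · refine Or.inl ?_
          have := mul_mem (mul_mem (c1 _ ha) h2) hb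
          convert this using 1
          group
      inv_mem' := by
        rintro a (ha | ha)
        · exact Or.inl (inv_mem ha)
        · refine Or.inr ?_
          have := mul_mem (c2 _ (inv_mem ha)) (inv_mem h2)
          convert this using 1
          group }
  have : T ⊔ zpowers y ≤ K := sup_le (fun t ht => Or.inl ht)
    (zpowers_le.2 (Or.inr (by simp)))
  exact this hg

theorem comp_transfer {G : Type u} [Group G] [Finite G] (H : Subgroup G) (χ : G →* ℤˣ) (g : G) :
    Abelianization.lift (χ.comp H.subtype) (MonoidHom.transfer (Abelianization.of (G := H)) g) =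
      χ g ^ H.index := by
  classical
  have := Fintype.ofFinite (Quotient (MulAction.orbitRel (zpowers g) (G ⧸ H)))
  rw [MonoidHom.transfer_eq_prod_quotient_orbitRel_zpowers_quot, map_prod,
    index_eq_sum_minimalPeriod H g, ← Finset.prod_pow_eq_pow_sum]
  refine Finset.prod_congr rfl fun q _ => ?_
  rw [Abelianization.lift_apply_of]
  simp only [MonoidHom.comp_apply, subtype_apply, map_mul, map_inv, map_pow]
  rw [mul_comm, ← mul_assoc, mul_inv_cancel, one_mul]

theorem tr : TrStmt.{u} := by
  classical
  intro G _ _ S hS T y hSS ⟨hTS, _, hodd⟩ hy hyS h2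
  have hyn : y ∈ normalizer (S : Set G) := by rw [normalizer_eq_top]; trivial
  set G1 := S ⊔ zpowers y with hG1
  set T1 := T ⊔ zpowers y with hT1
  have le1 : T1 ≤ G1 := sup_le_sup_right hTS _
  have yG : y ∈ G1 := mem_sup_right (mem_zpowers y)
  have inf1 : S ⊓ T1 = T := by
    refine le_antisymm (fun g hg => ?_) (le_inf hTS le_sup_left)
    rcases mem_ext hy h2 hg.2 with e | e
    · exact e
    · have h1 : g ∈ S := hg.1
      exact absurd (by simpa using S.mul_mem h1 (S.inv_mem (hTS e))) hyS
  have sup1 : T1 ⊔ S = G1 := by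
    refine le_antisymm (sup_le le1 le_sup_left) (sup_le le_sup_right ?_)
    exact le_sup_of_le_left le_sup_right
  have idx : T1.relIndex G1 = T.relIndex S := by
    have a1 := relIndex_mul_relIndex T S G1 hTS le_sup_left
    have a2 := relIndex_mul_relIndex T T1 G1 le_sup_left le1
    have a3 : S.relIndex G1 = T.relIndex T1 := by
      rw [← sup1, relIndex_sup_right, ← inf_relIndex_right, inf1]
    have a4 : T.relIndex T1 ≠ 0 := index_ne_zero_of_finite
    rw [a3, ← a2, mul_comm] at a1
    exact (Nat.eq_of_mul_eq_mul_left (Nat.pos_of_ne_zero a4) a1).symm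
  have cases : ∀ g : G1, (g : G) ∈ S ∨ y⁻¹ * g ∈ S := fun g => mem_ext hyn (hTS h2) g.2
  let χ : G1 →* ℤˣ :=
    { toFun := fun g => if (g : G) ∈ S then 1 else -1
      map_one' := by simp
      map_mul' := fun a b => by
        by_cases ha : (a : G) ∈ S <;> by_cases hb : (b : G) ∈ S
        · simp [ha, hb, mul_mem ha hb]
        · have : ((a : G) * b) ∉ S := fun e => hb (by simpa using mul_mem (inv_mem ha) e)
          simp [ha, hb, this]
        · have : ((a : G) * b) ∉ S := fun e => ha (by simpa using mul_mem e (inv_mem hb))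
          simp [ha, hb, this]
        · have : ((a : G) * b) ∈ S := by
            have h1 := (cases a).resolve_left ha
            have h3 := (cases b).resolve_left hb
            have := mul_mem (mul_mem (hS.conj_mem _ h1 y) (hTS h2)) h3
            convert this using 1
            group
          simp [ha, hb, this] }
  let H := T1.subgroupOf G1
  let V := MonoidHom.transfer (Abelianization.of (G := H))
  have kill : ∀ g : G1, (g : G) ∈ S → V g = 1 := by
    intro g hg
    have : ⁅S, S⁆ ≤ V.ker.map G1.subtype := commutator_le.2 fun a ha b hb =>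
      ⟨⁅(⟨a, mem_sup_left ha⟩ : G1), ⟨b, mem_sup_left hb⟩⁆, by
        change V _ = 1
        rw [map_commutatorElement, commutatorElement_eq_one_iff_mul_comm, mul_comm], rfl⟩
    rw [hSS] at this
    obtain ⟨g', h1, e⟩ := this hg
    exact (Subtype.ext e : g' = g) ▸ h1
  obtain ⟨h, hh⟩ := QuotientGroup.mk_surjective (V ⟨y, yG⟩)
  have hh' : Abelianization.of h = V ⟨y, yG⟩ := hh
  have s1 := comp_transfer H χ ⟨y, yG⟩
  have hi : Odd H.index := by
    change Odd (T1.relIndex G1)
    rwa [idx]
  have χy : χ ⟨y, yG⟩ = -1 := if_neg hyS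
  change Abelianization.lift _ (V _) = _ at s1
  rw [← hh', Abelianization.lift_apply_of, χy, hi.neg_one_pow] at s1
  have hn : ((h : G1) : G) ∉ S := fun e => by
    have : χ (h : G1) = 1 := if_pos e
    rw [MonoidHom.comp_apply, subtype_apply, this] at s1
    exact absurd s1 (by decide)
  have hw : y⁻¹ * ((h : G1) : G) ∈ T :=
    (mem_ext hy h2 (mem_subgroupOf.1 h.2)).resolve_left fun e => hn (hTS e)
  refine ⟨_, hw, ?_⟩
  rw [mul_inv_cancel_left]
  have sq : h * h ∈ _root_.commutator H := by
    rw [← Abelianization.ker_of, MonoidHom.mem_ker, map_mul, hh', ← map_mul]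
    exact kill _ (hTS h2)
  have : (_root_.commutator H).map (G1.subtype.comp H.subtype) ≤ Dr T y := by
    rw [_root_.commutator, map_commutator]
    have : (⊤ : Subgroup H).map (G1.subtype.comp H.subtype) ≤ T1 := by
      rintro _ ⟨a, -, rfl⟩
      exact mem_subgroupOf.1 a.2
    exact commutator_mono this this
  exact this ⟨h * h, sq, rfl⟩

end Cfsg.Agent.H99.PcTr
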