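import Cfsg.Agent.Lead.PcDefs

/-! Project PL: lifts of involutions centralise the Frattini quotient. -/

set_option autoImplicit false

namespace Cfsg.Agent.H99.PlCv

open Subgroup Cfsg.Agent.Lead.Pc
open scoped commutatorElement

universe u

theorem nm_of {G : Type u} [Group G] [Finite G] {W : Subgroup G} {g : G}
    (h : ∀ w ∈ W, g * w * g⁻¹ ∈ W) : g ∈ Nm W := mem_normalizer_fintype h

theorem sq_mem {G : Type u} [Group G] {T : Subgroup G} {t : G} (ht : t ∈ T) : t * t ∈ Sq T :=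
  subset_closure ⟨t, ht, rfl⟩

theorem cj_sq {G : Type u} [Group G] {T : Subgroup G} {n : G} (hn : n ∈ Nm T) :
    ∀ w ∈ Sq T, n * w * n⁻¹ ∈ Sq T := by
  have : Sq T ≤ (Sq T).comap (MulAut.conj n).toMonoidHom := by
    refine (closure_le _).2 ?_
    rintro _ ⟨t, ht, rfl⟩
    have := sq_mem ((mem_normalizer_iff.1 hn t).1 ht)
    change n * (t * t) * n⁻¹ ∈ Sq T
    convert this using 1
    group
  exact fun w hw => this hw

theorem cm_sq {G : Type u} [Group G] {T : Subgroup G} {a b : G} (ha : a ∈ T) (hb : b ∈ T) :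
    ⁅a, b⁆ ∈ Sq T := by
  have := mul_mem (mul_mem (sq_mem ha) (sq_mem (mul_mem (inv_mem ha) hb))) (sq_mem (inv_mem hb))
  convert this using 1
  rw [commutatorElement_def]
  group

theorem cv : CvStmt.{u} := by
  intro tr G _ _ S T h al y hy
  have hSS : ⁅S, S⁆ = S := by
    have := h.sim
    have e : _root_.commutator S = ⊤ := by
      refine (commutator_normal (⊤ : Subgroup S) ⊤).eq_bot_or_eq_top.resolve_left fun e => h.na ?_
      rw [commutator_eq_bot_iff_le_centralizer] at e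
      exact ⟨⟨fun a b => mem_centralizer_iff.1 (e (mem_top b)) a (mem_top a)⟩⟩
    rw [← map_subtype_commutator, e, ← MonoidHom.range_eq_map, range_subtype]
  have cT : ∀ a ∈ T, ∀ w ∈ Sq T, a * w * a⁻¹ ∈ Sq T := fun a ha => cj_sq (le_normalizer ha)
  have c1 : ∀ t ∈ T, y * t * y⁻¹ ∈ T := fun t ht => (mem_normalizer_iff.1 hy.1 t).1 ht
  have cc : ∀ t ∈ T, ⁅y, t⁆ ∈ T := fun t ht => mul_mem (c1 t ht) (inv_mem ht)
  let W : Subgroup G :=
    { carrier := {g | ∃ t ∈ T, ∃ f ∈ Sq T, g = f * ⁅y, t⁆}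
      one_mem' := ⟨1, T.one_mem, 1, one_mem _, by simp⟩
      mul_mem' := by
        rintro _ _ ⟨t1, h1, f1, k1, rfl⟩ ⟨t2, h2, f2, k2, rfl⟩
        refine ⟨t1 * t2, mul_mem h1 h2, _, mul_mem (mul_mem k1 (cT _ (cc t1 h1) f2 k2))
          (cT _ (cc t1 h1) _ (cm_sq (cc t2 h2) h1)), ?_⟩
        simp only [commutatorElement_def]
        group
      inv_mem' := by
        rintro _ ⟨t, h1, f, k1, rfl⟩
        refine ⟨t, h1, _, mul_mem (cT _ (inv_mem (cc t h1)) _ (inv_mem k1))
          (sq_mem (inv_mem (cc t h1))), ?_⟩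
        generalize ⁅y, t⁆ = c
        group }
  have li : ∀ a ∈ T, Li S T (y * a) := fun a ha =>
    ⟨mul_mem hy.1 (le_normalizer ha),
      fun e => hy.2.1 (by simpa using S.mul_mem e (S.inv_mem (h.le ha))), by
      have := mul_mem (mul_mem (c1 a ha) hy.2.2) ha
      convert this using 1
      group⟩
  obtain ⟨t0, h0, t, ht, f, hf, e⟩ := tr G S T h.nm hSS h.le h.two h.odd y hy W
    (fun a ha => nm_of (by
      rintro _ ⟨t, ht, f, hf, rfl⟩
      refine ⟨t, ht, _, mul_mem (cT a ha f hf) (cm_sq ha (cc t ht)), ?_⟩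
      generalize ⁅y, t⁆ = c
      rw [commutatorElement_def]
      group))
    (nm_of (by
      rintro _ ⟨t, ht, f, hf, rfl⟩
      refine ⟨_, c1 t ht, _, cj_sq hy.1 f hf, ?_⟩
      simp only [commutatorElement_def]
      group))
    (fun a ha b hb => ⟨1, T.one_mem, _, cm_sq ha hb, by simp⟩)
    (fun a ha => ⟨a, ha, 1, one_mem _, by simp⟩)
  have hs := c1 t ht
  have k0 : y * (t0 * (y * t * y⁻¹)) * (y * (t0 * (y * t * y⁻¹))) ∈ Sq T := by
    have := mul_mem (mul_mem hf (cT _ hs _ (cm_sq (inv_mem ht) (inv_mem h0)))) (sq_mem hs)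
    convert this using 1
    have e' : f = y * t0 * (y * t0) * ⁅y, t⁆⁻¹ := by rw [e]; group
    rw [e']
    simp only [commutatorElement_def]
    group
  have A := al (Sq T) (fun n hn => nm_of (cj_sq hn)) (y * (t0 * (y * t * y⁻¹)))
  have k1 := A y (li _ (mul_mem h0 hs)) hy k0
  refine ⟨k1, fun a ha => ?_⟩
  have k2 := A _ (li _ (mul_mem h0 hs)) (li a ha) k0
  have := mul_mem (mul_mem k2 (cT _ (inv_mem ha) _ (inv_mem k1))) (sq_mem (inv_mem ha))
  convert this using 1
  rw [commutatorElement_def]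
  group

end Cfsg.Agent.H99.PlCv
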